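import Groth.Agent.Lib.FunField.Approx
import Mathlib.Data.Finsupp.Order

/-! # Divisors: finiteness, degree of principal divisors, finite dimensionality of `L(D)` -/

namespace Groth.Agent.FunField

open WithZero FunFld Polynomial IntermediateField
open scoped Multiplicative

variable {k K : Type*} [Field k] [Field K] [Algebra k K]

theorem deg_pos (h : FF k K) (P : Place k K) : 0 < P.deg := by
  haveI := h.finite_residueField P
  exact Module.finrank_pos

theorem deg_zero : (0 : Divisor k K).deg = 0 := by simp [Divisor.deg]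

theorem deg_add (D E : Divisor k K) : (D + E).deg = D.deg + E.deg := by
  classical
  rw [Divisor.deg, Finsupp.sum_add_index' (fun _ => zero_mul _) (fun _ _ _ => add_mul _ _ _)]
  rfl

theorem deg_single (P : Place k K) (n : ℤ) :
    Divisor.deg (Finsupp.single P n) = n * (P.deg : ℤ) := by
  simp [Divisor.deg]

theorem deg_neg (D : Divisor k K) : (-D).deg = -D.deg := by
  have := deg_add D (-D)
  rw [add_neg_cancel, deg_zero] at this
  omega

theorem deg_sub (D E : Divisor k K) : (D - E).deg = D.deg - E.deg := by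
  rw [sub_eq_add_neg, deg_add, deg_neg, sub_eq_add_neg]

theorem deg_eq_sum (D : Divisor k K) (s : Finset (Place k K)) (h : D.support ⊆ s) :
    D.deg = ∑ P ∈ s, D P * (P.deg : ℤ) :=
  Finsupp.sum_of_support_subset D h _ fun _ _ => zero_mul _

theorem deg_nonneg {D : Divisor k K} (h : 0 ≤ D) : 0 ≤ D.deg :=
  Finset.sum_nonneg fun P _ => mul_nonneg (h P) (Int.natCast_nonneg _)

theorem deg_mono {D E : Divisor k K} (h : D ≤ E) : D.deg ≤ E.deg := by
  have := deg_nonneg (D := E - D) (fun P => by simpa using h P)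
  rw [deg_sub] at this
  omega

theorem deg_smul (n : ℕ) (D : Divisor k K) : (n • D).deg = n * D.deg := by
  induction n with
  | zero => simp [deg_zero]
  | succ n ih => rw [add_smul, one_smul, deg_add, ih]; push_cast; ring

theorem eq_of_le_of_deg (h : FF k K) {D E : Divisor k K} (hle : D ≤ E) (hdeg : E.deg ≤ D.deg) :
    D = E := by
  classical
  ext P
  by_contra hne
  have h1 : 0 < (E - D) P := by
    have := hle P
    simp only [Finsupp.coe_sub, Pi.sub_apply]; omega
  have h2 : (0 : ℤ) < (E - D).deg := by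
    rw [deg_eq_sum _ (E - D).support (Finset.Subset.refl _)]
    refine Finset.sum_pos' (fun Q _ => ?_) ⟨P, Finsupp.mem_support_iff.2 h1.ne', ?_⟩
    · have := hle Q
      exact mul_nonneg (by simp only [Finsupp.coe_sub, Pi.sub_apply]; omega) (Int.natCast_nonneg _)
    · exact mul_pos h1 (by exact_mod_cast deg_pos h P)
  rw [deg_sub] at h2
  omega

/-- Polynomials in an element of `O_P` lie in `O_P`. -/
theorem val_aeval_le (P : Place k K) {x : K} (hx : P.1 x ≤ 1) (p : k[X]) :
    P.1 (aeval x p) ≤ 1 := by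
  have := aeval_algHom_apply (inclAlg P) ⟨x, hx⟩ p
  rw [inclAlg_apply] at this
  rw [this]
  exact (aeval (⟨x, hx⟩ : P.O) p).2

theorem sum_ord_mul_deg_le (h : FF k K) {x : K} (hx : Transcendental k x)
    (s : Finset (Place k K)) (hs : ∀ P ∈ s, 0 ≤ P.ord x) :
    ∑ P ∈ s, P.ord x * (P.deg : ℤ) ≤ Module.finrank k⟮x⟯ K := by
  haveI := h.finiteDimensional hx
  have hx0 : x ≠ 0 := fun h0 => hx (h0 ▸ isAlgebraic_zero)
  have hr := rel_loc h s (fun P => -P.ord x) (fun _ => 0) (fun P hP => by
    have := hs P hP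
    show -P.ord x ≤ 0
    omega)
  simp only [sub_neg_eq_add, zero_add] at hr
  haveI := hr.fin
  rw [← hr.eq, Int.ofNat_le]
  set W := loc s (fun _ => (0 : ℤ))
  set U := loc s (fun P => -P.ord x)
  let b := Module.finBasis k (W ⧸ U.comap W.subtype)
  choose y hy using fun i => Submodule.mkQ_surjective _ (b i)
  have hli : LinearIndependent k⟮x⟯ fun i => (y i : K) := by
    refine linearIndependent_of_poly hx _ fun φ hφ => ?_
    refine Fintype.linearIndependent_iff.1 b.linearIndependent (fun i => (φ i).coeff 0) ?_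
    have hmem : ∑ i, (φ i).coeff 0 • y i ∈ U.comap W.subtype := by
      rw [Submodule.mem_comap, map_sum, mem_loc]
      intro P hP
      have hxP : P.1 x ≤ exp (-P.ord x) := (val_eq_exp_neg_ord P hx0).le
      have h1 : ∑ i, W.subtype ((φ i).coeff 0 • y i)
          = -(x * ∑ i, aeval x (φ i).divX * (y i : K)) := by
        rw [eq_neg_iff_add_eq_zero, Finset.mul_sum, ← Finset.sum_add_distrib, ← hφ]
        refine Finset.sum_congr rfl fun i _ => ?_
        have h2 := congrArg (aeval x) (X_mul_divX_add (φ i))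
        rw [map_add, map_mul, aeval_X, aeval_C] at h2
        rw [← h2, map_smul, Submodule.subtype_apply, Algebra.smul_def]
        ring
      rw [h1, Valuation.map_neg, map_mul]
      refine (mul_le_mul' hxP (P.1.map_sum_le fun i _ => ?_)).trans_eq (mul_one _)
      rw [map_mul]
      refine mul_le_one' (val_aeval_le P ((val_le_one_iff P hx0).2 (hs P hP)) _) ?_
      simpa using mem_loc.1 (y i).2 P hP
    have := (Submodule.Quotient.mk_eq_zero _).2 hmem
    rw [← this, ← Submodule.mkQ_apply, map_sum]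
    simp only [map_smul, hy]
  simpa using hli.fintype_card_le_finrank

theorem val_eq_one_of_isAlgebraic (P : Place k K) {x : K} (hx : IsAlgebraic k x) (h0 : x ≠ 0) :
    P.1 x = 1 := by
  by_contra h1
  exact transcendental_of_val_ne_one P h0 h1 hx

theorem finite_zeros (h : FF k K) (x : K) : {P : Place k K | 0 < P.ord x}.Finite := by
  classical
  rcases eq_or_ne x 0 with rfl | hx0
  · simp
  by_cases hx : IsAlgebraic k x
  · convert Set.finite_empty
    ext P
    simp [Place.ord, val_eq_one_of_isAlgebraic P hx hx0]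
  by_contra hinf
  obtain ⟨s, hs, hcard⟩ := (Set.not_finite.1 hinf).exists_subset_card_eq (Module.finrank k⟮x⟯ K + 1)
  have h1 := sum_ord_mul_deg_le h hx s fun P hP => (le_of_lt (hs hP))
  have h2 : (s.card : ℤ) ≤ ∑ P ∈ s, P.ord x * (P.deg : ℤ) := by
    rw [Finset.cast_card]
    refine Finset.sum_le_sum fun P hP => ?_
    have a1 : (0 : ℤ) < P.ord x := hs hP
    have a2 : (0 : ℤ) < P.deg := by exact_mod_cast deg_pos h P
    nlinarith
  omega

theorem finite_support_ord (h : FF k K) (x : K) :
    (Function.support fun P : Place k K => P.ord x).Finite := by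
  refine ((finite_zeros h x).union (finite_zeros h x⁻¹)).subset fun P hP => ?_
  simp only [Function.mem_support] at hP
  simp only [Set.mem_union, Set.mem_setOf_eq, ord_inv]
  omega

theorem div_apply (h : FF k K) (x : K) (P : Place k K) : FunFld.div k x P = P.ord x := by
  rw [FunFld.div, dif_pos (finite_support_ord h x)]
  rfl

theorem div_zero' (h : FF k K) : FunFld.div k (0 : K) = 0 := by
  ext P; simp [div_apply h]

theorem div_mul (h : FF k K) {x y : K} (hx : x ≠ 0) (hy : y ≠ 0) :
    FunFld.div k (x * y) = FunFld.div k x + FunFld.div k y := by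
  ext P; simp [div_apply h, ord_mul P hx hy]

theorem div_inv (h : FF k K) (x : K) : FunFld.div k x⁻¹ = -FunFld.div k x := by
  ext P; simp [div_apply h]

theorem ne_zero_of_transcendental {x : K} (hx : Transcendental k x) : x ≠ 0 :=
  fun h0 => by subst h0; exact hx isAlgebraic_zero

theorem exists_zero_of_transcendental (h : FF k K) {x : K} (hx : Transcendental k x) :
    ∃ P : Place k K, 0 < P.ord x := by
  obtain ⟨P, hP⟩ := exists_val_lt_one_of_valuationSubring h hx
  exact ⟨P, (val_lt_one_iff' P (ne_zero_of_transcendental hx)).1 hP⟩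

theorem transcendental_inv {x : K} (hx : Transcendental k x) : Transcendental k x⁻¹ :=
  fun ha => hx (IsAlgebraic.inv_iff.1 ha)

theorem exists_pole_of_transcendental (h : FF k K) {x : K} (hx : Transcendental k x) :
    ∃ P : Place k K, P.ord x < 0 := by
  obtain ⟨P, hP⟩ := exists_zero_of_transcendental h (transcendental_inv hx)
  rw [ord_inv] at hP
  exact ⟨P, by omega⟩

theorem nonempty_place (h : FF k K) : Nonempty (Place k K) := by
  obtain ⟨x, hx, _⟩ := id h
  obtain ⟨P, _⟩ := exists_zero_of_transcendental h hx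
  exact ⟨P⟩

/-! ## `L(D)` -/

theorem mem_L {D : Divisor k K} {x : K} :
    x ∈ FunFld.L D ↔ ∀ P : Place k K, P.1 x ≤ exp (D P) := Iff.rfl

theorem mem_L_iff_ord {D : Divisor k K} {x : K} (hx : x ≠ 0) :
    x ∈ FunFld.L D ↔ ∀ P : Place k K, 0 ≤ P.ord x + D P := by
  rw [mem_L]
  refine forall_congr' fun P => ?_
  rw [val_le_exp_iff P hx]; omega

theorem mem_L_iff_div (h : FF k K) {D : Divisor k K} {x : K} (hx : x ≠ 0) :
    x ∈ FunFld.L D ↔ 0 ≤ D + FunFld.div k x := by
  rw [mem_L_iff_ord hx, Finsupp.le_def]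
  refine forall_congr' fun P => ?_
  simp [div_apply h]; omega

theorem L_mono {D E : Divisor k K} (hle : D ≤ E) : FunFld.L D ≤ FunFld.L E :=
  fun _ hx P => (hx P).trans (exp_le_exp.2 (hle P))

theorem isAlgebraic_of_mem_L_zero (h : FF k K) {x : K} (hx : x ∈ FunFld.L (0 : Divisor k K)) :
    IsAlgebraic k x := by
  by_contra hnot
  obtain ⟨P, hP⟩ := exists_pole_of_transcendental h hnot
  have := (mem_L_iff_ord (ne_zero_of_transcendental hnot)).1 hx P
  simp at this
  omega

theorem finiteDimensional_L_zero (h : FF k K) :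
    FiniteDimensional k (FunFld.L (0 : Divisor k K)) := by
  obtain ⟨P⟩ := nonempty_place h
  haveI := h.finite_residueField P
  let f : FunFld.L (0 : Divisor k K) →ₗ[k] P.O :=
    { toFun := fun x => ⟨x, by simpa [mem_O_iff] using x.2 P⟩
      map_add' := fun _ _ => rfl
      map_smul' := fun c x => Subtype.ext (by rw [RingHom.id_apply, coe_smul_O]; rfl) }
  refine Module.Finite.of_injective (residueLin P ∘ₗ f) (LinearMap.ker_eq_bot.1 ?_)
  rw [eq_bot_iff]
  rintro x hx
  rw [Submodule.mem_bot]
  by_contra hne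
  have h1 : P.1 (x : K) < 1 := (residue_eq_zero_iff P (f x)).1 hx
  exact h1.ne (val_eq_one_of_isAlgebraic P (isAlgebraic_of_mem_L_zero h x.2)
    (fun h0 => hne (Subtype.ext h0)))

theorem rel_L (h : FF k K) {D E : Divisor k K} (hle : D ≤ E) :
    ∃ n : ℤ, Rel (FunFld.L D) (FunFld.L E) n ∧ n ≤ E.deg - D.deg := by
  classical
  have hr := rel_loc h (E - D).support D E (fun P _ => hle P)
  haveI := hr.fin
  let f : FunFld.L E →ₗ[k] _ := (Submodule.mkQ ((loc (E - D).support D).comap
      (loc (E - D).support E).subtype)) ∘ₗ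
    Submodule.inclusion (show FunFld.L E ≤ loc (E - D).support E from
      fun x hx => mem_loc.2 fun P _ => hx P)
  have hker : LinearMap.ker f = (FunFld.L D).comap (FunFld.L E).subtype := by
    ext x
    rw [LinearMap.mem_ker]
    refine (Submodule.Quotient.mk_eq_zero _).trans ⟨fun hx P => ?_, fun hx => ?_⟩
    · by_cases hP : P ∈ (E - D).support
      · exact mem_loc.1 hx P hP
      · have he : E P = D P := by
          simpa [Finsupp.mem_support_iff, sub_eq_zero] using hP
        exact he ▸ x.2 P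
    · exact mem_loc.2 fun P _ => hx P
  have := Rel.of_surjective (L_mono hle) f.rangeRestrict f.surjective_rangeRestrict
    (by rw [LinearMap.ker_rangeRestrict, hker])
  refine ⟨_, this, ?_⟩
  rw [← deg_sub, deg_eq_sum (E - D) _ (Finset.Subset.refl _)]
  refine le_trans (Int.ofNat_le.2 (Submodule.finrank_le _)) (le_of_eq ?_)
  rw [hr.eq]
  simp

theorem finiteDimensional_L (h : FF k K) (D : Divisor k K) :
    FiniteDimensional k (FunFld.L D) := by
  obtain ⟨n, hr, -⟩ := rel_L h (D := 0) (E := D ⊔ 0) le_sup_right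
  haveI := finiteDimensional_L_zero h
  haveI := hr.finiteDimensional.1
  exact Submodule.finiteDimensional_of_le (L_mono (show D ≤ D ⊔ 0 from le_sup_left))

theorem ell_mono (h : FF k K) {D E : Divisor k K} (hle : D ≤ E) : ell D ≤ ell E := by
  haveI := finiteDimensional_L h E
  exact Submodule.finrank_mono (L_mono hle)

theorem ell_sub_ell_le (h : FF k K) {D E : Divisor k K} (hle : D ≤ E) :
    (ell E : ℤ) - ell D ≤ E.deg - D.deg := by
  haveI := finiteDimensional_L h D
  obtain ⟨n, hr, hn⟩ := rel_L h hle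
  have := hr.finiteDimensional.2
  rw [ell, ell]
  omega

/-- The divisor of poles of `x`. -/
noncomputable def poleDiv (x : K) : Divisor k K := (-FunFld.div k x) ⊔ 0

theorem poleDiv_apply (h : FF k K) (x : K) (P : Place k K) :
    poleDiv (k := k) x P = max (-P.ord x) 0 := by
  simp [poleDiv, div_apply h]

theorem poleDiv_nonneg (x : K) : (0 : Divisor k K) ≤ poleDiv x := le_sup_right

theorem deg_poleDiv_le (h : FF k K) {x : K} (hx : Transcendental k x) :
    (poleDiv (k := k) x).deg ≤ Module.finrank k⟮x⟯ K := by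
  rw [deg_eq_sum _ _ (Finset.Subset.refl _)]
  have heq : (k⟮x⁻¹⟯ : IntermediateField k K) = k⟮x⟯ := by
    apply le_antisymm <;> rw [adjoin_simple_le_iff]
    · exact inv_mem (mem_adjoin_simple_self k x)
    · simpa using inv_mem (mem_adjoin_simple_self k x⁻¹)
  have hs : ∀ P ∈ (poleDiv (k := k) x).support, poleDiv (k := k) x P = P.ord x⁻¹ := by
    intro P hP
    rw [Finsupp.mem_support_iff, poleDiv_apply h] at hP
    rw [poleDiv_apply h, ord_inv]
    omega
  have := sum_ord_mul_deg_le h (transcendental_inv hx) (poleDiv (k := k) x).support fun P hP =>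
    hs P hP ▸ poleDiv_nonneg x P
  rw [heq] at this
  refine le_trans (le_of_eq (Finset.sum_congr rfl fun P hP => ?_)) this
  rw [hs P hP]

theorem exists_lower_bound (h : FF k K) {x : K} (hx : Transcendental k x) :
    ∃ c : ℤ, ∀ l : ℕ, (Module.finrank k⟮x⟯ K : ℤ) * (l + 1) - c ≤ ell (l • poleDiv (k := k) x) := by
  classical
  haveI := h.finiteDimensional hx
  let b := Module.finBasis k⟮x⟯ K
  let C : Divisor k K := ∑ j, poleDiv (b j)
  have hC : ∀ j, b j ∈ FunFld.L C := fun j => by
    rw [mem_L_iff_ord (b.ne_zero j)]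
    intro P
    have h1 : poleDiv (k := k) (b j) P ≤ C P := by
      simp only [C, Finsupp.coe_finsetSum, Finset.sum_apply]
      exact Finset.single_le_sum (fun i _ => poleDiv_nonneg (b i) P) (Finset.mem_univ j)
    rw [poleDiv_apply h] at h1
    omega
  refine ⟨C.deg, fun l => ?_⟩
  have hC0 : (0 : Divisor k K) ≤ C := Finset.sum_nonneg fun j _ => poleDiv_nonneg _
  set B := poleDiv (k := k) x
  haveI := finiteDimensional_L h (l • B + C)
  let v : Fin (l + 1) × Fin (Module.finrank k⟮x⟯ K) → K := fun p => x ^ (p.1 : ℕ) * b p.2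
  have hmem : ∀ p, v p ∈ FunFld.L (l • B + C) := by
    rintro ⟨i, j⟩ P
    show P.1 (x ^ (i : ℕ) * b j) ≤ exp ((l • B + C) P)
    rw [map_mul, map_pow, Finsupp.coe_add, Pi.add_apply, exp_add]
    refine mul_le_mul' ?_ (hC j P)
    have hx0 : x ≠ 0 := fun h0 => hx (h0 ▸ isAlgebraic_zero)
    have hle : -P.ord x ≤ B P := by rw [poleDiv_apply h]; omega
    have h2 : 0 ≤ B P := poleDiv_nonneg x P
    rw [val_eq_exp_neg_ord P hx0, ← exp_nsmul, exp_le_exp, Finsupp.coe_smul, Pi.smul_apply,
      nsmul_eq_mul, nsmul_eq_mul]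
    have : (i : ℕ) ≤ l := Nat.le_of_lt_succ i.2
    calc ((i : ℕ) : ℤ) * -P.ord x ≤ (i : ℕ) * B P :=
          mul_le_mul_of_nonneg_left hle (Int.natCast_nonneg _)
      _ ≤ (l : ℤ) * B P := mul_le_mul_of_nonneg_right (by exact_mod_cast this) h2
  have hind : LinearIndependent k v := by
    rw [Fintype.linearIndependent_iff]
    rintro c hc ⟨i₀, j₀⟩
    let φ : Fin (Module.finrank k⟮x⟯ K) → k[X] := fun j =>
      ∑ i : Fin (l + 1), monomial (i : ℕ) (c (i, j))
    have hφ : ∑ j, (⟨aeval x (φ j), aeval (AdjoinSimple.gen k x) (φ j) |>.2 |> fun hm => by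
        rwa [← IntermediateField.coe_val, ← aeval_algHom_apply] at hm⟩ : k⟮x⟯) • b j = 0 := by
      rw [← hc, Fintype.sum_prod_type_right]
      refine Finset.sum_congr rfl fun j _ => ?_
      simp only [Algebra.smul_def, IntermediateField.algebraMap_apply, φ, map_sum, aeval_monomial,
        Finset.sum_mul, v]
      exact Finset.sum_congr rfl fun i _ => by ring
    have h0 := congrArg Subtype.val (Fintype.linearIndependent_iff.1 b.linearIndependent _ hφ j₀)
    have h1 : φ j₀ = 0 := by_contra fun hne => aeval_ne_zero hx hne h0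
    have h2 := congrArg (fun q => coeff q (i₀ : ℕ)) h1
    simpa [φ, finsetSum_coeff, coeff_monomial, Fin.val_inj] using h2
  have hcard : Fintype.card (Fin (l + 1) × Fin (Module.finrank k⟮x⟯ K))
      ≤ ell (l • B + C) :=
    LinearIndependent.fintype_card_le_finrank (b := fun p => (⟨v p, hmem p⟩ : FunFld.L (l • B + C)))
      (LinearIndependent.of_comp (FunFld.L (l • B + C)).subtype hind)
  rw [Fintype.card_prod, Fintype.card_fin, Fintype.card_fin] at hcard
  have h3 := ell_sub_ell_le h (D := l • B) (E := l • B + C) (le_add_of_nonneg_right hC0)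
  rw [deg_add] at h3
  have h4 : (((l + 1) * Module.finrank k⟮x⟯ K : ℕ) : ℤ) ≤ ell (l • B + C) := by exact_mod_cast hcard
  push_cast at h4
  linarith

theorem deg_poleDiv (h : FF k K) {x : K} (hx : Transcendental k x) :
    (poleDiv (k := k) x).deg = Module.finrank k⟮x⟯ K := by
  refine le_antisymm (deg_poleDiv_le h hx) ?_
  obtain ⟨c, hc⟩ := exists_lower_bound h hx
  set B := poleDiv (k := k) x
  by_contra hlt
  push Not at hlt
  set n : ℤ := (Module.finrank k⟮x⟯ K : ℤ)
  obtain ⟨l, hl⟩ : ∃ l : ℕ, c + ell (0 : Divisor k K) < l :=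
    ⟨(c + ell (0 : Divisor k K)).toNat + 1, by omega⟩
  have h1 := hc l
  have h2 := ell_sub_ell_le h (D := 0) (E := l • B) (nsmul_nonneg (poleDiv_nonneg x) l)
  rw [deg_smul, deg_zero] at h2
  have h3 : (l : ℤ) * B.deg ≤ (l : ℤ) * (n - 1) :=
    mul_le_mul_of_nonneg_left (by omega) (Int.natCast_nonneg _)
  have : (0 : ℤ) ≤ n := Int.natCast_nonneg _
  nlinarith

theorem deg_div (h : FF k K) (x : K) : (FunFld.div k x).deg = 0 := by
  rcases eq_or_ne x 0 with rfl | hx0
  · rw [div_zero' h, deg_zero]
  by_cases hx : IsAlgebraic k x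
  · have : FunFld.div k x = 0 := by
      ext P
      simp [div_apply h, Place.ord, val_eq_one_of_isAlgebraic P hx hx0]
    rw [this, deg_zero]
  have heq : (k⟮x⁻¹⟯ : IntermediateField k K) = k⟮x⟯ := by
    apply le_antisymm <;> rw [adjoin_simple_le_iff]
    · exact inv_mem (mem_adjoin_simple_self k x)
    · simpa using inv_mem (mem_adjoin_simple_self k x⁻¹)
  have : FunFld.div k x = poleDiv x⁻¹ - poleDiv x := by
    ext P
    simp [div_apply h, poleDiv_apply h]

  rw [this, deg_sub, deg_poleDiv h hx, deg_poleDiv h (transcendental_inv hx), heq, sub_self]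

theorem L_eq_bot_of_deg_neg (h : FF k K) {D : Divisor k K} (hD : D.deg < 0) : FunFld.L D = ⊥ := by
  rw [eq_bot_iff]
  intro x hx
  by_contra hne
  have h1 := deg_nonneg ((mem_L_iff_div h hne).1 hx)
  rw [deg_add, deg_div h] at h1
  omega

theorem mul_mem_L (h : FF k K) (D : Divisor k K) {x : K} (hx : x ≠ 0) (y : K) :
    x * y ∈ FunFld.L D ↔ y ∈ FunFld.L (D + FunFld.div k x) := by
  rcases eq_or_ne y 0 with rfl | hy
  · simp
  rw [mem_L_iff_div h (mul_ne_zero hx hy), mem_L_iff_div h hy, div_mul h hx hy, add_assoc]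

/-- Multiplication by `x` as an equivalence `L(D + div x) ≃ L(D)`. -/
noncomputable def LEquiv (h : FF k K) (D : Divisor k K) {x : K} (hx : x ≠ 0) :
    FunFld.L (D + FunFld.div k x) ≃ₗ[k] FunFld.L D where
  toFun y := ⟨x * y, (mul_mem_L h D hx y).2 y.2⟩
  invFun y := ⟨x⁻¹ * y, (mul_mem_L h D hx _).1 (by rw [mul_inv_cancel_left₀ hx]; exact y.2)⟩
  map_add' _ _ := Subtype.ext (by simp [mul_add])
  map_smul' _ _ := Subtype.ext (by simp)
  left_inv _ := Subtype.ext (by simp [inv_mul_cancel_left₀ hx])
  right_inv _ := Subtype.ext (by simp [mul_inv_cancel_left₀ hx])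

theorem ell_add_div (h : FF k K) (D : Divisor k K) {x : K} (hx : x ≠ 0) :
    ell (D + FunFld.div k x) = ell D :=
  (LEquiv h D hx).finrank_eq

end Groth.Agent.FunField
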