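import Groth.Agent.Lib.FunField.Galois
import Mathlib.Algebra.Polynomial.Identities
import Mathlib.FieldTheory.Separable
import Mathlib.FieldTheory.Fixed
import Mathlib.FieldTheory.PrimitiveElement
import Mathlib.RingTheory.IntegralDomain
import Mathlib.RingTheory.LocalRing.ResidueField.Basic

/-! # Ramification groups of a place in a finite Galois extension of function fields -/

namespace Groth.Agent.FunField

open WithZero FunFld Polynomial
open scoped Multiplicative Pointwise

variable {k K K' : Type*} [Field k] [Field K] [Field K'] [Algebra k K] [Algebra K K']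
  [Algebra k K'] [IsScalarTower k K K']

theorem tower_facts {k₀ A B : Type*} [Field k₀] [Field A] [Field B] [Algebra k₀ A] [Algebra k₀ B]
    [Algebra A B] (hT : ∀ c : k₀, algebraMap k₀ B c = algebraMap A B (algebraMap k₀ A c))
    (hfin : FiniteDimensional k₀ B) (hsep : Algebra.IsSeparable k₀ B) :
    FiniteDimensional A B ∧ Algebra.IsSeparable A B ∧
      Module.finrank k₀ A * Module.finrank A B = Module.finrank k₀ B := by
  haveI : IsScalarTower k₀ A B := IsScalarTower.of_algebraMap_eq hT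
  exact ⟨Module.Finite.of_restrictScalars_finite k₀ A B,
    Algebra.isSeparable_tower_top_of_isSeparable k₀ A B, Module.finrank_mul_finrank _ _ _⟩

/-- `σ` lies in the `j`-th ramification set of `Q`: `σ x ≡ x mod Q^j` on `O_Q`. -/
def InG (Q : Place k K') (j : ℤ) (σ : K' ≃ₐ[K] K') : Prop :=
  ∀ x : K', Q.1 x ≤ 1 → Q.1 (σ x - x) ≤ exp (-j)

variable {Q : Place k K'} {σ τ : K' ≃ₐ[K] K'} {j : ℤ}

theorem InG.mono {i : ℤ} (h : InG Q j σ) (hij : i ≤ j) : InG Q i σ := fun x hx =>
  (h x hx).trans (exp_le_exp.2 (by omega))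

theorem exp_neg_le_one (hj : 0 ≤ j) : exp (-j) ≤ (1 : ℤᵐ⁰) := by
  rw [← exp_zero]; exact exp_le_exp.2 (by omega)

theorem InG.mapPlace_eq (h : InG Q j σ) (hj : 0 ≤ j) : mapPlace σ Q = Q := by
  refine (eq_of_O_le (P := Q) (Q := mapPlace σ Q) fun x hx => ?_).symm
  rw [mem_O_iff] at hx
  rw [mem_O_iff, mapPlace_apply, show σ x = (σ x - x) + x by ring]
  exact (Q.1.map_add _ _).trans (max_le ((h x hx).trans (exp_neg_le_one hj)) hx)

theorem InG.val_apply (h : InG Q j σ) (hj : 0 ≤ j) (x : K') : Q.1 (σ x) = Q.1 x := by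
  rw [← mapPlace_apply, h.mapPlace_eq hj]

theorem InG.one (j : ℤ) : InG Q j (1 : K' ≃ₐ[K] K') := fun x _ => by simp

theorem InG.mul (hσ : InG Q j σ) (hτ : InG Q j τ) (hj : 0 ≤ j) : InG Q j (σ * τ) := fun x hx => by
  have e : (σ * τ) x - x = (σ (τ x) - τ x) + (τ x - x) := by rw [AlgEquiv.mul_apply]; ring
  rw [e]
  exact (Q.1.map_add _ _).trans (max_le (hσ _ ((hτ.val_apply hj x).trans_le hx)) (hτ x hx))

theorem InG.inv (hσ : InG Q j σ) (hj : 0 ≤ j) : InG Q j σ⁻¹ := fun x hx => by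
  have hs : σ (σ⁻¹ x) = x := σ.apply_symm_apply x
  rw [← hσ.val_apply hj, map_sub, hs, ← neg_sub, Valuation.map_neg]
  exact hσ x hx

theorem InG.pow (hσ : InG Q j σ) (hj : 0 ≤ j) (n : ℕ) : InG Q j (σ ^ n) := by
  induction n with
  | zero => simpa using InG.one j
  | succ n ih => rw [pow_succ]; exact ih.mul hσ hj

/-- The ramification group `G_j`. -/
def ramGroup (Q : Place k K') (j : ℕ) : Subgroup (K' ≃ₐ[K] K') where
  carrier := {σ | InG Q j σ}
  one_mem' := InG.one _
  mul_mem' h h' := h.mul h' (by omega)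
  inv_mem' h := h.inv (by omega)

theorem mem_ramGroup {j : ℕ} : σ ∈ ramGroup Q j ↔ InG Q j σ := Iff.rfl

theorem InG.step {t : K'} (ht : Q.1 t = exp (-1)) (hσ : InG Q j σ) (hj : 1 ≤ j)
    (hσt : Q.1 (σ t - t) ≤ exp (-(j + 1))) {z : K'} (hz : Q.1 z ≤ exp (-1)) :
    Q.1 (σ z - z) ≤ exp (-(j + 1)) := by
  have ht0 : t ≠ 0 := fun h => exp_ne_zero (by rw [h, map_zero] at ht; exact ht.symm)
  set b := z / t
  have hb : Q.1 b ≤ 1 := by
    rw [map_div₀, ht, div_le_one₀ exp_pos]; exact hz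
  have hzb : z = t * b := (mul_div_cancel₀ z ht0).symm
  have e : σ z - z = (σ t - t) * σ b + t * (σ b - b) := by rw [hzb, map_mul]; ring
  rw [e]
  refine (Q.1.map_add _ _).trans (max_le ?_ ?_)
  · rw [map_mul, hσ.val_apply (by omega)]
    exact (mul_le_mul' hσt hb).trans_eq (mul_one _)
  · rw [map_mul, ht]
    refine (mul_le_mul' le_rfl (hσ b hb)).trans_eq ?_
    rw [← exp_add]; congr 1; ring

theorem InG.succ [Algebra.IsSeparable k (IsLocalRing.ResidueField Q.O)] {t : K'}
    (ht : Q.1 t = exp (-1)) (hσ : InG Q j σ) (hj : 1 ≤ j)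
    (hσt : Q.1 (σ t - t) ≤ exp (-(j + 1))) : InG Q (j + 1) σ := by
  intro x hx
  let X0 : Q.O := ⟨x, hx⟩
  let xb := IsLocalRing.residue Q.O X0
  have hres : ∀ p : k[X], IsLocalRing.residue Q.O (aeval X0 p) = aeval xb p := fun p => by
    rw [aeval_def, aeval_def, hom_eval₂]; rfl
  have hsep : (minpoly k xb).Separable := Algebra.IsSeparable.isSeparable k xb
  set μ := minpoly k xb
  have hz : Q.1 ((aeval X0 μ : Q.O) : K') ≤ exp (-1) := by
    rw [← lt_one_iff_le, ← residue_eq_zero_iff, hres]; exact minpoly.aeval k xb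
  have hder : Q.1 ((aeval X0 (derivative μ) : Q.O) : K') = 1 := by
    refine le_antisymm (aeval X0 (derivative μ) : Q.O).2 (not_lt.1 fun h => ?_)
    rw [← residue_eq_zero_iff, hres] at h
    exact hsep.aeval_derivative_ne_zero (minpoly.aeval k xb) h
  have hco : ∀ p : k[X], ∀ y : Q.O, ((aeval y p : Q.O) : K') = aeval (y : K') p := fun p y => by
    rw [aeval_def, aeval_def]
    exact hom_eval₂ p (algebraMap k Q.O) Q.O.subtype y
  have hd1 : Q.1 (σ x - x) ≤ 1 := (hσ x hx).trans (exp_neg_le_one (by omega))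
  let d : Q.O := ⟨σ x - x, hd1⟩
  obtain ⟨c, hc⟩ := Polynomial.binomExpansion (μ.map (algebraMap k Q.O)) X0 d
  rw [derivative_map, eval_map_algebraMap, eval_map_algebraMap, eval_map_algebraMap] at hc
  have hc' : ((aeval (X0 + d) μ : Q.O) : K') = (aeval X0 μ : Q.O) +
      (aeval X0 (derivative μ) : Q.O) * (σ x - x) + (c : K') * (σ x - x) ^ 2 := by
    rw [hc]; rfl
  have hσz : ((aeval (X0 + d) μ : Q.O) : K') = σ ((aeval X0 μ : Q.O) : K') := by
    rw [hco, hco]
    have hxd : ((X0 + d : Q.O) : K') = σ x := by show x + (σ x - x) = σ x; ring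
    rw [hxd]
    exact Polynomial.aeval_algHom_apply ((σ : K' →ₐ[K] K').restrictScalars k) x μ
  rw [hσz] at hc'
  have key : (aeval X0 (derivative μ) : Q.O) * (σ x - x) =
      (σ ((aeval X0 μ : Q.O) : K') - (aeval X0 μ : Q.O)) + (-((c : K') * (σ x - x) ^ 2)) := by
    rw [hc']; ring
  have hfin : Q.1 (((aeval X0 (derivative μ) : Q.O) : K') * (σ x - x)) ≤ exp (-(j + 1)) := by
    rw [key]
    refine (Q.1.map_add _ _).trans (max_le (hσ.step ht hj hσt hz) ?_)
    rw [Valuation.map_neg, map_mul, map_pow]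
    refine (mul_le_mul' (c : Q.O).2 (pow_le_pow_left' (hσ x hx) 2)).trans ?_
    rw [one_mul, ← exp_nsmul]
    exact exp_le_exp.2 (by simp only [nsmul_eq_mul, Nat.cast_ofNat]; omega)
  rwa [map_mul, hder, one_mul] at hfin

theorem InG.of_uniformizer [Algebra.IsSeparable k (IsLocalRing.ResidueField Q.O)] {t : K'}
    (ht : Q.1 t = exp (-1)) (hσ : InG Q 1 σ) :
    ∀ n : ℕ, Q.1 (σ t - t) ≤ exp (-((n : ℤ) + 1)) → InG Q ((n : ℤ) + 1) σ := by
  intro n
  induction n with
  | zero => intro _; simpa using hσ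
  | succ n ih =>
    intro h
    have h' : InG Q ((n : ℤ) + 1) σ := ih (h.trans (exp_le_exp.2 (by push_cast; omega)))
    have := h'.succ ht (by omega) (by push_cast at h ⊢; exact h)
    push_cast at this ⊢
    exact this

theorem mem_iff_uniformizer [Algebra.IsSeparable k (IsLocalRing.ResidueField Q.O)] {t : K'}
    (ht : Q.1 t = exp (-1)) (hσ : InG Q 1 σ) (hj : 1 ≤ j) :
    InG Q j σ ↔ Q.1 (σ t - t) ≤ exp (-j) := by
  refine ⟨fun h => h t (by rw [ht]; exact exp_neg_le_one zero_le_one), fun h => ?_⟩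
  obtain ⟨n, hn⟩ : ∃ n : ℕ, j = (n : ℤ) + 1 := ⟨(j - 1).toNat, by omega⟩
  subst hn
  exact InG.of_uniformizer ht hσ n h

/-- For `σ ∈ G_i` (`i ≥ 2`) and `y ≡ 0 mod Q^i`, `σ y ≡ y mod Q^(i+1)`. -/
theorem InG.fix_small {i : ℤ} (hσ : InG Q i σ) (hi : 2 ≤ i) (n : ℕ) {y : K'}
    (hy : Q.1 y ≤ exp (-((n : ℤ)))) : Q.1 (σ y - y) ≤ exp (-((n : ℤ) + 1)) := by
  obtain ⟨t, ht0, ht⟩ := exists_uniformizer Q
  induction n generalizing y with
  | zero =>
    refine (hσ y (hy.trans (exp_neg_le_one le_rfl))).trans (exp_le_exp.2 ?_)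
    push_cast; omega
  | succ n ih =>
    set b := y / t
    have hb : Q.1 b ≤ exp (-(n : ℤ)) := by
      rw [map_div₀, ht, div_le_iff₀ exp_pos, ← exp_add]
      exact hy.trans (exp_le_exp.2 (by push_cast; omega))
    have hyb : y = t * b := (mul_div_cancel₀ y ht0).symm
    have e : σ y - y = (σ t - t) * σ b + t * (σ b - b) := by rw [hyb, map_mul]; ring
    rw [e]
    refine (Q.1.map_add _ _).trans (max_le ?_ ?_)
    · rw [map_mul, hσ.val_apply (by omega)]
      refine (mul_le_mul' (hσ t (by rw [ht]; exact exp_neg_le_one zero_le_one)) hb).trans ?_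
      rw [← exp_add]
      exact exp_le_exp.2 (by push_cast; omega)
    · rw [map_mul, ht]
      refine (mul_le_mul' le_rfl (ih hb)).trans_eq ?_
      rw [← exp_add]
      congr 1
      push_cast; ring

theorem InG.commutator [Algebra.IsSeparable k (IsLocalRing.ResidueField Q.O)] {i : ℤ}
    (hσ : InG Q i σ) (hτ : InG Q i τ) (hi : 2 ≤ i) : InG Q (i + 1) (σ * τ * σ⁻¹ * τ⁻¹) := by
  obtain ⟨t, ht0, ht⟩ := exists_uniformizer Q
  obtain ⟨n, rfl⟩ : ∃ n : ℕ, i = n := ⟨i.toNat, by omega⟩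
  have hu : Q.1 (τ (σ t)) = exp (-1) := by
    rw [hτ.val_apply (by omega), hσ.val_apply (by omega), ht]
  have hc : InG Q (n : ℤ) (σ * τ * σ⁻¹ * τ⁻¹) :=
    ((hσ.mul hτ (by omega)).mul (hσ.inv (by omega)) (by omega)).mul (hτ.inv (by omega)) (by omega)
  refine (mem_iff_uniformizer hu (hc.mono (by omega)) (by omega)).2 ?_
  have e : (σ * τ * σ⁻¹ * τ⁻¹) (τ (σ t)) = σ (τ t) := by
    show σ (τ (σ.symm (τ.symm (τ (σ t))))) = _
    rw [τ.symm_apply_apply, σ.symm_apply_apply]
  rw [e]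
  have ht1 : Q.1 t ≤ 1 := by rw [ht]; exact exp_neg_le_one zero_le_one
  have e2 : σ (τ t) - τ (σ t) = (σ (τ t - t) - (τ t - t)) - (τ (σ t - t) - (σ t - t)) := by
    rw [map_sub, map_sub]; ring
  rw [e2]
  exact (Q.1.map_sub _ _).trans (max_le (hσ.fix_small hi n (hτ t ht1)) (hτ.fix_small hi n (hσ t ht1)))

theorem InG.pow_apply_sub {n : ℕ} (hσ : InG Q (n : ℤ) σ) (hn : 2 ≤ n) {t : K'}
    (ht : Q.1 t ≤ 1) (m : ℕ) :
    Q.1 ((σ ^ m) t - t - (m : K') * (σ t - t)) ≤ exp (-((n : ℤ) + 1)) := by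
  induction m with
  | zero => simp
  | succ m ih =>
    have hy : Q.1 ((σ ^ m) t - t) ≤ exp (-(n : ℤ)) := hσ.pow (by omega) m t ht
    have e : (σ ^ (m + 1)) t - t - ((m + 1 : ℕ) : K') * (σ t - t) =
        (σ ((σ ^ m) t - t) - ((σ ^ m) t - t)) + ((σ ^ m) t - t - (m : K') * (σ t - t)) := by
      rw [pow_succ', AlgEquiv.mul_apply, map_sub]; push_cast; ring
    rw [e]
    exact (Q.1.map_add _ _).trans (max_le (hσ.fix_small (by omega) n hy) ih)

theorem InG.pow_char [Algebra.IsSeparable k (IsLocalRing.ResidueField Q.O)] {n : ℕ}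
    (hσ : InG Q (n : ℤ) σ) (hn : 2 ≤ n) {p : ℕ} (hp : (p : K') = 0) :
    InG Q ((n : ℤ) + 1) (σ ^ p) := by
  obtain ⟨t, ht0, ht⟩ := exists_uniformizer Q
  refine (mem_iff_uniformizer ht ((hσ.pow (by omega) p).mono (by omega)) (by omega)).2 ?_
  simpa [hp] using hσ.pow_apply_sub hn (by rw [ht]; exact exp_neg_le_one zero_le_one) p

theorem InG.charZero [FiniteDimensional K K'] [Algebra.IsSeparable k (IsLocalRing.ResidueField Q.O)]
    {n : ℕ} (hσ : InG Q (n : ℤ) σ) (hn : 2 ≤ n) (h0 : CharZero k) : InG Q ((n : ℤ) + 1) σ := by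
  obtain ⟨t, ht0, ht⟩ := exists_uniformizer Q
  refine (mem_iff_uniformizer ht (hσ.mono (by omega)) (by omega)).2 ?_
  have h := hσ.pow_apply_sub hn (t := t) (by rw [ht]; exact exp_neg_le_one zero_le_one) (orderOf σ)
  have hN : Q.1 ((orderOf σ : ℕ) : K') = 1 := by
    rw [← map_natCast (algebraMap k K')]
    exact val_const Q (Nat.cast_ne_zero.2 (orderOf_pos σ).ne')
  simpa [pow_orderOf_eq_one, hN] using h

theorem exists_generator [FiniteDimensional K K'] [Algebra.IsSeparable k (IsLocalRing.ResidueField Q.O)] :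
    ∃ σ₀ : K' ≃ₐ[K] K', InG Q 1 σ₀ ∧ ∀ σ : K' ≃ₐ[K] K', InG Q 1 σ →
      ∃ n : ℕ, InG Q 2 ((σ₀ ^ n)⁻¹ * σ) := by
  classical
  obtain ⟨t, ht0, ht⟩ := exists_uniformizer Q
  have hmem : ∀ σ : ramGroup (K := K) Q 1, Q.1 ((σ : K' ≃ₐ[K] K') t / t) ≤ 1 := fun σ => by
    rw [map_div₀, InG.val_apply σ.2 (by omega), div_self]; rw [ht]; exact exp_ne_zero
  let χ : ramGroup (K := K) Q 1 →* IsLocalRing.ResidueField Q.O :=
    { toFun := fun σ => IsLocalRing.residue Q.O ⟨(σ : K' ≃ₐ[K] K') t / t, hmem σ⟩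
      map_one' := by
        rw [← map_one (IsLocalRing.residue Q.O)]
        congr 1; exact Subtype.ext (by simp [ht0])
      map_mul' := fun σ τ => by
        rw [← map_mul, ← sub_eq_zero, ← map_sub, residue_eq_zero_iff, lt_one_iff_le]
        show Q.1 ((σ : K' ≃ₐ[K] K') ((τ : K' ≃ₐ[K] K') t) / t -
          (σ : K' ≃ₐ[K] K') t / t * ((τ : K' ≃ₐ[K] K') t / t)) ≤ _
        set s := (σ : K' ≃ₐ[K] K')
        set u := (τ : K' ≃ₐ[K] K') t / t
        have e : (τ : K' ≃ₐ[K] K') t = t * u := (mul_div_cancel₀ _ ht0).symm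
        rw [e, map_mul, show s t * s u / t - s t / t * u = s t / t * (s u - u) by ring, map_mul]
        exact (mul_le_mul' (hmem σ) (σ.2 u (hmem τ))).trans_eq (by simp) }
  let G : Subgroup (IsLocalRing.ResidueField Q.O)ˣ := χ.toHomUnits.range
  haveI : Finite G := Set.finite_range _ |>.to_subtype
  obtain ⟨⟨g, σ₀, hg⟩, hgen⟩ := IsCyclic.exists_generator (α := G)
  refine ⟨σ₀, σ₀.2, fun σ hσ => ?_⟩
  obtain ⟨n, hn⟩ := (mem_powers_iff_mem_zpowers.2 (hgen ⟨χ.toHomUnits ⟨σ, hσ⟩, ⟨_, rfl⟩⟩))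
  refine ⟨n, (mem_iff_uniformizer ht (((InG.pow σ₀.2 (by omega) n).inv (by omega)).mul hσ
    (by omega)) (by omega)).2 ?_⟩
  have h1 : χ ((σ₀ ^ n)⁻¹ * ⟨σ, hσ⟩) = 1 := by
    rw [← χ.coe_toHomUnits, map_mul, map_inv, map_pow, hg]
    have : g ^ n = χ.toHomUnits ⟨σ, hσ⟩ := congrArg Subtype.val hn
    rw [this, inv_mul_cancel, Units.val_one]
  change IsLocalRing.residue Q.O ⟨_, hmem _⟩ = 1 at h1
  rw [← sub_eq_zero, ← map_one (IsLocalRing.residue Q.O), ← map_sub, residue_eq_zero_iff,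
    lt_one_iff_le] at h1
  have h2 : Q.1 (((σ₀ : K' ≃ₐ[K] K') ^ n)⁻¹ (σ t) / t - 1) ≤ exp (-1) := h1
  rw [AlgEquiv.mul_apply,
    show ((σ₀ : K' ≃ₐ[K] K') ^ n)⁻¹ (σ t) - t = t * (((σ₀ : K' ≃ₐ[K] K') ^ n)⁻¹ (σ t) / t - 1) by
      field_simp, map_mul, ht]
  exact (mul_le_mul' le_rfl h2).trans_eq (by rw [← exp_add]; rfl)

/-! ## Inertia -/

theorem mem_decomposition_iff : σ ∈ (Q.O).decompositionSubgroup K ↔ mapPlace σ Q = Q := by
  rw [← inv_mem_iff, MulAction.mem_stabilizer_iff, smul_O, inv_inv]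
  exact ⟨fun h => eq_of_O_le h.le, fun h => by rw [h]⟩

theorem residue_smul_apply (s : (Q.O).decompositionSubgroup K) (x : Q.O) :
    s • IsLocalRing.residue Q.O x = IsLocalRing.residue Q.O (s • x) :=
  (IsLocalRing.ResidueField.residue_smul _ s x).symm

theorem mem_inertia_iff (s : (Q.O).decompositionSubgroup K) :
    s ∈ (Q.O).inertiaSubgroup K ↔ InG Q 1 (s : K' ≃ₐ[K] K') := by
  rw [ValuationSubring.inertiaSubgroup, MonoidHom.mem_ker]
  constructor
  · intro h x hx
    have h1 : s • IsLocalRing.residue Q.O ⟨x, hx⟩ = IsLocalRing.residue Q.O ⟨x, hx⟩ :=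
      RingEquiv.congr_fun h _
    rw [residue_smul_apply, ← sub_eq_zero, ← map_sub, residue_eq_zero_iff, lt_one_iff_le] at h1
    exact h1
  · intro h
    refine RingEquiv.ext fun y => ?_
    obtain ⟨x, rfl⟩ := IsLocalRing.residue_surjective y
    show s • IsLocalRing.residue Q.O x = IsLocalRing.residue Q.O x
    rw [residue_smul_apply, ← sub_eq_zero, ← map_sub, residue_eq_zero_iff, lt_one_iff_le]
    exact h x x.2

theorem inertia_map_eq :
    ((Q.O).inertiaSubgroup K).map ((Q.O).decompositionSubgroup K).subtype = ramGroup Q 1 := by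
  ext σ
  rw [Subgroup.mem_map]
  constructor
  · rintro ⟨s, hs, rfl⟩; exact (mem_inertia_iff s).1 hs
  · intro h
    have h' : InG Q 1 σ := h
    exact ⟨⟨σ, mem_decomposition_iff.2 (h'.mapPlace_eq zero_le_one)⟩, (mem_inertia_iff _).2 h', rfl⟩

theorem card_inertia_eq_card_ramGroup :
    Nat.card ((Q.O).inertiaSubgroup K) = Nat.card (ramGroup (K := K) Q 1) := by
  rw [← inertia_map_eq]
  exact Nat.card_congr
    (Subgroup.equivMapOfInjective _ _ ((Q.O).decompositionSubgroup K).subtype_injective).toEquiv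

variable [FiniteDimensional K K'] [IsGalois K K']

omit [IsScalarTower k K K'] [IsGalois K K'] in
theorem fixed_of_coeff {g : K'[X]} (hg : ∀ τ : K' ≃ₐ[K] K', g.map (τ : K' →+* K') = g)
    [IsGalois K K'] (n : ℕ) : g.coeff n ∈ Set.range (algebraMap K K') := by
  rw [IsGalois.mem_range_algebraMap_iff_fixed]
  intro τ
  have := congrArg (fun p => p.coeff n) (hg τ)
  simpa using this

theorem card_ramGroup_one (h : FF k K) {P : Place k K} {e : ℕ} (he : IsOverWith Q P e)
    [Algebra.IsSeparable k (IsLocalRing.ResidueField Q.O)] :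
    Nat.card (ramGroup (K := K) Q 1) = e := by
  classical
  have h' : FF k K' := ff_extend h
  have hle : ∀ x : K, P.1 x ≤ 1 → Q.1 (algebraMap K K' x) ≤ 1 := fun x hx => by
    rw [he]; exact pow_le_one' hx e
  let ι : P.O →+* Q.O := ((algebraMap K K').comp P.O.subtype).codRestrict Q.O fun x => hle x x.2
  have hloc : IsLocalHom ι := ⟨fun x hx => by
    by_contra hx'
    have h1 : IsLocalRing.residue P.O x = 0 := by
      rw [IsLocalRing.residue_eq_zero_iff]; exact hx'
    have h2 : IsLocalRing.residue Q.O (ι x) = 0 := by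
      rw [residue_eq_zero_iff] at h1 ⊢
      show Q.1 (algebraMap K K' x) < 1
      rw [he]; exact pow_lt_one₀ zero_le h1 (isOverWith_pos he).ne'
    rw [IsLocalRing.residue_eq_zero_iff] at h2
    exact h2 hx⟩
  let φ : IsLocalRing.ResidueField P.O →+* IsLocalRing.ResidueField Q.O :=
    IsLocalRing.ResidueField.map ι
  letI : Algebra (IsLocalRing.ResidueField P.O) (IsLocalRing.ResidueField Q.O) := φ.toAlgebra
  have hφ : ∀ x : P.O, φ (IsLocalRing.residue P.O x) = IsLocalRing.residue Q.O (ι x) := fun x => rfl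
  obtain ⟨hfinQ, hsepQ, hdeg'⟩ := tower_facts (k₀ := k) (A := IsLocalRing.ResidueField P.O)
    (B := IsLocalRing.ResidueField Q.O) (fun c => by
      show IsLocalRing.residue Q.O _ = φ (IsLocalRing.residue P.O _)
      rw [hφ]
      exact congrArg _ (Subtype.ext (IsScalarTower.algebraMap_apply k K K' c)))
    (h'.finite_residueField Q) inferInstance
  haveI := hfinQ
  haveI := hsepQ
  set f := Module.finrank (IsLocalRing.ResidueField P.O) (IsLocalRing.ResidueField Q.O) with hf
  have hdeg : P.deg * f = Q.deg := hdeg'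
  -- the decomposition group acting on the residue field
  let ψ : (Q.O).decompositionSubgroup K →*
      (IsLocalRing.ResidueField Q.O ≃ₐ[IsLocalRing.ResidueField P.O] IsLocalRing.ResidueField Q.O) :=
    { toFun := fun s => AlgEquiv.ofRingEquiv
        (f := MulSemiringAction.toRingEquiv _ (IsLocalRing.ResidueField Q.O) s) (fun a => by
          obtain ⟨x, rfl⟩ := IsLocalRing.residue_surjective a
          show s • φ (IsLocalRing.residue P.O x) = φ (IsLocalRing.residue P.O x)
          rw [hφ, residue_smul_apply]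
          exact congrArg _ (Subtype.ext ((s : K' ≃ₐ[K] K').commutes _)))
      map_one' := AlgEquiv.ext fun y => by
        show (1 : (Q.O).decompositionSubgroup K) • y = y
        exact one_smul _ y
      map_mul' := fun s s' => AlgEquiv.ext fun y => by
        show (s * s') • y = s • s' • y
        exact mul_smul s s' y }
  have hker : ψ.ker = (Q.O).inertiaSubgroup K := by
    ext s
    rw [MonoidHom.mem_ker, ValuationSubring.inertiaSubgroup, MonoidHom.mem_ker]
    exact ⟨fun h => RingEquiv.ext fun y => AlgEquiv.congr_fun h y,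
      fun h => AlgEquiv.ext fun y => RingEquiv.congr_fun h y⟩
  haveI : Finite ψ.range := Finite.of_injective _ Subtype.val_injective
  have hup : Nat.card ψ.range ≤ f := by
    refine (Finite.card_subtype_le _).trans ?_
    rw [Nat.card_eq_fintype_card]
    exact AlgEquiv.card_le
  have hdown : f ≤ Nat.card ψ.range := by
    obtain ⟨θb, hθ⟩ := Field.exists_primitive_element
      (IsLocalRing.ResidueField P.O) (IsLocalRing.ResidueField Q.O)
    have hnat := (Field.primitive_element_iff_minpoly_natDegree_eq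
      (IsLocalRing.ResidueField P.O) θb).1 hθ
    rcases eq_or_ne θb 0 with rfl | hθ0
    · rw [minpoly.zero, natDegree_X] at hnat
      rw [hf, ← hnat]; exact Nat.card_pos
    obtain ⟨⟨θ0, hθ0'⟩, rfl⟩ := IsLocalRing.residue_surjective θb
    obtain ⟨θ, hθw⟩ := weak_approx (Finset.univ.image fun s : K' ≃ₐ[K] K' => mapPlace s Q)
      (fun R => if R = Q then θ0 else 0) (fun _ => 1)
    have hA : ∀ s : K' ≃ₐ[K] K', Q.1 (s θ - if mapPlace s Q = Q then s θ0 else 0) ≤ exp (-1) := by
      intro s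
      have h1 := hθw (mapPlace s Q) (Finset.mem_image_of_mem _ (Finset.mem_univ s))
      rw [mapPlace_apply] at h1
      split_ifs with h2 <;> simpa [h2] using h1
    have hint : ∀ s : K' ≃ₐ[K] K', Q.1 (s θ) ≤ 1 := fun s => by
      have h2 : Q.1 (if mapPlace s Q = Q then s θ0 else 0) ≤ 1 := by
        split_ifs with h2
        · rw [← mapPlace_apply, h2]; exact hθ0'
        · simp
      have := (Q.1.map_add _ _).trans (max_le ((hA s).trans (exp_neg_le_one zero_le_one)) h2)
      rwa [sub_add_cancel] at this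
    let gO : Q.O[X] := ∏ s : K' ≃ₐ[K] K', (X - C (⟨s θ, hint s⟩ : Q.O))
    have hgK : gO.map Q.O.subtype = ∏ s : K' ≃ₐ[K] K', (X - C (s θ)) := by
      rw [Polynomial.map_prod]; simp
    have hfix : ∀ τ : K' ≃ₐ[K] K', (gO.map Q.O.subtype).map (τ : K' →+* K') = gO.map Q.O.subtype := by
      intro τ
      rw [hgK, Polynomial.map_prod]
      exact Fintype.prod_equiv (Equiv.mulLeft τ) _ _ fun s => by simp
    have hlift : gO.map (IsLocalRing.residue Q.O) ∈ lifts φ := by
      rw [lifts_iff_coeff_lifts]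
      intro n
      obtain ⟨a, ha⟩ := fixed_of_coeff hfix n
      rw [coeff_map] at ha ⊢
      have ha1 : P.1 a ≤ 1 := by
        have := (gO.coeff n).2
        rw [mem_O_iff] at this
        have h2 : Q.1 (algebraMap K K' a) ≤ 1 := by rw [ha]; exact this
        rw [he] at h2
        exact (pow_le_one_iff (isOverWith_pos he).ne').1 h2
      exact ⟨IsLocalRing.residue P.O ⟨a, ha1⟩, (hφ _).trans (congrArg _ (Subtype.ext ha))⟩
    obtain ⟨p, hp⟩ := (mem_lifts _).1 hlift
    set θb := IsLocalRing.residue Q.O ⟨θ0, hθ0'⟩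
    have hres : ∀ s : K' ≃ₐ[K] K', IsLocalRing.residue Q.O ⟨s θ, hint s⟩ = 0 ∨
        ∃ u : ψ.range, IsLocalRing.residue Q.O ⟨s θ, hint s⟩ = u.1 θb := by
      intro s
      have h1 := hA s
      by_cases h2 : mapPlace s Q = Q
      · right
        rw [if_pos h2] at h1
        refine ⟨⟨ψ ⟨s, mem_decomposition_iff.2 h2⟩, _, rfl⟩, ?_⟩
        show _ = (⟨s, mem_decomposition_iff.2 h2⟩ : (Q.O).decompositionSubgroup K) • θb
        rw [residue_smul_apply, ← sub_eq_zero, ← map_sub, residue_eq_zero_iff, lt_one_iff_le]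
        exact h1
      · left
        rw [if_neg h2, sub_zero] at h1
        rw [residue_eq_zero_iff, lt_one_iff_le]; exact h1
    have hroot : (gO.map (IsLocalRing.residue Q.O)).eval θb = 0 := by
      rw [Polynomial.map_prod, eval_prod]
      refine Finset.prod_eq_zero (Finset.mem_univ 1) ?_
      simp only [Polynomial.map_sub, map_X, map_C, eval_sub, eval_X, eval_C]
      rw [sub_eq_zero, ← sub_eq_zero, ← map_sub, residue_eq_zero_iff, lt_one_iff_le]
      have h1 := hA 1
      rw [if_pos (mem_decomposition_iff.1 (one_mem _)), ← Valuation.map_neg] at h1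
      simpa [neg_sub] using h1
    set μ := minpoly (IsLocalRing.ResidueField P.O) θb
    have hdvd : μ.map φ ∣ gO.map (IsLocalRing.residue Q.O) := by
      rw [← hp]
      refine Polynomial.map_dvd φ (minpoly.dvd _ _ ?_)
      rw [← hp, eval_map] at hroot
      exact hroot
    have hne : gO.map (IsLocalRing.residue Q.O) ≠ 0 :=
      (Monic.map _ (monic_prod_of_monic _ _ fun s _ => monic_X_sub_C _)).ne_zero
    have hspl : (μ.map φ).Splits := by
      refine Splits.of_dvd ?_ hne hdvd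
      rw [Polynomial.map_prod]
      refine Splits.prod fun s _ => ?_
      simp only [Polynomial.map_sub, map_X, map_C]
      exact Splits.X_sub_C _
    have hcard := hspl.natDegree_eq_card_roots
    have hnd : (μ.map φ).roots.Nodup :=
      nodup_roots (Separable.map (Algebra.IsSeparable.isSeparable _ θb))
    rw [natDegree_map, hnat, ← hf, ← Multiset.toFinset_card_of_nodup hnd] at hcard
    haveI : Fintype ψ.range := Fintype.ofFinite _
    rw [hcard, Nat.card_eq_fintype_card, ← Finset.card_univ]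
    refine (Finset.card_le_card (t := Finset.univ.image fun u : ψ.range => u.1 θb) ?_).trans
      Finset.card_image_le
    intro r hr
    rw [Multiset.mem_toFinset] at hr
    have hμ0 : μ.eval₂ φ r = 0 := by
      rw [← eval_map]; exact (isRoot_of_mem_roots hr)
    have hr0 : r ≠ 0 := by
      rintro rfl
      rw [eval₂_at_zero] at hμ0
      exact minpoly.coeff_zero_ne_zero (Algebra.IsIntegral.isIntegral θb) hθ0
        ((map_eq_zero φ).1 hμ0)
    have h3 : (gO.map (IsLocalRing.residue Q.O)).eval r = 0 :=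
      eval_eq_zero_of_dvd_of_eval_eq_zero hdvd (isRoot_of_mem_roots hr)
    rw [Polynomial.map_prod, eval_prod, Finset.prod_eq_zero_iff] at h3
    obtain ⟨s, -, hs⟩ := h3
    simp only [Polynomial.map_sub, map_X, map_C, eval_sub, eval_X, eval_C, sub_eq_zero] at hs
    rcases hres s with h4 | ⟨u, h4⟩
    · exact absurd (hs.trans h4) hr0
    · exact Finset.mem_image.2 ⟨u, Finset.mem_univ _, (hs.trans h4).symm⟩
  have hfr : Nat.card ψ.range = f := le_antisymm hup hdown
  have hD := card_decomposition_mul_deg h he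
  have hI : Nat.card ((Q.O).inertiaSubgroup K) * f = Nat.card ((Q.O).decompositionSubgroup K) := by
    rw [← hfr, ← hker, ← Subgroup.index_ker, Subgroup.card_mul_index]
  rw [← hI, ← hdeg] at hD
  have hpos : 0 < f * P.deg := Nat.mul_pos Module.finrank_pos (deg_pos h P)
  rw [← card_inertia_eq_card_ramGroup]
  exact Nat.eq_of_mul_eq_mul_right hpos (by rw [← mul_assoc, hD, mul_comm f P.deg])

/-! ## Intermediate fields -/

variable [Algebra.IsSeparable k (IsLocalRing.ResidueField Q.O)]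

variable (E : IntermediateField K K')

omit [FiniteDimensional K K'] [IsGalois K K'] [Algebra.IsSeparable k (IsLocalRing.ResidueField Q.O)] in
instance isScalarTower_intermediate : IsScalarTower k E K' :=
  IsScalarTower.of_algebraMap_eq fun _ => rfl

theorem card_ramGroup_intermediate :
    Nat.card (ramGroup (K := E) Q 1) = Nat.card (E.fixingSubgroup ⊓ ramGroup Q 1 :
      Subgroup (K' ≃ₐ[K] K')) := by
  refine Nat.card_congr
    { toFun := fun s => ⟨(s.1.restrictScalars K : K' ≃ₐ[K] K'), ?_, s.2⟩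
      invFun := fun s => ⟨IntermediateField.fixingSubgroupEquiv E ⟨s.1, s.2.1⟩, s.2.2⟩
      left_inv := fun s => Subtype.ext (AlgEquiv.ext fun _ => rfl)
      right_inv := fun s => Subtype.ext (AlgEquiv.ext fun _ => rfl) }
  refine (IntermediateField.mem_fixingSubgroup_iff _ _).2 ?_
  exact fun x hx => s.1.commutes ⟨x, hx⟩

theorem isOverWith_intermediate (h : FF k K) {P : Place k K} {e : ℕ} (he : IsOverWith Q P e) :
    ∃ (P' : Place k E) (e₁ : ℕ), IsOverWith P' P e₁ ∧
      IsOverWith Q P' (Nat.card (E.fixingSubgroup ⊓ ramGroup Q 1 : Subgroup (K' ≃ₐ[K] K'))) ∧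
      e₁ * Nat.card (E.fixingSubgroup ⊓ ramGroup Q 1 : Subgroup (K' ≃ₐ[K] K')) = e := by
  have hE : FF k E := ff_extend h
  obtain ⟨e₂, he₂⟩ := isOver_under hE Q
  obtain ⟨e₁, he₁⟩ := isOver_under h (under hE Q)
  have h2 : e₂ = Nat.card (E.fixingSubgroup ⊓ ramGroup Q 1 : Subgroup (K' ≃ₐ[K] K')) :=
    ((card_ramGroup_one hE he₂).symm.trans (card_ramGroup_intermediate E))
  have h12 : IsOverWith Q (under h (under hE Q)) (e₁ * e₂) := fun x => by
    rw [IsScalarTower.algebraMap_apply K E K', he₂, he₁, ← pow_mul]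
  obtain ⟨rfl, rfl⟩ := isOverWith_unique he h12
  exact ⟨under hE Q, e₁, he₁, h2 ▸ he₂, by rw [h2]⟩

theorem totallyRamified_fixedField (h : FF k K) :
    ∃ Q₁ : Place k (IntermediateField.fixedField (ramGroup (K := K) Q 1)),
      IsOverWith Q Q₁ (Module.finrank (IntermediateField.fixedField (ramGroup (K := K) Q 1)) K') := by
  obtain ⟨e, he⟩ := isOver_under h Q
  obtain ⟨P', e₁, -, h2, -⟩ :=
    isOverWith_intermediate (IntermediateField.fixedField (ramGroup (K := K) Q 1)) h he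
  refine ⟨P', ?_⟩
  rw [IntermediateField.finrank_fixedField_eq_card]
  rwa [IntermediateField.fixingSubgroup_fixedField, inf_idem] at h2

theorem range_eq_iff (h : FF k K) :
    Set.range (Q.1.comap (algebraMap E K')) = Set.range (Q.1.comap (algebraMap K K')) ↔
      E ≤ IntermediateField.fixedField (ramGroup Q 1) := by
  obtain ⟨e, he⟩ := isOver_under h Q
  obtain ⟨P', e₁, h1, h2, h12⟩ := isOverWith_intermediate E h he
  set e₂ := Nat.card (E.fixingSubgroup ⊓ ramGroup Q 1 : Subgroup (K' ≃ₐ[K] K'))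
  have hrE : Set.range (Q.1.comap (algebraMap E K')) = Set.range (fun v : ℤᵐ⁰ => v ^ e₂) := by
    rw [← P'.2.2.range_comp (fun v : ℤᵐ⁰ => v ^ e₂)]
    exact congrArg Set.range (funext h2)
  have hrK : Set.range (Q.1.comap (algebraMap K K')) = Set.range (fun v : ℤᵐ⁰ => v ^ e) := by
    rw [← (under h Q).2.2.range_comp (fun v : ℤᵐ⁰ => v ^ e)]
    exact congrArg Set.range (funext he)
  have he0 : 0 < e := isOverWith_pos he
  have he20 : 0 < e₂ := isOverWith_pos h2
  have heq : Set.range (fun v : ℤᵐ⁰ => v ^ e₂) = Set.range (fun v : ℤᵐ⁰ => v ^ e) ↔ e₂ = e := by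
    refine ⟨fun hr => ?_, fun hh => by rw [hh]⟩
    obtain ⟨v, hv⟩ := hr.le ⟨exp (1 : ℤ), rfl⟩
    have hv0 : v ≠ 0 := fun h0 => by
      simp only [h0, zero_pow he0.ne'] at hv
      exact pow_ne_zero _ exp_ne_zero hv.symm
    have hv1 : exp ((e : ℤ) * log v) = (exp (1 : ℤ) : ℤᵐ⁰) ^ e₂ := by
      rw [← nsmul_eq_mul, exp_nsmul, exp_log hv0]; exact hv
    rw [← exp_nsmul] at hv1
    have hv' := exp_injective hv1
    simp only [smul_eq_mul, nsmul_eq_mul, mul_one] at hv'
    have hdvd : (e : ℤ) ∣ e₂ := ⟨_, hv'.symm⟩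
    have hdvd2 : e₂ ∣ e := ⟨e₁, by rw [← h12, mul_comm]⟩
    exact Nat.dvd_antisymm hdvd2 (by exact_mod_cast hdvd)
  rw [hrE, hrK, heq, IntermediateField.le_iff_le]
  have hG := card_ramGroup_one h he
  constructor
  · intro hh
    exact inf_eq_right.1 (Subgroup.eq_of_le_of_card_ge inf_le_right (by
      show _ ≤ e₂; rw [hh, hG]))
  · intro hh
    show Nat.card _ = e
    rw [inf_eq_right.2 hh, hG]

end Groth.Agent.FunField
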