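import Groth.Agent.Lib.FunField.Exists
import Mathlib.LinearAlgebra.Dimension.Constructions
import Mathlib.LinearAlgebra.Isomorphisms

/-! # Weak approximation and local dimensions -/

namespace Groth.Agent.FunField

open WithZero FunFld
open scoped Multiplicative

variable {k K : Type*} [Field k] [Field K] [Algebra k K]

theorem exists_gt_one_lt_one (P : Place k K) (s : Finset (Place k K)) (hP : P ∉ s) :
    ∃ z : K, 1 < P.1 z ∧ ∀ Q ∈ s, Q.1 z < 1 := by
  classical
  induction s using Finset.induction_on with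
  | empty =>
    obtain ⟨t, ht0, ht⟩ := exists_uniformizer P
    exact ⟨t⁻¹, by rw [map_inv₀, ht, ← exp_neg, ← exp_zero, exp_lt_exp]; norm_num, by simp⟩
  | insert R s hR ih =>
    obtain ⟨z, hz, hzs⟩ := ih fun h => hP (Finset.mem_insert_of_mem h)
    have hne : P ≠ R := fun h => hP (h ▸ Finset.mem_insert_self _ _)
    obtain ⟨a, ha, ha'⟩ := exists_val_le_one_lt hne
    obtain ⟨b, hb, hb'⟩ := exists_val_le_one_lt hne.symm
    let y := b / a
    have hy : 1 < P.1 y := by
      have ha0 : a ≠ 0 := fun h => by simp [h] at ha'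
      rw [map_div₀, one_lt_div₀ (by simp [zero_lt_iff, ha0])]
      exact lt_of_le_of_lt ha hb'
    have hy' : R.1 y < 1 := by
      have ha0 : a ≠ 0 := fun h => by simp [h] at ha'
      rw [map_div₀, div_lt_one₀ (by simp [zero_lt_iff, ha0])]
      exact lt_of_le_of_lt hb ha'
    -- a bound for `y` at the places of `s`
    let r : ℕ := ∑ Q ∈ s, (-Q.ord y).toNat + 1
    have hbd : ∀ Q ∈ s, ∀ w : K, Q.1 w ≤ exp (-(r : ℤ)) → Q.1 (w * y) < 1 := by
      intro Q hQ w hw
      have hy0 : y ≠ 0 := fun h => by simp [h] at hy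
      have h1 : -Q.ord y < r := by
        have := Finset.single_le_sum (f := fun Q => (-Q.ord y).toNat) (fun _ _ => Nat.zero_le _) hQ
        simp only [r]; omega
      calc Q.1 (w * y) = Q.1 w * Q.1 y := map_mul _ _ _
        _ ≤ exp (-(r : ℤ)) * Q.1 y := mul_le_mul' hw le_rfl
        _ < 1 := by
          rw [val_eq_exp_neg_ord Q hy0, ← exp_add, ← exp_zero, exp_lt_exp]; omega
    have hpow : ∀ Q ∈ s, Q.1 (z ^ r) ≤ exp (-(r : ℤ)) := by
      intro Q hQ
      rw [map_pow]
      refine (pow_le_pow_left₀ zero_le ((lt_one_iff_le _).1 (hzs Q hQ)) r).trans_eq ?_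
      rw [← exp_nsmul]; simp
    rcases le_or_gt (R.1 z) 1 with hzR | hzR
    · refine ⟨z ^ r * y, ?_, fun Q hQ => ?_⟩
      · rw [map_mul, map_pow]
        exact lt_of_lt_of_le hy (le_mul_of_one_le_left' (one_le_pow₀ hz.le))
      · rcases Finset.mem_insert.1 hQ with rfl | hQ
        · rw [map_mul, map_pow]
          exact lt_of_le_of_lt (mul_le_of_le_one_left' (pow_le_one₀ zero_le hzR)) hy'
        · exact hbd Q hQ _ (hpow Q hQ)
    · refine ⟨z ^ r / (1 + z ^ r) * y, ?_, fun Q hQ => ?_⟩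
      · have : P.1 (1 + z ^ r) = P.1 (z ^ r) := by
          refine Valuation.map_add_eq_of_lt_right _ ?_
          rw [map_one, map_pow]; exact one_lt_pow₀ hz (by simp [r])
        rw [map_mul, map_div₀, this, div_self, one_mul]
        · exact hy
        · rw [map_pow]; exact pow_ne_zero _ (ne_zero_of_lt hz)
      · rcases Finset.mem_insert.1 hQ with rfl | hQ
        · have : Q.1 (1 + z ^ r) = Q.1 (z ^ r) := by
            refine Valuation.map_add_eq_of_lt_right _ ?_
            rw [map_one, map_pow]; exact one_lt_pow₀ hzR (by simp [r])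
          rw [map_mul, map_div₀, this, div_self, one_mul]
          · exact hy'
          · rw [map_pow]; exact pow_ne_zero _ (ne_zero_of_lt hzR)
        · have : Q.1 (1 + z ^ r) = 1 := by
            refine (Valuation.map_add_eq_of_lt_left _ ?_).trans (map_one _)
            rw [map_one, map_pow]; exact pow_lt_one₀ zero_le (hzs Q hQ) (by simp [r])
          refine hbd Q hQ _ ?_
          rw [map_div₀, this, div_one]
          exact hpow Q hQ

theorem exists_near_one_near_zero (P : Place k K) (s : Finset (Place k K)) (hP : P ∉ s) (N : ℕ) :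
    ∃ w : K, P.1 (w - 1) ≤ exp (-(N : ℤ)) ∧ ∀ Q ∈ s, Q.1 w ≤ exp (-(N : ℤ)) := by
  obtain ⟨z, hz, hzs⟩ := exists_gt_one_lt_one P s hP
  have h1 : P.1 (1 + z ^ (N + 1)) = P.1 (z ^ (N + 1)) := by
    refine Valuation.map_add_eq_of_lt_right _ ?_
    rw [map_one, map_pow]; exact one_lt_pow₀ hz (by omega)
  have hne : (1 + z ^ (N + 1)) ≠ 0 := fun h => by
    rw [h, map_zero, map_pow] at h1
    exact pow_ne_zero _ (ne_zero_of_lt hz) h1.symm
  refine ⟨z ^ (N + 1) / (1 + z ^ (N + 1)), ?_, fun Q hQ => ?_⟩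
  · have : z ^ (N + 1) / (1 + z ^ (N + 1)) - 1 = -(1 + z ^ (N + 1))⁻¹ := by
      field_simp; ring
    rw [this, Valuation.map_neg, map_inv₀, h1, map_pow, exp_neg]
    refine inv_anti₀ exp_pos ?_
    have hz1 : exp (1 : ℤ) ≤ P.1 z := by
      have hz0 : z ≠ 0 := fun h => by simp [h] at hz
      rw [val_eq_exp_neg_ord P hz0, ← exp_zero, exp_lt_exp] at hz
      rw [val_eq_exp_neg_ord P hz0, exp_le_exp]; omega
    refine le_trans ?_ (pow_le_pow_left₀ zero_le hz1 _)
    rw [← exp_nsmul, exp_le_exp]; simp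
  · have h2 : Q.1 (1 + z ^ (N + 1)) = 1 := by
      refine (Valuation.map_add_eq_of_lt_left _ ?_).trans (map_one _)
      rw [map_one, map_pow]; exact pow_lt_one₀ zero_le (hzs Q hQ) (by omega)
    rw [map_div₀, h2, div_one, map_pow]
    refine (pow_le_pow_left₀ zero_le ((lt_one_iff_le _).1 (hzs Q hQ)) _).trans ?_
    rw [← exp_nsmul, exp_le_exp]; simp

/-- Weak approximation. -/
theorem weak_approx (s : Finset (Place k K)) (x : Place k K → K) (m : Place k K → ℤ) :
    ∃ y : K, ∀ P ∈ s, P.1 (y - x P) ≤ exp (-(m P)) := by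
  classical
  let N : ℕ := ∑ P ∈ s, ∑ Q ∈ s, (m P - P.ord (x Q)).toNat
  choose w hw1 hw2 using fun P : Place k K =>
    exists_near_one_near_zero P (s.erase P) (Finset.notMem_erase _ _) N
  refine ⟨∑ Q ∈ s, w Q * x Q, fun P hP => ?_⟩
  have key : ∀ Q ∈ s, ∀ v : K, P.1 v ≤ exp (-(N : ℤ)) → P.1 (v * x Q) ≤ exp (-(m P)) := by
    intro Q hQ v hv
    rcases eq_or_ne (x Q) 0 with h0 | h0
    · simp [h0]
    have h1 : m P - P.ord (x Q) ≤ N := by
      have h2 := Finset.single_le_sum (f := fun Q => (m P - P.ord (x Q)).toNat)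
        (fun _ _ => Nat.zero_le _) hQ
      have h3 := Finset.single_le_sum (f := fun P => ∑ Q ∈ s, (m P - P.ord (x Q)).toNat)
        (fun _ _ => Nat.zero_le _) hP
      simp only [N] at h2 h3 ⊢; omega
    rw [map_mul]
    refine (mul_le_mul' hv le_rfl).trans ?_
    rw [val_eq_exp_neg_ord P h0, ← exp_add, exp_le_exp]; omega
  rw [← Finset.add_sum_erase _ _ hP]
  have : w P * x P + ∑ Q ∈ s.erase P, w Q * x Q - x P
      = (w P - 1) * x P + ∑ Q ∈ s.erase P, w Q * x Q := by ring
  rw [this]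
  refine P.1.map_add_le (key P hP _ (hw1 P)) (P.1.map_sum_le fun Q hQ => ?_)
  exact key Q (Finset.mem_of_mem_erase hQ) _
    (hw2 Q P (Finset.mem_erase.2 ⟨(Finset.ne_of_mem_erase hQ).symm, hP⟩))

/-- Weak approximation with exact orders. -/
theorem weak_approx_eq (s : Finset (Place k K)) (x : Place k K → K) (m : Place k K → ℤ) :
    ∃ y : K, ∀ P ∈ s, P.1 (y - x P) = exp (-(m P)) := by
  choose u hu using fun P : Place k K => P.2.2 (exp (-(m P)))
  obtain ⟨y, hy⟩ := weak_approx s (fun P => x P + u P) (fun P => m P + 1)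
  refine ⟨y, fun P hP => ?_⟩
  have h : P.1 (y - (x P + u P)) < P.1 (u P) := by
    rw [hu P]; refine lt_of_le_of_lt (hy P hP) ?_
    rw [exp_lt_exp]; omega
  rw [show y - x P = (y - (x P + u P)) + u P by ring, Valuation.map_add_eq_of_lt_right _ h, hu P]

/-- `p ≤ r` with `dim r / p = n`. -/
structure Rel {M : Type*} [AddCommGroup M] [Module k M] (p r : Submodule k M) (n : ℤ) : Prop where
  le : p ≤ r
  fin : FiniteDimensional k (r ⧸ p.comap r.subtype)
  eq : (Module.finrank k (r ⧸ p.comap r.subtype) : ℤ) = n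

section rel

variable {M N : Type*} [AddCommGroup M] [Module k M] [AddCommGroup N] [Module k N]

theorem Rel.of_surjective {p r : Submodule k M} (hle : p ≤ r) [FiniteDimensional k N]
    (f : r →ₗ[k] N) (hf : Function.Surjective f) (hker : LinearMap.ker f = p.comap r.subtype) :
    Rel p r (Module.finrank k N) := by
  let e : (r ⧸ p.comap r.subtype) ≃ₗ[k] N :=
    (Submodule.quotEquivOfEq _ _ hker.symm).trans (f.quotKerEquivOfSurjective hf)
  exact ⟨hle, Module.Finite.equiv e.symm, by rw [e.finrank_eq]⟩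

theorem Rel.refl (p : Submodule k M) : Rel p p 0 := by
  simpa using Rel.of_surjective (le_refl p) (0 : p →ₗ[k] (⊥ : Submodule k M))
    (fun x => ⟨0, Subsingleton.elim _ _⟩) (by ext x; simp)

theorem Rel.trans {p q r : Submodule k M} {m n : ℤ} (h₁ : Rel p q m) (h₂ : Rel q r n) :
    Rel p r (m + n) := by
  let f : (q ⧸ p.comap q.subtype) →ₗ[k] (r ⧸ p.comap r.subtype) :=
    Submodule.mapQ _ _ (Submodule.inclusion h₂.le) (fun x hx => hx)
  let g : (r ⧸ p.comap r.subtype) →ₗ[k] (r ⧸ q.comap r.subtype) :=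
    Submodule.mapQ _ _ LinearMap.id (fun x hx => h₁.le hx)
  have hg : Function.Surjective g := fun y => by
    obtain ⟨x, rfl⟩ := Submodule.mkQ_surjective _ y
    exact ⟨Submodule.Quotient.mk x, rfl⟩
  have hf : Function.Injective f := by
    rw [← LinearMap.ker_eq_bot, eq_bot_iff]
    intro y hy
    obtain ⟨x, rfl⟩ := Submodule.mkQ_surjective _ y
    have : Submodule.inclusion h₂.le x ∈ p.comap r.subtype :=
      (Submodule.Quotient.mk_eq_zero _).1 hy
    exact (Submodule.Quotient.mk_eq_zero _).2 this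
  have hker : LinearMap.ker g = LinearMap.range f := by
    ext y
    obtain ⟨x, rfl⟩ := Submodule.mkQ_surjective _ y
    constructor
    · intro hy
      have hx : (x : M) ∈ q := (Submodule.Quotient.mk_eq_zero (q.comap r.subtype)).1 hy
      exact ⟨Submodule.Quotient.mk ⟨x, hx⟩, rfl⟩
    · rintro ⟨z, hz⟩
      obtain ⟨w, rfl⟩ := Submodule.mkQ_surjective _ z
      rw [← hz]
      exact (Submodule.Quotient.mk_eq_zero _).2 w.2
  haveI := h₁.fin
  haveI := h₂.fin
  haveI : FiniteDimensional k (LinearMap.ker g) := by rw [hker]; infer_instance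
  haveI hfin : FiniteDimensional k (r ⧸ p.comap r.subtype) :=
    haveI := Module.Finite.equiv (g.quotKerEquivOfSurjective hg).symm
    Module.Finite.of_submodule_quotient (LinearMap.ker g)
  refine ⟨h₁.le.trans h₂.le, hfin, ?_⟩
  rw [← g.finrank_range_add_finrank_ker, hker, LinearMap.finrank_range_of_inj hf,
    LinearMap.range_eq_top.2 hg, finrank_top]
  push_cast
  rw [h₁.eq, h₂.eq]; ring

theorem Rel.finiteDimensional {p r : Submodule k M} {n : ℤ} (h : Rel p r n)
    [FiniteDimensional k p] :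
    FiniteDimensional k r ∧ (Module.finrank k r : ℤ) = Module.finrank k p + n := by
  haveI := h.fin
  let e : p.comap r.subtype ≃ₗ[k] p := Submodule.comapSubtypeEquivOfLe h.le
  haveI : FiniteDimensional k (p.comap r.subtype) := Module.Finite.equiv e.symm
  haveI hr : FiniteDimensional k r := Module.Finite.of_submodule_quotient (p.comap r.subtype)
  refine ⟨hr, ?_⟩
  have := Submodule.finrank_quotient_add_finrank (p.comap r.subtype)
  rw [e.finrank_eq] at this
  rw [← h.eq]
  omega

end rel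

/-- The elements `y` with `v_P y ≤ exp a`. -/
def filt (P : Place k K) (a : ℤ) : Submodule k K where
  carrier := {y | P.1 y ≤ exp a}
  add_mem' {x y} hx hy := P.1.map_add_le hx hy
  zero_mem' := by simp
  smul_mem' c x hx := by
    show P.1 (c • x) ≤ exp a
    rw [Algebra.smul_def, map_mul]
    exact (mul_le_mul' (P.2.1 c) hx).trans_eq (one_mul _)

theorem mem_filt {P : Place k K} {a : ℤ} {y : K} : y ∈ filt P a ↔ P.1 y ≤ exp a := Iff.rfl

theorem filt_mono (P : Place k K) {a b : ℤ} (h : a ≤ b) : filt P a ≤ filt P b :=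
  fun _ hy => le_trans hy (exp_le_exp.2 h)

theorem rel_filt_succ (h : FF k K) (P : Place k K) (a : ℤ) :
    Rel (filt P a) (filt P (a + 1)) (P.deg : ℤ) := by
  haveI := h.finite_residueField P
  obtain ⟨t, ht0, ht⟩ := exists_uniformizer P
  have hval : ∀ y : K, P.1 (t ^ (a + 1) * y) = exp (-(a + 1)) * P.1 y := fun y => by
    rw [map_mul, map_zpow₀, ht, ← exp_zsmul]; simp
  let g : filt P (a + 1) →ₗ[k] P.O :=
    { toFun := fun y => ⟨t ^ (a + 1) * y, by
        rw [mem_O_iff, hval]
        refine (mul_le_mul' le_rfl y.2).trans_eq ?_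
        rw [← exp_add, neg_add_cancel, exp_zero]⟩
      map_add' := fun x y => Subtype.ext (by simp [mul_add])
      map_smul' := fun c x => Subtype.ext (by rw [RingHom.id_apply, coe_smul_O]; simp) }
  refine Rel.of_surjective (N := IsLocalRing.ResidueField P.O) (filt_mono P (by omega))
    (residueLin P ∘ₗ g) (fun z => ?_) ?_
  · obtain ⟨x, rfl⟩ := residueLin_surjective P z
    have hzp : t ^ (a + 1) ≠ 0 := zpow_ne_zero _ ht0
    refine ⟨⟨(t ^ (a + 1))⁻¹ * x, ?_⟩, congrArg (residueLin P) (Subtype.ext ?_)⟩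
    · rw [mem_filt, map_mul, map_inv₀, map_zpow₀, ht, ← exp_zsmul, ← exp_neg]
      refine (mul_le_mul' le_rfl x.2).trans_eq ?_
      simp
    · exact mul_inv_cancel_left₀ hzp _
  · ext y
    rw [LinearMap.mem_ker, LinearMap.comp_apply, residueLin_apply, residue_eq_zero_iff]
    show P.1 (t ^ (a + 1) * (y : K)) < 1 ↔ P.1 (y : K) ≤ exp a
    rw [hval, exp_neg, inv_mul_lt_iff₀ exp_pos, mul_one, lt_exp_iff, add_sub_cancel_right]

theorem rel_filt (h : FF k K) (P : Place k K) {a b : ℤ} (hab : a ≤ b) :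
    Rel (filt P a) (filt P b) ((b - a) * P.deg) := by
  obtain ⟨n, rfl⟩ := Int.le.dest hab
  clear hab
  induction n with
  | zero => simpa using Rel.refl _
  | succ n ih =>
    have := ih.trans (rel_filt_succ h P (a + n))
    push_cast
    rw [← add_assoc, show (a + n + 1 - a) * (P.deg : ℤ) = (a + n - a) * P.deg + P.deg by ring]
    exact this

/-- The quotient `filt P b / filt P a`. -/
abbrev LQ (P : Place k K) (a b : ℤ) : Type _ := filt P b ⧸ (filt P a).comap (filt P b).subtype

/-- Elements bounded by `c` at the places of `s`. -/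
def loc (s : Finset (Place k K)) (c : Place k K → ℤ) : Submodule k K := ⨅ P : s, filt P.1 (c P.1)

theorem mem_loc {s : Finset (Place k K)} {c : Place k K → ℤ} {y : K} :
    y ∈ loc s c ↔ ∀ P ∈ s, P.1 y ≤ exp (c P) := by
  simp [loc, Submodule.mem_iInf, mem_filt]

theorem rel_loc (h : FF k K) (s : Finset (Place k K)) (a b : Place k K → ℤ)
    (hab : ∀ P ∈ s, a P ≤ b P) :
    Rel (loc s a) (loc s b) (∑ P ∈ s, (b P - a P) * P.deg) := by
  have hr := fun P : s => rel_filt h P.1 (hab P.1 P.2)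
  haveI := fun P : s => (hr P).fin
  haveI : ∀ P : s, FiniteDimensional k (LQ P.1 (a P.1) (b P.1)) := fun P => (hr P).fin
  letI : ∀ P : s, AddCommMonoid (LQ P.1 (a P.1) (b P.1)) := fun P => AddCommGroup.toAddCommMonoid
  let π : ∀ P : s, loc s b →ₗ[k]
      LQ P.1 (a P.1) (b P.1) := fun P =>
    (Submodule.mkQ _) ∘ₗ Submodule.inclusion (fun y hy => mem_filt.2 (mem_loc.1 hy P.1 P.2))
  have key := Rel.of_surjective (p := loc s a) (r := loc s b)
    (N := (P : s) → LQ P.1 (a P.1) (b P.1))
    (fun y hy => mem_loc.2 fun P hP => (mem_loc.1 hy P hP).trans (exp_le_exp.2 (hab P hP)))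
    (LinearMap.pi π) ?_ ?_
  · rw [Module.finrank_pi_fintype, Nat.cast_sum] at key
    rw [← Finset.sum_attach, ← Finset.univ_eq_attach]
    simpa only [(hr _).eq] using key
  · intro v
    choose x hx using fun P : s => Submodule.mkQ_surjective _ (v P)
    classical
    obtain ⟨y, hy⟩ := weak_approx s (fun P => if hP : P ∈ s then (x ⟨P, hP⟩ : K) else 0)
      (fun P => -a P)
    have hy' : ∀ P : s, P.1.1 (y - x P) ≤ exp (a P.1) := fun P => by
      simpa [dif_pos P.2] using hy P.1 P.2
    refine ⟨⟨y, mem_loc.2 fun P hP => ?_⟩, funext fun P => ?_⟩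
    · rw [show y = (y - x ⟨P, hP⟩) + x ⟨P, hP⟩ by ring]
      exact P.1.map_add_le ((hy' ⟨P, hP⟩).trans (exp_le_exp.2 (hab P hP))) (x ⟨P, hP⟩).2
    · rw [← hx P]
      exact (Submodule.Quotient.eq _).2 (mem_filt.2 (hy' P))
  · ext y
    rw [LinearMap.mem_ker, funext_iff]
    simp only [Submodule.mem_comap, Submodule.subtype_apply, mem_loc]
    constructor
    · intro h P hP
      exact (Submodule.Quotient.mk_eq_zero _).1 (h ⟨P, hP⟩)
    · intro h P
      exact (Submodule.Quotient.mk_eq_zero _).2 (mem_filt.2 (h P.1 P.2))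

end Groth.Agent.FunField
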