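import Groth.Agent.Lib.FunField.Ext
import Mathlib.FieldTheory.Galois.Basic
import Mathlib.RingTheory.Norm.Transitivity
import Mathlib.RingTheory.Valuation.RamificationGroup
import Mathlib.GroupTheory.Index

/-! # Towers and Galois extensions of function fields -/

namespace Groth.Agent.FunField

open WithZero FunFld
open scoped Multiplicative Pointwise

variable {k K K' K'' : Type*} [Field k] [Field K] [Field K'] [Field K''] [Algebra k K] [Algebra K K']
  [Algebra k K'] [IsScalarTower k K K'] [FiniteDimensional K K']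

theorem conorm_conorm [Algebra k K''] [Algebra K' K''] [Algebra K K''] [IsScalarTower k K' K'']
    [IsScalarTower k K K''] [IsScalarTower K K' K''] [FiniteDimensional K' K'']
    (h : FF k K) (D : Divisor k K) :
    FunFld.conorm K'' (FunFld.conorm K' D) = FunFld.conorm K'' D := by
  haveI : FiniteDimensional K K'' := Module.Finite.trans K' K''
  ext Q
  have h' : FF k K' := ff_extend h
  have h1 := isOverWith_ramIdx (isOver_under h' Q)
  have h2 := isOverWith_ramIdx (isOver_under h (under h' Q))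
  have h3 : IsOverWith Q (under h (under h' Q))
      (ramIdx (under h' Q) (under h (under h' Q)) * ramIdx Q (under h' Q)) := fun x => by
    rw [IsScalarTower.algebraMap_apply K K' K'', h1, h2, ← pow_mul]
  rw [conorm_apply h', conorm_apply h, conorm_apply h, (isOver_iff h).1 ⟨_, h3⟩, ramIdx_eq h3]
  push_cast
  ring

/-- The conjugate of a place by an automorphism. -/
def mapPlace (σ : K' ≃ₐ[K] K') (Q : Place k K') : Place k K' :=
  ⟨Q.1.comap (σ : K' →+* K'), fun c => by
    simpa [IsScalarTower.algebraMap_apply k K K'] using Q.2.1 c, Q.2.2.comp σ.surjective⟩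

omit [FiniteDimensional K K'] in
theorem mapPlace_apply (σ : K' ≃ₐ[K] K') (Q : Place k K') (x : K') :
    (mapPlace σ Q).1 x = Q.1 (σ x) := rfl

omit [FiniteDimensional K K'] in
theorem isOverWith_mapPlace (σ : K' ≃ₐ[K] K') {Q : Place k K'} {P : Place k K} {e : ℕ}
    (h : IsOverWith Q P e) : IsOverWith (mapPlace σ Q) P e := fun x => by
  rw [mapPlace_apply, σ.commutes, h x]

theorem exists_mapPlace_eq [IsGalois K K'] {Q₁ Q₂ : Place k K'} {P : Place k K}
    (h₁ : IsOver Q₁ P) (h₂ : IsOver Q₂ P) : ∃ σ : K' ≃ₐ[K] K', mapPlace σ Q₁ = Q₂ := by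
  classical
  by_contra! hne
  obtain ⟨e₁, he₁⟩ := h₁
  obtain ⟨e₂, he₂⟩ := h₂
  let O₁ := Finset.univ.image fun σ : K' ≃ₐ[K] K' => mapPlace σ Q₁
  let O₂ := Finset.univ.image fun σ : K' ≃ₐ[K] K' => mapPlace σ Q₂
  obtain ⟨x, hx⟩ := weak_approx (O₁ ∪ O₂) (fun R => if R = Q₂ then 0 else 1) (fun _ => 1)
  have hlt : exp (-(1 : ℤ)) < (1 : ℤᵐ⁰) := by rw [← exp_zero, exp_lt_exp]; norm_num
  have hA : ∀ R ∈ O₁ ∪ O₂, R ≠ Q₂ → R.1 x = 1 := fun R hR hRne => by
    have h1 := hx R hR
    simp only [hRne, if_false] at h1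
    have := R.1.map_one_add_of_lt (x := x - 1) (h1.trans_lt hlt)
    simpa using this
  have hQ2 : Q₂ ∈ O₁ ∪ O₂ := Finset.mem_union_right _ (Finset.mem_image.2
    ⟨AlgEquiv.refl, Finset.mem_univ _, rfl⟩)
  have hB : Q₂.1 x < 1 := by
    have h1 := hx Q₂ hQ2
    simp only [if_true, sub_zero] at h1
    exact h1.trans_lt hlt
  have hN := Algebra.norm_eq_prod_automorphisms K x
  have hN1 : Q₁.1 (algebraMap K K' (Algebra.norm K x)) = 1 := by
    rw [hN, map_prod]
    exact Finset.prod_eq_one fun σ _ => hA (mapPlace σ Q₁)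
      (Finset.mem_union_left _ (Finset.mem_image.2 ⟨σ, Finset.mem_univ _, rfl⟩)) (hne σ)
  have hN2 : Q₂.1 (algebraMap K K' (Algebra.norm K x)) < 1 := by
    rw [hN, map_prod, ← Finset.mul_prod_erase _ _ (Finset.mem_univ AlgEquiv.refl)]
    refine lt_of_le_of_lt (mul_le_of_le_one_right' (Finset.prod_le_one' fun σ _ => ?_)) hB
    rcases eq_or_ne (mapPlace σ Q₂) Q₂ with h3 | h3
    · rw [← mapPlace_apply, h3]; exact hB.le
    · rw [← mapPlace_apply]
      exact (hA _ (Finset.mem_union_right _ (Finset.mem_image.2 ⟨σ, Finset.mem_univ _, rfl⟩)) h3).le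
  rw [he₁] at hN1
  have hv : P.1 (Algebra.norm K x) = 1 :=
    (pow_left_inj₀ zero_le zero_le (isOverWith_pos he₁).ne').1 (hN1.trans (one_pow _).symm)
  rw [he₂, hv, one_pow] at hN2
  exact lt_irrefl _ hN2

theorem deg_mapPlace (σ : K' ≃ₐ[K] K') (Q : Place k K') : (mapPlace σ Q).deg = Q.deg := by
  let f : (mapPlace σ Q).O ≃+* Q.O :=
    { toFun := fun x => ⟨σ x, x.2⟩
      invFun := fun y => ⟨σ.symm y, by
        rw [mem_O_iff, mapPlace_apply, AlgEquiv.apply_symm_apply]; exact y.2⟩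
      left_inv := fun x => Subtype.ext (σ.symm_apply_apply _)
      right_inv := fun y => Subtype.ext (σ.apply_symm_apply _)
      map_mul' := fun x y => Subtype.ext (map_mul σ _ _)
      map_add' := fun x y => Subtype.ext (map_add σ _ _) }
  refine Algebra.finrank_eq_of_equiv_equiv (RingEquiv.refl k) (IsLocalRing.ResidueField.mapEquiv f) ?_
  refine RingHom.ext fun c => ?_
  refine Eq.trans ?_ (IsLocalRing.ResidueField.map_residue (f : (mapPlace σ Q).O →+* Q.O)
    (algebraMap k (mapPlace σ Q).O c)).symm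
  refine congrArg (IsLocalRing.residue Q.O) (Subtype.ext ?_)
  show algebraMap k K' c = σ (algebraMap k K' c)
  rw [IsScalarTower.algebraMap_apply k K K', σ.commutes]

omit [FiniteDimensional K K'] in
theorem smul_O (σ : K' ≃ₐ[K] K') (Q : Place k K') : σ • Q.O = (mapPlace σ⁻¹ Q).O := by
  ext x
  rw [ValuationSubring.mem_pointwise_smul_iff_inv_smul_mem]
  rfl

theorem card_fibre_mul_card_decomposition [IsGalois K K'] {Q : Place k K'}
    {P : Place k K} (hQ : IsOver Q P) :
    Nat.card {Q' : Place k K' // IsOver Q' P} * Nat.card ((Q.O).decompositionSubgroup K) =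
      Module.finrank K K' := by
  classical
  obtain ⟨e, he⟩ := id hQ
  have hmem : ∀ Q' : {Q' : Place k K' // IsOver Q' P},
      Q'.1.O ∈ MulAction.orbit (K' ≃ₐ[K] K') Q.O := fun Q' => by
    obtain ⟨σ, hσ⟩ := exists_mapPlace_eq hQ Q'.2
    exact ⟨σ⁻¹, by show σ⁻¹ • Q.O = _; rw [smul_O, inv_inv, hσ]⟩
  have hcard : Nat.card {Q' : Place k K' // IsOver Q' P} =
      (MulAction.orbit (K' ≃ₐ[K] K') Q.O).ncard := by
    rw [← Nat.card_coe_set_eq]
    refine Nat.card_congr (Equiv.ofBijective (fun Q' => ⟨Q'.1.O, hmem Q'⟩) ⟨?_, ?_⟩)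
    · intro a b hab
      exact Subtype.ext (eq_of_O_le (congrArg Subtype.val hab).le)
    · rintro ⟨A, σ, rfl⟩
      exact ⟨⟨mapPlace σ⁻¹ Q, e, isOverWith_mapPlace _ he⟩, Subtype.ext (smul_O σ Q).symm⟩
  rw [hcard, ← MulAction.index_stabilizer, Subgroup.index_mul_card, IsGalois.card_aut_eq_finrank]

theorem fibre_uniform [IsGalois K K'] {Q Q' : Place k K'} {P : Place k K} {e : ℕ}
    (he : IsOverWith Q P e) (hQ' : IsOver Q' P) : IsOverWith Q' P e ∧ Q'.deg = Q.deg := by
  obtain ⟨σ, rfl⟩ := exists_mapPlace_eq ⟨e, he⟩ hQ'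
  exact ⟨isOverWith_mapPlace σ he, deg_mapPlace σ Q⟩

theorem card_decomposition_mul_deg [IsGalois K K'] (h : FF k K) {Q : Place k K'} {P : Place k K}
    {e : ℕ} (he : IsOverWith Q P e) :
    Nat.card ((Q.O).decompositionSubgroup K) * P.deg = e * Q.deg := by
  classical
  have hfin := finite_fibre (K' := K') h P
  have h1 := sum_fibre h P hfin.toFinset fun R => hfin.mem_toFinset
  rw [Finset.sum_congr rfl fun R hR => by
      rw [ramIdx_eq (fibre_uniform he (hfin.mem_toFinset.1 hR)).1,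
        (fibre_uniform he (hfin.mem_toFinset.1 hR)).2],
    Finset.sum_const, smul_eq_mul, ← card_fibre_mul_card_decomposition ⟨e, he⟩] at h1
  have h2 : Nat.card {Q' : Place k K' // IsOver Q' P} = hfin.toFinset.card := by
    rw [← Set.ncard_eq_toFinset_card _ hfin, ← Nat.card_coe_set_eq]; rfl
  rw [h2, mul_assoc] at h1
  have hpos : 0 < hfin.toFinset.card := Finset.card_pos.2 ⟨Q, hfin.mem_toFinset.2 ⟨e, he⟩⟩
  exact (Nat.eq_of_mul_eq_mul_left hpos h1).symm

end Groth.Agent.FunField
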