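import Groth.Agent.Lib.FunField.RR
import Mathlib.FieldTheory.IsAlgClosed.Basic

/-! # Vanishing sequences of linear systems -/

namespace Groth.Agent.FunField

open WithZero FunFld
open scoped Multiplicative

variable {k K : Type*} [Field k] [Field K] [Algebra k K]

theorem deg_eq_one [IsAlgClosed k] (h : FF k K) (P : Place k K) : P.deg = 1 := by
  haveI hf := h.finite_residueField P
  haveI : Algebra.IsIntegral k (IsLocalRing.ResidueField P.O) :=
    ⟨fun x => IsIntegral.of_mem_of_fg ⊤ (by convert hf.fg_top using 0 <;> rfl) x trivial⟩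
  have hb := IsAlgClosed.algebraMap_bijective_of_isIntegral (k := k)
    (K := IsLocalRing.ResidueField P.O)
  exact (LinearEquiv.ofBijective (Algebra.linearMap k _) hb).finrank_eq.symm.trans
    (Module.finrank_self k)

theorem deg_sub_single [IsAlgClosed k] (h : FF k K) (D : Divisor k K) (P : Place k K) (n : ℤ) :
    (D - Finsupp.single P n).deg = D.deg - n := by
  rw [deg_sub, deg_single, deg_eq_one h P]; simp

/-- `dim V(-nP)`. -/
noncomputable def hDim (V : Submodule k K) (D : Divisor k K) (P : Place k K) (n : ℤ) : ℕ :=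
  Module.finrank k ↥(V ⊓ FunFld.L (D - Finsupp.single P n))

/-- `∑ dim V(-nP)` over `1 ≤ n ≤ d`. -/
noncomputable def wSum (V : Submodule k K) (D : Divisor k K) (P : Place k K) (d : ℕ) : ℕ :=
  ∑ n ∈ Finset.range d, hDim V D P ((n : ℤ) + 1)

variable {V : Submodule k K} {D : Divisor k K}

theorem hDim_zero (hV : V ≤ FunFld.L D) (P : Place k K) : hDim V D P 0 = Module.finrank k V := by
  rw [hDim, Finsupp.single_zero, sub_zero, inf_eq_left.2 hV]

theorem finiteDimensional_of_le_L (h : FF k K) (hV : V ≤ FunFld.L D) : FiniteDimensional k V := by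
  haveI := finiteDimensional_L h D
  exact Submodule.finiteDimensional_of_le hV

theorem hDim_le (h : FF k K) (hV : V ≤ FunFld.L D) (P : Place k K) (n : ℤ) :
    hDim V D P n ≤ Module.finrank k V := by
  haveI := finiteDimensional_of_le_L h hV
  exact Submodule.finrank_mono inf_le_left

theorem single_le_single (P : Place k K) {a b : ℤ} (hab : a ≤ b) :
    (Finsupp.single P a : Divisor k K) ≤ Finsupp.single P b := by
  classical
  intro R
  simp only [Finsupp.single_apply]
  split <;> omega

theorem hDim_anti (h : FF k K) (hV : V ≤ FunFld.L D) (P : Place k K) {a b : ℤ} (hab : a ≤ b) :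
    hDim V D P b ≤ hDim V D P a := by
  haveI := finiteDimensional_of_le_L h hV
  haveI := Submodule.finiteDimensional_inf_left V (FunFld.L (D - Finsupp.single P a))
  exact Submodule.finrank_mono (inf_le_inf_left _ (L_mono (sub_le_sub_left (single_le_single P hab) D)))

theorem hDim_eq_zero [IsAlgClosed k] (h : FF k K) (P : Place k K) {n : ℤ} (hn : D.deg < n) :
    hDim V D P n = 0 := by
  rw [hDim, L_eq_bot_of_deg_neg h (by rw [deg_sub_single h]; omega), inf_bot_eq, finrank_bot]

theorem finrank_inf_le_add [FiniteDimensional k V] {A B : Submodule k K} (hBA : B ≤ A)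
    [FiniteDimensional k A] :
    Module.finrank k ↥(V ⊓ A) + Module.finrank k B ≤
      Module.finrank k A + Module.finrank k ↥(V ⊓ B) := by
  haveI : FiniteDimensional k B := Submodule.finiteDimensional_of_le hBA
  haveI : FiniteDimensional k ↥(V ⊓ A) := Submodule.finiteDimensional_inf_left _ _
  have h1 := Submodule.finrank_sup_add_finrank_inf_eq (V ⊓ A) B
  have h2 : (V ⊓ A) ⊓ B = V ⊓ B := by rw [inf_assoc, inf_eq_right.2 hBA]
  have h3 : Module.finrank k ↥((V ⊓ A) ⊔ B) ≤ Module.finrank k A :=
    Submodule.finrank_mono (sup_le inf_le_right hBA)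
  rw [h2] at h1
  omega

theorem hDim_le_add_nat [IsAlgClosed k] (h : FF k K) (hV : V ≤ FunFld.L D) (P : Place k K) (a : ℤ) :
    hDim V D P a ≤ hDim V D P (a + 1) + 1 := by
  haveI := finiteDimensional_of_le_L h hV
  have hle : D - Finsupp.single P (a + 1) ≤ D - Finsupp.single P a :=
    sub_le_sub_left (single_le_single P (by omega)) D
  haveI := finiteDimensional_L h (D - Finsupp.single P a)
  have h1 := finrank_inf_le_add (V := V) (L_mono hle)
  have h2 := ell_sub_ell_le h hle
  rw [deg_sub_single h, deg_sub_single h, ell, ell] at h2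
  unfold hDim
  omega

theorem hDim_ge [IsAlgClosed k] (h : FF k K) (hV : V ≤ FunFld.L D) (P : Place k K) (a : ℤ) (j : ℕ) :
    hDim V D P a ≤ hDim V D P (a + j) + j := by
  induction j with
  | zero => simp
  | succ j ih =>
    have := hDim_le_add_nat h hV P (a + j)
    rw [show a + ((j + 1 : ℕ) : ℤ) = a + j + 1 by push_cast; ring]
    omega

theorem hDim_zero_sub (hV : V ≤ FunFld.L D) [IsAlgClosed k] (h : FF k K) (P : Place k K) (n : ℕ) :
    Module.finrank k V ≤ hDim V D P n + n := by
  have := hDim_ge h hV P 0 n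
  rwa [hDim_zero hV, zero_add] at this

/-- Two-point inequality. -/
theorem hDim_add_le (h : FF k K) [IsAlgClosed k] (hV : V ≤ FunFld.L D) {P Q : Place k K}
    (hPQ : P ≠ Q) {a b : ℤ} (hab : D.deg < a + b) :
    hDim V D P a + hDim V D Q b ≤ Module.finrank k V := by
  classical
  haveI := finiteDimensional_of_le_L h hV
  haveI := Submodule.finiteDimensional_inf_left V (FunFld.L (D - Finsupp.single P a))
  haveI := Submodule.finiteDimensional_inf_left V (FunFld.L (D - Finsupp.single Q b))
  rw [hDim, hDim, ← Submodule.finrank_sup_add_finrank_inf_eq]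
  have hinf : (V ⊓ FunFld.L (D - Finsupp.single P a)) ⊓ (V ⊓ FunFld.L (D - Finsupp.single Q b)) = ⊥ := by
    rw [eq_bot_iff]
    rintro x ⟨⟨hx, hx1⟩, -, hx2⟩
    rw [← L_eq_bot_of_deg_neg h (D := D - Finsupp.single P a - Finsupp.single Q b)
      (by rw [deg_sub_single h, deg_sub_single h]; omega)]
    intro R
    rcases eq_or_ne R P with rfl | hR
    · simpa [Finsupp.single_eq_of_ne hPQ] using hx1 R
    · simpa [Finsupp.single_eq_of_ne hR] using hx2 R
  rw [hinf, finrank_bot, add_zero]
  exact Submodule.finrank_mono (sup_le inf_le_left inf_le_left)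

theorem wSum_add_le (h : FF k K) [IsAlgClosed k] (hV : V ≤ FunFld.L D) {d : ℕ} (hD : D.deg = d)
    {P Q : Place k K} (hPQ : P ≠ Q) :
    wSum V D P d + wSum V D Q d ≤ Module.finrank k V * d := by
  rw [wSum, wSum, ← Finset.sum_range_reflect (fun n => hDim V D Q ((n : ℤ) + 1)) d,
    ← Finset.sum_add_distrib]
  refine (Finset.sum_le_card_nsmul _ _ (Module.finrank k V) fun n hn => ?_).trans_eq
    (by simp [mul_comm])
  exact hDim_add_le h hV hPQ (by rw [hD]; have := Finset.mem_range.1 hn; omega)

theorem two_mul_sum_tri (r : ℕ) : 2 * (∑ n ∈ Finset.range r, (r - n)) = r * (r + 1) := by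
  induction r with
  | zero => simp
  | succ r ih =>
    rw [Finset.sum_range_succ']
    simp only [Nat.succ_sub_succ_eq_sub, Nat.sub_zero]
    linarith

theorem two_mul_wSum_ge (h : FF k K) [IsAlgClosed k] (hV : V ≤ FunFld.L D) {d r : ℕ}
    (hr : Module.finrank k V = r + 1) (hdr : r ≤ d) (P : Place k K) :
    r * (r + 1) ≤ 2 * wSum V D P d := by
  rw [← two_mul_sum_tri r]
  refine Nat.mul_le_mul_left 2 (le_trans ?_ (Finset.sum_le_sum_of_subset
    (Finset.range_mono hdr)))
  refine Finset.sum_le_sum fun n _ => ?_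
  have := hDim_zero_sub hV h P (n + 1)
  push_cast at this
  omega

/-- `r ≤ d` for a `g^r_d`. -/
theorem finrank_le_deg_succ (hK : IsFunctionField k K) (hV : V ≤ FunFld.L D) {d : ℕ}
    (hD : D.deg = d) : Module.finrank k V ≤ d + 1 := by
  haveI := finiteDimensional_L (ff hK) D
  have h1 : Module.finrank k V ≤ ell D := Submodule.finrank_mono hV
  rcases Nat.eq_zero_or_pos (ell D) with h0 | hpos
  · omega
  obtain ⟨z, hz, hz'⟩ := exists_ne_zero_of_ell_pos (ff hK) hpos
  have h2 := ell_sub_ell_le (ff hK) hz'
  rw [ell_add_div (ff hK) D hz, deg_add, deg_div (ff hK), deg_zero, ell_zero hK] at h2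
  omega

theorem cusp_wSum_ge (hK : IsFunctionField k K) [IsAlgClosed k] (hV : V ≤ FunFld.L D) {d r : ℕ}
    (hD : D.deg = d) (hr : Module.finrank k V = r + 1) (P : Place k K)
    (hcusp : r ≤ hDim V D P 2) :
    r * (r + 1) + 2 * r ≤ 2 * wSum V D P d := by
  have h := ff hK
  rcases Nat.eq_zero_or_pos r with rfl | hr0
  · simp
  have hdr : r + 1 ≤ d := by
    by_contra hlt
    have h1 := hDim_ge h hV P 2 (d - 1)
    rw [hDim_eq_zero h P (n := (2 : ℤ) + (d - 1 : ℕ)) (by omega)] at h1
    omega
  rw [← two_mul_sum_tri r, ← Nat.mul_add]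
  refine Nat.mul_le_mul_left 2 (le_trans ?_ (Finset.sum_le_sum_of_subset
    (Finset.range_mono hdr)))
  rw [Finset.sum_range_succ']
  refine Nat.add_le_add (Finset.sum_le_sum fun n _ => ?_) ?_
  · have := hDim_ge h hV P 2 n
    rw [show (((n + 1 : ℕ) : ℤ) + 1) = 2 + (n : ℤ) by push_cast; ring]
    omega
  · have := hDim_zero_sub hV h P 1
    simpa using show r ≤ hDim V D P 1 by simp at this; omega

theorem wSum_le_pos_genus (hK : IsFunctionField k K) [IsAlgClosed k] (hg : 0 < genus k K)
    (hV : V ≤ FunFld.L D) {d r : ℕ} (hD : D.deg = d) (hr : Module.finrank k V = r + 1)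
    (P : Place k K) :
    2 * wSum V D P d + r * (r + 1) + 2 * r ≤ 2 * ((r + 1) * d) := by
  have h := ff hK
  haveI := finiteDimensional_of_le_L h hV
  have hone : ∀ E : Divisor k K, E.deg = 1 → ell E ≤ 1 := by
    intro E hE
    by_contra hlt
    push Not at hlt
    obtain ⟨z, hz, hz'⟩ := exists_ne_zero_of_ell_pos h (D := E) (by omega)
    set E' := E + FunFld.div k z
    have hd' : E'.deg = 1 := by rw [deg_add, deg_div h, hE, add_zero]
    have hl : 2 ≤ ell E' := by rw [ell_add_div h E hz]; omega
    obtain ⟨R, hR⟩ : ∃ R, 0 < E' R := by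
      by_contra! hc
      have : E' ≤ 0 := hc
      have := deg_mono this
      rw [deg_zero] at this; omega
    have hle : Finsupp.single R 1 ≤ E' := by
      classical
      intro S
      simp only [Finsupp.single_apply]
      split
      · rename_i e; subst e; omega
      · exact hz' S
    have he : Finsupp.single R 1 = E' := eq_of_le_of_deg h hle (by
      rw [hd', deg_single, deg_eq_one h R]; simp)
    obtain ⟨N, hN⟩ := exists_deg_delta hK
    have key : ∀ n : ℕ, (n : ℤ) + 1 ≤ ell (Finsupp.single R (n : ℤ)) := by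
      haveI := finiteDimensional_L h E'
      have hne : ¬ FunFld.L E' ≤ FunFld.L (0 : Divisor k K) := fun hh => by
        haveI := finiteDimensional_L h (0 : Divisor k K)
        have := Submodule.finrank_mono hh
        rw [← ell, ← ell, ell_zero hK] at this
        omega
      obtain ⟨f, hf, hf0⟩ := SetLike.not_le_iff_exists.1 hne
      have hfne : f ≠ 0 := fun e => hf0 (e ▸ zero_mem _)
      have hfR : R.ord f = -1 := by
        have h1 := (mem_L_iff_ord hfne).1 hf R
        rw [← he, Finsupp.single_eq_same] at h1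
        by_contra hne1
        apply hf0
        rw [mem_L_iff_ord hfne]
        intro S
        rcases eq_or_ne S R with rfl | hS
        · simp; omega
        · have := (mem_L_iff_ord hfne).1 hf S
          rw [← he, Finsupp.single_eq_of_ne hS] at this
          simpa using this
      intro n
      induction n with
      | zero => rw [Nat.cast_zero, Finsupp.single_zero, ell_zero hK]; rfl
      | succ n ih =>
        haveI := finiteDimensional_L h (Finsupp.single R ((n : ℤ) + 1))
        have hlt : FunFld.L (Finsupp.single R (n : ℤ)) < FunFld.L (Finsupp.single R ((n : ℤ) + 1)) := by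
          refine lt_of_le_of_ne (L_mono (single_le_single R (by omega))) fun heq => ?_
          have hmem : f ^ (n + 1) ∈ FunFld.L (Finsupp.single R ((n : ℤ) + 1)) := by
            rw [mem_L_iff_ord (pow_ne_zero _ hfne)]
            intro S
            rw [ord_pow]
            rcases eq_or_ne S R with rfl | hS
            · rw [hfR]; simp
            · have := (mem_L_iff_ord hfne).1 hf S
              rw [← he, Finsupp.single_eq_of_ne hS, add_zero] at this
              rw [Finsupp.single_eq_of_ne hS, add_zero]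
              exact mul_nonneg (Int.natCast_nonneg _) this
          rw [← heq, mem_L_iff_ord (pow_ne_zero _ hfne)] at hmem
          have := hmem R
          rw [ord_pow, hfR] at this
          simp at this
        have := Submodule.finrank_lt_finrank_of_lt hlt
        push_cast
        rw [ell] at ih ⊢
        omega
    have h3 := hN (Finsupp.single R (N.toNat : ℤ)) (by
      rw [deg_single, deg_eq_one h R]; simp)
    have h4 := key N.toNat
    rw [delta, deg_single, deg_eq_one h R, Nat.cast_one, mul_one] at h3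
    omega
  -- bound the sum
  have hd1 : ∀ n : ℕ, n + 1 ≤ d → hDim V D P n + n ≤ d ∧ hDim V D P d ≤ 1 := by
    intro n hn
    haveI := finiteDimensional_L h (D - Finsupp.single P ((d : ℤ) - 1))
    have h1 : hDim V D P ((d : ℤ) - 1) ≤ 1 :=
      (Submodule.finrank_mono inf_le_right).trans (hone _ (by rw [deg_sub_single h, hD]; ring))
    refine ⟨?_, ?_⟩
    · have h2 := hDim_ge h hV P n (d - 1 - n)
      rw [show (n : ℤ) + ((d - 1 - n : ℕ) : ℤ) = (d : ℤ) - 1 by omega] at h2
      omega
    · exact (hDim_anti h hV P (by omega)).trans h1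
  rcases Nat.eq_zero_or_pos r with rfl | hr0
  · simp only [wSum, zero_add, one_mul, Nat.zero_mul, Nat.mul_zero, add_zero]
    refine Nat.mul_le_mul_left 2 ((Finset.sum_le_card_nsmul _ _ 1 fun n _ => ?_).trans_eq (by simp))
    exact (hDim_le h hV P _).trans_eq (by rw [hr])
  have hrd : r + 1 ≤ d := by
    have h1 := finrank_le_deg_succ hK hV hD
    rcases Nat.eq_zero_or_pos d with hd0 | hd0
    · omega
    · have h2 := (hd1 0 hd0).1
      rw [Nat.cast_zero, hDim_zero hV, hr] at h2
      omega
  obtain ⟨e, rfl⟩ : ∃ e, d = r + (e + 1) := ⟨d - r - 1, by omega⟩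
  have hb : ∀ n ∈ Finset.range e, hDim V D P ((n : ℤ) + 1) ≤ r + 1 := fun n _ =>
    (hDim_le h hV P _).trans hr.le
  have hs : wSum V D P (r + (e + 1)) ≤ e * (r + 1) + ((∑ n ∈ Finset.range r, (r - n)) + 1) := by
    rw [wSum, show r + (e + 1) = e + (r + 1) by ring, Finset.sum_range_add]
    refine Nat.add_le_add ((Finset.sum_le_card_nsmul _ _ _ hb).trans_eq (by simp)) ?_
    rw [Finset.sum_range_succ]
    refine Nat.add_le_add (Finset.sum_le_sum fun n hn => ?_) ?_
    · have hn' := Finset.mem_range.1 hn
      have := (hd1 (e + n + 1) (by omega)).1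
      push_cast at this ⊢
      omega
    · have := (hd1 0 (by omega)).2
      push_cast at this ⊢
      rwa [show (e : ℤ) + r + 1 = r + (e + 1) by ring]
  have := two_mul_sum_tri r
  nlinarith

/-- Compatibility at a node gives `w + w' = (r+1) d`. -/
theorem wSum_comp {K' : Type*} [Field K'] [Algebra k K'] {V' : Submodule k K'} {D' : Divisor k K'}
    {P : Place k K} {P' : Place k K'} {d r : ℕ}
    (hcomp : ∀ m : ℕ, m ≤ d + 1 →
      hDim V D P (m : ℤ) + hDim V' D' P' ((d : ℤ) + 1 - m) = r + 1) :
    wSum V D P d + wSum V' D' P' d = (r + 1) * d := by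
  rw [wSum, wSum, ← Finset.sum_range_reflect (fun n => hDim V' D' P' ((n : ℤ) + 1)) d,
    ← Finset.sum_add_distrib]
  rw [Finset.sum_const_nat (m := r + 1) fun n hn => ?_, Finset.card_range, mul_comm]
  have hn' := Finset.mem_range.1 hn
  rw [← hcomp (n + 1) (by omega)]
  congr 2; omega

end Groth.Agent.FunField
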