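import Groth.Agent.Lib.FunField.Riemann

/-! # Weil differentials and the Riemann-Roch theorem -/

namespace Groth.Agent.FunField

open WithZero FunFld
open scoped Multiplicative

variable {k K : Type*} [Field k] [Field K] [Algebra k K]

theorem mem_WD {D : Divisor k K} {ω : Module.Dual k (adele k K)} :
    ω ∈ WD D ↔ ∀ a ∈ ADK D, ω a = 0 := Submodule.mem_dualAnnihilator _

theorem ADK_mono {D E : Divisor k K} (hle : D ≤ E) : ADK D ≤ ADK E :=
  Submodule.comap_mono (sup_le_sup_right (AD_mono hle) _)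

theorem WD_anti {D E : Divisor k K} (hle : D ≤ E) : WD E ≤ WD D :=
  Submodule.dualAnnihilator_anti (ADK_mono hle)

theorem ADK_sup (D E : Divisor k K) : ADK (D ⊔ E) = ADK D ⊔ ADK E := by
  refine le_antisymm ?_ (sup_le (ADK_mono le_sup_left) (ADK_mono le_sup_right))
  intro a ha
  obtain ⟨u, hu, v, hv, huv⟩ := Submodule.mem_sup.1 (show (a : Place k K → K) ∈
    AD (D ⊔ E) ⊔ LinearMap.range (diag k K) from ha)
  classical
  let u₁ : Place k K → K := fun P => if E P ≤ D P then u P else 0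
  let u₂ : Place k K → K := fun P => if E P ≤ D P then 0 else u P
  have h1 : u₁ ∈ AD D := fun P => by
    simp only [u₁]
    split
    · rename_i h; simpa [h] using hu P
    · simp
  have h2 : u₂ ∈ AD E := fun P => by
    simp only [u₂]
    split
    · simp
    · rename_i h; simpa [max_eq_right (le_of_lt (not_le.1 h))] using hu P
  refine Submodule.mem_sup.2 ⟨⟨u₁, AD_le_adele D h1⟩, Submodule.mem_sup_left h1,
    a - ⟨u₁, AD_le_adele D h1⟩, ?_, add_sub_cancel _ _⟩
  show (a : Place k K → K) - u₁ ∈ AD E ⊔ LinearMap.range (diag k K)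
  have : (a : Place k K → K) - u₁ = u₂ + v := by
    rw [← huv]; funext P; simp only [u₁, u₂, Pi.add_apply, Pi.sub_apply]; split <;> ring
  rw [this]
  exact Submodule.add_mem_sup h2 hv

theorem smul_mem_adele (h : FF k K) (x : K) : ∀ a ∈ adele k K, x • a ∈ adele k K := by
  intro a ha
  have hx : diag k K x ∈ adele k K := diag_mem_adele h x
  refine ((Set.Finite.union ha hx : Set.Finite _)).subset fun P hP => ?_
  simp only [Set.mem_union, Set.mem_compl_iff, Set.mem_setOf_eq, Pi.smul_apply, smul_eq_mul,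
    map_mul] at hP ⊢
  by_contra hc
  push Not at hc
  exact hP (mul_le_one' hc.2 hc.1)

theorem mulW_apply (x : K) (hx : ∀ a ∈ adele k K, x • a ∈ adele k K)
    (ω : Module.Dual k (adele k K)) (a : adele k K) :
    mulW x hx ω a = ω ⟨x • (a : Place k K → K), hx a a.2⟩ := rfl

theorem mulW_mem {C D : Divisor k K} {x : K} (hxD : x ∈ FunFld.L D)
    (hx : ∀ a ∈ adele k K, x • a ∈ adele k K) {ω : Module.Dual k (adele k K)} (hω : ω ∈ WD C) :
    mulW x hx ω ∈ WD (C - D) := by
  rw [mem_WD] at hω ⊢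
  intro a ha
  rw [mulW_apply]
  refine hω _ ?_
  obtain ⟨u, hu, v, ⟨y, rfl⟩, huv⟩ := Submodule.mem_sup.1 (show (a : Place k K → K) ∈
    AD (C - D) ⊔ LinearMap.range (diag k K) from ha)
  show x • (a : Place k K → K) ∈ AD C ⊔ LinearMap.range (diag k K)
  rw [← huv, smul_add]
  refine Submodule.add_mem_sup (fun P => ?_) ⟨x * y, ?_⟩
  · rw [Pi.smul_apply, smul_eq_mul, map_mul]
    refine (mul_le_mul' (hxD P) (hu P)).trans_eq ?_
    rw [← exp_add]; simp
  · funext P; simp [diag]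

theorem isWeil_mulW (h : FF k K) (x : K) (hx : ∀ a ∈ adele k K, x • a ∈ adele k K)
    {ω : Module.Dual k (adele k K)} (hω : IsWeil ω) : IsWeil (mulW x hx ω) := by
  obtain ⟨C, hC⟩ := hω
  rcases eq_or_ne x 0 with rfl | hx0
  · exact ⟨C - 0, mulW_mem (Submodule.zero_mem _) hx hC⟩
  · exact ⟨C - -FunFld.div k x, mulW_mem ((mem_L_iff_div h hx0).2 (by simp)) hx hC⟩

/-- `x ↦ x ω`, as a linear map. -/
noncomputable def mulWLin (h : FF k K) (ω : Module.Dual k (adele k K)) :
    K →ₗ[k] Module.Dual k (adele k K) where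
  toFun x := mulW x (smul_mem_adele h x) ω
  map_add' x y := LinearMap.ext fun a => by
    rw [LinearMap.add_apply, mulW_apply, mulW_apply, mulW_apply, ← map_add]
    exact congrArg ω (Subtype.ext (add_smul x y (a : Place k K → K)))
  map_smul' c x := LinearMap.ext fun a => by
    rw [RingHom.id_apply, LinearMap.smul_apply, mulW_apply, mulW_apply, ← map_smul]
    exact congrArg ω (Subtype.ext (smul_assoc c x (a : Place k K → K)))

theorem mulW_mulW (h : FF k K) (x y : K) (ω : Module.Dual k (adele k K)) :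
    mulWLin h (mulWLin h ω x) y = mulWLin h ω (x * y) := by
  refine LinearMap.ext fun a => congrArg ω (Subtype.ext ?_)
  show x • y • (a : Place k K → K) = (x * y) • (a : Place k K → K)
  rw [mul_smul]

theorem mulW_one (h : FF k K) (ω : Module.Dual k (adele k K)) : mulWLin h ω 1 = ω :=
  LinearMap.ext fun a => congrArg ω (Subtype.ext (one_smul K (a : Place k K → K)))

theorem mulWLin_injective (h : FF k K) {ω : Module.Dual k (adele k K)} (h0 : ω ≠ 0) :
    Function.Injective (mulWLin h ω) := by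
  rw [← LinearMap.ker_eq_bot, eq_bot_iff]
  intro x hx
  rw [Submodule.mem_bot]
  by_contra hne
  apply h0
  rw [LinearMap.mem_ker] at hx
  have h1 := mulW_mulW h x x⁻¹ ω
  rw [hx, mul_inv_cancel₀ hne, mulW_one] at h1
  rw [← h1]
  exact LinearMap.ext fun a => rfl

theorem exists_weil_ne_zero (hK : IsFunctionField k K) :
    ∃ ω : Module.Dual k (adele k K), ω ≠ 0 ∧ IsWeil ω := by
  obtain ⟨P⟩ := nonempty_place (ff hK)
  set D : Divisor k K := Finsupp.single P (-2)
  have hdeg : D.deg < 0 := by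
    rw [deg_single]
    have := deg_pos (ff hK) P
    omega
  have hd : delta D = D.deg + 1 := by
    rw [delta, ell, L_eq_bot_of_deg_neg (ff hK) hdeg, finrank_bot]
    simp
  obtain ⟨h1, h2⟩ := finrank_WD hK D
  have hpos : 0 < Module.finrank k (WD D) := by
    rw [hd] at h2
    have h3 : D.deg ≤ -2 := by
      rw [deg_single]
      have := deg_pos (ff hK) P
      nlinarith
    omega
  have : WD D ≠ ⊥ := fun hb => by rw [hb, finrank_bot] at hpos; omega
  obtain ⟨ω, hω, h0⟩ := Submodule.exists_mem_ne_zero_of_ne_bot this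
  exact ⟨ω, h0, D, hω⟩

theorem deg_le_of_mem_WD (hK : IsFunctionField k K) {ω : Module.Dual k (adele k K)} (h0 : ω ≠ 0)
    {D : Divisor k K} (hω : ω ∈ WD D) : D.deg ≤ 2 * genus k K := by
  obtain ⟨h1, h2⟩ := finrank_WD hK (0 : Divisor k K)
  have hh := ff hK
  let f : FunFld.L D →ₗ[k] WD (0 : Divisor k K) :=
    ((mulWLin hh ω).comp (FunFld.L D).subtype).codRestrict _ fun x => by
      have := mulW_mem x.2 (smul_mem_adele hh x) hω
      rwa [sub_self] at this
  have hinj : Function.Injective f := fun x y hxy =>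
    Subtype.ext (mulWLin_injective hh h0 (congrArg Subtype.val hxy))
  have := LinearMap.finrank_le_finrank_of_injective hinj
  have h3 := delta_le_genus hh D
  rw [delta_zero hK] at h2
  rw [delta, ell] at h3
  omega

theorem exists_isDivOf (hK : IsFunctionField k K) {ω : Module.Dual k (adele k K)} (hω : IsWeil ω)
    (h0 : ω ≠ 0) : ∃ C : Divisor k K, IsDivOf ω C := by
  classical
  obtain ⟨D₀, hD₀⟩ := hω
  obtain ⟨m, ⟨C, hC, rfl⟩, hmax⟩ := Int.exists_greatest_of_bdd
    (P := fun n => ∃ D : Divisor k K, ω ∈ WD D ∧ D.deg = n)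
    ⟨2 * genus k K, fun _ ⟨_, h, e⟩ => e ▸ deg_le_of_mem_WD hK h0 h⟩ ⟨_, D₀, hD₀, rfl⟩
  refine ⟨C, fun E => ⟨fun hE => ?_, fun hle => WD_anti hle hC⟩⟩
  have hsup : ω ∈ WD (C ⊔ E) := by
    rw [WD, ADK_sup, Submodule.dualAnnihilator_sup_eq]
    exact ⟨hC, hE⟩
  have := eq_of_le_of_deg (ff hK) (le_sup_left (a := C) (b := E)) (hmax _ ⟨_, hsup, rfl⟩)
  rw [this]
  exact le_sup_right

theorem isDivOf_mulW (hK : IsFunctionField k K) {x : K} (h0 : x ≠ 0)
    (hx : ∀ a ∈ adele k K, x • a ∈ adele k K) {ω : Module.Dual k (adele k K)} {C : Divisor k K}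
    (hω : IsDivOf ω C) : IsDivOf (mulW x hx ω) (C + FunFld.div k x) := by
  have hh := ff hK
  have key : ∀ (y : K) (_ : y ≠ 0) (ν : Module.Dual k (adele k K)) (E : Divisor k K),
      ν ∈ WD E → mulWLin hh ν y ∈ WD (E + FunFld.div k y) := by
    intro y hy ν E hν
    have := mulW_mem (C := E) (D := -FunFld.div k y) ((mem_L_iff_div hh hy).2 (by simp))
      (smul_mem_adele hh y) hν
    rwa [sub_neg_eq_add] at this
  intro E
  constructor
  · intro hE
    have h1 := key x⁻¹ (inv_ne_zero h0) _ E hE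
    change mulWLin hh (mulWLin hh ω x) x⁻¹ ∈ _ at h1
    rw [mulW_mulW, mul_inv_cancel₀ h0, mulW_one, hω, div_inv hh, ← sub_eq_add_neg,
      sub_le_iff_le_add] at h1
    exact h1
  · intro hle
    exact WD_anti hle (key x h0 ω C ((hω C).2 le_rfl))

theorem exists_mulW_eq (hK : IsFunctionField k K) {ω₁ ω₂ : Module.Dual k (adele k K)}
    (h₁ : IsWeil ω₁) (h0 : ω₁ ≠ 0) (h₂ : IsWeil ω₂) :
    ∃ x : K, mulWLin (ff hK) ω₁ x = ω₂ := by
  rcases eq_or_ne ω₂ 0 with rfl | h20
  · exact ⟨0, map_zero _⟩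
  have hh := ff hK
  obtain ⟨C₁, hC₁⟩ := exists_isDivOf hK h₁ h0
  obtain ⟨C₂, hC₂⟩ := exists_isDivOf hK h₂ h20
  obtain ⟨B, -, hB⟩ := exists_ge_deg_ge hh (0 : Divisor k K)
    (max 1 (3 * (genus k K : ℤ) - C₁.deg - C₂.deg))
  have hBneg : (-B).deg < 0 := by rw [deg_neg]; omega
  obtain ⟨hf, hW⟩ := finrank_WD hK (-B)
  rw [delta, ell, L_eq_bot_of_deg_neg hh hBneg, finrank_bot, deg_neg] at hW
  haveI := finiteDimensional_L hh (C₁ + B)
  haveI := finiteDimensional_L hh (C₂ + B)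
  have hmem : ∀ (ω : Module.Dual k (adele k K)) (C : Divisor k K), IsDivOf ω C →
      ∀ x : FunFld.L (C + B), mulWLin hh ω (x : K) ∈ WD (-B) := fun ω C hC x => by
    have := mulW_mem x.2 (smul_mem_adele hh x) ((hC C).2 le_rfl)
    rwa [sub_add_cancel_left] at this
  let f : (FunFld.L (C₁ + B) × FunFld.L (C₂ + B)) →ₗ[k] WD (-B) :=
    (((mulWLin hh ω₁).comp (FunFld.L (C₁ + B)).subtype).codRestrict _ (hmem ω₁ C₁ hC₁)).coprod
      (((mulWLin hh ω₂).comp (FunFld.L (C₂ + B)).subtype).codRestrict _ (hmem ω₂ C₂ hC₂))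
  have hlt : Module.finrank k (WD (-B)) <
      Module.finrank k (FunFld.L (C₁ + B) × FunFld.L (C₂ + B)) := by
    rw [Module.finrank_prod]
    have h3 := delta_le_genus hh (C₁ + B)
    have h4 := delta_le_genus hh (C₂ + B)
    rw [delta, ell, deg_add] at h3 h4
    omega
  obtain ⟨a, b, hab, hne'⟩ : ∃ a b, f a = f b ∧ a ≠ b := by
    by_contra! h
    have := LinearMap.finrank_le_finrank_of_injective (f := f) fun a b hab => h a b hab
    omega
  obtain ⟨⟨x₁, x₂⟩, hx, hne⟩ : ∃ z, f z = 0 ∧ z ≠ 0 :=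
    ⟨a - b, by rw [map_sub, hab, sub_self], sub_ne_zero.2 hne'⟩
  have h5 : mulWLin hh ω₁ (x₁ : K) + mulWLin hh ω₂ (x₂ : K) = 0 := congrArg Subtype.val hx
  have hx₂ : (x₂ : K) ≠ 0 := by
    intro h
    rw [h, map_zero, add_zero, ← map_zero (mulWLin hh ω₁)] at h5
    exact hne (Prod.ext (Subtype.ext (mulWLin_injective hh h0 h5)) (Subtype.ext h))
  refine ⟨-(x₁ : K) * (x₂ : K)⁻¹, ?_⟩
  have h6 : mulWLin hh ω₁ (-(x₁ : K)) = mulWLin hh ω₂ (x₂ : K) := by
    rw [map_neg, neg_eq_iff_add_eq_zero]; exact h5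
  rw [← mulW_mulW, h6, mulW_mulW, mul_inv_cancel₀ hx₂, mulW_one]

theorem exists_isCanonical (hK : IsFunctionField k K) : ∃ C, IsCanonical k K C := by
  obtain ⟨ω, h0, hw⟩ := exists_weil_ne_zero hK
  obtain ⟨C, hC⟩ := exists_isDivOf hK hw h0
  exact ⟨C, ω, h0, hC⟩

theorem isWeil_of_isDivOf {ω : Module.Dual k (adele k K)} {C : Divisor k K} (hC : IsDivOf ω C) :
    IsWeil ω :=
  ⟨C, (hC C).2 le_rfl⟩

/-- Multiplication by `ω` identifies `L(C - D)` with `W(D)`. -/
theorem existsUnique_mulW (hK : IsFunctionField k K) {ω : Module.Dual k (adele k K)} (h0 : ω ≠ 0)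
    {C : Divisor k K} (hC : IsDivOf ω C) {D : Divisor k K} {ω' : Module.Dual k (adele k K)}
    (hω' : ω' ∈ WD D) :
    ∃! x : K, x ∈ FunFld.L (C - D) ∧ mulWLin (ff hK) ω x = ω' := by
  obtain ⟨x, hx⟩ := exists_mulW_eq hK (isWeil_of_isDivOf hC) h0 (ω₂ := ω') ⟨D, hω'⟩
  refine ⟨x, ⟨?_, hx⟩, fun y hy => mulWLin_injective (ff hK) h0 (hy.2.trans hx.symm)⟩
  rcases eq_or_ne x 0 with rfl | hx0
  · exact Submodule.zero_mem _
  rw [mem_L_iff_div (ff hK) hx0]
  have := (isDivOf_mulW hK hx0 (smul_mem_adele (ff hK) x) hC D).1 (by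
    change mulWLin (ff hK) ω x ∈ WD D
    rw [hx]; exact hω')
  intro P
  have := this P
  simp at this ⊢
  omega

theorem finrank_WD_eq_ell (hK : IsFunctionField k K) {C : Divisor k K} (hC : IsCanonical k K C)
    (D : Divisor k K) : Module.finrank k (WD D) = ell (C - D) := by
  obtain ⟨ω, h0, hC⟩ := hC
  have hh := ff hK
  let f : FunFld.L (C - D) →ₗ[k] WD D :=
    ((mulWLin hh ω).comp (FunFld.L (C - D)).subtype).codRestrict _ fun x => by
      have := mulW_mem x.2 (smul_mem_adele hh x) ((hC C).2 le_rfl)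
      rwa [sub_sub_cancel] at this
  have hf : Function.Bijective f := by
    refine ⟨fun x y hxy => Subtype.ext (mulWLin_injective hh h0 (congrArg Subtype.val hxy)),
      fun w => ?_⟩
    obtain ⟨x, ⟨hx, hxw⟩, -⟩ := existsUnique_mulW hK h0 hC w.2
    exact ⟨⟨x, hx⟩, Subtype.ext hxw⟩
  exact (LinearEquiv.ofBijective f hf).finrank_eq.symm

theorem riemann_roch (hK : IsFunctionField k K) {C : Divisor k K} (hC : IsCanonical k K C)
    (D : Divisor k K) :
    (ell D : ℤ) = D.deg + 1 - genus k K + ell (C - D) := by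
  have h1 := (finrank_WD hK D).2
  rw [finrank_WD_eq_ell hK hC D, delta] at h1
  omega

theorem isCanonical_deg (hK : IsFunctionField k K) {C : Divisor k K} (hC : IsCanonical k K C) :
    ell C = genus k K ∧ C.deg = 2 * genus k K - 2 := by
  have h1 := riemann_roch hK hC 0
  have h2 := riemann_roch hK hC C
  rw [sub_zero, ell_zero hK, deg_zero] at h1
  rw [sub_self, ell_zero hK] at h2
  omega

theorem ell_of_large_deg (hK : IsFunctionField k K) (D : Divisor k K)
    (h : 2 * (genus k K : ℤ) - 1 ≤ D.deg) : (ell D : ℤ) = D.deg + 1 - genus k K := by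
  obtain ⟨C, hC⟩ := exists_isCanonical hK
  have h1 := riemann_roch hK hC D
  have h2 : ell (C - D) = 0 := by
    rw [ell, L_eq_bot_of_deg_neg (ff hK) (by rw [deg_sub, (isCanonical_deg hK hC).2]; omega),
      finrank_bot]
  omega

theorem isCanonical_add_div (hK : IsFunctionField k K) {C : Divisor k K} (hC : IsCanonical k K C)
    {x : K} (hx : x ≠ 0) : IsCanonical k K (C + FunFld.div k x) := by
  obtain ⟨ω, h0, hC⟩ := hC
  refine ⟨mulWLin (ff hK) ω x, fun h => hx ?_, isDivOf_mulW hK hx (smul_mem_adele (ff hK) x) hC⟩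
  exact mulWLin_injective (ff hK) h0 (h.trans (map_zero _).symm)

theorem isDivOf_unique {ω : Module.Dual k (adele k K)} {C C' : Divisor k K} (h : IsDivOf ω C)
    (h' : IsDivOf ω C') : C = C' :=
  le_antisymm ((h' C).1 ((h C).2 le_rfl)) ((h C').1 ((h' C').2 le_rfl))

theorem isCanonical_sub_isCanonical (hK : IsFunctionField k K) {C₁ C₂ : Divisor k K}
    (h₁ : IsCanonical k K C₁) (h₂ : IsCanonical k K C₂) :
    ∃ x : K, x ≠ 0 ∧ C₂ = C₁ + FunFld.div k x := by
  obtain ⟨ω₁, h10, hC₁⟩ := h₁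
  obtain ⟨ω₂, h20, hC₂⟩ := h₂
  obtain ⟨x, hx⟩ := exists_mulW_eq hK (isWeil_of_isDivOf hC₁) h10 (isWeil_of_isDivOf hC₂)
  have hx0 : x ≠ 0 := fun h => h20 (by rw [← hx, h, map_zero])
  refine ⟨x, hx0, isDivOf_unique hC₂ ?_⟩
  rw [← hx]
  exact isDivOf_mulW hK hx0 (smul_mem_adele (ff hK) x) hC₁

theorem isCanonical_of_ell_deg (hK : IsFunctionField k K) {C : Divisor k K}
    (h1 : ell C = genus k K) (h2 : C.deg = 2 * genus k K - 2) : IsCanonical k K C := by
  obtain ⟨C₀, hC₀⟩ := exists_isCanonical hK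
  have h3 := riemann_roch hK hC₀ C
  have h4 : 0 < ell (C₀ - C) := by omega
  obtain ⟨z, hz, hz'⟩ := exists_ne_zero_of_ell_pos (ff hK) h4
  have h5 : (0 : Divisor k K) = C₀ - C + FunFld.div k z :=
    eq_of_le_of_deg (ff hK) hz' (by
      rw [deg_add, deg_sub, deg_div (ff hK), (isCanonical_deg hK hC₀).2, h2, deg_zero]; omega)
  have : C = C₀ + FunFld.div k z :=
    sub_eq_zero.1 (show C - (C₀ + FunFld.div k z) = 0 by
      rw [show C - (C₀ + FunFld.div k z) = -(C₀ - C + FunFld.div k z) by abel, ← h5, neg_zero])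
  rw [this]
  exact isCanonical_add_div hK hC₀ hz

end Groth.Agent.FunField
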