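import Groth.Agent.Lib.FunField.Weights
import Mathlib.Algebra.Polynomial.Degree.Lemmas

/-! # Genus zero and one; Weierstrass gaps -/

namespace Groth.Agent.FunField

open WithZero FunFld Polynomial IntermediateField
open scoped Multiplicative

variable {k K : Type*} [Field k] [Field K] [Algebra k K]

theorem adjoin_eq_top_of_simple_pole (hK : IsFunctionField k K) {x : K} {P : Place k K}
    (hP : P.deg = 1) (hord : P.ord x = -1) (hoth : ∀ Q : Place k K, Q ≠ P → 0 ≤ Q.ord x) :
    Transcendental k x ∧ k⟮x⟯ = (⊤ : IntermediateField k K) := by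
  have h := ff hK
  have hx : Transcendental k x := by
    refine transcendental_of_val_ne_one P (fun e => ?_) (fun e => ?_)
    · rw [e] at hord; simp at hord
    · simp [Place.ord, e] at hord
  have hpd : poleDiv (k := k) x = Finsupp.single P 1 := by
    ext Q
    rw [poleDiv_apply h]
    rcases eq_or_ne Q P with rfl | hQ
    · rw [Finsupp.single_eq_same, hord]; rfl
    · rw [Finsupp.single_eq_of_ne hQ]
      have := hoth Q hQ; omega
  haveI := h.finiteDimensional hx
  refine ⟨hx, IntermediateField.finrank_eq_one_iff_eq_top.1 ?_⟩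
  have := deg_poleDiv h hx
  rw [hpd, deg_single, hP] at this
  exact_mod_cast this.symm

theorem exists_simple_pole_of_adjoin_top (hK : IsFunctionField k K) {x : K}
    (htop : IntermediateField.adjoin k ({x} : Set K) = ⊤) :
    ∃ P : Place k K, P.deg = 1 ∧ P.ord x = -1 ∧ ∀ Q : Place k K, Q ≠ P → 0 ≤ Q.ord x := by
  have h := ff hK
  have hx : Transcendental k x := by
    intro halg
    obtain ⟨y, hy, -⟩ := hK.1
    obtain ⟨c, hc⟩ := hK.2 x halg
    have hbot : (k⟮x⟯ : IntermediateField k K) = ⊥ := by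
      rw [IntermediateField.adjoin_simple_eq_bot_iff, IntermediateField.mem_bot]
      exact ⟨c, hc⟩
    have hm : y ∈ (⊥ : IntermediateField k K) := by
      rw [← hbot, htop]; trivial
    obtain ⟨a, ha⟩ := IntermediateField.mem_bot.1 hm
    exact hy (ha ▸ isAlgebraic_algebraMap a)
  have hdeg := deg_poleDiv h hx
  rw [IntermediateField.finrank_eq_one_iff_eq_top.2 htop, Nat.cast_one] at hdeg
  obtain ⟨P, hP⟩ := exists_pole_of_transcendental h hx
  have hle : Finsupp.single P 1 ≤ poleDiv (k := k) x := by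
    classical
    intro Q
    rw [Finsupp.single_apply, poleDiv_apply h]
    split
    · rename_i e; subst e; omega
    · omega
  have h1 := deg_mono hle
  rw [deg_single, hdeg] at h1
  have hP1 : P.deg = 1 := by
    have := deg_pos h P
    omega
  have he := eq_of_le_of_deg h hle (by rw [hdeg, deg_single, hP1]; simp)
  have hval := fun Q : Place k K => DFunLike.congr_fun he Q
  refine ⟨P, hP1, ?_, fun Q hQ => ?_⟩
  · have := hval P
    rw [Finsupp.single_eq_same, poleDiv_apply h] at this
    omega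
  · have := hval Q
    rw [Finsupp.single_eq_of_ne hQ, poleDiv_apply h] at this
    omega

theorem genus_eq_zero_of_adjoin_top (hK : IsFunctionField k K) {x : K}
    (htop : IntermediateField.adjoin k ({x} : Set K) = ⊤) : genus k K = 0 := by
  have h := ff hK
  obtain ⟨P, hP1, hord, hoth⟩ := exists_simple_pole_of_adjoin_top hK htop
  obtain ⟨hx, -⟩ := adjoin_eq_top_of_simple_pole hK hP1 hord hoth
  obtain ⟨N, hN⟩ := exists_deg_delta hK
  set n := N.toNat
  have hd := hN (Finsupp.single P (n : ℤ)) (by rw [deg_single, hP1]; simp [n])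
  haveI := finiteDimensional_L h (Finsupp.single P (n : ℤ))
  have hx0 := ne_zero_of_transcendental hx
  have hmem : ∀ i : Fin (n + 1), x ^ (i : ℕ) ∈ FunFld.L (Finsupp.single P (n : ℤ)) := fun i => by
    rw [mem_L_iff_ord (pow_ne_zero _ hx0)]
    intro Q
    rw [ord_pow]
    rcases eq_or_ne Q P with rfl | hQ
    · rw [hord, Finsupp.single_eq_same]
      have := i.2; omega
    · rw [Finsupp.single_eq_of_ne hQ, add_zero]
      exact mul_nonneg (Int.natCast_nonneg _) (hoth Q hQ)
  have hind : LinearIndependent k fun i : Fin (n + 1) => x ^ (i : ℕ) := by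
    rw [Fintype.linearIndependent_iff]
    intro c hc i
    have h1 : aeval x (∑ j : Fin (n + 1), monomial (j : ℕ) (c j)) = 0 := by
      rw [map_sum, ← hc]
      exact Finset.sum_congr rfl fun j _ => by rw [aeval_monomial, Algebra.smul_def]
    have h2 : (∑ j : Fin (n + 1), monomial (j : ℕ) (c j)) = 0 :=
      by_contra fun hne => aeval_ne_zero hx hne h1
    have h3 := congrArg (fun q => coeff q (i : ℕ)) h2
    simpa [finsetSum_coeff, coeff_monomial, Fin.val_inj] using h3
  have hge : n + 1 ≤ ell (Finsupp.single P (n : ℤ)) := by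
    simpa [ell] using LinearIndependent.fintype_card_le_finrank
      (b := fun i => (⟨_, hmem i⟩ : FunFld.L (Finsupp.single P (n : ℤ))))
      (LinearIndependent.of_comp (FunFld.L (Finsupp.single P (n : ℤ))).subtype hind)
  rw [delta, deg_single, hP1] at hd
  push_cast at hd
  omega

theorem exists_gen_of_genus_zero (hK : IsFunctionField k K) (hg : genus k K = 0) {P : Place k K}
    (hP : P.deg = 1) : ∃ x : K, P.ord x = -1 ∧ ∀ Q : Place k K, Q ≠ P → 0 ≤ Q.ord x := by
  have h := ff hK
  have hl := ell_of_large_deg hK (Finsupp.single P 1) (by rw [deg_single, hP, hg]; simp)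
  rw [deg_single, hP, hg] at hl
  haveI := finiteDimensional_L h (0 : Divisor k K)
  have hne : ¬ FunFld.L (Finsupp.single P 1) ≤ FunFld.L (0 : Divisor k K) := fun hh => by
    have := Submodule.finrank_mono hh
    rw [← ell, ← ell, ell_zero hK] at this
    omega
  obtain ⟨x, hx, hx0⟩ := SetLike.not_le_iff_exists.1 hne
  have hne0 : x ≠ 0 := fun e => hx0 (e ▸ zero_mem _)
  have hoth : ∀ Q : Place k K, Q ≠ P → 0 ≤ Q.ord x := fun Q hQ => by
    simpa [Finsupp.single_eq_of_ne hQ] using (mem_L_iff_ord hne0).1 hx Q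
  refine ⟨x, ?_, hoth⟩
  have h1 := (mem_L_iff_ord hne0).1 hx P
  rw [Finsupp.single_eq_same] at h1
  by_contra h2
  refine hx0 ((mem_L_iff_ord hne0).2 fun S => ?_)
  rcases eq_or_ne S P with rfl | hS
  · simp; omega
  · simpa using hoth S hS

theorem ell_single_one (hK : IsFunctionField k K) (hg : 0 < genus k K) {P : Place k K}
    (hP : P.deg = 1) : ell (Finsupp.single P 1) = 1 := by
  have h := ff hK
  haveI := finiteDimensional_L h (Finsupp.single P 1)
  refine le_antisymm ?_ (by rw [← ell_zero hK]; exact ell_mono h (Finsupp.single_nonneg.2 zero_le_one))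
  by_contra hlt
  push Not at hlt
  have hne : ¬ FunFld.L (Finsupp.single P 1) ≤ FunFld.L (0 : Divisor k K) := fun hh => by
    haveI := finiteDimensional_L h (0 : Divisor k K)
    have := Submodule.finrank_mono hh
    rw [← ell, ← ell, ell_zero hK] at this
    omega
  obtain ⟨x, hx, hx0⟩ := SetLike.not_le_iff_exists.1 hne
  have hne0 : x ≠ 0 := fun e => hx0 (e ▸ zero_mem _)
  have hoth : ∀ Q : Place k K, Q ≠ P → 0 ≤ Q.ord x := fun Q hQ => by
    simpa [Finsupp.single_eq_of_ne hQ] using (mem_L_iff_ord hne0).1 hx Q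
  have hord : P.ord x = -1 := by
    have h1 := (mem_L_iff_ord hne0).1 hx P
    rw [Finsupp.single_eq_same] at h1
    by_contra h2
    refine hx0 ((mem_L_iff_ord hne0).2 fun S => ?_)
    rcases eq_or_ne S P with rfl | hS
    · simp; omega
    · simpa using hoth S hS
  have := genus_eq_zero_of_adjoin_top hK (adjoin_eq_top_of_simple_pole hK hP hord hoth).2
  omega

theorem eq_of_linearEquiv_deg_one (hK : IsFunctionField k K) (hg : 0 < genus k K)
    {P P' : Place k K} (hP' : P'.deg = 1) {x : K} (hx : x ≠ 0)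
    (hh : Finsupp.single P 1 - Finsupp.single P' 1 = FunFld.div k x) : P = P' := by
  have h := ff hK
  have hxL : x ∈ FunFld.L (Finsupp.single P' 1) := by
    rw [mem_L_iff_div h hx, ← hh, add_sub_cancel]
    exact Finsupp.single_nonneg.2 zero_le_one
  haveI := finiteDimensional_L h (Finsupp.single P' 1)
  have he : FunFld.L (0 : Divisor k K) = FunFld.L (Finsupp.single P' 1) :=
    Submodule.eq_of_le_of_finrank_eq (L_mono (Finsupp.single_nonneg.2 zero_le_one))
      (by rw [← ell, ← ell, ell_zero hK, ell_single_one hK hg hP'])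
  rw [← he, mem_L_iff_div h hx, zero_add, ← hh, Finsupp.le_def] at hxL
  by_contra hne
  have := hxL P'
  rw [Finsupp.sub_apply, Finsupp.single_eq_of_ne (Ne.symm hne), Finsupp.single_eq_same] at this
  simp at this

/-- Weierstrass gaps at `P`. -/
def IsGap (P : Place k K) (m : ℕ) : Prop :=
  FunFld.L (Finsupp.single P (m : ℤ)) = FunFld.L (Finsupp.single P ((m : ℤ) - 1))

theorem ell_step (hK : IsFunctionField k K) {P : Place k K} (hP : P.deg = 1) (n : ℕ) :
    (IsGap P (n + 1) → ell (Finsupp.single P ((n : ℤ) + 1)) = ell (Finsupp.single P (n : ℤ))) ∧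
    (¬ IsGap P (n + 1) → ell (Finsupp.single P ((n : ℤ) + 1)) = ell (Finsupp.single P (n : ℤ)) + 1) := by
  have h := ff hK
  have e : (((n + 1 : ℕ)) : ℤ) - 1 = n := by omega
  simp only [IsGap, e]
  push_cast
  refine ⟨fun hh => by rw [ell, ell, hh], fun hh => ?_⟩
  haveI := finiteDimensional_L h (Finsupp.single P ((n : ℤ) + 1))
  have h1 := Submodule.finrank_lt_finrank_of_lt
    (lt_of_le_of_ne (L_mono (single_le_single P (by omega : (n : ℤ) ≤ n + 1))) (Ne.symm hh))
  have h2 := ell_sub_ell_le h (single_le_single P (by omega : (n : ℤ) ≤ n + 1))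
  rw [deg_single, deg_single, hP] at h2
  rw [ell, ell] at *
  push_cast at h2
  omega

theorem ncard_gaps (hK : IsFunctionField k K) {P : Place k K} (hP : P.deg = 1) (n : ℕ) :
    Set.ncard {m : ℕ | 1 ≤ m ∧ m ≤ n ∧ IsGap P m} + ell (Finsupp.single P (n : ℤ)) = n + 1 := by
  induction n with
  | zero =>
    rw [show {m : ℕ | 1 ≤ m ∧ m ≤ 0 ∧ IsGap P m} = ∅ by
      rw [Set.eq_empty_iff_forall_notMem]; rintro m ⟨h1, h2, -⟩; omega]
    simp [ell_zero hK]
  | succ n ih =>
    have hfin : {m : ℕ | 1 ≤ m ∧ m ≤ n ∧ IsGap P m}.Finite :=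
      (Set.finite_Iic n).subset fun m hm => hm.2.1
    push_cast
    by_cases hg : IsGap P (n + 1)
    · have e : {m : ℕ | 1 ≤ m ∧ m ≤ n + 1 ∧ IsGap P m} =
          insert (n + 1) {m : ℕ | 1 ≤ m ∧ m ≤ n ∧ IsGap P m} := by
        ext m
        simp only [Set.mem_ofPred_eq, Set.mem_insert_iff]
        constructor
        · rintro ⟨h1, h2, h3⟩
          by_cases hm : m = n + 1
          · exact Or.inl hm
          · exact Or.inr ⟨h1, by omega, h3⟩
        · rintro (rfl | ⟨h1, h2, h3⟩)
          · exact ⟨by omega, le_rfl, hg⟩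
          · exact ⟨h1, by omega, h3⟩
      rw [e, Set.ncard_insert_of_notMem (fun hm => by have := hm.2.1; omega) hfin,
        (ell_step hK hP n).1 hg]
      omega
    · have e : {m : ℕ | 1 ≤ m ∧ m ≤ n + 1 ∧ IsGap P m} = {m : ℕ | 1 ≤ m ∧ m ≤ n ∧ IsGap P m} := by
        ext m
        simp only [Set.mem_ofPred_eq]
        refine ⟨fun ⟨h1, h2, h3⟩ => ⟨h1, ?_, h3⟩, fun ⟨h1, h2, h3⟩ => ⟨h1, by omega, h3⟩⟩
        by_contra hc
        exact hg (by rwa [show n + 1 = m by omega])
      rw [e, (ell_step hK hP n).2 hg]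
      omega

theorem not_gap_iff {P : Place k K} {m : ℕ} :
    ¬ IsGap P m ↔ ∃ f : K, f ≠ 0 ∧ f ∈ FunFld.L (Finsupp.single P (m : ℤ)) ∧ P.ord f = -m := by
  constructor
  · intro hng
    have hlt : FunFld.L (Finsupp.single P ((m : ℤ) - 1)) < FunFld.L (Finsupp.single P (m : ℤ)) :=
      lt_of_le_of_ne (L_mono (single_le_single P (by omega))) (Ne.symm hng)
    obtain ⟨f, hf, hf'⟩ := SetLike.exists_of_lt hlt
    have hf0 : f ≠ 0 := fun e => hf' (e ▸ zero_mem _)
    refine ⟨f, hf0, hf, ?_⟩
    have h1 := (mem_L_iff_ord hf0).1 hf P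
    rw [Finsupp.single_eq_same] at h1
    by_contra h2
    refine hf' ((mem_L_iff_ord hf0).2 fun Q => ?_)
    rcases eq_or_ne Q P with rfl | hQ
    · simp; omega
    · have := (mem_L_iff_ord hf0).1 hf Q
      rw [Finsupp.single_eq_of_ne hQ] at this
      simpa [Finsupp.single_eq_of_ne hQ] using this
  · rintro ⟨f, hf0, hf, hord⟩ hg
    rw [hg, mem_L_iff_ord hf0] at hf
    have := hf P
    rw [Finsupp.single_eq_same, hord] at this
    omega

theorem not_gap_add {P : Place k K} {a b : ℕ} (ha : ¬ IsGap P a) (hb : ¬ IsGap P b) :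
    ¬ IsGap P (a + b) := by
  obtain ⟨f, hf0, hf, hfo⟩ := not_gap_iff.1 ha
  obtain ⟨g, hg0, hg, hgo⟩ := not_gap_iff.1 hb
  refine not_gap_iff.2 ⟨f * g, mul_ne_zero hf0 hg0, fun Q => ?_, by rw [ord_mul P hf0 hg0, hfo, hgo]; push_cast; ring⟩
  rw [map_mul, Nat.cast_add, Finsupp.single_add, Finsupp.coe_add, Pi.add_apply, exp_add]
  exact mul_le_mul' (hf Q) (hg Q)

end Groth.Agent.FunField
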