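import Groth.Agent.Lib.FunField.HyperPlaces26
import Groth.Agent.Lib.FunField.Genus
import Mathlib.FieldTheory.Perfect
import Mathlib.RingTheory.AdjoinRoot

/-! # Artin-Schreier quadratic extensions of `k(x)` in characteristic two -/

namespace Groth.Agent.FunField

open WithZero FunFld Polynomial IntermediateField
open scoped Multiplicative

theorem two_eq_zero_of_ringChar {k : Type*} [Field k] (h : ringChar k = 2) : (2 : k) = 0 := by
  have := ringChar.Nat.cast_ringChar (R := k)
  rwa [h, Nat.cast_two] at this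

theorem two_eq_zero_alg {k A : Type*} [Field k] [CommRing A] [Algebra k A] (h : (2 : k) = 0) :
    (2 : A) = 0 := by rw [← map_ofNat (algebraMap k A) 2, h, map_zero]

/-- In a perfect field of characteristic two every element is a square. -/
theorem exists_sq_eq_of_perfect (F : Type*) [Field F] [PerfectField F] (h : (2 : F) = 0) (z : F) :
    ∃ b : F, b ^ 2 = z := by
  haveI : CharP F 2 := CharTwo.of_one_ne_zero_of_two_eq_zero one_ne_zero h
  haveI : Fact (Nat.Prime 2) := ⟨Nat.prime_two⟩
  haveI : ExpChar F 2 := ExpChar.prime Nat.prime_two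
  obtain ⟨b, hb⟩ := surjective_frobenius F 2 z
  exact ⟨b, hb⟩

/-- A separable quadratic extension in characteristic two is Artin-Schreier. -/
theorem exists_as_gen {F L : Type*} [Field F] [Field L] [Algebra F L]
    (hdeg : Module.finrank F L = 2) [Algebra.IsSeparable F L] (h2 : (2 : F) = 0) :
    ∃ (y : L) (f : F), y ∉ Set.range (algebraMap F L) ∧ y ^ 2 + y = algebraMap F L f := by
  haveI : FiniteDimensional F L := Module.finite_of_finrank_eq_succ hdeg
  have h2L : (2 : L) = 0 := two_eq_zero_alg h2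
  obtain ⟨u, hu⟩ : ∃ u : L, u ∉ Set.range (algebraMap F L) := by
    by_contra! hc
    have : Module.finrank F L ≤ 1 := by
      refine finrank_le_one 1 fun z => ?_
      obtain ⟨a, ha⟩ := hc z
      exact ⟨a, by rw [Algebra.smul_def, mul_one, ha]⟩
    omega
  obtain ⟨a, b, hab⟩ := exists_decomp_of_finrank_two hdeg hu (u ^ 2)
  have hb : b ≠ 0 := by
    rintro rfl
    rw [map_zero, zero_mul, add_zero] at hab
    have hint : IsIntegral F u := Algebra.IsIntegral.isIntegral u
    have hdvd : minpoly F u ∣ X ^ 2 - C a := minpoly.dvd F u (by simp [hab])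
    have hsep : (minpoly F u).Separable := Algebra.IsSeparable.isSeparable F u
    have hd2 : 2 ≤ (minpoly F u).natDegree :=
      (minpoly.two_le_natDegree_iff hint).2 (by simpa using hu)
    have heq : minpoly F u = X ^ 2 - C a := (eq_of_monic_of_dvd_of_natDegree_le
      (minpoly.monic hint) (monic_X_pow_sub_C a two_ne_zero) hdvd
      (by rw [natDegree_X_pow_sub_C]; exact hd2)).symm
    rw [heq, Separable, derivative_sub, derivative_C, derivative_X_pow, Nat.cast_two, h2, map_zero,
      zero_mul, sub_zero, isCoprime_zero_right] at hsep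
    have := natDegree_eq_zero_of_isUnit hsep
    rw [natDegree_X_pow_sub_C] at this
    omega
  have hb' : algebraMap F L b ≠ 0 := by simpa using hb
  refine ⟨u / algebraMap F L b, a / b ^ 2, ?_, ?_⟩
  · rintro ⟨c, hc⟩
    exact hu ⟨c * b, by rw [map_mul, hc, div_mul_cancel₀ u hb']⟩
  · rw [map_div₀, map_pow, div_pow]
    field_simp
    linear_combination hab + (algebraMap F L b * u) * h2L

/-! ## Reduction to odd poles -/

section Reduce

variable {k : Type*} [Field k]

local notation "ι" => algebraMap (Polynomial k) (RatFunc k)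

/-- All multiplicities of `D` are odd. -/
def OddFactors (D : k[X]) : Prop :=
  ∀ (p D' : k[X]) (m : ℕ), Irreducible p → D = p ^ m * D' → ¬ p ∣ D' → 1 ≤ m → Odd m

variable [PerfectField k]

theorem exists_finite_reduced (h2 : (2 : k) = 0) (n : ℕ) :
    ∀ N D : k[X], D ≠ 0 → D.natDegree ≤ n →
      ∃ (a : RatFunc k) (N' D' : k[X]), D' ≠ 0 ∧ IsCoprime N' D' ∧ OddFactors D' ∧
        ι N / ι D + a ^ 2 + a = ι N' / ι D' := by
  induction n using Nat.strong_induction_on with
  | _ n ih =>
    intro N D hD hn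
    obtain ⟨N₁, D₁, g, hco, hN, hD₁⟩ := UniqueFactorizationMonoid.exists_reduced_factors' N D hD
    have hg : g ≠ 0 := by rintro rfl; exact hD (by rw [← hD₁, zero_mul])
    have hD10 : D₁ ≠ 0 := by rintro rfl; exact hD (by rw [← hD₁, mul_zero])
    have hd : D₁.natDegree ≤ n := by
      rw [← hD₁, natDegree_mul hg hD10] at hn; omega
    have heq : ι N / ι D = ι N₁ / ι D₁ := by
      rw [← hN, ← hD₁, map_mul, map_mul,
        mul_div_mul_left _ _ (RatFunc.algebraMap_ne_zero hg)]
    by_cases hodd : OddFactors D₁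
    · exact ⟨0, N₁, D₁, hD10, hco.isCoprime, hodd, by rw [heq]; ring⟩
    simp only [OddFactors, not_forall] at hodd
    obtain ⟨p, D', m, hp, hDm, hpD, hm, hnodd⟩ := hodd
    obtain ⟨j, rfl⟩ := Nat.not_odd_iff_even.1 hnodd
    obtain ⟨i, rfl⟩ : ∃ i, j = i + 1 := ⟨j - 1, by omega⟩
    haveI : Fact (Irreducible p) := ⟨hp⟩
    haveI : Module.Finite k (AdjoinRoot p) := (AdjoinRoot.powerBasis hp.ne_zero).finite
    haveI : PerfectField (AdjoinRoot p) := Algebra.IsAlgebraic.perfectField k
    have h2A : (2 : AdjoinRoot p) = 0 := two_eq_zero_alg h2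
    have hD'A : AdjoinRoot.mk p D' ≠ 0 := by rwa [Ne, AdjoinRoot.mk_eq_zero]
    obtain ⟨β, hβ⟩ := exists_sq_eq_of_perfect _ h2A (AdjoinRoot.mk p N₁ / AdjoinRoot.mk p D')
    obtain ⟨b, rfl⟩ := AdjoinRoot.mk_surjective β
    rw [eq_div_iff hD'A] at hβ
    obtain ⟨c, hc⟩ : p ∣ N₁ + D' * b ^ 2 := by
      rw [← AdjoinRoot.mk_eq_zero, map_add, map_mul, map_pow, mul_comm, hβ]
      linear_combination (AdjoinRoot.mk p N₁) * h2A
    have hD'0 : D' ≠ 0 := fun e => hpD (e ▸ dvd_zero p)
    have hp0 := hp.ne_zero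
    have hdegp : 0 < p.natDegree := hp.natDegree_pos
    have hlt : (p ^ (2 * i + 1) * D').natDegree < n := by
      rw [natDegree_mul (pow_ne_zero _ hp0) hD'0, natDegree_pow]
      rw [hDm, natDegree_mul (pow_ne_zero _ hp0) hD'0, natDegree_pow] at hd
      nlinarith
    obtain ⟨a, N', D'', h1, h2', h3, h4⟩ := ih _ hlt (c + D' * b * p ^ i) (p ^ (2 * i + 1) * D')
      (mul_ne_zero (pow_ne_zero _ hp0) hD'0) le_rfl
    have hιp : ι p ≠ 0 := RatFunc.algebraMap_ne_zero hp0
    have hιD : ι D' ≠ 0 := RatFunc.algebraMap_ne_zero hD'0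
    have h2R : (2 : RatFunc k) = 0 := two_eq_zero_alg h2
    refine ⟨a + ι b / ι p ^ (i + 1), N', D'', h1, h2', h3, ?_⟩
    rw [← h4, heq, hDm, map_mul, map_pow, map_mul, map_pow, map_add, map_mul, map_mul, map_pow]
    have hc' := congrArg ι hc
    rw [map_add, map_mul, map_mul, map_pow] at hc'
    have e1 : ι N₁ / (ι p ^ (i + 1 + (i + 1)) * ι D') + (ι b / ι p ^ (i + 1)) ^ 2 +
        ι b / ι p ^ (i + 1) =
        (ι c + ι D' * ι b * ι p ^ i) / (ι p ^ (2 * i + 1) * ι D') := by
      field_simp
      ring_nf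
      ring_nf at hc'
      linear_combination hc' * (ι p ^ (i * 4 + 3))
    linear_combination e1 + (a * (ι b / ι p ^ (i + 1))) * h2R

theorem exists_infinite_reduced (h2 : (2 : k) = 0) {D : k[X]} (hD : D ≠ 0) (n : ℕ) :
    ∀ N : k[X], N.natDegree ≤ n → IsCoprime N D →
      ∃ (a : RatFunc k) (N' : k[X]), IsCoprime N' D ∧
        (D.natDegree < N'.natDegree → Odd (N'.natDegree - D.natDegree)) ∧
        ι N / ι D + a ^ 2 + a = ι N' / ι D := by
  induction n using Nat.strong_induction_on with
  | _ n ih =>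
    intro N hn hco
    by_cases hok : D.natDegree < N.natDegree → Odd (N.natDegree - D.natDegree)
    · exact ⟨0, N, hco, hok, by ring⟩
    simp only [not_forall] at hok
    obtain ⟨hlt, hnodd⟩ := hok
    obtain ⟨m, hm⟩ := Nat.not_odd_iff_even.1 hnodd
    have hN0 : N ≠ 0 := by rintro rfl; simp at hlt
    obtain ⟨s, hs⟩ := exists_sq_eq_of_perfect k h2 (N.leadingCoeff / D.leadingCoeff)
    have hDlc : D.leadingCoeff ≠ 0 := leadingCoeff_ne_zero.2 hD
    rw [eq_div_iff hDlc] at hs
    set N₂ := N + (C (s ^ 2) * X ^ (m + m) + C s * X ^ m) * D with hN₂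
    have hco₂ : IsCoprime N₂ D := hco.add_mul_right_left _
    have hdeg : N₂.natDegree < N.natDegree := by
      have hs0 : s ^ 2 ≠ 0 := by
        intro e
        rw [e, zero_mul] at hs
        exact leadingCoeff_ne_zero.2 hN0 hs.symm
      have hs1 : s ≠ 0 := fun e => hs0 (by rw [e]; ring)
      have hA : (C (s ^ 2) * X ^ (m + m) * D).degree = N.degree := by
        rw [degree_mul, degree_C_mul_X_pow _ hs0, degree_eq_natDegree hD, degree_eq_natDegree hN0,
          ← Nat.cast_add]
        congr 1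
        omega
      have hB : (C s * X ^ m * D).degree < N.degree := by
        rw [degree_mul, degree_C_mul_X_pow _ hs1, degree_eq_natDegree hD, degree_eq_natDegree hN0,
          ← Nat.cast_add, Nat.cast_lt]
        omega
      have h1 : (N + C (s ^ 2) * X ^ (m + m) * D).degree < N.degree := by
        have hlc : N.leadingCoeff = (-(C (s ^ 2) * X ^ (m + m) * D)).leadingCoeff := by
          rw [leadingCoeff_neg, leadingCoeff_mul, leadingCoeff_C_mul_X_pow, hs]
          linear_combination N.leadingCoeff * h2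
        have := degree_sub_lt_left (p := N) (q := -(C (s ^ 2) * X ^ (m + m) * D))
          (by rw [degree_neg, hA]) hN0 hlc
        rwa [sub_neg_eq_add] at this
      have h3 : N₂.degree < N.degree := by
        rw [hN₂, add_mul, ← add_assoc]
        exact (degree_add_le _ _).trans_lt (max_lt h1 hB)
      by_cases hz : N₂ = 0
      · rw [hz, natDegree_zero]; omega
      · exact natDegree_lt_natDegree hz h3
    obtain ⟨a, N', h1, h2', h3⟩ := ih N₂.natDegree (by omega) N₂ le_rfl hco₂
    have hιD : ι D ≠ 0 := RatFunc.algebraMap_ne_zero hD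
    have h2R : (2 : RatFunc k) = 0 := two_eq_zero_alg h2
    refine ⟨a + ι (C s * X ^ m), N', h1, h2', ?_⟩
    rw [← h3, hN₂]
    simp only [map_add, map_mul, map_pow]
    field_simp
    ring_nf
    linear_combination (a * ι (C s) * ι X ^ m * ι D) * h2R

/-- Every `f ∈ k(x)` can be moved by `a² + a` so that all its poles have odd order. -/
theorem exists_odd_poles (h2 : (2 : k) = 0) (f : RatFunc k) :
    ∃ a : RatFunc k, ∀ P : Place k (RatFunc k), P.ord (f + a ^ 2 + a) < 0 →
      Odd (P.ord (f + a ^ 2 + a)) := by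
  obtain ⟨a₁, N, D, hD, hco, hodd, e₁⟩ :=
    exists_finite_reduced h2 _ f.num f.denom f.denom_ne_zero le_rfl
  rw [RatFunc.num_div_denom] at e₁
  obtain ⟨a₂, N', hco', hinf, e₂⟩ := exists_infinite_reduced h2 hD _ N le_rfl hco
  refine ⟨a₁ + a₂, fun P hP => ?_⟩
  have e : f + (a₁ + a₂) ^ 2 + (a₁ + a₂) = ι N' / ι D := by
    have h2R : (2 : RatFunc k) = 0 := two_eq_zero_alg h2
    linear_combination e₁ + e₂ + (a₁ * a₂) * h2R
  rw [e] at hP ⊢
  have hN'0 : N' ≠ 0 := by
    rintro rfl
    rw [map_zero, zero_div, ord_zero] at hP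
    exact lt_irrefl _ hP
  rw [ord_div P (RatFunc.algebraMap_ne_zero hN'0) (RatFunc.algebraMap_ne_zero hD)] at hP ⊢
  rcases lt_or_ge 1 (P.1 RatFunc.X) with hX | hX
  · have hval : ∀ q : k[X], q ≠ 0 → P.ord (ι q) = -(q.natDegree : ℤ) := fun q hq =>
      ord_eq_of_val_eq P (by
        rw [val_poly_of_one_lt P hX hq, val_X_of_one_lt P hX, ← exp_nsmul, nsmul_eq_mul, mul_one])
    rw [hval N' hN'0, hval D hD] at hP ⊢
    obtain ⟨r, hr⟩ := hinf (by omega)
    exact ⟨-(r : ℤ) - 1, by omega⟩
  · have hN1 := (ord_nonneg_iff P _).2 (val_poly_le P hX N')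
    have hDlt : P.1 (ι D) < 1 :=
      (val_lt_one_iff' P (RatFunc.algebraMap_ne_zero hD)).2 (by omega)
    obtain ⟨p, hp, hpD, hplt⟩ := exists_irreducible_of_val_lt P hD hDlt
    have hN' : ¬ p ∣ N' := fun hd =>
      hp.not_isUnit (hco'.isUnit_of_dvd' hd hpD)
    have hN2 : P.ord (ι N') = 0 := ord_eq_of_val_eq P (n := 0)
      (by rw [val_poly_eq_one P hp hplt hN', exp_zero])
    obtain ⟨m, D', hD', hDm⟩ := WfDvdMonoid.max_power_factor hD hp
    have hDv : P.ord (ι D) = m := by
      have := ord_eq_of_val_eq P (x := ι D) (n := -(m : ℤ)) (by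
        rw [hDm, map_mul, map_pow, map_mul, map_pow, val_irreducible P hp hplt,
          val_poly_eq_one P hp hplt hD', mul_one, ← exp_nsmul, nsmul_eq_mul, mul_neg, mul_one])
      omega
    rw [hN2, hDv] at hP ⊢
    obtain ⟨r, hr⟩ := hodd p D' m hp hDm hD' (by omega)
    exact ⟨-(r : ℤ) - 1, by omega⟩

end Reduce

/-! ## The extension -/

section Ext

variable {k K : Type*} [Field k] [Field K] [Algebra k K] [Algebra (RatFunc k) K]
  [IsScalarTower k (RatFunc k) K]

/-- `K = k(x) ⊕ k(x) y` with `y² + y = f`, characteristic two. -/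
structure AS (y : K) (f : RatFunc k) : Prop where
  two : (2 : k) = 0
  deg : Module.finrank (RatFunc k) K = 2
  eq : y ^ 2 + y = algebraMap (RatFunc k) K f
  notMem : y ∉ Set.range (algebraMap (RatFunc k) K)

variable [FiniteDimensional (RatFunc k) K]

/-- With equal degrees, every residue class upstairs comes from downstairs. -/
theorem exists_sub_lt_of_deg_eq {P : Place k K} {P₀ : Place k (RatFunc k)} {e : ℕ}
    (he : IsOverWith P P₀ e) (hd : P.deg = P₀.deg) {z : K} (hz : P.1 z ≤ 1) :
    ∃ r : RatFunc k, P.1 (z - algebraMap (RatFunc k) K r) < 1 := by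
  have he0 : e ≠ 0 := by have := isOverWith_pos he; omega
  let g : P₀.O →ₗ[k] P.O :=
    { toFun := fun r => ⟨algebraMap (RatFunc k) K r.1, by
        rw [mem_O_iff, he]; exact pow_le_one₀ zero_le r.2⟩
      map_add' := fun a b => Subtype.ext (map_add _ _ _)
      map_smul' := fun c a => Subtype.ext (by
        show algebraMap (RatFunc k) K ((c • a : P₀.O) : RatFunc k) =
          ((c • (⟨algebraMap (RatFunc k) K a.1, _⟩ : P.O) : P.O) : K)
        rw [coe_smul_O, coe_smul_O, Algebra.smul_def, map_mul,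
          ← IsScalarTower.algebraMap_apply k (RatFunc k) K, Algebra.smul_def]) }
  let φ : P₀.O →ₗ[k] IsLocalRing.ResidueField P.O := (residueLin P).comp g
  haveI := (ff_extend (K' := K) ff_ratFunc).finite_residueField P
  have hker : φ.ker = (residueLin P₀).ker := by
    ext r
    rw [LinearMap.mem_ker, LinearMap.mem_ker, LinearMap.comp_apply, residueLin_apply,
      residueLin_apply, residue_eq_zero_iff, residue_eq_zero_iff]
    show P.1 (algebraMap (RatFunc k) K r.1) < 1 ↔ P₀.1 r.1 < 1
    rw [he, pow_lt_one_iff_of_nonneg zero_le he0]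
  have h1 : Module.finrank k φ.range = P.deg := by
    rw [hd, ← φ.quotKerEquivRange.finrank_eq, (Submodule.quotEquivOfEq _ _ hker).finrank_eq,
      (residueLin P₀).quotKerEquivRange.finrank_eq,
      LinearMap.range_eq_top.2 (residueLin_surjective P₀), finrank_top]
    rfl
  have h2 : φ.range = ⊤ := Submodule.eq_top_of_finrank_eq h1
  obtain ⟨r, hr⟩ := LinearMap.range_eq_top.1 h2 (IsLocalRing.residue P.O ⟨z, hz⟩)
  refine ⟨r.1, ?_⟩
  have h3 : IsLocalRing.residue P.O (⟨z, hz⟩ - g r) = 0 := by
    rw [map_sub, sub_eq_zero, ← hr]; rfl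
  rw [residue_eq_zero_iff] at h3
  exact h3

namespace AS

variable {y : K} {f : RatFunc k}

local notation "α" => algebraMap (RatFunc k) K

omit [FiniteDimensional (RatFunc k) K] in
theorem exists_decomp (H : AS y f) (u : K) : ∃ a b : RatFunc k, u = α a + α b * y :=
  exists_decomp_of_finrank_two H.deg H.notMem u

omit [FiniteDimensional (RatFunc k) K] in
theorem ext_iff' (H : AS y f) {a b a' b' : RatFunc k} (h : α a + α b * y = α a' + α b' * y) :
    a = a' ∧ b = b' := by
  by_cases hb : b = b'
  · subst hb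
    exact ⟨(α).injective (add_right_cancel h), rfl⟩
  · refine absurd ⟨(a' - a) / (b - b'), ?_⟩ H.notMem
    have hne : α b - α b' ≠ 0 := sub_ne_zero.2 ((α).injective.ne hb)
    rw [map_div₀, map_sub, map_sub, div_eq_iff hne]
    linear_combination -h

noncomputable def cA (H : AS y f) (u : K) : RatFunc k := (H.exists_decomp u).choose

noncomputable def cB (H : AS y f) (u : K) : RatFunc k := (H.exists_decomp u).choose_spec.choose

omit [FiniteDimensional (RatFunc k) K] in
theorem decomp (H : AS y f) (u : K) : u = α (H.cA u) + α (H.cB u) * y :=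
  (H.exists_decomp u).choose_spec.choose_spec

omit [FiniteDimensional (RatFunc k) K] in
theorem c_eq (H : AS y f) {u : K} {a b : RatFunc k} (h : u = α a + α b * y) :
    H.cA u = a ∧ H.cB u = b := H.ext_iff' ((H.decomp u).symm.trans h)

omit [FiniteDimensional (RatFunc k) K] in
theorem two_eq (H : AS y f) : (2 : K) = 0 := two_eq_zero_alg H.two

/-- `a + b y ↦ a + b (y + 1)`. -/
noncomputable def conj (H : AS y f) : K ≃ₐ[RatFunc k] K where
  toFun u := u + α (H.cB u)
  invFun u := u + α (H.cB u)
  left_inv u := by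
    have h : H.cB (u + α (H.cB u)) = H.cB u := (H.c_eq (a := H.cA u + H.cB u) (by
      conv_lhs => arg 1; rw [H.decomp u]
      rw [map_add]; ring)).2
    show u + α (H.cB u) + α (H.cB (u + α (H.cB u))) = u
    rw [h]
    linear_combination α (H.cB u) * H.two_eq
  right_inv u := by
    have h : H.cB (u + α (H.cB u)) = H.cB u := (H.c_eq (a := H.cA u + H.cB u) (by
      conv_lhs => arg 1; rw [H.decomp u]
      rw [map_add]; ring)).2
    show u + α (H.cB u) + α (H.cB (u + α (H.cB u))) = u
    rw [h]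
    linear_combination α (H.cB u) * H.two_eq
  map_mul' u v := by
    have h : H.cB (u * v) = H.cA u * H.cB v + H.cB u * H.cA v + H.cB u * H.cB v :=
      (H.c_eq (a := H.cA u * H.cA v + H.cB u * H.cB v * f) (by
        conv_lhs => rw [H.decomp u, H.decomp v]
        simp only [map_add, map_mul]
        linear_combination (α (H.cB u) * α (H.cB v)) * H.eq -
          (α (H.cB u) * α (H.cB v) * y) * H.two_eq)).2
    show u * v + α (H.cB (u * v)) = (u + α (H.cB u)) * (v + α (H.cB v))
    rw [h]
    simp only [map_add, map_mul]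
    linear_combination -(α (H.cB v)) * H.decomp u - α (H.cB u) * H.decomp v -
      (α (H.cB u) * α (H.cB v) * y) * H.two_eq
  map_add' u v := by
    have h : H.cB (u + v) = H.cB u + H.cB v := (H.c_eq (a := H.cA u + H.cA v) (by
      conv_lhs => rw [H.decomp u, H.decomp v]
      simp only [map_add]; ring)).2
    show u + v + α (H.cB (u + v)) = (u + α (H.cB u)) + (v + α (H.cB v))
    rw [h, map_add]; ring
  commutes' r := by
    have h : H.cB (α r) = 0 := (H.c_eq (a := r) (by rw [map_zero, zero_mul, add_zero])).2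
    show α r + α (H.cB (α r)) = α r
    rw [h, map_zero, add_zero]

omit [FiniteDimensional (RatFunc k) K] in
theorem conj_y (H : AS y f) : H.conj y = y + 1 := by
  show y + α (H.cB y) = y + 1
  rw [(H.c_eq (u := y) (a := 0) (b := 1) (by rw [map_zero, map_one, zero_add, one_mul])).2, map_one]

omit [FiniteDimensional (RatFunc k) K] in
theorem conj_decomp (H : AS y f) {u : K} {a b : RatFunc k} (h : u = α a + α b * y) :
    H.conj u = u + α b := by
  show u + α (H.cB u) = u + α b
  rw [(H.c_eq h).2]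

omit [FiniteDimensional (RatFunc k) K] in
theorem ord_y (H : AS y f) {P : Place k K} {P₀ : Place k (RatFunc k)} {e : ℕ}
    (he : IsOverWith P P₀ e) (hneg : P₀.ord f < 0) : 2 * P.ord y = (e : ℤ) * P₀.ord f := by
  have hf : f ≠ 0 := fun h => by rw [h, ord_zero] at hneg; exact lt_irrefl _ hneg
  have hf1 : 1 < P₀.1 f := by
    rw [val_eq_exp_neg_ord P₀ hf, ← exp_zero, exp_lt_exp]; omega
  have hpos := isOverWith_pos he
  have hy : 1 < P.1 y := by
    by_contra hc
    rw [not_lt] at hc
    have : P.1 (α f) ≤ 1 := by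
      rw [← H.eq]
      exact (P.1.map_add _ _).trans (max_le (by rw [map_pow]; exact pow_le_one₀ zero_le hc) hc)
    rw [he] at this
    exact this.not_gt (one_lt_pow₀ hf1 hpos.ne')
  have hy0 : y ≠ 0 := fun h => by rw [h, map_zero] at hy; exact not_lt_zero hy
  have h := congrArg P.1 H.eq
  rw [Valuation.map_add_eq_of_lt_left _ (by
    rw [map_pow]; exact lt_self_pow₀ hy one_lt_two), map_pow, he, val_eq_exp_neg_ord P hy0,
    val_eq_exp_neg_ord P₀ hf, ← exp_nsmul, ← exp_nsmul, exp_inj] at h
  simp only [nsmul_eq_mul] at h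
  push_cast at h
  linarith

theorem ramified (H : AS y f) {P : Place k K} {P₀ : Place k (RatFunc k)} {e : ℕ}
    (he : IsOverWith P P₀ e) (hneg : P₀.ord f < 0) (hodd : Odd (P₀.ord f)) :
    e = 2 ∧ P.deg = P₀.deg ∧ ∀ Q, IsOver Q P₀ → Q = P := by
  have h := H.ord_y he hneg
  have hle := fibre_of_two H.deg he
  have := hle.1
  have := isOverWith_pos he
  obtain ⟨r, hr⟩ := hodd
  have he2 : e = 2 := by
    by_contra hne
    have : e = 1 := by omega
    subst this
    push_cast at h
    omega
  exact ⟨he2, hle.2 he2.ge⟩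

theorem unramified (H : AS y f) {P : Place k K} {P₀ : Place k (RatFunc k)} {e : ℕ}
    (he : IsOverWith P P₀ e) (hnn : 0 ≤ P₀.ord f) : e = 1 := by
  have hle := fibre_of_two H.deg he
  have := isOverWith_pos he
  by_contra hne
  obtain ⟨hd, huniq⟩ := hle.2 (by omega)
  have hy : P.1 y ≤ 1 := by
    by_contra hc
    rw [not_le] at hc
    have h := congrArg P.1 H.eq
    rw [Valuation.map_add_eq_of_lt_left _ (by
      rw [map_pow]; exact lt_self_pow₀ hc one_lt_two), map_pow, he] at h
    have h1 : P₀.1 f ^ e ≤ 1 := pow_le_one₀ zero_le ((ord_nonneg_iff P₀ f).1 hnn)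
    exact absurd (h ▸ one_lt_pow₀ hc two_ne_zero) h1.not_gt
  obtain ⟨r, hr⟩ := exists_sub_lt_of_deg_eq he hd hy
  have hσ : mapPlace H.conj P = P := huniq _ ⟨e, isOverWith_mapPlace H.conj he⟩
  have hr' : P.1 (y + 1 - α r) < 1 := by
    rw [← H.conj_y, ← H.conj.commutes r, ← map_sub, ← mapPlace_apply, hσ]
    exact hr
  have := P.1.map_sub_lt hr' hr
  rw [show y + 1 - α r - (y - α r) = 1 by ring, map_one] at this
  exact lt_irrefl _ this

end AS

end Ext

end Groth.Agent.FunField
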