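import Groth.Agent.Lib.FunField.AS26

/-! # Genus of Artin-Schreier quadratic extensions of `k(x)` -/

namespace Groth.Agent.FunField

open WithZero FunFld Polynomial IntermediateField
open scoped Multiplicative nonZeroDivisors

section Rat

variable {k : Type*} [Field k]

theorem isFunctionField_ratFunc : IsFunctionField k (RatFunc k) := by
  refine ⟨ff_ratFunc, fun r hr => ?_⟩
  obtain ⟨p, rfl⟩ := exists_aeval_of_bounded ff_ratFunc transcendental_ratFuncX
    (r := r) (by rw [RatFunc.adjoin_X]; trivial) fun P _ => by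
      by_cases h0 : r = 0
      · simp [h0]
      · exact (val_eq_one_of_isAlgebraic P hr h0).le
  rcases Nat.eq_zero_or_pos p.natDegree with hd | hd
  · obtain ⟨c, rfl⟩ := natDegree_eq_zero.1 hd
    exact ⟨c, (aeval_C _ _).symm⟩
  · exact absurd hr (transcendental_ratFuncX.aeval p hd.ne' (mem_nonZeroDivisors_of_ne_zero
      (leadingCoeff_ne_zero.2 (ne_zero_of_natDegree_gt hd))))

theorem genus_ratFunc : genus k (RatFunc k) = 0 :=
  genus_eq_zero_of_adjoin_top isFunctionField_ratFunc (RatFunc.adjoin_X)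

theorem deg_poleDiv_ratFuncX : (poleDiv (k := k) (RatFunc.X : RatFunc k)).deg = 1 := by
  rw [deg_poleDiv ff_ratFunc transcendental_ratFuncX, finrank_adjoin_ratFuncX, Nat.cast_one]

theorem ell_ratFunc (E : Divisor k (RatFunc k)) (hE : -1 ≤ E.deg) :
    (ell E : ℤ) = E.deg + 1 := by
  have := ell_of_large_deg isFunctionField_ratFunc E (by rw [genus_ratFunc]; simpa using hE)
  rwa [genus_ratFunc, Nat.cast_zero, sub_zero] at this

/-- `∑ d(P) P` with `d = (1 - ord f)/2` at the poles of `f`. -/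
noncomputable def halfPoles (f : RatFunc k) : Divisor k (RatFunc k) :=
  ∑ P ∈ (FunFld.div k f).support with FunFld.div k f P < 0,
    Finsupp.single P ((1 - FunFld.div k f P) / 2)

theorem halfPoles_apply (f : RatFunc k) (P : Place k (RatFunc k)) :
    halfPoles f P = if P.ord f < 0 then (1 - P.ord f) / 2 else 0 := by
  classical
  rw [halfPoles, Finsupp.finsetSum_apply]
  simp only [Finsupp.single_apply]
  rw [Finset.sum_ite_eq', div_apply ff_ratFunc]
  simp only [Finset.mem_filter, Finsupp.mem_support_iff, div_apply ff_ratFunc]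
  by_cases h : P.ord f < 0
  · rw [if_pos ⟨h.ne, h⟩, if_pos h]
  · rw [if_neg (fun hh => h hh.2), if_neg h]

theorem deg_halfPoles (f : RatFunc k) : (halfPoles f).deg =
    ∑ P ∈ (FunFld.div k f).support with FunFld.div k f P < 0,
      (1 - FunFld.div k f P) / 2 * (P.deg : ℤ) := by
  classical
  rw [halfPoles]
  induction (FunFld.div k f).support.filter fun P => FunFld.div k f P < 0
    using Finset.induction_on with
  | empty => simp [deg_zero]
  | insert P s hP ih => rw [Finset.sum_insert hP, Finset.sum_insert hP, deg_add, deg_single, ih]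

end Rat

namespace AS

variable {k K : Type*} [Field k] [Field K] [Algebra k K] [Algebra (RatFunc k) K]
  [IsScalarTower k (RatFunc k) K] [FiniteDimensional (RatFunc k) K] {y : K} {f : RatFunc k}

local notation "α" => algebraMap (RatFunc k) K
local notation "χ" => algebraMap (RatFunc k) K RatFunc.X

omit [FiniteDimensional (RatFunc k) K] in
/-- A sum of an even-order and an odd-order term has the smaller order. -/
theorem val_add_of_parity (P : Place k K) {u v : K} (hu : u = 0 ∨ Even (P.ord u))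
    (hv : v = 0 ∨ Odd (P.ord v)) : P.1 (u + v) = max (P.1 u) (P.1 v) := by
  rcases eq_or_ne (P.1 u) (P.1 v) with h | h
  · by_cases hu0 : u = 0
    · simp [hu0]
    by_cases hv0 : v = 0
    · simp [hv0]
    have : P.ord u = P.ord v := by simp only [Place.ord, h]
    have h1 := hu.resolve_left hu0
    rw [this] at h1
    exact absurd h1 (Int.not_even_iff_odd.2 (hv.resolve_left hv0))
  · exact Valuation.map_add_of_distinct_val _ h

theorem val_le_exp_iff_down {P : Place k K} {P₀ : Place k (RatFunc k)} {e : ℕ}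
    (he : IsOverWith P P₀ e) (r : RatFunc k) (N : ℤ) :
    P.1 (α r) ≤ exp ((e : ℤ) * N) ↔ P₀.1 r ≤ exp N := by
  have hpos := isOverWith_pos he
  rw [he, show exp ((e : ℤ) * N) = exp N ^ e by rw [← exp_nsmul, nsmul_eq_mul]]
  exact pow_le_pow_iff_left₀ zero_le zero_le hpos.ne'

theorem local_iff (H : AS y f)
    (hodd : ∀ P₀ : Place k (RatFunc k), P₀.ord f < 0 → Odd (P₀.ord f))
    {P : Place k K} {P₀ : Place k (RatFunc k)} {e : ℕ} (he : IsOverWith P P₀ e) (N : ℤ)
    (a b : RatFunc k) (hb' : 0 ≤ P₀.ord f → P.1 (α a + α b * y) ≤ exp ((e : ℤ) * N) →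
      P.1 (α b) ≤ exp ((e : ℤ) * N)) :
    P.1 (α a + α b * y) ≤ exp ((e : ℤ) * N) ↔
      P₀.1 a ≤ exp N ∧ P₀.1 b ≤ exp (N - halfPoles f P₀) := by
  rw [← val_le_exp_iff_down he a, ← val_le_exp_iff_down he b, halfPoles_apply]
  rcases lt_or_ge (P₀.ord f) 0 with hneg | hnn
  · obtain ⟨he2, -, -⟩ := H.ramified he hneg (hodd P₀ hneg)
    subst he2
    have hy := H.ord_y he hneg
    push_cast at hy
    have hy0 : y ≠ 0 := fun h => by rw [h, ord_zero] at hy; omega
    obtain ⟨r, hr⟩ := hodd P₀ hneg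
    rw [if_pos hneg, val_add_of_parity P ?_ ?_, max_le_iff]
    · refine and_congr_right fun _ => ?_
      by_cases hb : b = 0
      · simp [hb]
      have hb0 : α b ≠ 0 := by simpa using hb
      rw [val_le_exp_iff P (mul_ne_zero hb0 hy0), val_le_exp_iff P hb0, ord_mul P hb0 hy0,
        ord_of_isOverWith he]
      push_cast
      omega
    · by_cases ha : a = 0
      · exact Or.inl (by simp [ha])
      · exact Or.inr ⟨P₀.ord a, by rw [ord_of_isOverWith he]; push_cast; ring⟩
    · by_cases hb : b = 0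
      · exact Or.inl (by simp [hb])
      · refine Or.inr ⟨P₀.ord b + r, ?_⟩
        rw [ord_mul P (by simpa using hb) hy0, ord_of_isOverWith he]
        push_cast
        omega
  · rw [if_neg (not_lt.2 hnn), sub_zero]
    have he1 := H.unramified he hnn
    have hy : P.1 y ≤ 1 := by
      by_contra hc
      rw [not_le] at hc
      have h := congrArg P.1 H.eq
      rw [Valuation.map_add_eq_of_lt_left _ (by
        rw [map_pow]; exact lt_self_pow₀ hc one_lt_two), map_pow, he] at h
      exact absurd (h ▸ one_lt_pow₀ hc two_ne_zero)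
        (pow_le_one₀ zero_le ((ord_nonneg_iff P₀ f).1 hnn)).not_gt
    constructor
    · intro h
      have hb := hb' hnn h
      refine ⟨?_, hb⟩
      have : α a = α a + α b * y - α b * y := by ring
      rw [this]
      refine (P.1.map_sub _ _).trans (max_le h ?_)
      rw [map_mul]
      exact (mul_le_mul' hb hy).trans_eq (mul_one _)
    · rintro ⟨ha, hb⟩
      refine (P.1.map_add _ _).trans (max_le ha ?_)
      rw [map_mul]
      exact (mul_le_mul' hb hy).trans_eq (mul_one _)

theorem nsmul_poleDiv_chi {P : Place k K} {P₀ : Place k (RatFunc k)} {e : ℕ}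
    (he : IsOverWith P P₀ e) (n : ℕ) : (n • poleDiv (k := k) χ) P =
      (e : ℤ) * (n • poleDiv (k := k) (RatFunc.X : RatFunc k)) P₀ := by
  rw [Finsupp.smul_apply, Finsupp.smul_apply, poleDiv_apply (ff_extend ff_ratFunc),
    poleDiv_apply ff_ratFunc, ord_of_isOverWith he, ← mul_neg, nsmul_eq_mul, nsmul_eq_mul,
    show ((0 : ℤ)) = (e : ℤ) * 0 by ring, ← mul_max_of_nonneg _ _ (Int.natCast_nonneg e)]
  ring

theorem mem_L_iff_decomp (H : AS y f)
    (hodd : ∀ P₀ : Place k (RatFunc k), P₀.ord f < 0 → Odd (P₀.ord f)) (n : ℕ)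
    (a b : RatFunc k) :
    α a + α b * y ∈ FunFld.L (n • poleDiv (k := k) χ) ↔
      a ∈ FunFld.L (n • poleDiv (k := k) (RatFunc.X : RatFunc k)) ∧
        b ∈ FunFld.L (n • poleDiv (k := k) (RatFunc.X : RatFunc k) - halfPoles f) := by
  have hb' : α a + α b * y ∈ FunFld.L (n • poleDiv (k := k) χ) →
      ∀ (P : Place k K) (P₀ : Place k (RatFunc k)) (e : ℕ), IsOverWith P P₀ e →
        P.1 (α b) ≤ exp ((e : ℤ) * (n • poleDiv (k := k) (RatFunc.X : RatFunc k)) P₀) := by
    intro h P P₀ e he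
    rw [← nsmul_poleDiv_chi he]
    have h1 := h P
    have h2 := h (mapPlace H.conj P)
    rw [nsmul_poleDiv_chi (isOverWith_mapPlace H.conj he), mapPlace_apply, H.conj_decomp rfl] at h2
    rw [← nsmul_poleDiv_chi he] at h2
    have := (P.1.map_sub _ _).trans (max_le h2 h1)
    rwa [add_sub_cancel_left] at this
  constructor
  · intro h
    have key : ∀ P₀, P₀.1 a ≤ exp ((n • poleDiv (k := k) (RatFunc.X : RatFunc k)) P₀) ∧
        P₀.1 b ≤ exp ((n • poleDiv (k := k) (RatFunc.X : RatFunc k)) P₀ - halfPoles f P₀) := by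
      intro P₀
      obtain ⟨P, e, he⟩ := exists_over (K' := K) ff_ratFunc P₀
      refine (H.local_iff hodd he _ a b fun _ _ => hb' h P P₀ e he).1 ?_
      rw [← nsmul_poleDiv_chi he]
      exact h P
    exact ⟨fun P₀ => (key P₀).1, fun P₀ => by rw [Finsupp.sub_apply]; exact (key P₀).2⟩
  · rintro ⟨ha, hb⟩ P
    obtain ⟨e, he⟩ := isOver_under ff_ratFunc P
    set P₀ := under ff_ratFunc P
    have hb0 := hb P₀
    rw [Finsupp.sub_apply] at hb0
    rw [nsmul_poleDiv_chi he]
    refine (H.local_iff hodd he _ a b fun hnn _ => ?_).2 ⟨ha P₀, hb0⟩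
    rw [val_le_exp_iff_down he]
    rwa [halfPoles_apply, if_neg (not_lt.2 hnn), sub_zero] at hb0

theorem ell_nsmul (H : AS y f)
    (hodd : ∀ P₀ : Place k (RatFunc k), P₀.ord f < 0 → Odd (P₀.ord f)) (n : ℕ) :
    ell (n • poleDiv (k := k) χ) = ell (n • poleDiv (k := k) (RatFunc.X : RatFunc k)) +
      ell (n • poleDiv (k := k) (RatFunc.X : RatFunc k) - halfPoles f) := by
  set A := FunFld.L (n • poleDiv (k := k) (RatFunc.X : RatFunc k))
  set B := FunFld.L (n • poleDiv (k := k) (RatFunc.X : RatFunc k) - halfPoles f)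
  let αl : RatFunc k →ₗ[k] K := (IsScalarTower.toAlgHom k (RatFunc k) K).toLinearMap
  let Φ : A × B →ₗ[k] K :=
    LinearMap.coprod (αl ∘ₗ A.subtype) ((LinearMap.mulRight k y) ∘ₗ αl ∘ₗ B.subtype)
  have hΦ : ∀ a b, Φ (a, b) = α a.1 + α b.1 * y := fun _ _ => rfl
  have hinj : Function.Injective Φ := by
    rintro ⟨a, b⟩ ⟨a', b'⟩ h
    rw [hΦ, hΦ] at h
    obtain ⟨e1, e2⟩ := H.ext_iff' h
    exact Prod.ext (Subtype.ext e1) (Subtype.ext e2)
  have hrange : LinearMap.range Φ = FunFld.L (n • poleDiv (k := k) χ) := by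
    ext u
    rw [LinearMap.mem_range]
    constructor
    · rintro ⟨⟨a, b⟩, rfl⟩
      rw [hΦ]
      exact (H.mem_L_iff_decomp hodd n _ _).2 ⟨a.2, b.2⟩
    · intro hu
      rw [H.decomp u, H.mem_L_iff_decomp hodd] at hu
      exact ⟨(⟨_, hu.1⟩, ⟨_, hu.2⟩), (hΦ _ _).trans (H.decomp u).symm⟩
  haveI := finiteDimensional_L (k := k) ff_ratFunc
    (n • poleDiv (k := k) (RatFunc.X : RatFunc k))
  haveI := finiteDimensional_L (k := k) ff_ratFunc
    (n • poleDiv (k := k) (RatFunc.X : RatFunc k) - halfPoles f)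
  rw [ell, ← hrange, LinearMap.finrank_range_of_inj hinj, Module.finrank_prod]
  rfl

theorem finrank_adjoin_chi (H : AS y f) : Module.finrank k⟮χ⟯ K = 2 := by
  rw [finrank_adjoin_map, finrank_adjoin_ratFuncX, H.deg]

theorem deg_nsmul_poleDiv_chi (H : AS y f) (n : ℕ) :
    (n • poleDiv (k := k) χ).deg = 2 * (n : ℤ) := by
  rw [deg_smul, deg_poleDiv (ff_extend ff_ratFunc) transcendental_chi, H.finrank_adjoin_chi]
  push_cast
  ring

theorem genus_eq (H : AS y f) (hK : IsFunctionField k K)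
    (hodd : ∀ P₀ : Place k (RatFunc k), P₀.ord f < 0 → Odd (P₀.ord f)) :
    (genus k K : ℤ) = -1 + (halfPoles f).deg := by
  set n := genus k K + ((halfPoles f).deg).toNat
  have h1 := H.ell_nsmul hodd n
  have hE1 : (n • poleDiv (k := k) (RatFunc.X : RatFunc k)).deg = n := by
    rw [deg_smul, deg_poleDiv_ratFuncX, mul_one]
  have hE2 : (n • poleDiv (k := k) (RatFunc.X : RatFunc k) - halfPoles f).deg =
      n - (halfPoles f).deg := by rw [deg_sub, hE1]
  have e1 := ell_ratFunc (n • poleDiv (k := k) (RatFunc.X : RatFunc k)) (by rw [hE1]; omega)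
  have e2 := ell_ratFunc (n • poleDiv (k := k) (RatFunc.X : RatFunc k) - halfPoles f)
    (by rw [hE2]; omega)
  have e3 := ell_of_large_deg hK (n • poleDiv (k := k) χ)
    (by rw [H.deg_nsmul_poleDiv_chi]; omega)
  rw [hE1] at e1
  rw [hE2] at e2
  rw [H.deg_nsmul_poleDiv_chi, h1] at e3
  push_cast at e3
  omega

theorem isCanonical_pole (H : AS y f) (hK : IsFunctionField k K) (hg : 1 ≤ genus k K)
    (hodd : ∀ P₀ : Place k (RatFunc k), P₀.ord f < 0 → Odd (P₀.ord f)) :
    IsCanonical k K ((genus k K - 1) • poleDiv (k := k) χ) ∧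
      FunFld.L ((genus k K - 1) • poleDiv (k := k) (RatFunc.X : RatFunc k) - halfPoles f) = ⊥ := by
  have hbot : FunFld.L ((genus k K - 1) • poleDiv (k := k) (RatFunc.X : RatFunc k) - halfPoles f)
      = ⊥ := L_eq_bot_of_deg_neg ff_ratFunc (by
    rw [deg_sub, deg_smul, deg_poleDiv_ratFuncX]
    have := H.genus_eq hK hodd
    omega)
  refine ⟨isCanonical_of_ell_deg hK ?_ ?_, hbot⟩
  · rw [H.ell_nsmul hodd]
    have e1 := ell_ratFunc ((genus k K - 1) • poleDiv (k := k) (RatFunc.X : RatFunc k))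
      (by rw [deg_smul, deg_poleDiv_ratFuncX]; omega)
    rw [deg_smul, deg_poleDiv_ratFuncX] at e1
    have e2 : ell ((genus k K - 1) • poleDiv (k := k) (RatFunc.X : RatFunc k) - halfPoles f) = 0 := by
      rw [ell, hbot, finrank_bot]
    omega
  · rw [H.deg_nsmul_poleDiv_chi]
    omega

end AS

/-! ## The quadratic separable rational subfield -/

section Sub

variable {k K : Type*} [Field k] [Field K] [Algebra k K]

theorem exists_canonical_of_ratFunc [PerfectField k] (h2 : (2 : k) = 0) [Algebra (RatFunc k) K]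
    [IsScalarTower k (RatFunc k) K] (hdeg : Module.finrank (RatFunc k) K = 2)
    (hK : IsFunctionField k K) (hg : 2 ≤ genus k K) {y : K} {f : RatFunc k}
    (hy : y ∉ Set.range (algebraMap (RatFunc k) K))
    (hyf : y ^ 2 + y = algebraMap (RatFunc k) K f) :
    IsCanonical k K ((genus k K - 1) • poleDiv (k := k) (algebraMap (RatFunc k) K RatFunc.X)) ∧
      ∀ u ∈ FunFld.L ((genus k K - 1) • poleDiv (k := k) (algebraMap (RatFunc k) K RatFunc.X)),
        u ∈ Set.range (algebraMap (RatFunc k) K) := by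
  haveI : FiniteDimensional (RatFunc k) K := Module.finite_of_finrank_eq_succ hdeg
  obtain ⟨a, ha⟩ := exists_odd_poles h2 f
  have h2K : (2 : K) = 0 := two_eq_zero_alg h2
  have H : AS (y + algebraMap (RatFunc k) K a) (f + a ^ 2 + a) := by
    refine ⟨h2, hdeg, ?_, ?_⟩
    · rw [map_add, map_add, map_pow, ← hyf]
      linear_combination (y * algebraMap (RatFunc k) K a) * h2K
    · rintro ⟨r, hr⟩
      exact hy ⟨r - a, by rw [map_sub, hr, add_sub_cancel_right]⟩
  obtain ⟨h1, h3⟩ := H.isCanonical_pole hK (by omega) ha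
  refine ⟨h1, fun u hu => ?_⟩
  rw [H.decomp u, H.mem_L_iff_decomp ha, h3] at hu
  have hB : H.cB u = 0 := (Submodule.mem_bot k).1 hu.2
  exact ⟨H.cA u, by conv_rhs => rw [H.decomp u, hB, map_zero, zero_mul, add_zero]⟩

/-- `k(x)` as a copy of `RatFunc k`. -/
theorem exists_ratFunc_hom {x : K} (htr : Transcendental k x) :
    ∃ φ : RatFunc k →ₐ[k] K, φ RatFunc.X = x ∧ (∀ r, φ r ∈ k⟮x⟯) ∧
      ∀ u ∈ k⟮x⟯, ∃ r, φ r = u := by
  have hinj := transcendental_iff_injective.1 htr
  have hc : (k[X])⁰ ≤ K⁰.comap (aeval x : k[X] →ₐ[k] K) :=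
    nonZeroDivisors_le_comap_nonZeroDivisors_of_injective _ hinj
  refine ⟨RatFunc.liftAlgHom (aeval x) hc, ?_, fun r => ?_, fun u hu => ?_⟩
  · have := RatFunc.liftAlgHom_apply_div (aeval x : k[X] →ₐ[k] K) hc X 1
    simpa using this
  · rw [← RatFunc.num_div_denom r, RatFunc.liftAlgHom_apply_div]
    exact div_mem (aeval_mem_adjoin x _) (aeval_mem_adjoin x _)
  · obtain ⟨p, q, rfl⟩ := (mem_adjoin_simple_iff k _).1 hu
    exact ⟨algebraMap k[X] (RatFunc k) p / algebraMap k[X] (RatFunc k) q,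
      RatFunc.liftAlgHom_apply_div _ hc p q⟩

/-- For `genus ≥ 2` the canonical series of `K` generates the quadratic rational subfield. -/
theorem exists_canonical_of_sep [PerfectField k] (h2 : (2 : k) = 0) (hK : IsFunctionField k K)
    (hg : 2 ≤ genus k K) {x : K} (hx : Module.finrank k⟮x⟯ K = 2)
    [Algebra.IsSeparable k⟮x⟯ K] :
    IsCanonical k K ((genus k K - 1) • poleDiv (k := k) x) ∧
      ∀ u ∈ FunFld.L ((genus k K - 1) • poleDiv (k := k) x), u ∈ k⟮x⟯ := by
  obtain ⟨y, g, hy, hyg⟩ := exists_as_gen hx (two_eq_zero_alg h2)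
  obtain ⟨φ, hφX, hmem, hsurj⟩ := exists_ratFunc_hom (transcendental_of_finrank_two (ff hK) hx)
  let := φ.toRingHom.toAlgebra
  haveI : IsScalarTower k (RatFunc k) K :=
    IsScalarTower.of_algebraMap_eq fun c => (φ.commutes c).symm
  let i : RatFunc k ≃+* k⟮x⟯ := RingEquiv.ofBijective (φ.toRingHom.codRestrict k⟮x⟯ hmem)
    ⟨fun a b h => φ.toRingHom.injective (congrArg Subtype.val h), fun z => by
      obtain ⟨r, hr⟩ := hsurj z.1 z.2
      exact ⟨r, Subtype.ext hr⟩⟩
  have hdeg : Module.finrank (RatFunc k) K = 2 := by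
    rw [← hx]
    exact Algebra.finrank_eq_of_equiv_equiv i (RingEquiv.refl K) (RingHom.ext fun r => rfl)
  obtain ⟨f, hf⟩ := hsurj g.1 g.2
  have hy' : y ∉ Set.range (algebraMap (RatFunc k) K) := by
    rintro ⟨r, hr⟩
    exact hy ⟨⟨y, hr ▸ hmem r⟩, rfl⟩
  have := exists_canonical_of_ratFunc h2 hdeg hK hg hy' (f := f) (hyg.trans hf.symm)
  rw [show algebraMap (RatFunc k) K RatFunc.X = x from hφX] at this
  refine ⟨this.1, fun u hu => ?_⟩
  obtain ⟨r, rfl⟩ := this.2 u hu
  exact hmem r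

theorem mem_of_sep_quadratic [PerfectField k] (h2 : (2 : k) = 0) (hK : IsFunctionField k K)
    (hg : 2 ≤ genus k K) {x x' : K} (hx : Module.finrank k⟮x⟯ K = 2)
    [Algebra.IsSeparable k⟮x⟯ K] (hx' : Module.finrank k⟮x'⟯ K = 2)
    [Algebra.IsSeparable k⟮x'⟯ K] : x' ∈ k⟮x⟯ := by
  obtain ⟨h1, hL⟩ := exists_canonical_of_sep h2 hK hg hx
  obtain ⟨h1', -⟩ := exists_canonical_of_sep h2 hK hg hx'
  obtain ⟨z, hz, hzC⟩ := isCanonical_sub_isCanonical hK h1 h1'
  have htr' := transcendental_of_finrank_two (ff hK) hx'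
  have hmem : ∀ u : K, (∀ P : Place k K, P.1 u ≤ (max 1 (P.1 x')) ^ (genus k K - 1)) →
      z * u ∈ k⟮x⟯ := fun u hu => hL _ (by
    rw [mul_mem_L (ff hK) _ hz, ← hzC, Hyp.mem_L_nsmul (ff hK) htr']
    exact hu)
  have e1 := hmem 1 fun P => by rw [map_one]; exact one_le_pow₀ (le_max_left _ _)
  have e3 := hmem x' fun P =>
    (le_max_right 1 _).trans (le_self_pow₀ (le_max_left _ _) (by omega))
  rw [mul_one] at e1
  have := div_mem e3 e1
  rwa [mul_div_cancel_left₀ x' hz] at this

end Sub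

end Groth.Agent.FunField
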