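import Groth.Agent.Lib.FunField.DXPartial26

/-! # `H¹(O)` of `y² + y = f` through adeles -/

namespace Groth.Agent.FunField

open WithZero FunFld Polynomial
open scoped Multiplicative

variable {k : Type*} [Field k]

local notation "ι" => algebraMap (Polynomial k) (RatFunc k)

/-- The principal part of `g` at `x = α`. -/
theorem exists_principal_part (g : RatFunc k) (α : k) : ∃ r : RatFunc k,
    (∀ P : Place k (RatFunc k), 1 ≤ P.1 ((RatFunc.X : RatFunc k) - RatFunc.C α) → P.1 r ≤ 1) ∧
    ∀ P : Place k (RatFunc k), P.1 ((RatFunc.X : RatFunc k) - RatFunc.C α) < 1 →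
      P.1 (g - r) ≤ 1 := by
  obtain ⟨m, M, hM, hD⟩ := WfDvdMonoid.max_power_factor g.denom_ne_zero (irreducible_X_sub_C α)
  obtain ⟨u, v, huv⟩ :=
    ((irreducible_X_sub_C α).coprime_iff_not_dvd.2 hM).pow_left (m := m)
  set T := (X - C α) ^ m with hT
  have hTmon : T.Monic := (monic_X_sub_C α).pow m
  set w := (g.num * v) %ₘ T
  have hιM : ι M ≠ 0 := RatFunc.algebraMap_ne_zero fun h => hM (h ▸ dvd_zero _)
  have hιT : ι T ≠ 0 := RatFunc.algebraMap_ne_zero hTmon.ne_zero
  refine ⟨ι w / ι T, fun P hP => ?_, fun P hP => ?_⟩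
  · rw [map_div₀, hT]
    rcases lt_or_ge 1 (P.1 RatFunc.X) with hX | hX
    · rw [map_pow, map_pow, algebraMap_X_sub_C, val_X_sub_C_infinite P hX]
      by_cases hw : w = 0
      · simp [hw]
      rw [val_poly_of_one_lt P hX hw, val_X_of_one_lt P hX, ← exp_nsmul, ← exp_nsmul, ← exp_sub,
        ← exp_zero, exp_le_exp]
      have h1 : w.natDegree < T.natDegree := natDegree_modByMonic_lt _ hTmon fun h1 => hw (by
        simp only [w, h1, modByMonic_one])
      rw [hT, natDegree_pow, natDegree_X_sub_C] at h1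
      simp only [nsmul_eq_mul, mul_one]
      omega
    · rw [map_pow, map_pow, algebraMap_X_sub_C,
        le_antisymm (val_X_sub_C_le P hX α) hP, one_pow, div_one]
      exact val_poly_le P hX w
  · have hX : P.1 RatFunc.X ≤ 1 := le_one_of_poly_lt_one P (X_sub_C_ne_zero α)
      (by rwa [algebraMap_X_sub_C])
    have hMv : P.1 (ι M) = 1 := val_poly_eq_one P (irreducible_X_sub_C α)
      (by rwa [algebraMap_X_sub_C]) hM
    have e : g - ι w / ι T = ι (g.num * u) / ι M + ι ((g.num * v) /ₘ T) := by
      have e1 : g = ι g.num / (ι T * ι M) := by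
        conv_lhs => rw [← RatFunc.num_div_denom g, hD, map_mul]
      have e2 := congrArg ι huv
      rw [map_add, map_mul, map_mul, map_one] at e2
      have e3 := congrArg ι (modByMonic_add_div (g.num * v) T)
      rw [map_add, map_mul, map_mul] at e3
      simp only [w] at *
      rw [map_mul]
      generalize g.num = N at e1 e3 ⊢
      rw [e1]
      field_simp
      linear_combination -(ι M) * e3 - ι N * e2
    rw [e]
    refine (P.1.map_add _ _).trans (max_le ?_ (val_poly_le P hX _))
    rw [map_div₀, hMv, div_one]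
    exact val_poly_le P hX _

/-- A nonzero polynomial vanishes at a place to order at most its degree. -/
theorem exp_neg_natDegree_le_val (P : Place k (RatFunc k)) {α : k}
    (h : P.1 ((RatFunc.X : RatFunc k) - RatFunc.C α) < 1) {q : k[X]} (hq : q ≠ 0) :
    exp (-(q.natDegree : ℤ)) ≤ P.1 (ι q) := by
  rw [← algebraMap_X_sub_C] at h
  obtain ⟨m, a, ha, rfl⟩ := WfDvdMonoid.max_power_factor hq (irreducible_X_sub_C α)
  rw [map_mul, map_mul, map_pow, map_pow, val_irreducible P (irreducible_X_sub_C α) h,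
    val_poly_eq_one P (irreducible_X_sub_C α) h ha, mul_one, ← exp_nsmul, exp_le_exp,
    natDegree_mul (pow_ne_zero _ (X_sub_C_ne_zero α)) (fun h0 => ha (by rw [h0]; exact dvd_zero _)),
    natDegree_pow, natDegree_X_sub_C, nsmul_eq_mul]
  push_cast
  omega

/-- A place of `k(x)` is determined by a point where it is centred. -/
theorem place_ext_of_X_sub_C {P Q : Place k (RatFunc k)} {α : k}
    (hP : P.1 ((RatFunc.X : RatFunc k) - RatFunc.C α) < 1)
    (hQ : Q.1 ((RatFunc.X : RatFunc k) - RatFunc.C α) < 1) : P = Q := by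
  rw [← algebraMap_X_sub_C] at hP hQ
  have key : ∀ q : k[X], q ≠ 0 → P.1 (ι q) = Q.1 (ι q) := by
    intro q hq
    obtain ⟨m, a, ha, rfl⟩ := WfDvdMonoid.max_power_factor hq (irreducible_X_sub_C α)
    simp only [map_mul, map_pow, val_irreducible P (irreducible_X_sub_C α) hP,
      val_irreducible Q (irreducible_X_sub_C α) hQ, val_poly_eq_one P (irreducible_X_sub_C α) hP ha,
      val_poly_eq_one Q (irreducible_X_sub_C α) hQ ha]
  refine place_ext fun r => ?_
  by_cases hr : r = 0
  · simp [hr]
  rw [← RatFunc.num_div_denom r, map_div₀, map_div₀, key _ (RatFunc.num_ne_zero hr),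
    key _ r.denom_ne_zero]

namespace PoleData

variable {K : Type*} [Field K] [Algebra k K] [Algebra (RatFunc k) K]
  [IsScalarTower k (RatFunc k) K] {f : RatFunc k} {B : Finset k} {d : k → ℕ} {y : K}

local notation "χ" => algebraMap (RatFunc k) K RatFunc.X
local notation "αK" => algebraMap (RatFunc k) K

theorem sub_algebraMap (β : k) :
    χ - algebraMap k K β = αK ((RatFunc.X : RatFunc k) - RatFunc.C β) := by
  rw [map_sub, ← RatFunc.algebraMap_eq_C, ← IsScalarTower.algebraMap_apply]

/-- The base point of an index. -/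
def base : Idx B d → k := Sum.elim (fun a => (a.1.1 : k)) (fun b => (b.1 : k))

/-- The exponent of an index. -/
def expo : Idx B d → ℕ := Sum.elim (fun a => a.1.2) (fun _ => 0)

theorem base_mem (i : Idx B d) : base i ∈ B := by
  rcases i with a | b
  · exact a.1.1.2
  · exact b.1.2

theorem base_expo_injective {i j : Idx B d} (hb : base i = base j) (he : expo i = expo j) :
    i = j := by
  rcases i with ⟨⟨a, m⟩, hm⟩ | ⟨b, hb0⟩ <;> rcases j with ⟨⟨a', m'⟩, hm'⟩ | ⟨b', hb0'⟩ <;>
    simp only [base, expo, Sum.elim_inl, Sum.elim_inr] at hb he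
  · obtain rfl := Subtype.ext hb; subst he; rfl
  · exact absurd he (by have := hm.1; dsimp only at this; omega)
  · exact absurd he (by have := hm'.1; dsimp only at this; omega)
  · obtain rfl := Subtype.ext hb; rfl

theorem base_ne_zero_of_expo (i : Idx B d) (h : expo i = 0) : base i ≠ 0 := by
  rcases i with ⟨a, hm⟩ | ⟨b, hb0⟩
  · exact absurd h (by simp only [expo, Sum.elim_inl]; omega)
  · exact hb0

theorem expo_le (D : PoleData f B d) (i : Idx B d) : 2 * expo i + 1 ≤ d (base i) := by
  rcases i with ⟨a, hm⟩ | ⟨b, hb0⟩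
  · exact hm.2
  · simp only [expo, base, Sum.elim_inr]
    obtain ⟨r, hr⟩ := D.odd _ b.2
    omega

variable [FiniteDimensional (RatFunc k) K]

theorem over_unique (D : PoleData f B d) (H : AS y f) {Pl : k → Place k K}
    (hPl : ∀ β ∈ B, (Pl β).1 (χ - algebraMap k K β) < 1) {β : k} (hβ : β ∈ B) :
    ∃ p : Place k (RatFunc k), p.1 ((RatFunc.X : RatFunc k) - RatFunc.C β) < 1 ∧
      IsOverWith (Pl β) p 2 ∧ ∀ Q : Place k K, IsOver Q p → Q = Pl β := by
  obtain ⟨e, he⟩ := isOver_under ff_ratFunc (Pl β)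
  have hlt := hPl β hβ
  rw [sub_algebraMap, he, pow_lt_one_iff_of_nonneg zero_le (isOverWith_pos he).ne'] at hlt
  have h1 := D.pole _ β hβ hlt
  obtain ⟨r, hr⟩ := D.odd β hβ
  have hneg : (under ff_ratFunc (Pl β)).ord f < 0 := by omega
  obtain ⟨rfl, -, hu⟩ := H.ramified he hneg (D.ord_odd _ hneg)
  exact ⟨_, hlt, he, hu⟩

theorem Pl_injOn (D : PoleData f B d) (H : AS y f) {Pl : k → Place k K}
    (hPl : ∀ β ∈ B, (Pl β).1 (χ - algebraMap k K β) < 1) {β γ : k} (hβ : β ∈ B) (hγ : γ ∈ B)
    (h : Pl β = Pl γ) : β = γ := by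
  obtain ⟨p, hp, he, -⟩ := D.over_unique H hPl hβ
  obtain ⟨p', hp', he', -⟩ := D.over_unique H hPl hγ
  rw [h] at he
  obtain ⟨rfl, -⟩ := isOverWith_unique he he'
  by_contra hne
  rw [val_X_sub_C_ne p hp (Ne.symm hne)] at hp'
  exact lt_irrefl _ hp'

/-- The classes are independent modulo `A(0) + K`. -/
theorem eq_zero_of_mem [DecidableEq (Place k K)] (D : PoleData f B d) (H : AS y f)
    (hK : IsFunctionField k K) {Pl : k → Place k K}
    (hPl : ∀ β ∈ B, (Pl β).1 (χ - algebraMap k K β) < 1) [Fintype (Idx B d)] (c : Idx B d → k)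
    (hc : ∑ i, c i • (Pi.single (Pl (base i)) (y * (χ - algebraMap k K (base i)) ^ expo i) :
        Place k K → K) ∈ AD (0 : Divisor k K) ⊔ LinearMap.range (diag k K)) :
    ∀ i, c i = 0 := by
  classical
  obtain ⟨u, hu, _, ⟨z, rfl⟩, huz⟩ := Submodule.mem_sup.1 hc
  let pol : k → k[X] := fun β => ∑ i with base i = β, monomial (expo i) (c i)
  have hT : ∀ β ∈ B, (∑ i, c i • (Pi.single (Pl (base i))
      (y * (χ - algebraMap k K (base i)) ^ expo i) : Place k K → K)) (Pl β) =
      αK (ι ((pol β).comp (X - C β))) * y := by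
    intro β hβ
    simp only [Finset.sum_apply, Pi.smul_apply, pol, Finset.sum_filter, sum_comp, map_sum,
      Finset.sum_mul]
    refine Finset.sum_congr rfl fun i _ => ?_
    by_cases hb : base i = β
    · rw [if_pos hb, hb, Pi.single_eq_same, monomial_comp, map_mul, map_mul, map_pow, map_pow,
        algebraMap_X_sub_C, sub_algebraMap, ← aeval_ratFuncX, aeval_C, Algebra.smul_def,
        IsScalarTower.algebraMap_apply k (RatFunc k) K]
      ring
    · rw [if_neg hb, zero_comp, map_zero, map_zero, zero_mul,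
        Pi.single_eq_of_ne (fun h => hb (D.Pl_injOn H hPl (base_mem i) hβ h.symm)), smul_zero]
  have hT0 : ∀ P : Place k K, (∀ β ∈ B, P ≠ Pl β) → (∑ i, c i • (Pi.single (Pl (base i))
      (y * (χ - algebraMap k K (base i)) ^ expo i) : Place k K → K)) P = 0 := fun P hP => by
    rw [Finset.sum_apply]
    exact Finset.sum_eq_zero fun i _ => by
      rw [Pi.smul_apply, Pi.single_eq_of_ne (hP _ (base_mem i)), smul_zero]
  have hval : ∀ P : Place k K, P.1 ((∑ i, c i • (Pi.single (Pl (base i))
      (y * (χ - algebraMap k K (base i)) ^ expo i) : Place k K → K)) P - z) ≤ 1 := fun P => by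
    have h1 := hu P
    rw [Finsupp.zero_apply, exp_zero] at h1
    rw [← huz, Pi.add_apply]
    show P.1 (u P + z - z) ≤ 1
    rwa [add_sub_cancel_right]
  have hlow : ∀ β ∈ B, ∀ p : Place k (RatFunc k), IsOverWith (Pl β) p 2 →
      p.1 ((RatFunc.X : RatFunc k) - RatFunc.C β) < 1 →
      p.1 (ι ((pol β).comp (X - C β)) - H.cB z) ≤ exp (-(((d β + 1) / 2 : ℕ) : ℤ)) := by
    intro β hβ p he hp
    have h1 := D.pole p β hβ hp
    obtain ⟨r, hr⟩ := D.odd β hβ
    have hneg : p.ord f < 0 := by omega
    have h := hval (Pl β)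
    rw [hT β hβ, show αK (ι ((pol β).comp (X - C β))) * y - z =
        αK (-(H.cA z)) + αK (ι ((pol β).comp (X - C β)) - H.cB z) * y by
      conv_lhs => rw [H.decomp z]
      rw [map_neg, map_sub]; ring] at h
    have h2 := (H.local_iff D.ord_odd he 0 _ _ fun hnn => absurd hnn (not_le.2 hneg)).1
      (by rw [mul_zero, exp_zero]; exact h)
    refine h2.2.trans (le_of_eq ?_)
    rw [halfPoles_apply, if_pos hneg, h1]
    congr 1
    omega
  have hb : ∀ p : Place k (RatFunc k), p.1 (H.cB z) ≤ 1 := by
    intro p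
    by_cases hex : ∃ β ∈ B, p.1 ((RatFunc.X : RatFunc k) - RatFunc.C β) < 1
    · obtain ⟨β, hβ, hp⟩ := hex
      obtain ⟨p', hp', he', -⟩ := D.over_unique H hPl hβ
      obtain ⟨P, e, he⟩ := exists_over (K' := K) ff_ratFunc p
      have h1 := D.pole p β hβ hp
      obtain ⟨r, hr⟩ := D.odd β hβ
      have hneg : p.ord f < 0 := by omega
      have hX : p.1 RatFunc.X ≤ 1 := le_one_of_poly_lt_one p (X_sub_C_ne_zero β)
        (by rwa [algebraMap_X_sub_C])
      have hpp : p = p' := place_ext_of_X_sub_C hp hp'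
      subst hpp
      have h2 := hlow β hβ p he' hp
      have h3 : p.1 (ι ((pol β).comp (X - C β))) ≤ 1 := val_poly_le p hX _
      rw [show H.cB z = ι ((pol β).comp (X - C β)) -
        (ι ((pol β).comp (X - C β)) - H.cB z) by ring]
      refine (p.1.map_sub _ _).trans (max_le h3 (h2.trans ?_))
      rw [← exp_zero, exp_le_exp]; omega
    · push Not at hex
      obtain ⟨P, e, he⟩ := exists_over (K' := K) ff_ratFunc p
      have hnotPl : ∀ (Q : Place k K), IsOverWith Q p e → ∀ β ∈ B, Q ≠ Pl β := by
        rintro Q hQ β hβ rfl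
        obtain ⟨p', hp', he', -⟩ := D.over_unique H hPl hβ
        obtain ⟨rfl, -⟩ := isOverWith_unique hQ he'
        exact hp'.not_ge (hex β hβ)
      have hz : ∀ Q : Place k K, IsOverWith Q p e → Q.1 z ≤ 1 := fun Q hQ => by
        have := hval Q
        rwa [hT0 Q (hnotPl Q hQ), zero_sub, Valuation.map_neg] at this
      have h1 := hz P he
      have h2 := hz (mapPlace H.conj P) (isOverWith_mapPlace H.conj he)
      rw [mapPlace_apply, H.conj_decomp (H.decomp z)] at h2
      have h3 := (P.1.map_sub _ _).trans (max_le h2 h1)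
      rw [add_sub_cancel_left, he, pow_le_one_iff_of_nonneg zero_le (isOverWith_pos he).ne'] at h3
      exact h3
  obtain ⟨b0, hb0⟩ : ∃ b0 : k, algebraMap k (RatFunc k) b0 = H.cB z :=
    isFunctionField_ratFunc.2 _ (isAlgebraic_of_mem_L_zero ff_ratFunc
      (fun p => by rw [Finsupp.zero_apply, exp_zero]; exact hb p))
  have hpol : ∀ β ∈ B, pol β = C b0 := by
    intro β hβ
    obtain ⟨p, hp, he, -⟩ := D.over_unique H hPl hβ
    have h := hlow β hβ p he hp
    rw [← hb0, ← aeval_C (R := k) (RatFunc.X : RatFunc k) b0, aeval_ratFuncX, ← map_sub] at h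
    have h0 : (pol β).comp (X - C β) - C b0 = 0 := by
      by_contra hne
      have h1 := (exp_neg_natDegree_le_val p hp hne).trans h
      rw [exp_le_exp] at h1
      obtain ⟨r, hr⟩ := D.odd β hβ
      have h2 : ((pol β).comp (X - C β) - C b0).natDegree ≤ r := by
        refine (natDegree_sub_le _ _).trans (max_le ?_ (by simp))
        rw [natDegree_comp, natDegree_X_sub_C, mul_one]
        refine natDegree_sum_le_of_forall_le _ _ fun i hi => (natDegree_monomial_le _).trans ?_
        have := D.expo_le i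
        rw [(Finset.mem_filter.1 hi).2] at this
        omega
      omega
    have h3 := congrArg (fun q : k[X] => q.comp (X + C β)) (sub_eq_zero.1 h0)
    simpa [comp_assoc] using h3
  have hb00 : b0 = 0 := by
    have h := congrArg (fun q : k[X] => q.coeff 0) (hpol 0 D.zero_mem)
    simp only [pol, finsetSum_coeff, coeff_C_zero] at h
    rw [← h]
    refine Finset.sum_eq_zero fun i hi => coeff_monomial_of_ne _ fun he => ?_
    exact base_ne_zero_of_expo i he.symm (Finset.mem_filter.1 hi).2
  intro i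
  have h := congrArg (fun q : k[X] => q.coeff (expo i)) (hpol _ (base_mem i))
  simp only [pol, finsetSum_coeff, hb00, map_zero, coeff_zero] at h
  rw [Finset.sum_eq_single i] at h
  · rwa [coeff_monomial_same] at h
  · intro j hj hji
    exact coeff_monomial_of_ne _ fun he =>
      hji (base_expo_injective (Finset.mem_filter.1 hj).2 he.symm)
  · intro hi; simp at hi

theorem card_idx [Fintype (Idx B d)] (D : PoleData f B d) (H : AS y f) (hK : IsFunctionField k K) :
    Fintype.card (Idx B d) = genus k K := by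
  obtain ⟨hli, hspan⟩ := D.fam_basis H hK
  have h1 := finrank_span_eq_card hli
  rw [hspan] at h1
  have h2 := ell_ratFunc (AS.W f) (by rw [H.deg_W hK D.ord_odd]; omega)
  rw [H.deg_W hK D.ord_odd] at h2
  change ell (AS.W f) = _ at h1
  omega

end PoleData

end Groth.Agent.FunField
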