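import Groth.Agent.Lib.FunField.Exists
import Mathlib.RingTheory.Polynomial.GaussLemma
import Mathlib.RingTheory.Valuation.Integers
import Mathlib.FieldTheory.IsAlgClosed.Basic
import Mathlib.RingTheory.Valuation.ValuationRing

/-! # The affine coordinate ring as an intersection -/

namespace Groth.Agent.FunField.AffineRing

open Polynomial IntermediateField FunFld
open scoped WithZero

variable {k K : Type*} [Field k] [IsAlgClosed k] [Field K] [Algebra k K] {x : K}

theorem ff_adjoin (hx : Transcendental k x) : FF k k⟮x⟯ := by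
  refine ⟨⟨x, mem_adjoin_simple_self k x⟩, fun ha => hx (ha.algebraMap (A := K)), ?_⟩
  have htop : adjoin k {(⟨x, mem_adjoin_simple_self k x⟩ : k⟮x⟯)} = ⊤ := by
    apply IntermediateField.map_injective k⟮x⟯.val
    rw [adjoin_map, ← AlgHom.fieldRange_eq_map, fieldRange_val, Set.image_singleton]
    rfl
  rw [htop]
  refine Module.Finite.of_surjective
    (LinearMap.toSpanSingleton (⊤ : IntermediateField k k⟮x⟯) k⟮x⟯ 1) fun z => ⟨⟨z, trivial⟩, ?_⟩
  rw [LinearMap.toSpanSingleton_apply]
  exact mul_one z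

theorem mem_adjoin_of_forall_place (hx : Transcendental k x) (r : k⟮x⟯)
    (hr : ∀ P : Place k k⟮x⟯, P.1 ⟨x, mem_adjoin_simple_self k x⟩ ≤ 1 → P.1 r ≤ 1) :
    (r : K) ∈ Algebra.adjoin k ({x} : Set K) := by
  set g : k⟮x⟯ := ⟨x, mem_adjoin_simple_self k x⟩
  have hg : Transcendental k g := fun ha => hx (ha.algebraMap (A := K))
  have hmem : ∀ a : k[X], aeval x a ∈ Algebra.adjoin k ({x} : Set K) := fun a => by
    rw [Algebra.adjoin_singleton_eq_range_aeval]; exact ⟨a, rfl⟩
  have hcoe : ∀ a : k[X], ((aeval g a : k⟮x⟯) : K) = aeval x a := fun a =>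
    (Polynomial.aeval_algHom_apply k⟮x⟯.val g a).symm
  suffices ∀ n : ℕ, ∀ p q : k[X], q.natDegree = n → q ≠ 0 → r * aeval g q = aeval g p →
      (r : K) ∈ Algebra.adjoin k ({x} : Set K) by
    obtain ⟨p, q, hpq⟩ := (mem_adjoin_simple_iff k (r : K)).1 r.2
    rcases eq_or_ne q 0 with rfl | hq
    · rw [map_zero, div_zero] at hpq; rw [hpq]; exact zero_mem _
    refine this _ p q rfl hq (Subtype.ext ?_)
    show (r : K) * ((aeval g q : k⟮x⟯) : K) = _
    rw [hcoe, hcoe, hpq, div_mul_cancel₀ _ (aeval_ne_zero hx hq)]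
  intro n
  induction n using Nat.strong_induction_on with
  | _ n ih =>
    intro p q hqn hq he
    rcases Nat.eq_zero_or_pos q.natDegree with h0 | h0
    · obtain ⟨c, rfl⟩ := natDegree_eq_zero.1 h0
      have hc : c ≠ 0 := fun hc => hq (by rw [hc, map_zero])
      have h' := congrArg Subtype.val he
      rw [MulMemClass.coe_mul, hcoe, hcoe, aeval_C] at h'
      have : (r : K) = algebraMap k K c⁻¹ * aeval x p := by
        rw [← h', mul_left_comm, ← map_mul, inv_mul_cancel₀ hc, map_one, mul_one]
      rw [this]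
      exact mul_mem (Subalgebra.algebraMap_mem _ _) (hmem p)
    · obtain ⟨c, hc⟩ := IsAlgClosed.exists_root q (fun hd => by
        rw [degree_eq_natDegree hq] at hd; exact h0.ne' (by exact_mod_cast hd))
      obtain ⟨q₁, rfl⟩ := dvd_iff_isRoot.2 hc
      have hq₁ : q₁ ≠ 0 := right_ne_zero_of_mul hq
      by_cases hp : p.IsRoot c
      · obtain ⟨p₁, rfl⟩ := dvd_iff_isRoot.2 hp
        refine ih q₁.natDegree ?_ p₁ q₁ rfl hq₁ ?_
        · rw [← hqn, natDegree_mul (X_sub_C_ne_zero c) hq₁, natDegree_X_sub_C]; omega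
        · rw [map_mul, map_mul, mul_left_comm] at he
          exact mul_left_cancel₀ (aeval_ne_zero hg (X_sub_C_ne_zero c)) he
      · exfalso
        obtain ⟨P, hP⟩ := exists_val_lt_one_of_valuationSubring (ff_adjoin hx)
          (x := aeval g (X - C c)) (fun ha => by
            refine hg ?_
            have := ha.add (isAlgebraic_algebraMap (A := k⟮x⟯) c)
            rwa [map_sub, aeval_X, aeval_C, sub_add_cancel] at this)
        have hg1 : P.1 g ≤ 1 := by
          have : g = aeval g (X - C c) + algebraMap k k⟮x⟯ c := by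
            rw [map_sub, aeval_X, aeval_C, sub_add_cancel]
          rw [this]
          exact (P.1.map_add _ _).trans (max_le hP.le (P.2.1 c))
        have hint : ∀ a : k[X], P.1 (aeval g a) ≤ 1 := fun a => by
          rw [aeval_eq_sum_range]
          refine P.1.map_sum_le fun i _ => ?_
          rw [Algebra.smul_def, map_mul, map_pow]
          exact mul_le_one' (P.2.1 _) (pow_le_one' hg1 i)
        obtain ⟨p₁, hp₁⟩ := X_sub_C_dvd_sub_C_eval (a := c) (p := p)
        have hp1 : P.1 (aeval g p) = 1 := by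
          have e : aeval g p = aeval g ((X - C c) * p₁) + algebraMap k k⟮x⟯ (p.eval c) := by
            rw [← hp₁, map_sub, aeval_C, sub_add_cancel]
          have h1 : P.1 (aeval g ((X - C c) * p₁)) < 1 := by
            rw [map_mul, map_mul]; exact mul_lt_one_of_lt_of_le hP (hint _)
          have h2 : P.1 (algebraMap k k⟮x⟯ (p.eval c)) = 1 := val_const P hp
          rw [e, P.1.map_add_eq_of_lt_right (h1.trans_eq h2.symm), h2]
        have := congrArg P.1 he
        rw [hp1, map_mul, map_mul, map_mul] at this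
        exact (ne_of_lt ((mul_le_mul' (hr P hg1) le_rfl).trans_lt (by
          rw [one_mul]; exact mul_lt_one_of_lt_of_le hP (hint _)))) this

variable {y : K}

theorem main (hx : Transcendental k x) (hy : IsIntegral (Algebra.adjoin k ({x} : Set K)) y) :
    (Algebra.adjoin k ({x, y} : Set K) : Set K) =
      ⋂ (P : Place k k⟮x⟯) (_ : P.1 ⟨x, mem_adjoin_simple_self k x⟩ ≤ 1),
        (Subring.closure ((algebraMap k⟮x⟯ K '' (P.O : Set _)) ∪ {y}) : Set K) := by
  refine Set.Subset.antisymm ?_ ?_
  · intro z hz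
    simp only [Set.mem_iInter]
    intro P hP
    induction hz using Algebra.adjoin_induction with
    | mem w hw =>
      rcases hw with rfl | rfl
      · exact Subring.subset_closure (Or.inl ⟨_, hP, rfl⟩)
      · exact Subring.subset_closure (Or.inr rfl)
    | algebraMap c => exact Subring.subset_closure (Or.inl ⟨algebraMap k k⟮x⟯ c, P.2.1 c, rfl⟩)
    | add a b _ _ ha hb => exact add_mem ha hb
    | mul a b _ _ ha hb => exact mul_mem ha hb
  · intro z hz
    simp only [Set.mem_iInter] at hz
    obtain ⟨p, hpm, hpy⟩ := hy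
    have hA : Algebra.adjoin k ({x} : Set K) ≤ k⟮x⟯.toSubalgebra := algebra_adjoin_le_adjoin k _
    let ι : Algebra.adjoin k ({x} : Set K) →+* k⟮x⟯ := (Subalgebra.inclusion hA).toRingHom
    have hι : (algebraMap k⟮x⟯ K).comp ι = algebraMap (Algebra.adjoin k ({x} : Set K)) K := rfl
    have hint : IsIntegral k⟮x⟯ y := ⟨p.map ι, hpm.map ι, by rw [eval₂_map, hι]; exact hpy⟩
    set μ := minpoly k⟮x⟯ y with hμ
    have hdvd : μ ∣ p.map ι := minpoly.dvd _ _ (by rw [aeval_def, eval₂_map, hι]; exact hpy)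
    -- for each finite place, the coordinates lie in the valuation ring
    have key : ∀ P : Place k k⟮x⟯, P.1 ⟨x, mem_adjoin_simple_self k x⟩ ≤ 1 →
        ∃ r : k⟮x⟯[X], r.degree < μ.degree ∧ aeval y r = z ∧ ∀ i, P.1 (r.coeff i) ≤ 1 := by
      intro P hP
      have hAO : ∀ a, ι a ∈ P.O := by
        rintro ⟨a, ha⟩
        obtain ⟨b, hb⟩ : a ∈ (aeval x : k[X] →ₐ[k] K).range := by
          rw [← Algebra.adjoin_singleton_eq_range_aeval]; exact ha
        have : ι ⟨a, ha⟩ = aeval (⟨x, mem_adjoin_simple_self k x⟩ : k⟮x⟯) b := Subtype.ext (by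
          show a = k⟮x⟯.val _
          rw [← Polynomial.aeval_algHom_apply]; exact hb.symm)
        rw [this, mem_O_iff, aeval_eq_sum_range]
        refine P.1.map_sum_le fun i _ => ?_
        rw [Algebra.smul_def, map_mul, map_pow]
        exact mul_le_one' (P.2.1 _) (pow_le_one' hP i)
      let ιP : Algebra.adjoin k ({x} : Set K) →+* P.O := ι.codRestrict P.O hAO
      haveI : IsIntegrallyClosed P.O := inferInstance
      obtain ⟨μ', hμ'⟩ := IsIntegrallyClosed.eq_map_mul_C_of_dvd k⟮x⟯ (hpm.map ιP) (g := μ)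
        (by rw [Polynomial.map_map]; exact hdvd)
      rw [(minpoly.monic hint).leadingCoeff, C_1, mul_one] at hμ'
      have hm' : μ'.Monic := monic_of_injective (IsFractionRing.injective P.O k⟮x⟯) (hμ' ▸ minpoly.monic hint)
      have hmem : ∃ q : P.O[X], aeval y (q.map (algebraMap P.O k⟮x⟯)) = z := by
        have hz' := hz P hP
        clear hz
        induction hz' using Subring.closure_induction with
        | mem w hw =>
          rcases hw with ⟨a, ha, rfl⟩ | rfl
          · exact ⟨C ⟨a, ha⟩, by rw [map_C, aeval_C]; rfl⟩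
          · exact ⟨X, by rw [map_X, aeval_X]⟩
        | zero => exact ⟨0, by simp⟩
        | one => exact ⟨1, by simp⟩
        | add a b _ _ ha hb =>
          obtain ⟨qa, hqa⟩ := ha; obtain ⟨qb, hqb⟩ := hb
          exact ⟨qa + qb, by simp [hqa, hqb]⟩
        | neg a _ ha =>
          obtain ⟨qa, hqa⟩ := ha
          exact ⟨-qa, by simp [hqa]⟩
        | mul a b _ _ ha hb =>
          obtain ⟨qa, hqa⟩ := ha; obtain ⟨qb, hqb⟩ := hb
          exact ⟨qa * qb, by simp [hqa, hqb]⟩
      obtain ⟨q, hq⟩ := hmem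
      refine ⟨(q %ₘ μ').map (algebraMap P.O k⟮x⟯), ?_, ?_, fun i => ?_⟩
      · rw [map_modByMonic _ hm', hμ']
        exact degree_modByMonic_lt _ (minpoly.monic hint)
      · rw [map_modByMonic _ hm', hμ', aeval_modByMonic_eq_self_of_root (minpoly.aeval _ _)]
        exact hq
      · rw [coeff_map]; exact ((q %ₘ μ').coeff i).2
    obtain ⟨P₀, hP₀⟩ := exists_val_lt_one_of_valuationSubring (ff_adjoin hx)
      (x := (⟨x, mem_adjoin_simple_self k x⟩ : k⟮x⟯)) (fun ha => hx (ha.algebraMap (A := K)))
    obtain ⟨r, hrd, hrz, -⟩ := key P₀ hP₀.le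
    have hall : ∀ i, ((r.coeff i : k⟮x⟯) : K) ∈ Algebra.adjoin k ({x} : Set K) := fun i => by
      refine mem_adjoin_of_forall_place hx _ fun P hP => ?_
      obtain ⟨r', hrd', hrz', hc⟩ := key P hP
      have : r = r' := by
        by_contra hne
        have h1 := minpoly.degree_le_of_ne_zero k⟮x⟯ y (sub_ne_zero.2 hne)
          (by rw [map_sub, hrz, hrz', sub_self])
        exact absurd ((degree_sub_le _ _).trans_lt (max_lt hrd hrd')) (not_lt.2 h1)
      rw [this]; exact hc i
    rw [← hrz, aeval_eq_sum_range]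
    refine Subalgebra.sum_mem _ fun i _ => ?_
    rw [Algebra.smul_def]
    refine mul_mem (Algebra.adjoin_mono (by simp) (hall i)) (pow_mem (Algebra.subset_adjoin (by simp)) i)

end Groth.Agent.FunField.AffineRing
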