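import Groth.Prelude.Def_W4bk4goldsch23FF
import Mathlib.RingTheory.Valuation.Discrete.IsDiscreteValuationRing
import Mathlib.RingTheory.DiscreteValuationRing.TFAE
import Mathlib.RingTheory.Valuation.IsTrivialOn
import Mathlib.FieldTheory.IntermediateField.Adjoin.Basic
import Mathlib.LinearAlgebra.FiniteDimensional.Basic
import Mathlib.RingTheory.Valuation.LocalSubring

/-! # Places of a function field: the order function, extensionality, uniformizers -/

namespace Groth.Agent.FunField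

open WithZero FunFld
open scoped Multiplicative

variable {k K : Type*} [Field k] [Field K] [Algebra k K]

theorem val_const_le (P : Place k K) (c : k) : P.1 (algebraMap k K c) ≤ 1 := P.2.1 c

theorem val_const (P : Place k K) {c : k} (hc : c ≠ 0) : P.1 (algebraMap k K c) = 1 := by
  refine le_antisymm (P.2.1 c) ?_
  have h := P.2.1 c⁻¹
  rw [map_inv₀, map_inv₀] at h
  have h0 : P.1 (algebraMap k K c) ≠ 0 := by simp [hc]
  calc (1 : ℤᵐ⁰) = (P.1 (algebraMap k K c))⁻¹ * P.1 (algebraMap k K c) := (inv_mul_cancel₀ h0).symm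
    _ ≤ 1 * P.1 (algebraMap k K c) := mul_le_mul' h le_rfl
    _ = _ := one_mul _

instance isTrivialOn (P : Place k K) : P.1.IsTrivialOn k where
  eq_one _ hc := val_const P hc

theorem val_eq_exp_neg_ord (P : Place k K) {x : K} (hx : x ≠ 0) : P.1 x = exp (-P.ord x) := by
  rw [Place.ord, neg_neg, exp_log]
  simp [hx]

theorem ord_eq_of_val_eq (P : Place k K) {x : K} {n : ℤ} (h : P.1 x = exp n) : P.ord x = -n := by
  rw [Place.ord, h, log_exp]

@[simp] theorem ord_zero (P : Place k K) : P.ord 0 = 0 := by simp [Place.ord]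

@[simp] theorem ord_one (P : Place k K) : P.ord 1 = 0 := by simp [Place.ord]

theorem ord_mul (P : Place k K) {x y : K} (hx : x ≠ 0) (hy : y ≠ 0) :
    P.ord (x * y) = P.ord x + P.ord y := by
  rw [ord_eq_of_val_eq (n := -(P.ord x + P.ord y))]
  · ring
  · rw [map_mul, val_eq_exp_neg_ord P hx, val_eq_exp_neg_ord P hy, ← exp_add]
    congr 1; ring

@[simp] theorem ord_inv (P : Place k K) (x : K) : P.ord x⁻¹ = -P.ord x := by
  simp [Place.ord, map_inv₀]

theorem ord_pow (P : Place k K) (x : K) (n : ℕ) : P.ord (x ^ n) = n * P.ord x := by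
  simp [Place.ord, map_pow, log_pow]

theorem ord_zpow (P : Place k K) (x : K) (n : ℤ) : P.ord (x ^ n) = n * P.ord x := by
  simp [Place.ord, map_zpow₀, log_zpow]

theorem ord_div (P : Place k K) {x y : K} (hx : x ≠ 0) (hy : y ≠ 0) :
    P.ord (x / y) = P.ord x - P.ord y := by
  rw [div_eq_mul_inv, ord_mul P hx (inv_ne_zero hy), ord_inv, sub_eq_add_neg]

@[simp] theorem ord_const (P : Place k K) (c : k) : P.ord (algebraMap k K c) = 0 := by
  rcases eq_or_ne c 0 with rfl | hc
  · simp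
  · simp [Place.ord, val_const P hc]

theorem val_le_exp_iff (P : Place k K) {x : K} (hx : x ≠ 0) (n : ℤ) :
    P.1 x ≤ exp n ↔ -n ≤ P.ord x := by
  rw [val_eq_exp_neg_ord P hx, exp_le_exp]; omega

theorem val_le_one_iff (P : Place k K) {x : K} (hx : x ≠ 0) : P.1 x ≤ 1 ↔ 0 ≤ P.ord x := by
  simpa using val_le_exp_iff P hx 0

theorem ord_nonneg_iff (P : Place k K) (x : K) : 0 ≤ P.ord x ↔ P.1 x ≤ 1 := by
  rcases eq_or_ne x 0 with rfl | hx
  · simp
  · exact (val_le_one_iff P hx).symm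

theorem val_lt_one_iff' (P : Place k K) {x : K} (hx : x ≠ 0) : P.1 x < 1 ↔ 0 < P.ord x := by
  rw [val_eq_exp_neg_ord P hx, ← exp_zero, exp_lt_exp]; omega

theorem lt_exp_iff (v : ℤᵐ⁰) (n : ℤ) : v < exp n ↔ v ≤ exp (n - 1) := by
  induction v using WithZero.expRecOn with
  | zero => simp
  | exp m => rw [exp_lt_exp, exp_le_exp]; omega

theorem lt_one_iff_le (v : ℤᵐ⁰) : v < 1 ↔ v ≤ exp (-1) := by
  simpa using lt_exp_iff v 0

/-- Every place has a uniformizer. -/
theorem exists_uniformizer (P : Place k K) : ∃ t : K, t ≠ 0 ∧ P.1 t = exp (-1) := by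
  obtain ⟨t, ht⟩ := P.2.2 (exp (-1))
  refine ⟨t, ?_, ht⟩
  rintro rfl
  rw [map_zero] at ht
  exact exp_ne_zero ht.symm

theorem mem_O_iff (P : Place k K) (x : K) : x ∈ P.O ↔ P.1 x ≤ 1 := Iff.rfl

theorem exists_not_mem_O (P : Place k K) : ∃ x : K, x ∉ P.O := by
  obtain ⟨t, _, ht⟩ := exists_uniformizer P
  refine ⟨t⁻¹, ?_⟩
  rw [mem_O_iff, map_inv₀, ht, ← exp_neg, ← exp_zero, exp_le_exp]
  norm_num

/-- A place is determined by its valuation ring; indeed valuation rings of places are pairwise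
incomparable. -/
theorem eq_of_O_le {P Q : Place k K} (h : P.O ≤ Q.O) : P = Q := by
  obtain ⟨t, ht0, ht⟩ := exists_uniformizer P
  have hQt : Q.1 t ≤ 1 := h (show t ∈ P.O by rw [mem_O_iff, ht, ← exp_zero, exp_le_exp]; norm_num)
  have hunit : ∀ y : K, y ≠ 0 → P.1 y = 1 → Q.1 y = 1 := by
    intro y hy hy1
    refine le_antisymm (h (show y ∈ P.O by rw [mem_O_iff, hy1])) ?_
    have h2 : Q.1 y⁻¹ ≤ 1 := h (show y⁻¹ ∈ P.O by rw [mem_O_iff, map_inv₀, hy1, inv_one])
    rw [map_inv₀] at h2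
    exact (inv_le_one₀ (by simp [zero_lt_iff, hy])).1 h2
  have key : ∀ x : K, x ≠ 0 → Q.1 x = Q.1 t ^ (P.ord x) := by
    intro x hx
    have h1 : P.1 (x * t ^ (-P.ord x)) = 1 := by
      rw [map_mul, map_zpow₀, ht, val_eq_exp_neg_ord P hx, ← exp_zsmul, ← exp_add]
      simp
    have h2 := hunit _ (mul_ne_zero hx (zpow_ne_zero _ ht0)) h1
    rw [map_mul, map_zpow₀, zpow_neg] at h2
    exact (mul_inv_eq_one₀ (zpow_ne_zero _ (by simp [ht0]))).1 h2
  have hQt' : Q.1 t = exp (-1) := by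
    obtain ⟨s, hs0, hs⟩ := exists_uniformizer Q
    have hks := key s hs0
    rw [hs, val_eq_exp_neg_ord Q ht0, ← exp_zsmul, exp_inj, smul_eq_mul] at hks
    have hd : Q.ord t ∣ 1 := ⟨P.ord s, by linarith⟩
    have hn : 0 ≤ Q.ord t := (val_le_one_iff Q ht0).1 hQt
    rw [val_eq_exp_neg_ord Q ht0, Int.eq_one_of_dvd_one hn hd]
  apply Subtype.ext
  ext x
  rcases eq_or_ne x 0 with rfl | hx
  · simp
  · rw [key x hx, hQt', val_eq_exp_neg_ord P hx, ← exp_zsmul]; simp

theorem place_ext {P Q : Place k K} (h : ∀ x : K, P.1 x ≤ 1 ↔ Q.1 x ≤ 1) : P = Q :=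
  eq_of_O_le fun x hx => (h x).1 hx

theorem exists_val_le_one_lt {P Q : Place k K} (h : P ≠ Q) :
    ∃ x : K, P.1 x ≤ 1 ∧ 1 < Q.1 x := by
  by_contra! hc
  exact h (eq_of_O_le fun x hx => hc x hx)

theorem residue_eq_zero_iff (P : Place k K) (x : P.O) :
    IsLocalRing.residue P.O x = 0 ↔ P.1 (x : K) < 1 := by
  rw [IsLocalRing.residue_eq_zero_iff, IsLocalRing.mem_maximalIdeal, mem_nonunits_iff]
  constructor
  · intro h
    refine lt_of_le_of_ne x.2 fun h1 => h ?_
    have hx0 : (x : K) ≠ 0 := fun h0 => by simp [h0] at h1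
    refine IsUnit.of_mul_eq_one (a := x) ⟨(x : K)⁻¹, ?_⟩ (Subtype.ext (mul_inv_cancel₀ hx0))
    rw [Valuation.mem_valuationSubring_iff, map_inv₀, h1, inv_one]
  · rintro h ⟨u, rfl⟩
    have h2 : P.1 ((u : P.O) : K) * P.1 ((↑(u⁻¹) : P.O) : K) = 1 := by
      rw [← map_mul, ← MulMemClass.coe_mul, Units.mul_inv]; simp
    have h3 : P.1 ((↑(u⁻¹) : P.O) : K) ≤ 1 := (↑(u⁻¹) : P.O).2
    exact absurd h2 (ne_of_lt (lt_of_le_of_lt (mul_le_mul' le_rfl h3) (by rwa [mul_one])))

theorem coe_algebraMap_O (P : Place k K) (c : k) :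
    ((algebraMap k P.O c : P.O) : K) = algebraMap k K c := rfl

theorem coe_smul_O (P : Place k K) (c : k) (x : P.O) :
    ((c • x : P.O) : K) = c • (x : K) := by
  rw [Algebra.smul_def, Algebra.smul_def]; rfl

theorem residue_smul (P : Place k K) (c : k) (x : P.O) :
    IsLocalRing.residue P.O (c • x) = c • IsLocalRing.residue P.O x := by
  rw [Algebra.smul_def, Algebra.smul_def, map_mul]; rfl

/-- The residue map as a `k`-linear map. -/
noncomputable def residueLin (P : Place k K) : P.O →ₗ[k] IsLocalRing.ResidueField P.O where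
  toFun := IsLocalRing.residue P.O
  map_add' := map_add _
  map_smul' := residue_smul P

theorem residueLin_apply (P : Place k K) (x : P.O) :
    residueLin P x = IsLocalRing.residue P.O x := rfl

theorem residueLin_surjective (P : Place k K) : Function.Surjective (residueLin P) :=
  IsLocalRing.residue_surjective

end Groth.Agent.FunField
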