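import Groth.Agent.Lib.FunField.Plucker
import Mathlib.Data.Fintype.Fin
import Mathlib.Tactic.Linarith

/-! # Weights of limit linear series on chains -/

namespace Groth.Agent.FunField

open WithZero FunFld
open scoped Multiplicative

section components

variable {k K : Type*} [Field k] [Field K] [Algebra k K] [IsAlgClosed k] [CharZero k]
  {D : Divisor k K} {d r : ℕ} {V : Submodule k K}

theorem plucker_one (hK : IsFunctionField k K) (hg : genus k K = 0) (hD : D.deg = d)
    (hV : V ≤ FunFld.L D) (hr : Module.finrank k V = r + 1) (P : Place k K) :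
    2 * wSum V D P d + r * (r + 1) ≤ 2 * (r + 1) * d := by
  classical
  have := plucker_bound hK hg hD hV hr {P}
  simp at this
  zify; linarith

theorem plucker_two (hK : IsFunctionField k K) (hg : genus k K = 0) (hD : D.deg = d)
    (hV : V ≤ FunFld.L D) (hr : Module.finrank k V = r + 1) {P Q : Place k K} (hPQ : P ≠ Q) :
    2 * wSum V D P d + 2 * wSum V D Q d ≤ 2 * (r + 1) * d := by
  classical
  have := plucker_bound hK hg hD hV hr {P, Q}
  rw [Finset.sum_pair hPQ, Finset.card_pair hPQ] at this
  zify; push_cast at this; linarith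

theorem plucker_three (hK : IsFunctionField k K) (hg : genus k K = 0) (hD : D.deg = d)
    (hV : V ≤ FunFld.L D) (hr : Module.finrank k V = r + 1) {P Q R : Place k K} (h1 : P ≠ Q)
    (h2 : P ≠ R) (h3 : Q ≠ R) :
    2 * wSum V D P d + 2 * wSum V D Q d + 2 * wSum V D R d ≤ 2 * (r + 1) * d + r * (r + 1) := by
  classical
  have := plucker_bound hK hg hD hV hr {P, Q, R}
  have hm : P ∉ ({Q, R} : Finset (Place k K)) := by simp [h1, h2]
  rw [Finset.sum_insert hm, Finset.sum_pair h3, Finset.card_insert_of_notMem hm,
    Finset.card_pair h3] at this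
  zify; push_cast at this; linarith

theorem plucker_four (hK : IsFunctionField k K) (hg : genus k K = 0) (hD : D.deg = d)
    (hV : V ≤ FunFld.L D) (hr : Module.finrank k V = r + 1) {P Q R S : Place k K} (h1 : P ≠ Q)
    (h2 : P ≠ R) (h3 : P ≠ S) (h4 : Q ≠ R) (h5 : Q ≠ S) (h6 : R ≠ S) :
    2 * wSum V D P d + 2 * wSum V D Q d + 2 * wSum V D R d + 2 * wSum V D S d ≤
      2 * (r + 1) * d + 2 * (r * (r + 1)) := by
  classical
  have := plucker_bound hK hg hD hV hr {P, Q, R, S}
  have hm : P ∉ ({Q, R, S} : Finset (Place k K)) := by simp [h1, h2, h3]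
  have hm' : Q ∉ ({R, S} : Finset (Place k K)) := by simp [h4, h5]
  rw [Finset.sum_insert hm, Finset.sum_insert hm', Finset.sum_pair h6,
    Finset.card_insert_of_notMem hm, Finset.card_insert_of_notMem hm', Finset.card_pair h6] at this
  zify; push_cast at this; linarith

end components

section chain

variable {k : Type*} [Field k] [IsAlgClosed k] [CharZero k]
  {N : ℕ} {Z : Fin (N + 1) → Type*} [∀ i, Field (Z i)] [∀ i, Algebra k (Z i)]
  (hZ : ∀ i, IsFunctionField k (Z i)) {d r : ℕ} {D : ∀ i, Divisor k (Z i)}
  (hD : ∀ i, (D i).deg = d) {V : ∀ i, Submodule k (Z i)} (hV : ∀ i, V i ≤ FunFld.L (D i))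
  (hVr : ∀ i, Module.finrank k ↥(V i) = r + 1) {A B : ∀ i, Place k (Z i)}
  (hcomp : ∀ (l : Fin N) (m : ℕ), m ≤ d + 1 →
    hDim (V l.castSucc) (D l.castSucc) (B l.castSucc) (m : ℤ) +
      hDim (V l.succ) (D l.succ) (A l.succ) ((d : ℤ) + 1 - m) = r + 1)

include hcomp in
omit [IsAlgClosed k] [CharZero k] in
theorem node_eq (l : Fin N) :
    wSum (V l.castSucc) (D l.castSucc) (B l.castSucc) d +
      wSum (V l.succ) (D l.succ) (A l.succ) d = (r + 1) * d :=
  wSum_comp (hcomp l)

section cusps

variable (hrat : ∀ i, genus k (Z i) = 0)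
  (hAB : ∀ i : Fin (N + 1), 0 < (i : ℕ) → (i : ℕ) < N → A i ≠ B i)
  {T : Finset (Fin (N + 1))} {Q : ∀ i, Place k (Z i)}
  (hQA : ∀ i ∈ T, 0 < (i : ℕ) → Q i ≠ A i) (hQB : ∀ i ∈ T, (i : ℕ) < N → Q i ≠ B i)
  (hcusp : ∀ i ∈ T, r ≤ hDim (V i) (D i) (Q i) 2)

include hZ hD hV hVr hrat hQB hcusp in
theorem right_end {i : Fin (N + 1)} (hiN : (i : ℕ) < N) :
    2 * wSum (V i) (D i) (B i) d + r * (r + 1) + (if i ∈ T then 2 * r else 0) ≤
      2 * (r + 1) * d := by
  split
  · rename_i hi
    have := cusp_wSum_ge (hZ i) (hV i) (hD i) (hVr i) (Q i) (hcusp i hi)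
    have := plucker_two (hZ i) (hrat i) (hD i) (hV i) (hVr i) (hQB i hi hiN)
    omega
  · have := plucker_one (hZ i) (hrat i) (hD i) (hV i) (hVr i) (B i)
    omega

include hZ hD hV hVr hrat hQA hcusp in
theorem left_end {i : Fin (N + 1)} (hi0 : 0 < (i : ℕ)) :
    2 * wSum (V i) (D i) (A i) d + r * (r + 1) + (if i ∈ T then 2 * r else 0) ≤
      2 * (r + 1) * d := by
  split
  · rename_i hi
    have := cusp_wSum_ge (hZ i) (hV i) (hD i) (hVr i) (Q i) (hcusp i hi)
    have := plucker_two (hZ i) (hrat i) (hD i) (hV i) (hVr i) (hQA i hi hi0)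
    omega
  · have := plucker_one (hZ i) (hrat i) (hD i) (hV i) (hVr i) (A i)
    omega

include hZ hD hV hVr hrat hAB hQA hQB hcusp in
theorem middle {i : Fin (N + 1)} (hi0 : 0 < (i : ℕ)) (hiN : (i : ℕ) < N) :
    2 * wSum (V i) (D i) (A i) d + 2 * wSum (V i) (D i) (B i) d +
      (if i ∈ T then 2 * r else 0) ≤ 2 * (r + 1) * d := by
  split
  · rename_i hi
    have := cusp_wSum_ge (hZ i) (hV i) (hD i) (hVr i) (Q i) (hcusp i hi)
    have := plucker_three (hZ i) (hrat i) (hD i) (hV i) (hVr i) (hQA i hi hi0) (hQB i hi hiN)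
      (hAB i hi0 hiN)
    omega
  · have := plucker_two (hZ i) (hrat i) (hD i) (hV i) (hVr i) (hAB i hi0 hiN)
    omega

include hZ hD hV hVr hcomp hrat hAB hQA hQB hcusp in
theorem lower_A : ∀ i : Fin (N + 1), 0 < (i : ℕ) →
    r * (r + 1) + 2 * r * (T.filter (· < i)).card ≤ 2 * wSum (V i) (D i) (A i) d := by
  classical
  intro i
  induction i using Fin.induction with
  | zero => intro h; simp at h
  | succ l ih =>
    intro _
    have he := node_eq hcomp l
    have hcard : (T.filter (· < l.succ)).card =
        (T.filter (· < l.castSucc)).card + (if l.castSucc ∈ T then 1 else 0) := by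
      split
      · rename_i hi
        rw [← Finset.card_insert_of_notMem (a := l.castSucc) (by simp)]
        congr 1; ext x
        simp only [Finset.mem_filter, Finset.mem_insert, Fin.lt_def, Fin.val_succ, Fin.val_castSucc,
          Fin.ext_iff]
        constructor
        · rintro ⟨hx, hx'⟩
          rcases eq_or_ne (x : ℕ) (l : ℕ) with e | e
          · exact Or.inl e
          · exact Or.inr ⟨hx, by omega⟩
        · rintro (e | ⟨hx, hx'⟩)
          · exact ⟨by rwa [show x = l.castSucc from Fin.ext e], by omega⟩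
          · exact ⟨hx, by omega⟩
      · rename_i hi
        rw [add_zero]
        congr 1; ext x
        simp only [Finset.mem_filter, Fin.lt_def, Fin.val_succ, Fin.val_castSucc]
        refine and_congr_right fun hx => ⟨fun h => ?_, fun h => by omega⟩
        have : (x : ℕ) ≠ (l : ℕ) := fun e => hi (by rwa [show l.castSucc = x from Fin.ext e.symm])
        omega
    rw [hcard]
    rcases Nat.eq_zero_or_pos (l : ℕ) with h0 | h0
    · have := right_end hZ hD hV hVr hrat hQB hcusp (i := l.castSucc) (by simp)
      have h00 : (T.filter (· < l.castSucc)).card = 0 := by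
        rw [Finset.card_eq_zero, Finset.filter_eq_empty_iff]
        intro x _; simp [Fin.lt_def, h0]
      rw [h00]
      split at this <;> simp_all <;> nlinarith
    · have := ih (by simpa using h0)
      have := middle hZ hD hV hVr hrat hAB hQA hQB hcusp (i := l.castSucc) (by simpa using h0)
        (by simp)
      split <;> simp_all <;> nlinarith

include hZ hD hV hVr hcomp hrat hAB hQA hQB hcusp in
theorem lower_B : ∀ i : Fin (N + 1), (i : ℕ) < N →
    r * (r + 1) + 2 * r * (T.filter (i < ·)).card ≤ 2 * wSum (V i) (D i) (B i) d := by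
  classical
  intro i
  induction i using Fin.reverseInduction with
  | last => intro h; simp at h
  | cast l ih =>
    intro _
    have he := node_eq hcomp l
    have hcard : (T.filter (l.castSucc < ·)).card =
        (T.filter (l.succ < ·)).card + (if l.succ ∈ T then 1 else 0) := by
      split
      · rename_i hi
        rw [← Finset.card_insert_of_notMem (a := l.succ) (by simp)]
        congr 1; ext x
        simp only [Finset.mem_filter, Finset.mem_insert, Fin.lt_def, Fin.val_succ, Fin.val_castSucc,
          Fin.ext_iff]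
        constructor
        · rintro ⟨hx, hx'⟩
          rcases eq_or_ne (x : ℕ) ((l : ℕ) + 1) with e | e
          · exact Or.inl e
          · exact Or.inr ⟨hx, by omega⟩
        · rintro (e | ⟨hx, hx'⟩)
          · exact ⟨by rwa [show x = l.succ from Fin.ext e], by omega⟩
          · exact ⟨hx, by omega⟩
      · rename_i hi
        rw [add_zero]
        congr 1; ext x
        simp only [Finset.mem_filter, Fin.lt_def, Fin.val_succ, Fin.val_castSucc]
        refine and_congr_right fun hx => ⟨fun h => ?_, fun h => by omega⟩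
        have : (x : ℕ) ≠ (l : ℕ) + 1 := fun e => hi (by rwa [show l.succ = x from Fin.ext e.symm])
        omega
    rw [hcard]
    rcases eq_or_ne ((l : ℕ) + 1) N with h0 | h0
    · have := left_end hZ hD hV hVr hrat hQA hcusp (i := l.succ) (by simp)
      have h00 : (T.filter (l.succ < ·)).card = 0 := by
        rw [Finset.card_eq_zero, Finset.filter_eq_empty_iff]
        intro x _; simp [Fin.lt_def]; omega
      rw [h00]
      split at this <;> simp_all <;> nlinarith
    · have hlt : ((l.succ : Fin (N + 1)) : ℕ) < N := by simp; omega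
      have := ih hlt
      have := middle hZ hD hV hVr hrat hAB hQA hQB hcusp (i := l.succ) (by simp) hlt
      split <;> simp_all <;> nlinarith

omit [IsAlgClosed k] [CharZero k] [∀ i, Field (Z i)] [∀ i, Algebra k (Z i)] in
theorem card_erase_split (i : Fin (N + 1)) :
    (T.filter (· < i)).card + (T.filter (i < ·)).card = (T.erase i).card := by
  classical
  rw [← Finset.card_union_of_disjoint]
  · congr 1; ext x
    simp only [Finset.mem_union, Finset.mem_filter, Finset.mem_erase]
    rw [ne_iff_lt_or_gt]; tauto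
  · rw [Finset.disjoint_filter]
    intro x _ h1 h2; exact lt_asymm h1 h2

end cusps

section tail

variable (hn : 0 < N) (hrat : ∀ l : Fin (N + 1), 0 < (l : ℕ) → (l : ℕ) < N → genus k (Z l) = 0)
  (hAB : ∀ l : Fin (N + 1), 0 < (l : ℕ) → (l : ℕ) < N → A l ≠ B l) {c : ℕ}
  (hc : wSum (V 0) (D 0) (B 0) d + c + r * (r + 1) ≤ (r + 1) * d + r * (r + 1) / 2)

include hZ hD hV hVr hcomp hAB hc in
omit [CharZero k] in
theorem down_chain : ∀ l : Fin (N + 1), 0 < (l : ℕ) →
    2 * c + r * (r + 1) ≤ 2 * wSum (V l) (D l) (A l) d := by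
  intro i
  induction i using Fin.induction with
  | zero => intro h; simp at h
  | succ l ih =>
    intro _
    have he := node_eq hcomp l
    rcases Nat.eq_zero_or_pos (l : ℕ) with h0 | h0
    · have e : l.castSucc = (0 : Fin (N + 1)) := Fin.ext h0
      have hev : Even (r * (r + 1)) := Nat.even_mul_succ_self r
      obtain ⟨t, ht⟩ := hev
      have key : 2 * wSum (V l.castSucc) (D l.castSucc) (B l.castSucc) d + 2 * c + r * (r + 1) ≤
          2 * ((r + 1) * d) := by
        rw [e]; omega
      omega
    · have := ih (by simpa using h0)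
      have := wSum_add_le (ff (hZ l.castSucc)) (hV l.castSucc) (hD l.castSucc)
        (hAB l.castSucc (by simpa using h0) (by simp))
      rw [hVr l.castSucc] at this
      omega

include hZ hD hV hVr hcomp hAB in
omit [CharZero k] in
theorem pos_genus_B (hpos : 0 < genus k (Z (Fin.last N))) : ∀ l : Fin (N + 1), (l : ℕ) < N →
    r * (r + 1) + 2 * r ≤ 2 * wSum (V l) (D l) (B l) d := by
  intro i
  induction i using Fin.reverseInduction with
  | last => intro h; simp at h
  | cast l ih =>
    intro _
    have he := node_eq hcomp l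
    rcases eq_or_ne ((l : ℕ) + 1) N with h0 | h0
    · have e : l.succ = Fin.last N := Fin.ext (by simpa using h0)
      have key : 2 * wSum (V l.succ) (D l.succ) (A l.succ) d + r * (r + 1) + 2 * r ≤
          2 * ((r + 1) * d) := by
        rw [e]
        exact wSum_le_pos_genus (hZ _) hpos (hV _) (hD _) (hVr _) _
      omega
    · have hlt : ((l.succ : Fin (N + 1)) : ℕ) < N := by simp; omega
      have := ih hlt
      have := wSum_add_le (ff (hZ l.succ)) (hV l.succ) (hD l.succ) (hAB l.succ (by simp) hlt)
      rw [hVr l.succ] at this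
      omega

end tail

end chain

end Groth.Agent.FunField
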