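import Groth.Agent.Lib.FunField.Genus
import Mathlib.Combinatorics.Additive.CauchyDavenport

/-! # Clifford's inequality via vanishing orders at one place -/

namespace Groth.Agent.FunField

open WithZero FunFld
open scoped Multiplicative Pointwise

variable {k K : Type*} [Field k] [Field K] [Algebra k K] [IsAlgClosed k]

/-- The vanishing orders of `L(D)` at `P`. -/
noncomputable def vals (D : Divisor k K) (P : Place k K) : Finset ℕ :=
  (Finset.range (D.deg.toNat + 1)).filter fun n =>
    hDim (FunFld.L D) D P ((n : ℤ) + 1) < hDim (FunFld.L D) D P (n : ℤ)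

theorem card_vals (h : FF k K) (D : Divisor k K) (P : Place k K) :
    (vals D P).card = ell D := by
  have key : ∀ N : ℕ, ((Finset.range N).filter fun n : ℕ =>
      hDim (FunFld.L D) D P ((n : ℤ) + 1) < hDim (FunFld.L D) D P (n : ℤ)).card +
        hDim (FunFld.L D) D P (N : ℤ) = ell D := by
    intro N
    induction N with
    | zero => simp [hDim_zero (le_refl (FunFld.L D)), ell]
    | succ N ih =>
      have h1 := hDim_le_add_nat h (le_refl (FunFld.L D)) P (N : ℤ)
      have h2 := hDim_anti h (le_refl (FunFld.L D)) P (show (N : ℤ) ≤ N + 1 by omega)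
      rw [Finset.range_add_one, Finset.filter_insert, Nat.cast_succ]
      split
      · rw [Finset.card_insert_of_notMem (by simp)]; omega
      · omega
  have := key (D.deg.toNat + 1)
  rw [hDim_eq_zero h P (by omega), add_zero] at this
  exact this

theorem mem_vals_iff (h : FF k K) {D : Divisor k K} {P : Place k K} {n : ℕ} :
    n ∈ vals D P ↔ ∃ f : K, f ≠ 0 ∧ f ∈ FunFld.L D ∧ P.ord f + D P = n := by
  haveI := finiteDimensional_L h D
  constructor
  · intro hn
    have hlt := (Finset.mem_filter.1 hn).2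
    have hnle : ¬ FunFld.L D ⊓ FunFld.L (D - Finsupp.single P (n : ℤ)) ≤
        FunFld.L D ⊓ FunFld.L (D - Finsupp.single P ((n : ℤ) + 1)) := fun hle => by
      haveI := Submodule.finiteDimensional_inf_left (FunFld.L D)
        (FunFld.L (D - Finsupp.single P ((n : ℤ) + 1)))
      have := Submodule.finrank_mono hle
      unfold hDim at hlt
      omega
    obtain ⟨f, ⟨hf, hfn⟩, hf'⟩ := SetLike.not_le_iff_exists.1 hnle
    have hf0 : f ≠ 0 := fun e => hf' (e ▸ zero_mem _)
    refine ⟨f, hf0, hf, ?_⟩
    have h1 := (mem_L_iff_ord hf0).1 hfn P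
    rw [Finsupp.sub_apply, Finsupp.single_eq_same] at h1
    by_contra h2
    refine hf' ⟨hf, (mem_L_iff_ord hf0).2 fun Q => ?_⟩
    have h3 := (mem_L_iff_ord hf0).1 hfn Q
    rcases eq_or_ne Q P with rfl | hQ
    · simp; omega
    · simpa [Finsupp.single_eq_of_ne hQ] using h3
  · rintro ⟨f, hf0, hf, he⟩
    have hfn : f ∈ FunFld.L (D - Finsupp.single P (n : ℤ)) := (mem_L_iff_ord hf0).2 fun Q => by
      have h3 := (mem_L_iff_ord hf0).1 hf Q
      rcases eq_or_ne Q P with rfl | hQ
      · simp; omega
      · simpa [Finsupp.single_eq_of_ne hQ] using h3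
    refine Finset.mem_filter.2 ⟨Finset.mem_range.2 ?_, ?_⟩
    · by_contra hc
      rw [L_eq_bot_of_deg_neg h (by rw [deg_sub_single h]; omega), Submodule.mem_bot] at hfn
      exact hf0 hfn
    · haveI := Submodule.finiteDimensional_inf_left (FunFld.L D)
        (FunFld.L (D - Finsupp.single P (n : ℤ)))
      refine Submodule.finrank_lt_finrank_of_lt (lt_of_le_of_ne
        (inf_le_inf_left _ (L_mono (sub_le_sub_left (single_le_single P (by omega)) D))) fun heq => ?_)
      have hmem : f ∈ FunFld.L D ⊓ FunFld.L (D - Finsupp.single P (n : ℤ)) := ⟨hf, hfn⟩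
      rw [← heq] at hmem
      have := (mem_L_iff_ord hf0).1 hmem.2 P
      rw [Finsupp.sub_apply, Finsupp.single_eq_same] at this
      omega

theorem ell_add_ell_le (h : FF k K) {D E : Divisor k K} (hD : 0 < ell D) (hE : 0 < ell E) :
    ell D + ell E ≤ ell (D + E) + 1 := by
  obtain ⟨P⟩ := nonempty_place h
  rw [← card_vals h D P, ← card_vals h E P, ← card_vals h (D + E) P] at *
  have hne1 : (vals D P).Nonempty := Finset.card_pos.1 hD
  have hne2 : (vals E P).Nonempty := Finset.card_pos.1 hE
  have h1 := cauchy_davenport_add_of_linearOrder_isCancelAdd hne1 hne2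
  have h2 : vals D P + vals E P ⊆ vals (D + E) P := by
    intro z hz
    obtain ⟨a, ha, b, hb, rfl⟩ := Finset.mem_add.1 hz
    obtain ⟨f, hf0, hf, hfo⟩ := (mem_vals_iff h).1 ha
    obtain ⟨g, hg0, hg, hgo⟩ := (mem_vals_iff h).1 hb
    refine (mem_vals_iff h).2 ⟨f * g, mul_ne_zero hf0 hg0, fun Q => ?_, ?_⟩
    · rw [map_mul, Finsupp.coe_add, Pi.add_apply, exp_add]
      exact mul_le_mul' (hf Q) (hg Q)
    · rw [ord_mul P hf0 hg0, Finsupp.coe_add, Pi.add_apply]; push_cast; omega
  have := Finset.card_le_card h2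
  omega

theorem clifford (hK : IsFunctionField k K) {D : Divisor k K} (h0 : 0 ≤ D.deg)
    (h2 : D.deg ≤ 2 * genus k K) : 2 * (ell D : ℤ) ≤ D.deg + 2 := by
  obtain ⟨C, hC⟩ := exists_isCanonical hK
  have hrr := riemann_roch hK hC D
  rcases Nat.eq_zero_or_pos (ell D) with e | e
  · omega
  rcases Nat.eq_zero_or_pos (ell (C - D)) with e' | e'
  · omega
  have := ell_add_ell_le (ff hK) e e'
  rw [add_sub_cancel, (isCanonical_deg hK hC).1] at this
  omega

end Groth.Agent.FunField
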