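import Groth.Agent.Lib.FunField.Ext
import Mathlib.RingTheory.TensorProduct.Quotient
import Mathlib.RingTheory.Unramified.Field
import Mathlib.RingTheory.Flat.Basic
import Mathlib.RingTheory.IntegralClosure.IsIntegralClosure.Basic

/-! # Constant field extensions: `O_P[k']` against the integral closure -/

namespace Groth.Agent.FunField

open WithZero FunFld
open scoped Multiplicative TensorProduct

attribute [local instance high] Algebra.toModule

section Reduced

variable (k A B : Type*) [Field k] [Field A] [Field B] [Algebra k A] [Algebra k B]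

theorem isReduced_tensor_of_separable_right [FiniteDimensional k B] [Algebra.IsSeparable k B] :
    IsReduced (A ⊗[k] B) := by
  haveI : Algebra.FormallyUnramified k B := Algebra.FormallyUnramified.of_isSeparable k B
  exact Algebra.FormallyUnramified.isReduced_of_field A (A ⊗[k] B)

theorem isReduced_tensor_of_separable_left [FiniteDimensional k A] [Algebra.IsSeparable k A] :
    IsReduced (A ⊗[k] B) := by
  haveI := isReduced_tensor_of_separable_right k B A
  exact isReduced_of_injective (Algebra.TensorProduct.comm k A B).toRingHom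
    (Algebra.TensorProduct.comm k A B).injective

end Reduced

variable {k k' K K' : Type*} [Field k] [Field k'] [Field K] [Field K']
  [Algebra k k'] [Algebra k K] [Algebra K K'] [Algebra k' K'] [Algebra k K']
  [IsScalarTower k k' K'] [IsScalarTower k K K']

local notation "pm" => Algebra.TensorProduct.productMap
  (IsScalarTower.toAlgHom k k' K') (IsScalarTower.toAlgHom k K K')

theorem pm_tmul (a : k') (x : K) : pm (a ⊗ₜ[k] x) = algebraMap k' K' a * algebraMap K K' x := rfl

/-- `x ↦` the inclusion `O_P → K`. -/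
noncomputable def inclO (P : Place k K) : P.O →ₐ[k] K where
  toRingHom := P.O.subtype
  commutes' c := coe_algebraMap_O P c

/-- `k' ⊗ O_P → K'`. -/
noncomputable def scalarO (P : Place k K) : k' ⊗[k] P.O →ₐ[k] K' :=
  (pm).comp (Algebra.TensorProduct.map (AlgHom.id k k') (inclO P))

theorem scalarO_tmul (P : Place k K) (a : k') (x : P.O) :
    scalarO P (a ⊗ₜ[k] x) = algebraMap k' K' a * algebraMap K K' (x : K) := rfl

theorem finite_of_bijective [FiniteDimensional k k'] (h : Function.Bijective pm) :
    FiniteDimensional K K' := by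
  classical
  let b := Module.finBasis k k'
  refine ⟨⟨Finset.univ.image fun i => algebraMap k' K' (b i), eq_top_iff.2 fun z _ => ?_⟩⟩
  obtain ⟨u, hu⟩ := h.2 z
  rw [← hu]
  clear hu
  induction u using TensorProduct.induction_on with
  | zero => rw [map_zero]; exact zero_mem _
  | add u v hu hv => rw [map_add]; exact add_mem hu hv
  | tmul a x =>
    have e : algebraMap k' K' a = ∑ i, b.repr a i • algebraMap k' K' (b i) := by
      conv_lhs => rw [← b.sum_repr a]
      simp only [map_sum, Algebra.smul_def, map_mul, ← IsScalarTower.algebraMap_apply]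
    rw [pm_tmul, e, Finset.sum_mul]
    refine Submodule.sum_mem _ fun i _ => ?_
    have e2 : b.repr a i • algebraMap k' K' (b i) * algebraMap K K' x =
        (algebraMap k K (b.repr a i) * x) • algebraMap k' K' (b i) := by
      rw [Algebra.smul_def, Algebra.smul_def, map_mul, ← IsScalarTower.algebraMap_apply]; ring
    rw [e2]
    exact Submodule.smul_mem _ _ (Submodule.subset_span (by simp))

theorem scalarO_injective (h : Function.Bijective pm) (P : Place k K) :
    Function.Injective (scalarO (K' := K') (k' := k') P) :=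
  h.1.comp (Module.Flat.lTensor_preserves_injective_linearMap (inclO P).toLinearMap
    (fun _ _ e => Subtype.ext e))

/-- `t ^ M z ∈ O_P[k']` for some `M`. -/
theorem exists_pow_mul_mem (h : Function.Bijective pm) (P : Place k K) {t : K}
    (ht : P.1 t = exp (-1)) (z : K') :
    ∃ M : ℕ, algebraMap K K' t ^ M * z ∈ (scalarO (k' := k') P).range := by
  have ht1 : P.1 t ≤ 1 := by rw [ht, ← exp_zero, exp_le_exp]; norm_num
  have hTM : ∀ (M : ℕ) (z : K'), z ∈ (scalarO (k' := k') P).range →
      algebraMap K K' t ^ M * z ∈ (scalarO (k' := k') P).range := fun M z hz =>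
    mul_mem (pow_mem (show algebraMap K K' t ∈ (scalarO (k' := k') P).range from
      ⟨(1 : k') ⊗ₜ[k] (⟨t, ht1⟩ : P.O), by
        show scalarO P ((1 : k') ⊗ₜ[k] (⟨t, ht1⟩ : P.O)) = _
        rw [scalarO_tmul, map_one, one_mul]⟩) M) hz
  obtain ⟨u, rfl⟩ := h.2 z
  induction u using TensorProduct.induction_on with
  | zero => exact ⟨0, by rw [map_zero, mul_zero]; exact zero_mem _⟩
  | add u v hu hv =>
    obtain ⟨M, hM⟩ := hu
    obtain ⟨N, hN⟩ := hv
    refine ⟨M + N, ?_⟩
    rw [map_add, mul_add, pow_add]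
    refine add_mem ?_ ?_
    · rw [mul_comm (_ ^ M), mul_assoc]; exact hTM N _ hM
    · rw [mul_assoc]; exact hTM M _ hN
  | tmul a x =>
    rcases eq_or_ne x 0 with rfl | hx
    · exact ⟨0, by rw [TensorProduct.tmul_zero, map_zero, mul_zero]; exact zero_mem _⟩
    refine ⟨(-P.ord x).toNat, ⟨a ⊗ₜ[k] ⟨t ^ (-P.ord x).toNat * x, ?_⟩, ?_⟩⟩
    · rw [mem_O_iff, map_mul, map_pow, ht, val_eq_exp_neg_ord P hx, ← exp_nsmul, ← exp_add,
        ← exp_zero, exp_le_exp, nsmul_eq_mul]
      omega
    · show scalarO P _ = _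
      rw [scalarO_tmul, pm_tmul, map_mul, map_pow]; ring

/-- Reduction modulo the maximal ideal. -/
noncomputable def resO (P : Place k K) : P.O →ₐ[k] IsLocalRing.ResidueField P.O where
  toRingHom := IsLocalRing.residue P.O
  commutes' _ := rfl

/-- `k' ⊗ O_P → k' ⊗ F_P`. -/
noncomputable def resTensor (P : Place k K) :
    k' ⊗[k] P.O →ₐ[k] k' ⊗[k] IsLocalRing.ResidueField P.O :=
  Algebra.TensorProduct.map (AlgHom.id k k') (resO P)

omit [Field K'] [Algebra K K'] [Algebra k' K'] [Algebra k K'] [IsScalarTower k k' K']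
  [IsScalarTower k K K'] in
theorem exists_eq_mul_of_resTensor (P : Place k K) {tO : P.O} (ht : P.1 (tO : K) = exp (-1))
    (a : k' ⊗[k] P.O) (ha : resTensor P a = 0) : ∃ b, a = (1 ⊗ₜ[k] tO) * b := by
  have h1 : RingHom.ker (resTensor (k' := k') P) =
      (RingHom.ker (resO P)).map Algebra.TensorProduct.includeRight :=
    Algebra.TensorProduct.lTensor_ker (resO P) IsLocalRing.residue_surjective
  have ht0 : (tO : K) ≠ 0 := fun h => by rw [h, map_zero] at ht; exact exp_ne_zero ht.symm
  have h2 : RingHom.ker (resO P) ≤ Ideal.span {tO} := by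
    intro x hx
    have hx1 : P.1 (x : K) < 1 := (residue_eq_zero_iff P x).1 hx
    refine Ideal.mem_span_singleton'.2
      ⟨⟨(x : K) / (tO : K), ?_⟩, Subtype.ext (div_mul_cancel₀ _ ht0)⟩
    rw [mem_O_iff, map_div₀, ht, div_le_iff₀ exp_pos, one_mul]
    exact (lt_one_iff_le _).1 hx1
  have ha' : a ∈ RingHom.ker (resTensor (k' := k') P) := ha
  rw [h1] at ha'
  have h3 := Ideal.map_mono h2 ha'
  rw [Ideal.map_span, Set.image_singleton] at h3
  obtain ⟨b, hb⟩ := Ideal.mem_span_singleton'.1 h3
  exact ⟨b, by rw [← hb, mul_comm]; rfl⟩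

section Integral

variable [FiniteDimensional k k'] (P : Place k K) [Algebra P.O K'] [IsScalarTower P.O K K']

theorem algebraMap_O_apply (a : P.O) : algebraMap P.O K' a = algebraMap K K' (a : K) :=
  IsScalarTower.algebraMap_apply P.O K K' a

theorem range_scalarO :
    (Algebra.adjoin P.O (Set.range (algebraMap k' K')) : Set K') =
      ((scalarO (k' := k') (K' := K') P).range : Set K') := by
  refine Set.Subset.antisymm (fun z hz => ?_) ?_
  · induction hz using Algebra.adjoin_induction with
    | mem z hz =>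
      obtain ⟨a, rfl⟩ := hz
      refine ⟨a ⊗ₜ[k] 1, ?_⟩
      show scalarO P _ = _
      rw [scalarO_tmul, OneMemClass.coe_one, map_one, mul_one]
    | algebraMap a =>
      refine ⟨1 ⊗ₜ[k] a, ?_⟩
      show scalarO P _ = _
      rw [scalarO_tmul, map_one, one_mul, algebraMap_O_apply P]
    | add x y _ _ hx hy => exact add_mem hx hy
    | mul x y _ _ hx hy => exact mul_mem hx hy
  · rintro _ ⟨u, rfl⟩
    show scalarO P u ∈ _
    induction u using TensorProduct.induction_on with
    | zero => rw [map_zero]; exact zero_mem _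
    | add u v hu hv => rw [map_add]; exact add_mem hu hv
    | tmul a x =>
      rw [scalarO_tmul, ← algebraMap_O_apply P x]
      exact mul_mem (Algebra.subset_adjoin ⟨a, rfl⟩) (Subalgebra.algebraMap_mem _ x)

theorem isIntegral_scalar (a : k') : IsIntegral P.O (algebraMap k' K' a) := by
  haveI : IsScalarTower k P.O K' := IsScalarTower.of_algebraMap_eq fun c => by
    rw [algebraMap_O_apply P, coe_algebraMap_O, ← IsScalarTower.algebraMap_apply]
  exact ((IsIntegral.of_finite k a).map (IsScalarTower.toAlgHom k k' K')).tower_top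

theorem adjoin_le_integralClosure :
    Algebra.adjoin P.O (Set.range (algebraMap k' K')) ≤ integralClosure P.O K' :=
  Algebra.adjoin_le (Set.range_subset_iff.2 (isIntegral_scalar P))

/-- The conductor is nonzero. -/
theorem exists_conductor (h : Function.Bijective pm) (hF : FF k K) {t : K}
    (ht : P.1 t = exp (-1)) : ∃ M : ℕ, ∀ z : K', IsIntegral P.O z →
      algebraMap K K' t ^ M * z ∈ Algebra.adjoin P.O (Set.range (algebraMap k' K')) := by
  classical
  haveI := finite_of_bijective h
  obtain ⟨S, hS⟩ := (finite_integralClosure (K' := K') hF P).fg_top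
  have hT : algebraMap K K' t ∈ Algebra.adjoin P.O (Set.range (algebraMap k' K')) := by
    rw [← algebraMap_O_apply P ⟨t, by rw [mem_O_iff, ht, ← exp_zero, exp_le_exp]; norm_num⟩]
    exact Subalgebra.algebraMap_mem _ _
  choose M hM using fun z : integralClosure P.O K' => exists_pow_mul_mem h P ht (z : K')
  refine ⟨S.sup M, fun z hz => ?_⟩
  have hzS : (⟨z, hz⟩ : integralClosure P.O K') ∈ Submodule.span P.O (S : Set _) := by
    rw [hS]; trivial
  suffices ∀ w ∈ Submodule.span P.O (S : Set (integralClosure P.O K')),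
      algebraMap K K' t ^ S.sup M * (w : K') ∈
        Algebra.adjoin P.O (Set.range (algebraMap k' K')) from this _ hzS
  intro w hw
  induction hw using Submodule.span_induction with
  | mem w hw =>
    obtain ⟨j, hj⟩ := Nat.exists_eq_add_of_le (Finset.le_sup (f := M) hw)
    rw [hj, pow_add, mul_comm (_ ^ M w), mul_assoc]
    refine mul_mem (pow_mem hT j) ?_
    rw [← SetLike.mem_coe, range_scalarO P]
    exact hM w
  | zero => rw [ZeroMemClass.coe_zero, mul_zero]; exact zero_mem _
  | add x y _ _ hx hy => rw [AddMemClass.coe_add, mul_add]; exact add_mem hx hy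
  | smul a x _ hx =>
    rw [Subalgebra.coe_smul, Algebra.smul_def, mul_left_comm]
    exact mul_mem (Subalgebra.algebraMap_mem _ a) hx

/-- If `k' ⊗ F_P` is reduced then `O_P[k']` is integrally closed. -/
theorem integralClosure_eq_adjoin (h : Function.Bijective pm) (hF : FF k K)
    [IsReduced (k' ⊗[k] IsLocalRing.ResidueField P.O)] :
    (integralClosure P.O K') = Algebra.adjoin P.O (Set.range (algebraMap k' K')) := by
  refine le_antisymm (fun z hz => ?_) (adjoin_le_integralClosure P)
  obtain ⟨t, ht0, ht⟩ := exists_uniformizer P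
  obtain ⟨M, hM⟩ := exists_conductor P h hF ht
  set T := algebraMap K K' t
  have hT0 : T ≠ 0 := by simpa [T] using ht0
  let tO : P.O := ⟨t, by rw [mem_O_iff, ht, ← exp_zero, exp_le_exp]; norm_num⟩
  let τ : k' ⊗[k] P.O := 1 ⊗ₜ[k] tO
  have hτ : scalarO (K' := K') P τ = T := by
    simp only [τ]
    rw [scalarO_tmul, map_one, one_mul]
  let π : k' ⊗[k] P.O →ₐ[k] k' ⊗[k] IsLocalRing.ResidueField P.O := resTensor P
  have hker := exists_eq_mul_of_resTensor (k' := k') P (tO := tO) ht
  have hπτ : π τ = 0 := by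
    show (1 : k') ⊗ₜ[k] resO P tO = 0
    have : resO P tO = 0 := (residue_eq_zero_iff P tO).2 (by
      show P.1 t < 1
      rw [ht, ← exp_zero, exp_lt_exp]; norm_num)
    rw [this, TensorProduct.tmul_zero]
  have hmem : ∀ w : K', w ∈ Algebra.adjoin P.O (Set.range (algebraMap k' K')) →
      ∃ a, scalarO (k' := k') P a = w := fun w hw => by
    rw [← SetLike.mem_coe, range_scalarO P] at hw
    exact hw
  suffices ∀ n, T ^ n * z ∈ Algebra.adjoin P.O (Set.range (algebraMap k' K')) →
      z ∈ Algebra.adjoin P.O (Set.range (algebraMap k' K')) from this M (hM z hz)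
  intro n
  induction n with
  | zero => intro h0; rwa [pow_zero, one_mul] at h0
  | succ n ih =>
    intro hn
    apply ih
    obtain ⟨a, ha⟩ := hmem _ hn
    obtain ⟨c, hc⟩ := hmem _ (hM _ (IsIntegral.pow hz (M + 1)))
    have key : a ^ (M + 1) = τ * (τ ^ (n * (M + 1)) * c) := by
      apply scalarO_injective h P
      rw [map_pow, ha, map_mul, map_mul, map_pow, hτ, hc]
      ring
    have hπa : π a = 0 := IsReduced.eq_zero _ ⟨M + 1, by
      rw [← map_pow, key, map_mul, hπτ, zero_mul]⟩
    obtain ⟨b, hb⟩ := hker a hπa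
    rw [← SetLike.mem_coe, range_scalarO P]
    refine ⟨b, mul_left_cancel₀ hT0 ?_⟩
    show T * scalarO P b = T * (T ^ n * z)
    rw [← hτ, ← map_mul, ← hb, ha, hτ]
    ring

/-- Integral elements attain prescribed residues at a place above `P`. -/
theorem exists_integral_near [FiniteDimensional K K'] (hF : FF k K) {Q : Place k K'}
    (z : K') (hz : Q.1 z ≤ 1) (n : ℕ) :
    ∃ w : K', IsIntegral P.O w ∧ Q.1 (w - z) ≤ exp (-(n : ℤ)) ∧
      ∀ Q', IsOver Q' P → Q' ≠ Q → Q'.1 w < 1 := by
  classical
  obtain ⟨w, hw⟩ := weak_approx (insert Q (finite_fibre (K' := K') hF P).toFinset)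
    (fun R => if R = Q then z else 0) (fun R => if R = Q then (n : ℤ) else 1)
  have hQ := hw Q (Finset.mem_insert_self _ _)
  rw [if_pos rfl, if_pos rfl] at hQ
  have hne : ∀ Q', IsOver Q' P → Q' ≠ Q → Q'.1 w < 1 := fun Q' hQ' hne => by
    have h1 := hw Q' (Finset.mem_insert_of_mem ((finite_fibre hF P).mem_toFinset.2 hQ'))
    rw [if_neg hne, if_neg hne, sub_zero] at h1
    exact h1.trans_lt (by rw [← exp_zero, exp_lt_exp]; norm_num)
  refine ⟨w, (isIntegral_iff hF P w).2 fun Q' hQ' => ?_, hQ, hne⟩
  rcases eq_or_ne Q' Q with rfl | h1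
  · have e : w = (w - z) + z := by ring
    rw [e]
    refine (Q'.1.map_add _ _).trans (max_le (hQ.trans ?_) hz)
    rw [← exp_zero, exp_le_exp]; omega
  · exact (hne Q' hQ' h1).le

/-- Unramified when `k' ⊗ F_P` is reduced. -/
theorem isOverWith_one_of_reduced (h : Function.Bijective pm) (hF : FF k K)
    [IsReduced (k' ⊗[k] IsLocalRing.ResidueField P.O)] {Q : Place k K'} (hQ : IsOver Q P) :
    IsOverWith Q P 1 := by
  haveI := finite_of_bijective h
  obtain ⟨e, he⟩ := hQ
  have hpos := isOverWith_pos he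
  suffices e ≤ 1 by obtain rfl : e = 1 := (by omega); exact he
  by_contra hne
  obtain ⟨t, ht0, ht⟩ := exists_uniformizer P
  obtain ⟨s, hs0, hs⟩ := exists_uniformizer Q
  obtain ⟨w, hw, hwQ, hwne⟩ := exists_integral_near P hF s
    (by rw [hs, ← exp_zero, exp_le_exp]; norm_num) 2
  have hwv : Q.1 w = exp (-1) := by
    have e1 : w = (w - s) + s := by ring
    rw [e1, Valuation.map_add_eq_of_lt_right, hs]
    refine hwQ.trans_lt ?_
    rw [hs, exp_lt_exp]; norm_num
  set T := algebraMap K K' t
  have hT0 : T ≠ 0 := by simpa [T] using ht0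
  -- a power of `w` is divisible by `t`
  let s' := (finite_fibre (K' := K') hF P).toFinset
  obtain ⟨N, hN⟩ : ∃ N : ℕ, ∀ R ∈ s', ramIdx R P ≤ N :=
    ⟨s'.sup fun R => ramIdx R P, fun R hR => Finset.le_sup (f := fun R => ramIdx R P) hR⟩
  have hlt : ∀ R, IsOver R P → R.1 w < 1 := fun R hR => by
    rcases eq_or_ne R Q with rfl | h1
    · rw [hwv, ← exp_zero, exp_lt_exp]; norm_num
    · exact hwne R hR h1
  have hwN : IsIntegral P.O (w ^ N / T) := (isIntegral_iff hF P _).2 fun R hR => by
    have hRN := hN R ((finite_fibre hF P).mem_toFinset.2 hR)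
    have hT : R.1 T = exp (-(ramIdx R P : ℤ)) := by
      rw [isOverWith_ramIdx hR t, ht, ← exp_nsmul]; simp
    rw [map_div₀, map_pow, hT, div_le_iff₀ exp_pos, one_mul]
    refine (pow_le_pow_left₀ zero_le ((lt_one_iff_le _).1 (hlt R hR)) N).trans ?_
    rw [← exp_nsmul, exp_le_exp, nsmul_eq_mul]
    omega
  have hA := integralClosure_eq_adjoin (k' := k') P h hF
  have h1 : IsIntegral P.O (w / T) := by
    have hw' : w ∈ Algebra.adjoin P.O (Set.range (algebraMap k' K')) := hA ▸ hw
    have hwN' : w ^ N / T ∈ Algebra.adjoin P.O (Set.range (algebraMap k' K')) := hA ▸ hwN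
    rw [← SetLike.mem_coe, range_scalarO P] at hw' hwN'
    obtain ⟨a, ha⟩ := hw'
    obtain ⟨c, hc⟩ := hwN'
    let tO : P.O := ⟨t, by rw [mem_O_iff, ht, ← exp_zero, exp_le_exp]; norm_num⟩
    let τ : k' ⊗[k] P.O := 1 ⊗ₜ[k] tO
    have hτ : scalarO (K' := K') P τ = T := by
      simp only [τ]; rw [scalarO_tmul, map_one, one_mul]
    let π : k' ⊗[k] P.O →ₐ[k] k' ⊗[k] IsLocalRing.ResidueField P.O := resTensor P
    have hker := exists_eq_mul_of_resTensor (k' := k') P (tO := tO) ht
    have key : a ^ N = τ * c := by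
      apply scalarO_injective h P
      have ha' : scalarO P a = w := ha
      have hc' : scalarO P c = w ^ N / T := hc
      rw [map_pow, ha', map_mul, hτ, hc', mul_div_cancel₀ _ hT0]
    have hπτ : π τ = 0 := by
      show (1 : k') ⊗ₜ[k] resO P tO = 0
      have : resO P tO = 0 := (residue_eq_zero_iff P tO).2 (by
        show P.1 t < 1
        rw [ht, ← exp_zero, exp_lt_exp]; norm_num)
      rw [this, TensorProduct.tmul_zero]
    obtain ⟨b, hb⟩ := hker a (IsReduced.eq_zero _ ⟨N, by rw [← map_pow, key, map_mul, hπτ, zero_mul]⟩)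
    have ha' : scalarO P a = w := ha
    rw [← ha', hb, map_mul, hτ, mul_div_cancel_left₀ _ hT0]
    apply adjoin_le_integralClosure (k' := k') P
    rw [← SetLike.mem_coe, range_scalarO P]
    exact ⟨b, rfl⟩
  have h2 := (isIntegral_iff hF P _).1 h1 Q ⟨e, he⟩
  rw [map_div₀, hwv, he t, ht, ← exp_nsmul, ← exp_sub, ← exp_zero, exp_le_exp, nsmul_eq_mul] at h2
  omega

end Integral

end Groth.Agent.FunField
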