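import Groth.Agent.Lib.FunField.ConstExt26
import Mathlib.FieldTheory.PurelyInseparable.Basic
import Mathlib.FieldTheory.SeparableClosure

/-! # One place above `P` after a purely inseparable constant extension -/

namespace Groth.Agent.FunField

open WithZero FunFld
open scoped Multiplicative TensorProduct

attribute [local instance high] Algebra.toModule

universe u v

variable {k k' : Type u} {K K' : Type v} [Field k] [Field k'] [Field K] [Field K']
  [Algebra k k'] [Algebra k K] [Algebra K K'] [Algebra k' K'] [Algebra k K']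
  [IsScalarTower k k' K'] [IsScalarTower k K K']

local notation "pm" => Algebra.TensorProduct.productMap
  (IsScalarTower.toAlgHom k k' K') (IsScalarTower.toAlgHom k K K')

/-- If all of `k'` has `q`-power iterates in a subalgebra containing `K`, so has `K'`. -/
theorem exists_pow_mem_of_generators (h : Function.Bijective pm) (q : ℕ) [ExpChar k q]
    (S : Subring K') (hK : ∀ x : K, algebraMap K K' x ∈ S)
    (hk : ∀ a : k', ∃ n, algebraMap k' K' a ^ q ^ n ∈ S) (z : K') :
    ∃ n, z ^ q ^ n ∈ S := by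
  haveI : ExpChar K' q := expChar_of_injective_algebraMap (algebraMap k K').injective q
  have hup : ∀ {x : K'} {n : ℕ} (m : ℕ), x ^ q ^ n ∈ S → x ^ q ^ (n + m) ∈ S := fun m hx => by
    rw [pow_add, pow_mul]; exact pow_mem hx _
  obtain ⟨u, hu⟩ := h.2 z
  rw [← hu]
  clear hu
  induction u using TensorProduct.induction_on with
  | zero => exact ⟨0, by rw [pow_zero, pow_one, map_zero]; exact zero_mem _⟩
  | add u v hu hv =>
    obtain ⟨n, hn⟩ := hu
    obtain ⟨m, hm⟩ := hv
    refine ⟨n + m, ?_⟩
    rw [map_add, add_pow_expChar_pow]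
    exact add_mem (hup m hn) (Nat.add_comm m n ▸ hup n hm)
  | tmul a x =>
    obtain ⟨n, hn⟩ := hk a
    exact ⟨n, by rw [pm_tmul, mul_pow]; exact mul_mem hn (pow_mem (hK x) _)⟩

variable [FiniteDimensional k k']

theorem existsUnique_of_isPurelyInseparable (h : Function.Bijective pm) (hF : FF k K)
    [IsPurelyInseparable k k'] (P : Place k K) : ∃! Q : Place k K', IsOver Q P := by
  haveI := finite_of_bijective h
  obtain ⟨Q, hQ⟩ := exists_over (K' := K') hF P
  refine ⟨Q, hQ, fun R hR => place_ext fun z => ?_⟩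
  set q := ringExpChar k
  haveI : ExpChar k q := inferInstanceAs (ExpChar k (ringExpChar k))
  obtain ⟨n, c, hc⟩ := exists_pow_mem_of_generators h q (algebraMap K K').range
    (fun x => ⟨x, rfl⟩) (fun a => by
      obtain ⟨n, c, hc⟩ := IsPurelyInseparable.pow_mem k q a
      exact ⟨n, algebraMap k K c, by
        rw [← map_pow, ← hc, ← IsScalarTower.algebraMap_apply,
          ← IsScalarTower.algebraMap_apply]⟩) z
  have hpos : q ^ n ≠ 0 := pow_ne_zero _ (expChar_pos k q).ne'
  have key : ∀ S : Place k K', IsOver S P → (S.1 z ≤ 1 ↔ P.1 c ≤ 1) := fun S ⟨e, he⟩ => by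
    rw [← pow_le_one_iff_of_nonneg zero_le hpos, ← map_pow, ← hc, he,
      pow_le_one_iff_of_nonneg zero_le (isOverWith_pos he).ne']
  rw [key R hR, key Q hQ]

theorem existsUnique_of_residue_purelyInseparable (h : Function.Bijective pm) (hF : FF k K)
    (hg : IsGeometric k K) (P : Place k K)
    [IsPurelyInseparable k (IsLocalRing.ResidueField P.O)] :
    ∃! Q : Place k K', IsOver Q P := by
  classical
  haveI := finite_of_bijective h
  obtain ⟨Q, hQ⟩ := exists_over (K' := K') hF P
  refine ⟨Q, hQ, fun R hR => ?_⟩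
  by_contra hne
  letI : Algebra P.O K' := ((algebraMap K K').comp P.O.subtype).toAlgebra
  haveI : IsScalarTower P.O K K' := IsScalarTower.of_algebraMap_eq fun _ => rfl
  obtain ⟨w, hw, hwR, hwne⟩ := exists_integral_near P hF (Q := R) 1 (by rw [map_one]) 1
  have hwQ : Q.1 w < 1 := hwne Q hQ (Ne.symm hne)
  have hwR1 : R.1 w = 1 := by
    have e : w = (w - 1) + 1 := by ring
    rw [e, Valuation.map_add_eq_of_lt_right, map_one]
    exact hwR.trans_lt (by rw [map_one, ← exp_zero, exp_lt_exp]; norm_num)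
  set ks := separableClosure k k'
  letI fS : Field (ks ⊗[k] K) := (hg ks inferInstance).toField
  letI : Algebra K (ks ⊗[k] K) :=
    (Algebra.TensorProduct.includeRight : K →ₐ[k] ks ⊗[k] K).toRingHom.toAlgebra
  haveI : IsScalarTower k K (ks ⊗[k] K) := IsScalarTower.of_algebraMap_eq fun c =>
    ((Algebra.TensorProduct.includeRight : K →ₐ[k] ks ⊗[k] K).commutes c).symm
  letI : Algebra P.O (ks ⊗[k] K) :=
    ((algebraMap K (ks ⊗[k] K)).comp P.O.subtype).toAlgebra
  haveI : IsScalarTower P.O K (ks ⊗[k] K) := IsScalarTower.of_algebraMap_eq fun _ => rfl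
  let j : ks ⊗[k] K →ₐ[k] K' :=
    (pm).comp (Algebra.TensorProduct.map ks.val (AlgHom.id k K))
  have hjK : ∀ x : K, j (algebraMap K (ks ⊗[k] K) x) = algebraMap K K' x := fun x => by
    show algebraMap k' K' (ks.val 1) * algebraMap K K' x = _
    rw [map_one, map_one, one_mul]
  have hbij : Function.Bijective (Algebra.TensorProduct.productMap
      (IsScalarTower.toAlgHom k ks (ks ⊗[k] K)) (IsScalarTower.toAlgHom k K (ks ⊗[k] K))) := by
    have e : Algebra.TensorProduct.productMap (IsScalarTower.toAlgHom k ks (ks ⊗[k] K))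
        (IsScalarTower.toAlgHom k K (ks ⊗[k] K)) = AlgHom.id k _ := by
      refine Algebra.TensorProduct.ext' fun a x => ?_
      rw [Algebra.TensorProduct.productMap_apply_tmul]
      show (a ⊗ₜ[k] (1 : K)) * ((1 : ks) ⊗ₜ[k] x) = a ⊗ₜ[k] x
      rw [Algebra.TensorProduct.tmul_mul_tmul, mul_one, one_mul]
    rw [e]
    exact Function.bijective_id
  haveI : Algebra.IsSeparable k ks := separableClosure.isSeparable k k'
  haveI := isReduced_tensor_of_separable_left k ks (IsLocalRing.ResidueField P.O)
  have hA := integralClosure_eq_adjoin (k' := ks) (K' := ks ⊗[k] K) P hbij hF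
  set q := ringExpChar k
  haveI : ExpChar k q := inferInstanceAs (ExpChar k (ringExpChar k))
  have hqpos : ∀ n, q ^ n ≠ 0 := fun n => pow_ne_zero _ (expChar_pos k q).ne'
  haveI : IsPurelyInseparable ks k' := separableClosure.isPurelyInseparable k k'
  haveI : ExpChar ks q := expChar_of_injective_algebraMap (algebraMap k ks).injective q
  obtain ⟨n, v, hv⟩ := exists_pow_mem_of_generators h q j.toRingHom.range
    (fun x => ⟨algebraMap K _ x, hjK x⟩) (fun a => by
      obtain ⟨n, c, hc⟩ := IsPurelyInseparable.pow_mem ks q a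
      refine ⟨n, c ⊗ₜ[k] 1, ?_⟩
      show algebraMap k' K' (ks.val c) * algebraMap K K' 1 = _
      rw [map_one, mul_one, ← map_pow, ← hc]
      rfl) w
  let jO : (ks ⊗[k] K) →ₐ[P.O] K' :=
    { j.toRingHom with commutes' := fun a => hjK (a : K) }
  have hvint : IsIntegral P.O v := by
    refine (isIntegral_algHom_iff jO (j.toRingHom.injective : Function.Injective jO)).1 ?_
    show IsIntegral P.O (j v)
    rw [show j v = w ^ q ^ n from hv]
    exact hw.pow _
  have hvA : v ∈ (scalarO (k' := ks) (K' := ks ⊗[k] K) P).range := by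
    have hv' : v ∈ integralClosure P.O (ks ⊗[k] K) := hvint
    rw [hA] at hv'
    have h2 := range_scalarO (k' := ks) (K' := ks ⊗[k] K) P
    exact (Set.ext_iff.1 h2 v).1 hv'
  obtain ⟨a, ha⟩ := hvA
  have key : ∀ z : ks ⊗[k] IsLocalRing.ResidueField P.O,
      ∃ m : ℕ, ∃ c : ks, z ^ q ^ m = c ⊗ₜ[k] 1 := by
    haveI : Nontrivial (ks ⊗[k] IsLocalRing.ResidueField P.O) :=
      (Algebra.TensorProduct.includeRight_injective (R := k) (A := ks)
        (B := IsLocalRing.ResidueField P.O) (algebraMap k ks).injective).nontrivial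
    haveI : ExpChar (ks ⊗[k] IsLocalRing.ResidueField P.O) q :=
      expChar_of_injective_algebraMap (algebraMap k _).injective q
    intro z
    induction z using TensorProduct.induction_on with
    | zero => exact ⟨0, 0, by rw [pow_zero, pow_one, TensorProduct.zero_tmul]⟩
    | add x y hx hy =>
      obtain ⟨m, c, hc⟩ := hx
      obtain ⟨l, d, hd⟩ := hy
      refine ⟨m + l, c ^ q ^ l + d ^ q ^ m, ?_⟩
      rw [add_pow_expChar_pow, TensorProduct.add_tmul]
      congr 1
      · rw [pow_add, pow_mul, hc, Algebra.TensorProduct.tmul_pow, one_pow]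
      · rw [Nat.add_comm m l, pow_add, pow_mul, hd, Algebra.TensorProduct.tmul_pow, one_pow]
    | tmul c x =>
      obtain ⟨m, d, hd⟩ := IsPurelyInseparable.pow_mem k q x
      refine ⟨m, d • c ^ q ^ m, ?_⟩
      rw [Algebra.TensorProduct.tmul_pow, ← hd, Algebra.algebraMap_eq_smul_one,
        TensorProduct.smul_tmul]
  obtain ⟨m, c, hc⟩ := key (resTensor P a)
  obtain ⟨t, ht0, ht⟩ := exists_uniformizer P
  let tO : P.O := ⟨t, by rw [mem_O_iff, ht, ← exp_zero, exp_le_exp]; norm_num⟩
  obtain ⟨b, hb⟩ := exists_eq_mul_of_resTensor (k' := ks) P (tO := tO) ht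
    (a ^ q ^ m - c ⊗ₜ[k] 1) (by
      rw [map_sub, map_pow, hc]
      show _ - c ⊗ₜ[k] resO P 1 = 0
      rw [map_one, sub_self])
  have hb' : w ^ (q ^ n * q ^ m) =
      algebraMap k' K' (ks.val c) + algebraMap K K' t * j (scalarO P b) := by
    have h1 := congrArg (fun u => j (scalarO (k' := ks) (K' := ks ⊗[k] K) P u)) hb
    simp only [map_sub, map_pow, map_mul] at h1
    have e1 : scalarO (k' := ks) (K' := ks ⊗[k] K) P ((1 : ks) ⊗ₜ[k] tO) =
        algebraMap K (ks ⊗[k] K) t := by
      rw [scalarO_tmul, map_one, one_mul]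
    have e2 : j (scalarO (k' := ks) (K' := ks ⊗[k] K) P (c ⊗ₜ[k] (1 : P.O))) =
        algebraMap k' K' (ks.val c) := by
      rw [scalarO_tmul, OneMemClass.coe_one, map_one, mul_one]
      show algebraMap k' K' (ks.val c) * algebraMap K K' 1 = _
      rw [map_one, mul_one]
    have e3 : scalarO (k' := ks) (K' := ks ⊗[k] K) P a = v := ha
    rw [e1, e2, e3, hjK, show j v = w ^ q ^ n from hv, ← pow_mul] at h1
    rw [← h1]; ring
  have hbint : ∀ S : Place k K', IsOver S P → S.1 (j (scalarO P b)) ≤ 1 := by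
    intro S hS
    refine (isIntegral_iff hF P _).1 ?_ S hS
    show IsIntegral P.O (jO (scalarO (k' := ks) (K' := ks ⊗[k] K) P b))
    refine IsIntegral.map jO (adjoin_le_integralClosure (k' := ks) P ?_)
    exact (Set.ext_iff.1 (range_scalarO (k' := ks) (K' := ks ⊗[k] K) P) _).2 ⟨b, rfl⟩
  have hT : ∀ S : Place k K', IsOver S P →
      S.1 (algebraMap K K' t * j (scalarO P b)) < 1 := fun S hS => by
    obtain ⟨e, he⟩ := id hS
    rw [map_mul, he]
    refine lt_of_le_of_lt (mul_le_of_le_one_right' (hbint S hS)) ?_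
    exact pow_lt_one₀ zero_le (by rw [ht, ← exp_zero, exp_lt_exp]; norm_num)
      (isOverWith_pos he).ne'
  have hc0 : ks.val c = 0 := by
    by_contra hc0
    have halg : IsAlgebraic k (algebraMap k' K' (ks.val c)) :=
      (Algebra.IsAlgebraic.isAlgebraic (R := k) (ks.val c)).algebraMap
    have h1 := val_eq_one_of_isAlgebraic Q halg (by simpa using hc0)
    have h2 : Q.1 (algebraMap k' K' (ks.val c)) < 1 := by
      rw [show algebraMap k' K' (ks.val c) =
        w ^ (q ^ n * q ^ m) - algebraMap K K' t * j (scalarO P b) by rw [hb']; ring]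
      refine Q.1.map_sub_lt ?_ (hT Q hQ)
      rw [map_pow]
      exact pow_lt_one₀ zero_le hwQ (mul_ne_zero (hqpos n) (hqpos m))
    rw [h1] at h2
    exact lt_irrefl _ h2
  have h3 := hT R hR
  rw [hc0, map_zero, zero_add] at hb'
  rw [← hb', map_pow, hwR1, one_pow] at h3
  exact lt_irrefl _ h3

end Groth.Agent.FunField
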