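import Groth.Agent.Lib.FunField.PlaneSmooth26
import Mathlib.LinearAlgebra.Matrix.Rank
import Mathlib.LinearAlgebra.Matrix.Adjugate
import Mathlib.LinearAlgebra.Pi

/-! # The Jacobian criterion for nonsingular points of curves in projective space -/

namespace Groth.Agent.FunField.CurveSmooth

open MvPolynomial FunFld FunField PlaneSmooth
open WithZero (exp)

variable {k K : Type*} [Field k] [Field K] [Algebra k K] {P : Place k K}

section generic

variable {ι : Type*} [Fintype ι] {j : ι} {a : ι → K} {c : ι → k}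

theorem expand (h : Pt P j a c) {f : MvPolynomial ι k} (hfc : eval c f = 0)
    {q : ι → MvPolynomial ι k} (hq : f - C (eval c f) = ∑ i, (X i - C (c i)) * q i) :
    aeval a f = ∑ i, (a i - algebraMap k K (c i)) * aeval a (q i) := by
  have := congrArg (aeval a) hq
  rw [hfc, map_zero, sub_zero, map_sum] at this
  rw [this]
  simp

theorem eval_zero_of_aeval_zero (h : Pt P j a c) {f : MvPolynomial ι k} (hfa : aeval a f = 0) :
    eval c f = 0 :=
  (h.val_lt_one_iff f).1 (by rw [hfa, map_zero]; exact zero_lt_one)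

theorem adjoin_fraction (htop : IntermediateField.adjoin k (Set.range a) = ⊤) (z : K) :
    ∃ u w : MvPolynomial ι k, z = aeval a u / aeval a w :=
  IntermediateField.mem_adjoin_range_iff k a z |>.1 (htop ▸ IntermediateField.mem_top)

/-- If the maximal ideal of the local ring at `c` is generated by one element, it is the valuation ring. -/
theorem inR_of_principal (hK : IsFunctionField k K) (h : Pt P j a c)
    (htop : IntermediateField.adjoin k (Set.range a) = ⊤) {T : MvPolynomial ι k} (hT : eval c T = 0)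
    (key : ∀ p : MvPolynomial ι k, eval c p = 0 → ∃ U W : MvPolynomial ι k, eval c W ≠ 0 ∧
      aeval a p * aeval a W = aeval a T * aeval a U)
    {z : K} (hz : P.1 z ≤ 1) : InR a c z := by
  classical
  set t := aeval a T with ht
  have hne : ∀ {p : MvPolynomial ι k}, eval c p ≠ 0 → aeval a p ≠ 0 := fun {p} hp h0 => by
    have := (h.val_eq_one_iff p).2 hp
    rw [h0, map_zero] at this
    exact zero_ne_one this
  have htlt : P.1 t < 1 := (h.val_lt_one_iff T).2 hT
  have ht0 : t ≠ 0 := by
    intro ht0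
    have hconst : ∀ p : MvPolynomial ι k, aeval a p = algebraMap k K (eval c p) := fun p => by
      obtain ⟨U, W, hW, hUW⟩ := key (p - C (eval c p)) (by simp)
      rw [ht0, zero_mul, mul_eq_zero] at hUW
      have := hUW.resolve_right (hne hW)
      rwa [map_sub, aeval_C, sub_eq_zero] at this
    obtain ⟨τ, hτ, -⟩ := ff hK
    obtain ⟨u, w, rfl⟩ := adjoin_fraction htop τ
    rw [hconst, hconst, ← map_div₀] at hτ
    exact hτ (isAlgebraic_algebraMap _)
  have rep : ∀ N : ℕ, ∀ p : MvPolynomial ι k, aeval a p ≠ 0 → (P.ord (aeval a p)).toNat = N →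
      ∃ (n : ℕ) (U W : MvPolynomial ι k), eval c U ≠ 0 ∧ eval c W ≠ 0 ∧
        aeval a p * aeval a W = t ^ n * aeval a U := by
    intro N
    induction N using Nat.strong_induction_on with
    | _ N ih =>
      intro p hp hN
      by_cases hpc : eval c p = 0
      · obtain ⟨U₁, W₁, hW₁, h1⟩ := key p hpc
        have hU0 : aeval a U₁ ≠ 0 := fun h0 => by
          rw [h0, mul_zero] at h1
          exact mul_ne_zero hp (hne hW₁) h1
        have hW1 : P.ord (aeval a W₁) = 0 := ord_eq_of_val_eq P (n := 0) (by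
          rw [WithZero.exp_zero]; exact (h.val_eq_one_iff W₁).2 hW₁)
        have hordt : 0 < P.ord t := (val_lt_one_iff' P ht0).1 htlt
        have hordU : 0 ≤ P.ord (aeval a U₁) := (ord_nonneg_iff P _).2 (h.val_le _)
        have ho := congrArg P.ord h1
        rw [ord_mul P hp (hne hW₁), ord_mul P ht0 hU0, hW1, add_zero] at ho
        obtain ⟨n, U, W, hU, hW, h2⟩ := ih (P.ord (aeval a U₁)).toNat (by omega) U₁ hU0 rfl
        refine ⟨n + 1, U, W₁ * W, hU, by rw [map_mul]; exact mul_ne_zero hW₁ hW, ?_⟩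
        rw [map_mul]
        linear_combination aeval a W * h1 + t * h2
      · exact ⟨0, p, 1, hpc, by simp, by simp⟩
  rcases eq_or_ne z 0 with rfl | hz0
  · exact ⟨0, 1, by simp, by simp⟩
  obtain ⟨r, s, hrs⟩ := adjoin_fraction htop z
  have hr : aeval a r ≠ 0 := fun h0 => hz0 (by rw [hrs, h0, zero_div])
  have hs : aeval a s ≠ 0 := fun h0 => hz0 (by rw [hrs, h0, div_zero])
  obtain ⟨n, U, W, hU, hW, h1⟩ := rep _ r hr rfl
  obtain ⟨n', U', W', hU', hW', h2⟩ := rep _ s hs rfl
  have hz' : z * aeval a s = aeval a r := by rw [hrs, div_mul_cancel₀ _ hs]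
  have e1 : z * (t ^ n' * (aeval a U' * aeval a W)) = t ^ n * (aeval a U * aeval a W') := by
    linear_combination aeval a W' * h1 - z * aeval a W * h2 + aeval a W * aeval a W' * hz'
  have hle : n' ≤ n := by
    by_contra hlt
    have := congrArg P.1 e1
    simp only [map_mul, map_pow, (h.val_eq_one_iff _).2 hU, (h.val_eq_one_iff _).2 hU',
      (h.val_eq_one_iff _).2 hW, (h.val_eq_one_iff _).2 hW', mul_one] at this
    have h3 : P.1 t ^ n' < P.1 t ^ n :=
      pow_lt_pow_right_of_lt_one₀ (zero_lt_iff.2 ((Valuation.ne_zero_iff _).2 ht0)) htlt (by omega)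
    exact absurd (this ▸ (mul_le_of_le_one_left' hz : P.1 z * P.1 t ^ n' ≤ P.1 t ^ n')) (not_le.2 h3)
  obtain ⟨d, rfl⟩ := Nat.exists_eq_add_of_le hle
  refine ⟨T ^ d * (U * W'), U' * W, by rw [map_mul]; exact mul_ne_zero hU' hW, ?_⟩
  simp only [map_mul, map_pow, ← ht]
  refine mul_left_cancel₀ (pow_ne_zero n' ht0) ?_
  rw [pow_add] at e1
  linear_combination e1

theorem exists_pow_mul_mem (b : ι → K) (s : ι) (hs : b s ≠ 0) {u : K}
    (hu : u ∈ Algebra.adjoin k (Set.range fun i => b i / b s)) :
    ∃ (n : ℕ) (p : MvPolynomial ι k), b s ^ n * u = aeval b p := by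
  induction hu using Algebra.adjoin_induction with
  | mem w hw => obtain ⟨i, rfl⟩ := hw; exact ⟨1, X i, by simp [mul_div_cancel₀ _ hs]⟩
  | algebraMap x => exact ⟨0, C x, by simp⟩
  | add x y _ _ hx hy =>
    obtain ⟨n, p, hp⟩ := hx; obtain ⟨n', p', hp'⟩ := hy
    refine ⟨n + n', X s ^ n' * p + X s ^ n * p', ?_⟩
    simp only [map_add, map_mul, map_pow, aeval_X, ← hp, ← hp']
    ring
  | mul x y _ _ hx hy =>
    obtain ⟨n, p, hp⟩ := hx; obtain ⟨n', p', hp'⟩ := hy
    refine ⟨n + n', p * p', ?_⟩
    simp only [map_mul, ← hp, ← hp']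
    ring

theorem inLocRing_iff (h : Pt P j a c) {φ : ι → K} (hφj : φ j ≠ 0)
    (hj : ∀ i, P.1 (φ i) ≤ P.1 (φ j)) (ha : ∀ i, a i = φ i / φ j) (z : K) :
    InLocRing φ P z ↔ InR a c z := by
  constructor
  · rintro ⟨l, hl0, hl, u, hu, w, hw, hw1, hzw⟩
    have hs : a l ≠ 0 := by rw [ha]; exact div_ne_zero hl0 hφj
    have hs1 : P.1 (a l) = 1 := by
      rw [ha, map_div₀, le_antisymm (hj l) (hl j), div_self]
      exact (Valuation.ne_zero_iff _).2 hφj
    have e : (fun i => φ i / φ l) = fun i => a i / a l := by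
      funext i; rw [ha, ha, div_div_div_cancel_right₀ hφj]
    rw [e] at hu hw
    obtain ⟨n, p, hp⟩ := exists_pow_mul_mem a l hs hu
    obtain ⟨n', p', hp'⟩ := exists_pow_mul_mem a l hs hw
    refine ⟨X l ^ n' * p, X l ^ n * p', ?_, ?_⟩
    · refine (h.val_eq_one_iff _).1 ?_
      simp only [map_mul, map_pow, aeval_X, ← hp', hs1, hw1, one_pow, one_mul]
    · simp only [map_mul, map_pow, aeval_X, ← hp, ← hp']
      linear_combination a l ^ n * a l ^ n' * hzw
  · rintro ⟨u, w, hw, hzw⟩
    have e : (fun i => φ i / φ j) = a := funext fun i => (ha i).symm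
    refine ⟨j, hφj, hj, aeval a u, ?_, aeval a w, ?_, (h.val_eq_one_iff w).2 hw, hzw⟩ <;>
      · rw [e, Algebra.adjoin_range_eq_range_aeval]; exact ⟨_, rfl⟩

end generic

variable {n : ℕ} {a : Fin (n + 1) → K} {c : Fin (n + 1) → k}

/-- The affine gradient at the point. -/
noncomputable def grad (c : Fin (n + 1) → k) : MvPolynomial (Fin (n + 1)) k →ₗ[k] (Fin n → k) where
  toFun p i := eval c (pderiv i.succ p)
  map_add' p q := funext fun i => by simp
  map_smul' x p := funext fun i => by simp [smul_eval]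

theorem grad_mul (c : Fin (n + 1) → k) (p q : MvPolynomial (Fin (n + 1)) k) :
    grad c (p * q) = eval c q • grad c p + eval c p • grad c q := funext fun i => by
  simp [grad]; ring

theorem grad_X_sub (c : Fin (n + 1) → k) (i : Fin n) (x : k) :
    grad c (X i.succ - C x) = Pi.single i 1 := funext fun l => by
  classical
  rcases eq_or_ne l i with rfl | hli
  · simp [grad, pderiv_X]
  · simp [grad, pderiv_X, hli, Fin.succ_inj, Pi.single_apply, Ne.symm hli]

theorem sum_split (h : Pt P 0 a c) (g : Fin (n + 1) → MvPolynomial (Fin (n + 1)) k) :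
    ∑ i, (a i - algebraMap k K (c i)) * aeval a (g i) =
      ∑ i : Fin n, (a i.succ - algebraMap k K (c i.succ)) * aeval a (g i.succ) := by
  rw [Fin.sum_univ_succ, h.one, h.cj, map_one, sub_self, zero_mul, zero_add]

theorem key_of_frame (h : Pt P 0 a c) (o : Fin n) (hF : ∀ m : Fin n, ∃ (F : MvPolynomial (Fin (n + 1)) k) (s : k),
      eval c F = 0 ∧ grad c F = Pi.single m 1 ∧
      aeval a F = algebraMap k K s * (a o.succ - algebraMap k K (c o.succ)))
    (p : MvPolynomial (Fin (n + 1)) k) (hp : eval c p = 0) :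
    ∃ U W : MvPolynomial (Fin (n + 1)) k, eval c W ≠ 0 ∧
      aeval a p * aeval a W = aeval a (X o.succ - C (c o.succ)) * aeval a U := by
  classical
  choose F s hFc hFg hFa using hF
  choose q hq using fun m => exists_decomp c (F m)
  let Q : Matrix (Fin n) (Fin n) (MvPolynomial (Fin (n + 1)) k) := Matrix.of fun m i => q m i.succ
  have hQc : Q.map (eval c) = 1 := by
    ext m i
    have := congrFun (hFg m) i
    simp only [grad, LinearMap.coe_mk, AddHom.coe_mk, pderiv_decomp c (F m) (q m) (hq m)] at this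
    simp only [Matrix.map_apply, Q, Matrix.of_apply, this, Matrix.one_apply, Pi.single_apply]
    simp [eq_comm]
  set δ : Fin n → K := fun i => a i.succ - algebraMap k K (c i.succ) with hδ
  have hrel : ∀ m, ∑ i, aeval a (Q m i) * δ i = algebraMap k K (s m) * δ o := fun m => by
    show _ = algebraMap k K (s m) * (a o.succ - algebraMap k K (c o.succ))
    rw [← hFa, expand h (hFc m) (hq m), sum_split h]
    exact Finset.sum_congr rfl fun i _ => mul_comm _ _
  obtain ⟨g, hg⟩ := exists_decomp c p
  refine ⟨∑ i, g i.succ * ∑ m, Q.adjugate i m * C (s m), Q.det, ?_, ?_⟩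
  · have : eval c Q.det = 1 := by
      rw [(eval c).map_det, RingHom.mapMatrix_apply, hQc, Matrix.det_one]
    rw [this]; exact one_ne_zero
  · have hδd : ∀ i, aeval a Q.det * δ i = (∑ m, aeval a (Q.adjugate i m) * algebraMap k K (s m)) * δ o := by
      intro i
      rw [Finset.sum_mul]
      calc aeval a Q.det * δ i = ∑ l, aeval a ((Q.adjugate * Q) i l) * δ l := by
            rw [Matrix.adjugate_mul, Finset.sum_eq_single i]
            · simp
            · intro l _ hl; simp [Matrix.one_apply_ne (Ne.symm hl)]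
            · simp
        _ = ∑ l, ∑ m, aeval a (Q.adjugate i m) * (aeval a (Q m l) * δ l) := by
            refine Finset.sum_congr rfl fun l _ => ?_
            rw [Matrix.mul_apply, map_sum, Finset.sum_mul]
            exact Finset.sum_congr rfl fun m _ => by rw [map_mul, mul_assoc]
        _ = ∑ m, aeval a (Q.adjugate i m) * algebraMap k K (s m) * δ o := by
            rw [Finset.sum_comm]
            refine Finset.sum_congr rfl fun m _ => ?_
            rw [← Finset.mul_sum, hrel, mul_assoc]
    rw [expand h hp hg, sum_split h, map_sub, aeval_X, aeval_C, map_sum, Finset.sum_mul, Finset.mul_sum]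
    refine Finset.sum_congr rfl fun i _ => ?_
    show δ i * _ * _ = δ o * _
    simp only [map_mul, map_sum, aeval_C]
    linear_combination aeval a (g i.succ) * hδd i

section curve

variable {r : ℕ} {f : Fin r → MvPolynomial (Fin (n + 1)) k}

theorem exists_sum_eq (hgen : ∀ (N : ℕ) (H : MvPolynomial (Fin (n + 1)) k), H.IsHomogeneous N → aeval a H = 0 →
      H ∈ Ideal.span (Set.range f)) (ha0 : a 0 = 1)
    {h : MvPolynomial (Fin (n + 1)) k} (hh : aeval a h = 0) :
    ∃ (g : Fin r → MvPolynomial (Fin (n + 1)) k) (s : MvPolynomial (Fin (n + 1)) k),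
      h = ∑ l, g l * f l + (X 0 - 1) * s := by
  classical
  set N := h.totalDegree
  set H := ∑ m ∈ Finset.range (N + 1), X 0 ^ (N - m) * homogeneousComponent m h with hH
  have hHhom : H.IsHomogeneous N := IsHomogeneous.sum _ _ _ fun m hm => by
    have := ((isHomogeneous_X_pow (R := k) (0 : Fin (n + 1)) (N - m)).mul (homogeneousComponent_isHomogeneous m h))
    rwa [Nat.sub_add_cancel (by simp at hm; omega)] at this
  have hH0 : aeval a H = 0 := by
    rw [hH, map_sum]
    simp only [map_mul, map_pow, aeval_X, ha0, one_pow, one_mul]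
    rw [← map_sum, sum_homogeneousComponent, hh]
  obtain ⟨g, hg⟩ := Submodule.mem_span_range_iff_exists_fun _ |>.1 (hgen N H hHhom hH0)
  obtain ⟨s, hs⟩ : (X 0 - 1 : MvPolynomial (Fin (n + 1)) k) ∣ h - H := by
    conv_rhs => rw [← sum_homogeneousComponent h, hH, ← Finset.sum_sub_distrib]
    refine Finset.dvd_sum fun m _ => ?_
    rw [show homogeneousComponent m h - X 0 ^ (N - m) * homogeneousComponent m h =
      -((X 0 ^ (N - m) - 1) * homogeneousComponent m h) by ring, dvd_neg]
    exact dvd_mul_of_dvd_left (sub_one_dvd_pow_sub_one _ _) _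
  refine ⟨g, s, ?_⟩
  simp only [smul_eq_mul] at hg
  rw [← hs, hg]; ring

theorem grad_mem_span (h : Pt P 0 a c) (hf : ∀ l, aeval a (f l) = 0)
    {p : MvPolynomial (Fin (n + 1)) k} {g : Fin r → MvPolynomial (Fin (n + 1)) k}
    {s : MvPolynomial (Fin (n + 1)) k} (hp : p = ∑ l, g l * f l + (X 0 - 1) * s) :
    grad c p ∈ Submodule.span k (Set.range fun l => grad c (f l)) := by
  have h0 : grad c ((X 0 - 1) * s) = 0 := by
    rw [grad_mul]
    funext i
    simp [grad, h.cj, Pi.single_apply, Fin.succ_ne_zero, pderiv_X]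
  rw [hp, map_add, h0, add_zero, map_sum]
  refine Submodule.sum_mem _ fun l _ => ?_
  rw [grad_mul, eval_zero_of_aeval_zero h (hf l), zero_smul, zero_add]
  exact Submodule.smul_mem _ _ (Submodule.subset_span ⟨l, rfl⟩)

theorem sum_combination (c : Fin (n + 1) → k) {v : Fin n → k}
    (hv : v ∈ Submodule.span k (Set.range fun l => grad c (f l))) (hf : ∀ l, aeval a (f l) = 0) :
    ∃ F, grad c F = v ∧ aeval a F = 0 := by
  obtain ⟨β, hβ⟩ := (Submodule.mem_span_range_iff_exists_fun k).1 hv
  exact ⟨∑ l, β l • f l, by simp [map_sum, map_smul, hβ], by simp [hf]⟩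

theorem inR_of_frame (hK : IsFunctionField k K) (h : Pt P 0 a c)
    (htop : IntermediateField.adjoin k (Set.range a) = ⊤) (hf : ∀ l, aeval a (f l) = 0) (o : Fin n)
    (ho : Submodule.span k (Set.range fun l => grad c (f l)) ⊔ Submodule.span k {Pi.single o (1 : k)} = ⊤)
    {z : K} (hz : P.1 z ≤ 1) : InR a c z := by
  refine inR_of_principal hK h htop (T := X o.succ - C (c o.succ)) (by simp)
    (key_of_frame h o fun m => ?_) hz
  have hm : Pi.single m (1 : k) ∈
      Submodule.span k (Set.range fun l => grad c (f l)) ⊔ Submodule.span k {Pi.single o (1 : k)} := by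
    rw [ho]; trivial
  obtain ⟨v, hv, w, hw, hvw⟩ := Submodule.mem_sup.1 hm
  obtain ⟨s, rfl⟩ := Submodule.mem_span_singleton.1 hw
  obtain ⟨F, hFg, hFa⟩ := sum_combination c hv hf
  refine ⟨F + C s * (X o.succ - C (c o.succ)), s, ?_, ?_, ?_⟩
  · rw [map_add, eval_zero_of_aeval_zero h hFa]; simp
  · rw [C_mul', map_add, map_smul, grad_X_sub, hFg, hvw]
  · rw [map_add, hFa, zero_add, map_mul, aeval_C, map_sub, aeval_X, aeval_C]

theorem frame_of_inR (h : Pt P 0 a c) (hf : ∀ l, aeval a (f l) = 0)
    (hgen : ∀ (N : ℕ) (H : MvPolynomial (Fin (n + 1)) k), H.IsHomogeneous N → aeval a H = 0 →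
      H ∈ Ideal.span (Set.range f))
    (hR : ∀ z : K, P.1 z ≤ 1 → InR a c z) :
    ∃ o : Fin n, Pi.single o (1 : k) ∉ Submodule.span k (Set.range fun l => grad c (f l)) ∧
      Submodule.span k (Set.range fun l => grad c (f l)) ⊔ Submodule.span k {Pi.single o (1 : k)} = ⊤ := by
  classical
  obtain ⟨τ, hτ0, hτ⟩ := exists_uniformizer P
  have hlt : exp (-1) < (1 : WithZero (Multiplicative ℤ)) := by
    rw [← WithZero.exp_zero, WithZero.exp_lt_exp]; norm_num
  obtain ⟨U, W, hW, hUW⟩ := hR τ (by rw [hτ]; exact hlt.le)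
  have hPU : P.1 (aeval a U) = exp (-1) := by
    rw [← hUW, map_mul, hτ, (h.val_eq_one_iff W).2 hW, mul_one]
  have hUc : eval c U = 0 := (h.val_lt_one_iff U).1 (by rw [hPU]; exact hlt)
  obtain ⟨qU, hqU⟩ := exists_decomp c U
  have hle2 : ∀ {x : K}, P.1 x < exp (-1) → P.1 x ≤ exp (-2) := fun {x} hx => by
    rw [lt_exp_iff] at hx; exact hx
  obtain ⟨o, ho⟩ : ∃ o : Fin n, P.1 (a o.succ - algebraMap k K (c o.succ)) = exp (-1) := by
    by_contra! hall
    have hb : P.1 (aeval a U) ≤ exp (-2) := by
      rw [expand h hUc hqU, sum_split h]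
      refine P.1.map_sum_le fun i _ => ?_
      rw [map_mul]
      exact (mul_le_of_le_one_right' (h.val_le _)).trans
        (hle2 (lt_of_le_of_ne ((lt_one_iff_le _).1 (h.near _)) (hall i)))
    rw [hPU, WithZero.exp_le_exp] at hb
    norm_num at hb
  set t := a o.succ - algebraMap k K (c o.succ) with ht
  have ht0 : t ≠ 0 := fun h0 => by rw [h0, map_zero] at ho; exact WithZero.exp_ne_zero ho.symm
  refine ⟨o, fun hmem => ?_, ?_⟩
  · obtain ⟨F, hFg, hFa⟩ := sum_combination c hmem hf
    obtain ⟨q, hq⟩ := exists_decomp c F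
    have h1 := expand h (eval_zero_of_aeval_zero h hFa) hq
    rw [hFa, sum_split h, ← Finset.add_sum_erase _ _ (Finset.mem_univ o)] at h1
    have hqc : ∀ i : Fin n, eval c (q i.succ) = (Pi.single o (1 : k) : Fin n → k) i := fun i => by
      rw [← pderiv_decomp c F q hq]; exact congrFun hFg i
    have hsmall : P.1 (∑ i ∈ Finset.univ.erase o, (a i.succ - algebraMap k K (c i.succ)) * aeval a (q i.succ)) ≤ exp (-2) := by
      refine P.1.map_sum_le fun i hi => ?_
      have hio : i ≠ o := by simpa using hi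
      rw [map_mul]
      refine (mul_le_mul' ((lt_one_iff_le _).1 (h.near i.succ))
        ((lt_one_iff_le _).1 ((h.val_lt_one_iff _).2 (by rw [hqc, Pi.single_eq_of_ne hio])))).trans_eq ?_
      rw [← WithZero.exp_add]; norm_num
    have hbig : P.1 (t * aeval a (q o.succ)) = exp (-1) := by
      rw [map_mul, ho, (h.val_eq_one_iff _).2 (by rw [hqc, Pi.single_eq_same]; exact one_ne_zero), mul_one]
    have := congrArg P.1 (eq_neg_of_add_eq_zero_left h1.symm)
    rw [Valuation.map_neg, hbig] at this
    rw [← this, WithZero.exp_le_exp] at hsmall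
    norm_num at hsmall
  · rw [eq_top_iff, ← (Pi.basisFun k (Fin n)).span_eq, Submodule.span_le]
    rintro _ ⟨m, rfl⟩
    rw [Pi.basisFun_apply]
    obtain ⟨A, V, hV, hAV⟩ := hR ((a m.succ - algebraMap k K (c m.succ)) / t) (by
      rw [map_div₀, ho, div_le_one₀ WithZero.exp_pos]; exact (lt_one_iff_le _).1 (h.near _))
    have hh : aeval a ((X m.succ - C (c m.succ)) * V - (X o.succ - C (c o.succ)) * A) = 0 := by
      rw [map_sub, map_mul, map_mul, map_sub, map_sub, aeval_X, aeval_X, aeval_C, aeval_C, ← ht, ← hAV]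
      field_simp
      ring
    obtain ⟨g, s, hgs⟩ := exists_sum_eq hgen h.one hh
    have hmem := grad_mem_span h hf hgs
    rw [map_sub, grad_mul, grad_mul, grad_X_sub, grad_X_sub] at hmem
    simp only [map_sub, eval_X, eval_C, sub_self, zero_smul, add_zero] at hmem
    refine Submodule.mem_sup.2 ⟨(eval c V)⁻¹ • (eval c V • Pi.single m 1 - eval c A • Pi.single o 1),
      Submodule.smul_mem _ _ hmem, ((eval c V)⁻¹ * eval c A) • Pi.single o 1,
      Submodule.mem_span_singleton.2 ⟨_, rfl⟩, ?_⟩
    rw [smul_sub, smul_smul, smul_smul, inv_mul_cancel₀ hV, one_smul, sub_add_cancel]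

theorem exists_frame {W : Submodule k (Fin n → k)} (hW : Module.finrank k W = n - 1) (hn : 1 ≤ n) :
    ∃ o : Fin n, W ⊔ Submodule.span k {Pi.single o (1 : k)} = ⊤ := by
  obtain ⟨o, ho⟩ : ∃ o : Fin n, Pi.single o (1 : k) ∉ W := by
    by_contra! hall
    have : W = ⊤ := by
      rw [eq_top_iff, ← (Pi.basisFun k (Fin n)).span_eq, Submodule.span_le]
      rintro _ ⟨m, rfl⟩
      rw [Pi.basisFun_apply]; exact hall m
    rw [this, finrank_top, Module.finrank_fin_fun] at hW
    omega
  refine ⟨o, Submodule.eq_top_of_finrank_eq (le_antisymm (Submodule.finrank_le _) ?_)⟩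
  have hlt : W < W ⊔ Submodule.span k {Pi.single o (1 : k)} :=
    lt_of_le_of_ne le_sup_left fun he => ho (he ▸ Submodule.mem_sup_right (Submodule.mem_span_singleton_self _))
  have := Submodule.finrank_lt_finrank_of_lt hlt
  rw [Module.finrank_fin_fun]
  omega

theorem finrank_of_frame {W : Submodule k (Fin n → k)} {o : Fin n} (ho : Pi.single o (1 : k) ∉ W)
    (hsup : W ⊔ Submodule.span k {Pi.single o (1 : k)} = ⊤) : Module.finrank k W = n - 1 := by
  have h0 : (Pi.single o (1 : k) : Fin n → k) ≠ 0 := fun e => ho (e ▸ W.zero_mem)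
  have hinf : W ⊓ Submodule.span k {Pi.single o (1 : k)} = ⊥ := by
    rw [← disjoint_iff]
    exact (Submodule.disjoint_span_singleton' h0).2 ho
  have := Submodule.finrank_sup_add_finrank_inf_eq W (Submodule.span k {Pi.single o (1 : k)})
  rw [hsup, hinf, finrank_bot, finrank_top, Module.finrank_fin_fun, finrank_span_singleton h0] at this
  omega

theorem rank_map_bijective {F : Type*} [Field F] [Algebra k F] (hb : Function.Bijective (algebraMap k F))
    (N : Matrix (Fin r) (Fin n) k) :
    (N.map (algebraMap k F)).rank = Module.finrank k (Submodule.span k (Set.range N)) := by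
  rw [Matrix.rank_eq_finrank_span_row]
  let L : (Fin n → k) →ₗ[k] (Fin n → F) := (Algebra.linearMap k F).compLeft (Fin n)
  have hL : Function.Injective L := fun x y hxy => funext fun i => hb.1 (congrFun hxy i)
  have hrange : Set.range (N.map (algebraMap k F)).row = L '' Set.range N :=
    Set.range_comp L (fun i => N i)
  have hF : Module.finrank k F = 1 := by
    rw [← (AlgEquiv.ofBijective (Algebra.ofId k F) hb).toLinearEquiv.finrank_eq, Module.finrank_self]
  set S := Submodule.span F (Set.range (N.map (algebraMap k F)).row)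
  have h1 := Module.finrank_mul_finrank k F S
  rw [hF, one_mul] at h1
  rw [h1]
  have h2 : S.restrictScalars k = (Submodule.span k (Set.range N)).map L := by
    rw [Submodule.restrictScalars_span k F hb.2, hrange, Submodule.map_span]
  calc Module.finrank k S = Module.finrank k (S.restrictScalars k) := rfl
    _ = _ := by rw [h2]; exact (Submodule.equivMapOfInjective L hL _).finrank_eq.symm

theorem jacobian_criterion [IsAlgClosed k] (hK : IsFunctionField k K) (hn : 1 ≤ n)
    {φ : Fin (n + 1) → K} (hφ : LinearIndependent k φ)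
    (hbir : IntermediateField.adjoin k (Set.range fun i => φ i / φ 0) = ⊤)
    (hP : ∀ i, P.1 (φ i) ≤ P.1 (φ 0))
    (hhom : ∀ i, (f i).IsHomogeneous (f i).totalDegree)
    (hgen : Ideal.span (Set.range f) =
      RingHom.ker (aeval fun i => Polynomial.C (φ i) * Polynomial.X : MvPolynomial (Fin (n + 1)) k →ₐ[k] Polynomial K))
    (M : Matrix (Fin r) (Fin n) P.O)
    (hM : ∀ i l, ((M i l : P.O) : K) = aeval (fun l => φ l / φ 0) (pderiv l.succ (f i))) :
    IsNonsingularAt φ P ↔ (M.map (IsLocalRing.residue P.O)).rank = n - 1 := by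
  have hφ0 : φ 0 ≠ 0 := hφ.ne_zero 0
  choose c hc using fun i => exists_const_near (ff hK) P (b := φ i / φ 0) (by
    rw [map_div₀, div_le_one₀ (zero_lt_iff.2 ((Valuation.ne_zero_iff _).2 hφ0))]; exact hP i)
  set a : Fin (n + 1) → K := fun i => φ i / φ 0 with ha
  have h : Pt P 0 a c := ⟨div_self hφ0, hc⟩
  have hev : ∀ {N : ℕ} {H : MvPolynomial (Fin (n + 1)) k}, H.IsHomogeneous N →
      (aeval (fun i => Polynomial.C (φ i) * Polynomial.X) H : Polynomial K) =
        Polynomial.C (φ 0 ^ N * aeval a H) * Polynomial.X ^ N := fun {N H} hH => by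
    rw [PlaneIdeal.aeval_mul_homogeneous hH]
    congr 1
    have e1 : φ = fun i => a i * φ 0 := funext fun i => (div_mul_cancel₀ _ hφ0).symm
    have := aeval_algebraMap_apply (Polynomial K) φ H
    refine this.trans ?_
    congr 1
    conv_lhs => rw [e1]
    rw [PlaneIdeal.aeval_mul_homogeneous hH, mul_comm]
  have hf : ∀ l, aeval a (f l) = 0 := fun l => by
    have hmem : f l ∈ RingHom.ker (aeval fun i => Polynomial.C (φ i) * Polynomial.X :
        MvPolynomial (Fin (n + 1)) k →ₐ[k] Polynomial K) := by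
      rw [← hgen]; exact Ideal.subset_span ⟨l, rfl⟩
    rw [RingHom.mem_ker, hev (hhom l), mul_eq_zero, Polynomial.C_eq_zero, mul_eq_zero] at hmem
    exact (hmem.resolve_right (pow_ne_zero _ Polynomial.X_ne_zero)).resolve_left (pow_ne_zero _ hφ0)
  have hgen' : ∀ (N : ℕ) (H : MvPolynomial (Fin (n + 1)) k), H.IsHomogeneous N → aeval a H = 0 →
      H ∈ Ideal.span (Set.range f) := fun N H hH hH0 => by
    rw [hgen, RingHom.mem_ker, hev hH, hH0, mul_zero, map_zero, zero_mul]
  haveI hfin := (ff hK).finite_residueField P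
  haveI : Algebra.IsIntegral k (IsLocalRing.ResidueField P.O) :=
    ⟨fun x => IsIntegral.of_mem_of_fg ⊤ (by convert hfin.fg_top using 0 <;> rfl) x trivial⟩
  have hb := IsAlgClosed.algebraMap_bijective_of_isIntegral (k := k) (K := IsLocalRing.ResidueField P.O)
  let N : Matrix (Fin r) (Fin n) k := fun i => grad c (f i)
  have hMN : M.map (IsLocalRing.residue P.O) = N.map (algebraMap k (IsLocalRing.ResidueField P.O)) := by
    ext i l
    simp only [Matrix.map_apply]
    refine sub_eq_zero.1 ?_
    show IsLocalRing.residue P.O (M i l) - IsLocalRing.residue P.O (algebraMap k P.O (N i l)) = 0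
    rw [← map_sub, residue_eq_zero_iff]
    show P.1 ((M i l : K) - algebraMap k K (N i l)) < 1
    rw [hM]
    exact h.near_eval _
  rw [hMN, rank_map_bijective hb]
  constructor
  · intro hns
    obtain ⟨o, ho1, ho2⟩ := frame_of_inR h hf hgen' fun z hz =>
      (inLocRing_iff h hφ0 hP (fun _ => rfl) z).1 (hns z hz)
    exact finrank_of_frame ho1 ho2
  · intro hr z hz
    obtain ⟨o, ho⟩ := exists_frame hr hn
    exact (inLocRing_iff h hφ0 hP (fun _ => rfl) z).2 (inR_of_frame hK h hbir hf o ho hz)

end curve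

end Groth.Agent.FunField.CurveSmooth
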