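import Groth.Agent.Lib.FunField.Degree
import Groth.Prelude.Def_W4bk4goldsch23Ext
import Mathlib.LinearAlgebra.FreeModule.PID
import Mathlib.RingTheory.AlgebraTower
import Mathlib.RingTheory.Valuation.Integers

/-! # Places in finite extensions: the fundamental identity, conorm -/

namespace Groth.Agent.FunField

open WithZero FunFld Polynomial IntermediateField
open scoped Multiplicative

variable {k K K' : Type*} [Field k] [Field K] [Field K'] [Algebra k K] [Algebra K K'] [Algebra k K']
  [IsScalarTower k K K']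

theorem val_eq_zpow (P : Place k K) {t : K} (ht : P.1 t = exp (-1)) {Γ : Type*}
    [LinearOrderedCommGroupWithZero Γ] (w : Valuation K Γ) (hw : ∀ x : K, P.1 x ≤ 1 → w x ≤ 1)
    {x : K} (hx : x ≠ 0) : w x = w t ^ P.ord x := by
  have ht0 : t ≠ 0 := fun e => by rw [e, map_zero] at ht; exact exp_ne_zero ht.symm
  set y := x * t ^ (-P.ord x)
  have hy : P.1 y = 1 := by
    rw [map_mul, map_zpow₀, ht, val_eq_exp_neg_ord P hx, ← exp_zsmul, ← exp_add]
    simp
  have hy0 : y ≠ 0 := mul_ne_zero hx (zpow_ne_zero _ ht0)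
  have h1 : w y = 1 := by
    refine le_antisymm (hw y hy.le) ?_
    have := hw y⁻¹ (by rw [map_inv₀, hy, inv_one])
    rw [map_inv₀] at this
    exact (inv_le_one₀ (by simp [zero_lt_iff, hy0])).1 this
  rw [show w y = w x * w t ^ (-P.ord x) by simp [y, map_mul, map_zpow₀], zpow_neg] at h1
  exact (mul_inv_eq_one₀ (zpow_ne_zero _ (by simp [ht0]))).1 h1

theorem mem_of_isAlgebraic (A : Subalgebra K K') {z : K'} (hz : z ∈ A) (ha : IsAlgebraic K z) :
    z⁻¹ ∈ A :=
  Subalgebra.inv_mem_of_algebraic (A := A) (x := ⟨z, hz⟩) ha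

variable [FiniteDimensional K K']

theorem ff_extend (h : FF k K) : FF k K' := by
  obtain ⟨x, hx, hfin⟩ := id h
  refine ⟨algebraMap K K' x, ?_, ?_⟩
  · exact fun ha => hx ((isAlgebraic_algebraMap_iff (algebraMap K K').injective).1 ha)
  · have e : (k⟮x⟯ : IntermediateField k K).map (IsScalarTower.toAlgHom k K K') =
        k⟮algebraMap K K' x⟯ := by
      rw [adjoin_map, Set.image_singleton]; rfl
    let i : k⟮x⟯ ≃+* k⟮algebraMap K K' x⟯ :=
      ((IntermediateField.equivMap k⟮x⟯ (IsScalarTower.toAlgHom k K K')).trans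
        (IntermediateField.equivOfEq e)).toRingEquiv
    haveI : FiniteDimensional k⟮x⟯ K' := Module.Finite.trans K K'
    exact Module.Finite.of_equiv_equiv i (RingEquiv.refl K') (RingHom.ext fun s => rfl)

theorem finrank_adjoin_map (x : K) :
    Module.finrank k⟮algebraMap K K' x⟯ K' = Module.finrank k⟮x⟯ K * Module.finrank K K' := by
  have e : (k⟮x⟯ : IntermediateField k K).map (IsScalarTower.toAlgHom k K K') =
      k⟮algebraMap K K' x⟯ := by
    rw [adjoin_map, Set.image_singleton]; rfl
  let i : k⟮x⟯ ≃+* k⟮algebraMap K K' x⟯ :=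
    ((IntermediateField.equivMap k⟮x⟯ (IsScalarTower.toAlgHom k K K')).trans
      (IntermediateField.equivOfEq e)).toRingEquiv
  rw [← Algebra.finrank_eq_of_equiv_equiv i (RingEquiv.refl K') (RingHom.ext fun s => rfl),
    Module.finrank_mul_finrank]

theorem exists_under (h : FF k K) (Q : Place k K') :
    ∃ P : Place k K, ∃ e : ℕ, 0 < e ∧ IsOverWith Q P e := by
  have hV : ¬ IsField (Q.O.comap (algebraMap K K')) := by
    intro hF
    have hall : ∀ a : K, Q.1 (algebraMap K K' a) ≤ 1 := by
      intro a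
      rcases (Q.O.comap (algebraMap K K')).mem_or_inv_mem a with h1 | h1
      · exact h1
      · rcases eq_or_ne a 0 with rfl | ha
        · simp
        · obtain ⟨b, hb⟩ := hF.mul_inv_cancel (a := (⟨a⁻¹, h1⟩ : Q.O.comap (algebraMap K K')))
            (fun e => inv_ne_zero ha (congrArg Subtype.val e))
          have : a⁻¹ * (b : K) = 1 := congrArg Subtype.val hb
          have hba : (b : K) = a := by
            rw [← inv_inv a, inv_eq_of_mul_eq_one_right this]
          exact hba ▸ b.2
    let A : Subalgebra K K' :=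
      { Q.O.toSubring.toSubsemiring with algebraMap_mem' := fun a => hall a }
    obtain ⟨t, ht0, ht⟩ := exists_uniformizer Q
    have hm : t ∈ Q.O := by rw [mem_O_iff, ht, ← exp_zero, exp_le_exp]; norm_num
    have := mem_of_isAlgebraic A hm (Algebra.IsAlgebraic.isAlgebraic t)
    have h2 : Q.1 t⁻¹ ≤ 1 := this
    rw [map_inv₀, ht, ← exp_neg, ← exp_zero, exp_le_exp] at h2
    norm_num at h2
  obtain ⟨P, hP⟩ := h.exists_place_of_valuationSubring (Q.O.comap (algebraMap K K'))
    (fun c => by
      show Q.1 (algebraMap K K' (algebraMap k K c)) ≤ 1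
      rw [← IsScalarTower.algebraMap_apply]; exact Q.2.1 c) hV
  have hiff : ∀ a : K, P.1 a ≤ 1 ↔ Q.1 (algebraMap K K' a) ≤ 1 := fun a => by
    rw [← mem_O_iff, hP]; rfl
  obtain ⟨t, ht0, ht⟩ := exists_uniformizer P
  have ht0' : algebraMap K K' t ≠ 0 := by simpa using ht0
  have hpos : 0 < Q.ord (algebraMap K K' t) := by
    have h1 : ¬ Q.1 (algebraMap K K' t⁻¹) ≤ 1 := by
      rw [← hiff, map_inv₀, ht, ← exp_neg, ← exp_zero, exp_le_exp]; norm_num
    rw [map_inv₀, val_le_one_iff Q (inv_ne_zero ht0'), ord_inv] at h1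
    omega
  refine ⟨P, (Q.ord (algebraMap K K' t)).toNat, by omega, fun x => ?_⟩
  rcases eq_or_ne x 0 with rfl | hx
  · rw [map_zero, map_zero, map_zero, zero_pow (by omega)]
  · have := val_eq_zpow P ht (Q.1.comap (algebraMap K K')) (fun a ha => (hiff a).1 ha) hx
    rw [Valuation.comap_apply, Valuation.comap_apply] at this
    rw [this, val_eq_exp_neg_ord Q ht0', ← exp_zsmul, val_eq_exp_neg_ord P hx, ← exp_nsmul]
    congr 1
    simp only [smul_eq_mul, nsmul_eq_mul, Int.ofNat_toNat]
    rw [max_eq_left (by omega)]; ring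

omit [IsScalarTower k K K'] [FiniteDimensional K K'] in
theorem isOverWith_pos {Q : Place k K'} {P : Place k K} {e : ℕ} (h : IsOverWith Q P e) : 0 < e := by
  rcases Nat.eq_zero_or_pos e with rfl | he
  · simpa using h 0
  · exact he

omit [IsScalarTower k K K'] [FiniteDimensional K K'] in
theorem ord_of_isOverWith {Q : Place k K'} {P : Place k K} {e : ℕ} (h : IsOverWith Q P e) (x : K) :
    Q.ord (algebraMap K K' x) = e * P.ord x := by
  simp only [Place.ord, h x, log_pow]
  simp

omit [IsScalarTower k K K'] [FiniteDimensional K K'] in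
theorem isOverWith_unique {Q : Place k K'} {P P' : Place k K} {e e' : ℕ} (h : IsOverWith Q P e)
    (h' : IsOverWith Q P' e') : P = P' ∧ e = e' := by
  have hP : P = P' := place_ext fun x => by
    have e1 := h x
    have e2 := h' x
    rw [← pow_le_one_iff (isOverWith_pos h).ne' (x := P.1 x), ← e1, e2,
      pow_le_one_iff (isOverWith_pos h').ne']
  subst hP
  refine ⟨rfl, ?_⟩
  obtain ⟨t, ht0, ht⟩ := exists_uniformizer P
  have h1 := ord_of_isOverWith h t
  have h2 := ord_of_isOverWith h' t
  have : P.ord t = 1 := by rw [ord_eq_of_val_eq P ht]; rfl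
  rw [this, mul_one] at h1 h2
  omega

omit [IsScalarTower k K K'] [FiniteDimensional K K'] in
theorem ramIdx_eq {Q : Place k K'} {P : Place k K} {e : ℕ} (h : IsOverWith Q P e) :
    ramIdx Q P = e := by
  classical
  have hex : IsOver Q P := ⟨e, h⟩
  rw [ramIdx]
  split
  · rename_i h'
    exact (isOverWith_unique (Nat.find_spec (h' : ∃ e, IsOverWith Q P e)) h).2
  · rename_i h'
    exact absurd hex h'

omit [IsScalarTower k K K'] [FiniteDimensional K K'] in
theorem isOverWith_ramIdx {Q : Place k K'} {P : Place k K} (h : IsOver Q P) :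
    IsOverWith Q P (ramIdx Q P) := by
  obtain ⟨e, he⟩ := h
  rw [ramIdx_eq he]; exact he

/-- The place below `Q`. -/
noncomputable def under (h : FF k K) (Q : Place k K') : Place k K := (exists_under h Q).choose

theorem isOver_under (h : FF k K) (Q : Place k K') : IsOver Q (under h Q) :=
  let ⟨e, _, he⟩ := (exists_under h Q).choose_spec
  ⟨e, he⟩

theorem isOver_iff (h : FF k K) {Q : Place k K'} {P : Place k K} : IsOver Q P ↔ under h Q = P := by
  refine ⟨fun ⟨e, he⟩ => ?_, fun e => e ▸ isOver_under h Q⟩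
  obtain ⟨e', he'⟩ := isOver_under h Q
  exact (isOverWith_unique he' he).1

theorem ord_algebraMap (h : FF k K) (Q : Place k K') (x : K) :
    Q.ord (algebraMap K K' x) = ramIdx Q (under h Q) * (under h Q).ord x :=
  ord_of_isOverWith (isOverWith_ramIdx (isOver_under h Q)) x

theorem exists_only_pole (h : FF k K) (P : Place k K) :
    ∃ (x : K) (m : ℕ), 0 < m ∧ Transcendental k x ∧
      poleDiv (k := k) x = Finsupp.single P (m : ℤ) := by
  obtain ⟨y, hy, -⟩ := id h
  haveI := h.finiteDimensional hy
  obtain ⟨c, hc⟩ := exists_lower_bound h hy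
  -- some multiple of `P` has more sections than the constants
  obtain ⟨N, hN⟩ : ∃ N : ℕ, ell (0 : Divisor k K) < ell (Finsupp.single P (N : ℤ)) := by
    set B := poleDiv (k := k) y
    have hn : B.deg = Module.finrank k⟮y⟯ K := deg_poleDiv h hy
    have hnpos : (1 : ℤ) ≤ (Module.finrank k⟮y⟯ K : ℤ) := by exact_mod_cast Module.finrank_pos
    by_contra! hall
    obtain ⟨N, hN⟩ : ∃ N : ℕ, c + ell (0 : Divisor k K) < N :=
      ⟨(c + ell (0 : Divisor k K)).toNat + 1, by omega⟩
    have hdp : (1 : ℤ) ≤ P.deg := by exact_mod_cast deg_pos h P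
    obtain ⟨l, hl⟩ : ∃ l : ℕ, (N : ℤ) * P.deg + c < l := ⟨((N : ℤ) * P.deg + c).toNat + 1, by omega⟩
    have h1 := hc l
    have h2 := ell_sub_ell_le h (D := l • B - Finsupp.single P (N : ℤ)) (E := l • B)
      (sub_le_self _ (Finsupp.single_nonneg.2 (Int.natCast_nonneg _)))
    rw [deg_sub, deg_single] at h2
    have h3 : (l : ℤ) < (Module.finrank k⟮y⟯ K : ℤ) * (l + 1) := by nlinarith
    have h4 : 0 < ell (l • B - Finsupp.single P (N : ℤ)) := by omega
    haveI := finiteDimensional_L h (l • B - Finsupp.single P (N : ℤ))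
    have hne : FunFld.L (l • B - Finsupp.single P (N : ℤ)) ≠ ⊥ := fun hb => by
      rw [ell, hb, finrank_bot] at h4; omega
    obtain ⟨z, hz, hz0⟩ := Submodule.exists_mem_ne_zero_of_ne_bot hne
    have hz' := (mem_L_iff_div h hz0).1 hz
    have hle : Finsupp.single P (N : ℤ) ≤ l • B + FunFld.div k z := by
      intro Q
      have := hz' Q
      simp at this ⊢
      omega
    have h5 := ell_sub_ell_le h hle
    rw [deg_add, deg_div h, deg_single, deg_smul, hn, ell_add_div h _ hz0] at h5
    have h6 := hall N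
    nlinarith
  haveI := finiteDimensional_L h (0 : Divisor k K)
  have hne : ¬ FunFld.L (Finsupp.single P (N : ℤ)) ≤ FunFld.L (0 : Divisor k K) := fun hh => by
    have := Submodule.finrank_mono hh
    rw [← ell, ← ell] at this
    omega
  obtain ⟨x, hx, hx0⟩ := SetLike.not_le_iff_exists.1 hne
  have hne0 : x ≠ 0 := fun e => hx0 (e ▸ zero_mem _)
  have hoth : ∀ Q : Place k K, Q ≠ P → 0 ≤ Q.ord x := fun Q hQ => by
    simpa [Finsupp.single_eq_of_ne hQ] using (mem_L_iff_ord hne0).1 hx Q
  have hord : P.ord x < 0 := by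
    by_contra hc
    refine hx0 ((mem_L_iff_ord hne0).2 fun S => ?_)
    rcases eq_or_ne S P with rfl | hS
    · simp; omega
    · simpa using hoth S hS
  refine ⟨x, (-P.ord x).toNat, by omega,
    transcendental_of_val_ne_one P hne0 (fun e => by simp [Place.ord, e] at hord), ?_⟩
  ext Q
  rw [poleDiv_apply h]
  rcases eq_or_ne Q P with rfl | hQ
  · rw [Finsupp.single_eq_same]; omega
  · rw [Finsupp.single_eq_of_ne hQ]
    have := hoth Q hQ; omega

theorem poleDiv_algebraMap (h : FF k K) {P : Place k K} {x : K} {m : ℕ}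
    (hpd : poleDiv (k := k) x = Finsupp.single P (m : ℤ)) (Q : Place k K') :
    poleDiv (k := k) (algebraMap K K' x) Q =
      (ramIdx Q (under h Q) : ℤ) * (Finsupp.single P (m : ℤ) : Divisor k K) (under h Q) := by
  rw [poleDiv_apply (ff_extend h), ord_algebraMap h, ← hpd, poleDiv_apply h,
    mul_max_of_nonneg _ _ (Int.natCast_nonneg _), mul_zero, mul_neg]

theorem finite_fibre (h : FF k K) (P : Place k K) :
    {Q : Place k K' | IsOver Q P}.Finite := by
  obtain ⟨x, m, hm, -, hpd⟩ := exists_only_pole h P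
  refine (poleDiv (k := k) (algebraMap K K' x)).support.finite_toSet.subset fun Q hQ => ?_
  rw [Finset.mem_coe, Finsupp.mem_support_iff, poleDiv_algebraMap h hpd, (isOver_iff h).1 hQ,
    Finsupp.single_eq_same]
  have := isOverWith_pos (isOverWith_ramIdx hQ)
  positivity

theorem sum_fibre (h : FF k K) (P : Place k K) (s : Finset (Place k K'))
    (hs : ∀ Q, Q ∈ s ↔ IsOver Q P) :
    ∑ Q ∈ s, ramIdx Q P * Q.deg = Module.finrank K K' * P.deg := by
  obtain ⟨x, m, hm, hx, hpd⟩ := exists_only_pole h P
  have hx' : Transcendental k (algebraMap K K' x) :=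
    fun ha => hx ((isAlgebraic_algebraMap_iff (algebraMap K K').injective).1 ha)
  have h1 := deg_poleDiv (ff_extend (K' := K') h) hx'
  have h2 := deg_poleDiv h hx
  rw [hpd, deg_single] at h2
  rw [deg_eq_sum _ s (fun Q hQ => by
    rw [Finsupp.mem_support_iff, poleDiv_algebraMap h hpd] at hQ
    rw [hs, isOver_iff h]
    by_contra hne
    rw [Finsupp.single_eq_of_ne hne, mul_zero] at hQ
    exact hQ rfl), finrank_adjoin_map, Nat.cast_mul, ← h2] at h1
  have h3 : ∀ Q ∈ s, poleDiv (k := k) (algebraMap K K' x) Q * (Q.deg : ℤ) =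
      (m : ℤ) * ((ramIdx Q P * Q.deg : ℕ) : ℤ) := fun Q hQ => by
    rw [poleDiv_algebraMap h hpd, (isOver_iff h).1 ((hs Q).1 hQ), Finsupp.single_eq_same]
    push_cast; ring
  rw [Finset.sum_congr rfl h3, ← Finset.mul_sum, ← Nat.cast_sum] at h1
  have h4 : (m : ℤ) * ((∑ Q ∈ s, ramIdx Q P * Q.deg : ℕ) : ℤ) =
      (m : ℤ) * ((Module.finrank K K' * P.deg : ℕ) : ℤ) := by rw [h1]; push_cast; ring
  exact_mod_cast mul_left_cancel₀ (by exact_mod_cast hm.ne') h4

theorem exists_over (h : FF k K) (P : Place k K) : ∃ Q : Place k K', IsOver Q P := by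
  by_contra! hc
  have := sum_fibre h P (∅ : Finset (Place k K')) (fun Q => by simp [hc Q])
  simp only [Finset.sum_empty] at this
  have := Nat.mul_pos (Module.finrank_pos (R := K) (M := K')) (deg_pos h P)
  omega

/-! ## conorm -/

theorem conorm_apply (h : FF k K) (D : Divisor k K) (Q : Place k K') :
    FunFld.conorm K' D Q = (ramIdx Q (under h Q) : ℤ) * D (under h Q) := by
  classical
  rw [FunFld.conorm]
  simp only [dif_pos (finite_fibre (K' := K') h _)]
  rw [Finsupp.sum_apply, Finsupp.sum_eq_single (under h Q)]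
  · rw [Finsupp.smul_apply, Finsupp.finsetSum_apply, Finset.sum_eq_single Q]
    · simp [mul_comm]
    · intro R _ hR; simp [Finsupp.single_eq_of_ne hR.symm]
    · intro hQ; exact absurd ((finite_fibre h _).mem_toFinset.2 (isOver_under h Q)) hQ
  · intro P _ hP
    rw [Finsupp.smul_apply, Finsupp.finsetSum_apply, Finset.sum_eq_zero, smul_zero]
    intro R hR
    have : R ≠ Q := by
      rintro rfl
      exact hP ((isOver_iff h).1 ((finite_fibre h P).mem_toFinset.1 hR)).symm
    simp [Finsupp.single_eq_of_ne this.symm]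
  · intro hP; simp

theorem conorm_div (h : FF k K) (x : K) :
    FunFld.div k (algebraMap K K' x) = FunFld.conorm K' (FunFld.div k x) := by
  ext Q
  rw [div_apply (ff_extend h), conorm_apply h, div_apply h, ord_algebraMap h]

theorem deg_conorm (h : FF k K) (D : Divisor k K) :
    (FunFld.conorm K' D).deg = Module.finrank K K' * D.deg := by
  classical
  have hsub : (FunFld.conorm K' D).support ⊆
      D.support.biUnion fun P => (finite_fibre (K' := K') h P).toFinset := by
    intro Q hQ
    rw [Finsupp.mem_support_iff, conorm_apply h] at hQ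
    exact Finset.mem_biUnion.2 ⟨under h Q, Finsupp.mem_support_iff.2 (fun e => hQ (by rw [e, mul_zero])),
      (finite_fibre h _).mem_toFinset.2 (isOver_under h Q)⟩
  rw [deg_eq_sum _ _ hsub, Finset.sum_biUnion, deg_eq_sum D _ (Finset.Subset.refl _), Finset.mul_sum]
  · refine Finset.sum_congr rfl fun P _ => ?_
    have hP := sum_fibre (K' := K') h P (finite_fibre h P).toFinset
      fun Q => (finite_fibre h P).mem_toFinset
    calc ∑ Q ∈ (finite_fibre (K' := K') h P).toFinset, FunFld.conorm K' D Q * (Q.deg : ℤ)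
        = D P * ((∑ Q ∈ (finite_fibre (K' := K') h P).toFinset, ramIdx Q P * Q.deg : ℕ) : ℤ) := by
          push_cast
          rw [Finset.mul_sum]
          refine Finset.sum_congr rfl fun Q hQ => ?_
          rw [conorm_apply h, (isOver_iff h).1 ((finite_fibre h P).mem_toFinset.1 hQ)]
          ring
      _ = _ := by rw [hP]; push_cast; ring
  · intro P _ P' _ hne
    rw [Function.onFun, Finset.disjoint_left]
    intro Q hQ hQ'
    exact hne (((isOver_iff h).1 ((finite_fibre h P).mem_toFinset.1 hQ)).symm.trans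
      ((isOver_iff h).1 ((finite_fibre h P').mem_toFinset.1 hQ')))

/-! ## the integral closure of a valuation ring -/

theorem isIntegral_iff (h : FF k K) (P : Place k K) [Algebra P.O K'] [IsScalarTower P.O K K']
    (z : K') : IsIntegral P.O z ↔ ∀ Q : Place k K', IsOver Q P → Q.1 z ≤ 1 := by
  have hmap : ∀ a : P.O, algebraMap P.O K' a = algebraMap K K' (a : K) := fun a =>
    IsScalarTower.algebraMap_apply P.O K K' a
  constructor
  · intro hz Q hQ
    by_contra hlt
    push Not at hlt
    obtain ⟨p, hp, hp0⟩ := hz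
    have he := isOverWith_ramIdx hQ
    have hle : ∀ a : P.O, Q.1 (algebraMap P.O K' a) ≤ 1 := fun a => by
      rw [hmap, he (a : K)]; exact pow_le_one₀ zero_le a.2
    have key : Q.1 (eval₂ (algebraMap P.O K') z p) = Q.1 z ^ p.natDegree := by
      rw [eval₂_eq_sum_range, Finset.sum_range_succ, hp.coeff_natDegree, map_one, one_mul,
        Valuation.map_add_eq_of_lt_right, map_pow]
      rw [map_pow]
      refine Valuation.map_sum_lt _ (pow_ne_zero _ (ne_zero_of_lt hlt)) fun i hi => ?_
      rw [map_mul, map_pow]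
      exact lt_of_le_of_lt (mul_le_of_le_one_left' (hle _))
        (pow_lt_pow_right₀ hlt (Finset.mem_range.1 hi))
    rw [hp0, map_zero] at key
    exact pow_ne_zero _ (ne_zero_of_lt hlt) key.symm
  · intro hz
    have hff : FF k K' := ff_extend h
    let S : Subring K' := (integralClosure P.O K').toSubring
    haveI : IsIntegrallyClosedIn S K' :=
      inferInstanceAs (IsIntegrallyClosedIn (integralClosure P.O K') K')
    by_contra hnot
    obtain ⟨V, hSV, hzV⟩ : ∃ V : ValuationSubring K', S ≤ V.toSubring ∧ z ∉ V := by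
      by_contra! hall
      apply hnot
      show z ∈ S
      rw [Subring.eq_iInf_of_isIntegrallyClosedIn (R := S)]
      simp only [Subring.mem_iInf]
      exact fun V => hall V.1 V.2
    have hOV : ∀ a : K, P.1 a ≤ 1 → algebraMap K K' a ∈ V := fun a ha => by
      rw [← hmap ⟨a, ha⟩]
      exact hSV (Subalgebra.algebraMap_mem (integralClosure P.O K') _)
    obtain ⟨R, hR⟩ := hff.exists_place_of_valuationSubring V
      (fun c => by rw [IsScalarTower.algebraMap_apply k K K']; exact hOV _ (P.2.1 c))
      (fun hF => hzV (by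
        rcases V.mem_or_inv_mem z with h1 | h1
        · exact h1
        · rcases eq_or_ne z 0 with rfl | hz0
          · exact zero_mem _
          · obtain ⟨b, hb⟩ := hF.mul_inv_cancel (a := (⟨z⁻¹, h1⟩ : V))
              (fun e => inv_ne_zero hz0 (congrArg Subtype.val e))
            have : z⁻¹ * (b : K') = 1 := congrArg Subtype.val hb
            rw [show z = (b : K') by rw [← inv_inv z, inv_eq_of_mul_eq_one_right this]]
            exact b.2))
    have hRP : IsOver R P := by
      rw [isOver_iff h]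
      refine (eq_of_O_le fun a ha => ?_).symm
      obtain ⟨e, he⟩ := isOver_under h R
      have h1 : R.1 (algebraMap K K' a) ≤ 1 := by rw [← mem_O_iff, hR]; exact hOV a ha
      rw [he a, pow_le_one_iff (isOverWith_pos he).ne'] at h1
      exact h1
    exact hzV (hR ▸ hz R hRP)

theorem finite_integralClosure (h : FF k K) (P : Place k K) [Algebra P.O K']
    [IsScalarTower P.O K K'] : Module.Finite P.O (integralClosure P.O K') := by
  classical
  have hff : FF k K' := ff_extend h
  have hmap : ∀ a : P.O, algebraMap P.O K' a = algebraMap K K' (a : K) := fun a =>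
    IsScalarTower.algebraMap_apply P.O K K' a
  obtain ⟨t, ht0, ht⟩ := exists_uniformizer P
  let tO : P.O := ⟨t, by rw [mem_O_iff, ht, ← exp_zero, exp_le_exp]; norm_num⟩
  set s := (finite_fibre (K' := K') h P).toFinset
  have hs : ∀ Q, Q ∈ s ↔ IsOver Q P := fun Q => (finite_fibre h P).mem_toFinset
  set R := loc s (fun _ => (0 : ℤ))
  have hR : ∀ z, z ∈ R ↔ IsIntegral P.O z := fun z => by
    rw [mem_loc, isIntegral_iff h P]
    simp [hs]
  have hr := rel_loc hff s (fun Q => -(ramIdx Q P : ℤ)) (fun _ => 0) (fun Q _ => by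
    show -(ramIdx Q P : ℤ) ≤ 0
    omega)
  haveI := hr.fin
  haveI := h.finite_residueField P
  set U := loc s (fun Q => -(ramIdx Q P : ℤ))
  have hUR : U ≤ R := hr.le
  have hUval : ∀ z, z ∈ U ↔ ∀ Q, IsOver Q P → Q.1 z ≤ exp (-(ramIdx Q P : ℤ)) := fun z => by
    rw [mem_loc]; simp [hs]
  have hvt : ∀ Q, IsOver Q P → Q.1 (algebraMap K K' t) = exp (-(ramIdx Q P : ℤ)) := fun Q hQ => by
    rw [isOverWith_ramIdx hQ t, ht, ← exp_nsmul]; simp
  have hsmulR : ∀ (a : P.O) (z : K'), z ∈ R → a • z ∈ R := fun a z hz =>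
    (hR _).2 (((hR z).1 hz).smul a)
  have hsmulU : ∀ (a : P.O) (z : K'), z ∈ U → a • z ∈ U := fun a z hz => (hUval _).2 fun Q hQ => by
    rw [Algebra.smul_def, map_mul, hmap, isOverWith_ramIdx hQ (a : K)]
    exact (mul_le_of_le_one_left' (pow_le_one₀ zero_le a.2)).trans ((hUval z).1 hz Q hQ)
  have hmU : ∀ (a : P.O) (z : K'), P.1 (a : K) < 1 → z ∈ R → a • z ∈ U := fun a z ha hz =>
    (hUval _).2 fun Q hQ => by
      have h2 : Q.1 z ≤ 1 := by simpa using mem_loc.1 hz Q ((hs Q).2 hQ)
      rw [Algebra.smul_def, map_mul, hmap, isOverWith_ramIdx hQ (a : K)]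
      refine (mul_le_of_le_one_right' h2).trans ?_
      refine (pow_le_pow_left₀ zero_le ((lt_one_iff_le _).1 ha) _).trans ?_
      rw [← exp_nsmul, exp_le_exp]; simp
  -- a minimal family generating `R` modulo `U`
  let b₀ := Module.finBasis k (R ⧸ U.comap R.subtype)
  choose y₀ hy₀ using fun i => Submodule.mkQ_surjective _ (b₀ i)
  have hex : ∃ n, ∃ y : Fin n → R, ∀ z ∈ R, ∃ a : Fin n → P.O,
      z - ∑ i, a i • (y i : K') ∈ U := by
    refine ⟨_, y₀, fun z hz => ⟨fun i => algebraMap k P.O (b₀.repr (Submodule.Quotient.mk ⟨z, hz⟩) i), ?_⟩⟩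
    have h1 := b₀.sum_repr (Submodule.Quotient.mk ⟨z, hz⟩)
    simp only [← hy₀, ← map_smul, ← map_sum] at h1
    have h2 := (Submodule.Quotient.eq _).1 h1.symm
    simp only [Submodule.mem_comap, map_sub, map_sum, map_smul, Submodule.subtype_apply] at h2
    have h3 : ∀ i, algebraMap k P.O (b₀.repr (Submodule.Quotient.mk ⟨z, hz⟩) i) • (y₀ i : K') =
        b₀.repr (Submodule.Quotient.mk ⟨z, hz⟩) i • (y₀ i : K') := fun i => by
      rw [Algebra.smul_def, Algebra.smul_def, hmap, coe_algebraMap_O,
        ← IsScalarTower.algebraMap_apply]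
    simp only [h3]
    exact h2
  obtain ⟨y, hy⟩ := Nat.find_spec hex
  have hmin : ∀ m, m < Nat.find hex → ¬ ∃ y : Fin m → R, ∀ z ∈ R, ∃ a : Fin m → P.O,
      z - ∑ i, a i • (y i : K') ∈ U := fun m => Nat.find_min hex
  generalize hn' : Nat.find hex = n at y hy hmin
  have hsumR : ∀ a : Fin n → P.O, ∑ i, a i • (y i : K') ∈ R := fun a =>
    sum_mem fun i _ => hsmulR _ _ (y i).2
  -- minimality: relations modulo `U` have coefficients in the maximal ideal
  have hrel : ∀ a : Fin n → P.O, ∑ i, a i • (y i : K') ∈ U → ∀ i, P.1 (a i : K) < 1 := by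
    intro a ha j
    by_contra hj
    have hj1 : P.1 (a j : K) = 1 := le_antisymm (a j).2 (not_lt.1 hj)
    have haj : (a j : K) ≠ 0 := fun e => by simp [e] at hj1
    let u : P.O := ⟨(a j : K)⁻¹, by rw [mem_O_iff, map_inv₀, hj1, inv_one]⟩
    have hu : u * a j = 1 := Subtype.ext (inv_mul_cancel₀ haj)
    cases n with
    | zero => exact j.elim0
    | succ m =>
      refine hmin m (by omega) ⟨fun i => y (j.succAbove i), fun z hz => ?_⟩
      obtain ⟨c, hc⟩ := hy z hz
      refine ⟨fun i => c (j.succAbove i) - c j * (u * a (j.succAbove i)), ?_⟩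
      have h4 := U.add_mem hc (hsmulU (c j * u) _ ha)
      convert h4 using 1
      rw [Fin.sum_univ_succAbove _ j, Fin.sum_univ_succAbove _ j, smul_add, Finset.smul_sum,
        smul_smul, mul_assoc, hu, mul_one]
      simp only [smul_smul, mul_assoc, sub_smul, Finset.sum_sub_distrib]
      abel
  have hind : LinearIndependent K fun i => (y i : K') := by
    rw [Fintype.linearIndependent_iff]
    intro c hc i
    by_contra hi
    obtain ⟨j, -, hjmax⟩ := Finset.univ.exists_max_image (fun l => P.1 (c l)) ⟨i, Finset.mem_univ _⟩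
    have hcj : c j ≠ 0 := fun e => hi (by simpa [e] using hjmax i (Finset.mem_univ _))
    let a : Fin n → P.O := fun l => ⟨c l / c j, by
      rw [mem_O_iff, map_div₀]
      exact div_le_one_of_le₀ (hjmax l (Finset.mem_univ _)) zero_le⟩
    have h5 : ∑ l, a l • (y l : K') = 0 := by
      rw [← mul_eq_zero_iff_left (show algebraMap K K' (c j) ≠ 0 by simpa using hcj), Finset.mul_sum, ← hc]
      refine Finset.sum_congr rfl fun l _ => ?_
      rw [Algebra.smul_def, Algebra.smul_def, hmap, ← mul_assoc, ← map_mul]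
      simp [a, hcj, mul_div_cancel₀]
    have := hrel a (by rw [h5]; exact U.zero_mem) j
    simp [a, hcj] at this
  have hcardn : n = Module.finrank K K' := by
    let Ψ : (Fin n → P.O) →ₗ[k] (R ⧸ U.comap R.subtype) := (Submodule.mkQ _) ∘ₗ
      { toFun := fun a => (⟨∑ i, a i • (y i : K'), hsumR a⟩ : R)
        map_add' := fun a b => Subtype.ext (by simp [add_smul, Finset.sum_add_distrib])
        map_smul' := fun c a => Subtype.ext (by
          rw [RingHom.id_apply]
          show ∑ i, (c • a) i • (y i : K') = c • ∑ i, a i • (y i : K')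
          rw [Finset.smul_sum]
          refine Finset.sum_congr rfl fun i _ => ?_
          rw [Pi.smul_apply, Algebra.smul_def (c • a i), Algebra.smul_def (a i), hmap, hmap,
            coe_smul_O, Algebra.smul_def c, Algebra.smul_def c, map_mul,
            ← IsScalarTower.algebraMap_apply, mul_assoc]) }
    have hΨ : Function.Surjective Ψ := fun q => by
      obtain ⟨⟨z, hz⟩, rfl⟩ := Submodule.mkQ_surjective _ q
      obtain ⟨a, ha⟩ := hy z hz
      exact ⟨a, ((Submodule.Quotient.eq (U.comap R.subtype)).2 (show z - ∑ i, a i • (y i : K') ∈ U from ha)).symm⟩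
    let Φ : (Fin n → P.O) →ₗ[k] (Fin n → IsLocalRing.ResidueField P.O) :=
      LinearMap.pi fun i => residueLin P ∘ₗ LinearMap.proj i
    have hΦ : Function.Surjective Φ := fun f => by
      choose g hg using fun i => residueLin_surjective P (f i)
      exact ⟨g, funext hg⟩
    have hker : LinearMap.ker Ψ = LinearMap.ker Φ := by
      ext a
      rw [LinearMap.mem_ker, LinearMap.mem_ker, funext_iff]
      constructor
      · intro ha i
        exact (residue_eq_zero_iff P (a i)).2 (hrel a ((Submodule.Quotient.mk_eq_zero (U.comap R.subtype)).1 ha) i)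
      · intro ha
        exact (Submodule.Quotient.mk_eq_zero (U.comap R.subtype)).2 (show ∑ i, a i • (y i : K') ∈ U from
          sum_mem fun i _ => hmU _ _ ((residue_eq_zero_iff P (a i)).1 (ha i)) (y i).2)
    have e := ((Ψ.quotKerEquivOfSurjective hΨ).symm.trans
      ((Submodule.quotEquivOfEq _ _ hker).trans (Φ.quotKerEquivOfSurjective hΦ))).finrank_eq
    rw [Module.finrank_pi_fintype, Finset.sum_const, Finset.card_univ, Fintype.card_fin,
      smul_eq_mul] at e
    have h6 := hr.eq
    rw [e] at h6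
    simp only [sub_neg_eq_add, zero_add] at h6
    have h7 := sum_fibre h P s hs
    have h8 : (n : ℤ) * P.deg = (Module.finrank K K' : ℤ) * P.deg := by
      rw [← Nat.cast_mul, ← Nat.cast_mul, ← h7]
      push_cast
      push_cast at h6
      exact h6
    exact_mod_cast mul_right_cancel₀ (by exact_mod_cast (deg_pos h P).ne') h8
  have hspanK : Submodule.span K (Set.range fun i => (y i : K')) = ⊤ :=
    hind.span_eq_top_of_card_eq_finrank' (by rw [Fintype.card_fin, hcardn])
  refine ⟨⟨Finset.univ.image fun i => (⟨(y i : K'), (hR _).1 (y i).2⟩ : integralClosure P.O K'), ?_⟩⟩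
  rw [eq_top_iff]
  rintro ⟨z, hz⟩ -
  obtain ⟨c, hc⟩ := (Submodule.mem_span_range_iff_exists_fun K).1
    (show z ∈ Submodule.span K (Set.range fun i => (y i : K')) by rw [hspanK]; trivial)
  have hcO : ∀ i, P.1 (c i) ≤ 1 := by
    intro i
    by_contra hi
    push Not at hi
    obtain ⟨j, -, hjmax⟩ := Finset.univ.exists_max_image (fun l => P.1 (c l)) ⟨i, Finset.mem_univ _⟩
    have hj1 : 1 < P.1 (c j) := lt_of_lt_of_le hi (hjmax i (Finset.mem_univ _))
    have hcj : c j ≠ 0 := fun e => by simp [e] at hj1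
    let a : Fin n → P.O := fun l => ⟨c l / c j, by
      rw [mem_O_iff, map_div₀]
      exact div_le_one_of_le₀ (hjmax l (Finset.mem_univ _)) zero_le⟩
    let w : P.O := ⟨(c j)⁻¹, by rw [mem_O_iff, map_inv₀]; exact inv_le_one_of_one_le₀ hj1.le⟩
    have h5 : ∑ l, a l • (y l : K') = w • z := by
      rw [← hc, Finset.smul_sum]
      refine Finset.sum_congr rfl fun l _ => ?_
      rw [Algebra.smul_def, Algebra.smul_def w, Algebra.smul_def (c l), hmap, hmap, ← mul_assoc,
        ← map_mul]
      simp only [a, w]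
      rw [div_eq_mul_inv, mul_comm (c l)]
    have := hrel a (by
      rw [h5]
      exact hmU w z (by rw [map_inv₀]; exact inv_lt_one_of_one_lt₀ hj1) ((hR z).2 hz)) j
    simp [a, hcj] at this
  have heq : (⟨z, hz⟩ : integralClosure P.O K') =
      ∑ i, (⟨c i, hcO i⟩ : P.O) • (⟨(y i : K'), (hR _).1 (y i).2⟩ : integralClosure P.O K') := by
    refine Subtype.ext ?_
    show z = (integralClosure P.O K').val _
    rw [map_sum, ← hc]
    refine Finset.sum_congr rfl fun i _ => ?_
    rw [map_smul]
    show c i • (y i : K') = (⟨c i, hcO i⟩ : P.O) • (y i : K')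
    rw [Algebra.smul_def, Algebra.smul_def, hmap]
  rw [heq]
  exact Submodule.sum_mem _ fun i _ => Submodule.smul_mem _ _
    (Submodule.subset_span (by simp))

end Groth.Agent.FunField
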