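import Groth.Agent.Lib.FunField.AS26
import Groth.Agent.Lib.GeomFF26.Expansion

/-! # The order of `dx` at a place over `k(x)`, read through expansions -/

namespace Groth.Agent.FunField

open WithZero FunFld Polynomial
open Groth.Agent.GeomFF26 (val_D_of_val_eq D_map_mul D_map_const)
open scoped Multiplicative

universe w

variable {k K : Type*} [Field k] [Field K] [Algebra k K] [Algebra (RatFunc k) K]
  [IsScalarTower k (RatFunc k) K] {F : Type w} [Field F] [Algebra k F]

local notation "ι" => algebraMap (Polynomial k) (RatFunc k)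
local notation "α" => algebraMap (RatFunc k) K
local notation "χ" => algebraMap (RatFunc k) K RatFunc.X

omit [Algebra (RatFunc k) K] [IsScalarTower k (RatFunc k) K] in
theorem D_map_aeval (φ : K →ₐ[k] LaurentSeries F) (x : K) (q : k[X]) :
    LocRes.D F (φ (aeval x q)) = φ (aeval x (derivative q)) * LocRes.D F (φ x) := by
  induction q using Polynomial.induction_on with
  | C a => rw [aeval_C, derivative_C, map_zero, map_zero, zero_mul, D_map_const]
  | add p q hp hq => simp only [map_add, hp, hq, add_mul]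
  | monomial n a ih =>
    rw [show C a * X ^ (n + 1) = (C a * X ^ n) * X by ring, derivative_mul, derivative_X, mul_one,
      map_mul, D_map_mul, aeval_X, ih, map_add, map_mul (aeval x) (derivative (C a * X ^ n)) X,
      aeval_X]
    simp only [map_add, map_mul, aeval_X]
    ring

/-- The derivative in `k(x)`, from a chosen fraction. -/
noncomputable def fracDer (N M : k[X]) : RatFunc k :=
  ι (derivative N * M - N * derivative M) / ι M ^ 2

theorem D_map_frac (φ : K →ₐ[k] LaurentSeries F) {N M : k[X]} (hM : M ≠ 0) :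
    LocRes.D F (φ (α (ι N / ι M))) = φ (α (fracDer N M)) * LocRes.D F (φ χ) := by
  have hne : aeval χ M ≠ 0 := aeval_ne_zero transcendental_chi hM
  have hφ : φ (aeval χ M) ≠ 0 := (_root_.map_ne_zero φ.toRingHom).2 hne
  have h1 : aeval χ N = α (ι N / ι M) * aeval χ M := by
    rw [map_div₀, ← aeval_chi, ← aeval_chi, div_mul_cancel₀ _ hne]
  have h2 := congrArg (fun u => LocRes.D F (φ u)) h1
  beta_reduce at h2
  rw [D_map_mul, D_map_aeval, D_map_aeval] at h2
  simp only [fracDer, map_div₀, map_pow, map_mul, map_sub, ← aeval_chi] at h2 ⊢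
  field_simp at h2 ⊢
  linear_combination -h2

theorem natCast_ne_zero_ext {e : ℕ} (he : (e : k) ≠ 0) : (e : F) ≠ 0 := by
  rw [← map_natCast (algebraMap k F)]
  exact fun h => he ((algebraMap k F).injective (h.trans (map_zero _).symm))

omit [IsScalarTower k (RatFunc k) K] in
theorem chi_le_one {P : Place k K} {P₀ : Place k (RatFunc k)} {e : ℕ} (he : IsOverWith P P₀ e)
    (hX : P₀.1 RatFunc.X ≤ 1) : P.1 χ ≤ 1 := by
  rw [he]; exact pow_le_one₀ zero_le hX

/-- Tame finite places: `ord dx = e - 1`. -/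
theorem val_D_chi_finite {P : Place k K} {φ : K →ₐ[k] LaurentSeries F}
    (hφ : LocRes.IsExpansionAt P.1 φ) {P₀ : Place k (RatFunc k)} {e : ℕ}
    (he : IsOverWith P P₀ e) (hek : (e : k) ≠ 0) (hX : P₀.1 RatFunc.X ≤ 1) :
    Valued.v (LocRes.D F (φ χ)) = exp (-((e : ℤ) - 1)) := by
  obtain ⟨r, hr⟩ := P₀.2.2 (exp (-1))
  have hr0 : r ≠ 0 := fun h => by rw [h, map_zero] at hr; exact exp_ne_zero hr.symm
  have hnum : P₀.1 (ι r.num) < 1 := by
    have hrd : ι r.num = r * ι r.denom := (div_eq_iff
      (RatFunc.algebraMap_ne_zero r.denom_ne_zero)).1 (RatFunc.num_div_denom r)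
    have : P₀.1 (ι r.num) = P₀.1 r * P₀.1 (ι r.denom) := by rw [hrd, map_mul]
    rw [this, hr]
    refine lt_of_le_of_lt (mul_le_of_le_one_right' (val_poly_le P₀ hX _)) ?_
    rw [← exp_zero, exp_lt_exp]; norm_num
  obtain ⟨q, hq, -, hlt⟩ := exists_irreducible_of_val_lt P₀ (RatFunc.num_ne_zero hr0) hnum
  have hqv := val_irreducible P₀ hq hlt
  have hv : Valued.v (φ (α (ι q))) = exp (-(e : ℤ)) := by
    rw [hφ.1, he, hqv, ← exp_nsmul]; simp
  have hD := (val_D_of_val_eq _ hv).1 (by rw [Int.cast_natCast]; exact natCast_ne_zero_ext hek)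
  rw [← aeval_chi, D_map_aeval, map_mul] at hD
  have hder : derivative q ≠ 0 := by
    intro h0
    rw [h0, map_zero, map_zero, map_zero, zero_mul] at hD
    exact exp_ne_zero hD.symm
  have hndvd : ¬ q ∣ derivative q := fun hd =>
    (natDegree_le_of_dvd hd hder).not_gt
      (natDegree_derivative_lt (fun h => hder (derivative_of_natDegree_zero h)))
  rwa [hφ.1, aeval_chi, he, val_poly_eq_one P₀ hq hlt hndvd, one_pow, one_mul] at hD

/-- Tame infinite places: `ord dx = -e - 1`. -/
theorem val_D_chi_infinite {P : Place k K} {φ : K →ₐ[k] LaurentSeries F}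
    (hφ : LocRes.IsExpansionAt P.1 φ) {P₀ : Place k (RatFunc k)} {e : ℕ}
    (he : IsOverWith P P₀ e) (hek : (e : k) ≠ 0) (hX : 1 < P₀.1 RatFunc.X) :
    Valued.v (LocRes.D F (φ χ)) = exp ((e : ℤ) + 1) := by
  have hχ : Valued.v (φ χ) = exp (-(-(e : ℤ))) := by
    rw [hφ.1, he, val_X_of_one_lt P₀ hX, ← exp_nsmul]; simp
  rw [(val_D_of_val_eq _ hχ).1
    (by rw [Int.cast_neg, Int.cast_natCast, neg_ne_zero]; exact natCast_ne_zero_ext hek)]
  congr 1; ring

/-- At a finite pole of order `j` prime to the characteristic, `f'` has a pole of order `j + 1`. -/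
theorem val_fracDer_finite [PerfectField k] (P₀ : Place k (RatFunc k)) {q N M' : k[X]} {j : ℕ}
    (hq : Irreducible q) (hlt : P₀.1 (ι q) < 1) (hj : (j : k) ≠ 0) (hN : ¬ q ∣ N) (hM : ¬ q ∣ M') :
    P₀.1 (fracDer N (q ^ j * M')) = exp ((j : ℤ) + 1) := by
  obtain ⟨i, rfl⟩ : ∃ i, j = i + 1 := ⟨j - 1, by
    rcases j with _ | j
    · simp at hj
    · omega⟩
  set c : k := ((i + 1 : ℕ) : k)
  set T := C c * derivative q * M' * N - q * (derivative N * M' - N * derivative M')
  have e1 : derivative N * (q ^ (i + 1) * M') - N * derivative (q ^ (i + 1) * M') = -(q ^ i * T) := by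
    rw [derivative_mul, derivative_pow, Nat.add_sub_cancel]
    simp only [T, c]
    ring
  have hqsep : derivative q ≠ 0 := fun h0 => by
    have := (PerfectField.separable_of_irreducible hq)
    rw [Separable, h0, isCoprime_zero_right] at this
    exact hq.not_isUnit this
  have hT : ¬ q ∣ T := by
    intro hd
    have h1 : q ∣ C c * derivative q * M' * N := by
      have := dvd_add hd (dvd_mul_right q (derivative N * M' - N * derivative M'))
      rwa [sub_add_cancel] at this
    rcases hq.prime.dvd_or_dvd h1 with h2 | h2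
    · rcases hq.prime.dvd_or_dvd h2 with h3 | h3
      · rcases hq.prime.dvd_or_dvd h3 with h4 | h4
        · exact hq.not_isUnit (isUnit_of_dvd_unit h4 (isUnit_C.2 (isUnit_iff_ne_zero.2 hj)))
        · exact (natDegree_le_of_dvd h4 hqsep).not_gt
            (natDegree_derivative_lt (fun h => hqsep (derivative_of_natDegree_zero h)))
      · exact hM h3
    · exact hN h2
  rw [fracDer, e1]
  simp only [map_neg, map_mul, map_pow, map_div₀, Valuation.map_neg,
    val_irreducible P₀ hq hlt, val_poly_eq_one P₀ hq hlt hT, val_poly_eq_one P₀ hq hlt hM,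
    mul_one, ← exp_nsmul, ← exp_sub]
  congr 1
  simp only [nsmul_eq_mul]
  push_cast
  ring

/-- At infinity, `ord f' = ord f + 1` when `ord f` is prime to the characteristic. -/
theorem val_fracDer_infinite (P₀ : Place k (RatFunc k)) (hX : 1 < P₀.1 RatFunc.X) {N M : k[X]}
    (hN : N ≠ 0) (hM : M ≠ 0) (hnm : (N.natDegree : k) ≠ (M.natDegree : k)) :
    P₀.1 (fracDer N M) = exp ((N.natDegree : ℤ) - M.natDegree - 1) := by
  set a := N.natDegree with ha
  set b := M.natDegree with hb
  set R := derivative N * M - N * derivative M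
  have hab : 1 ≤ a + b := by
    rcases Nat.eq_zero_or_pos (a + b) with h | h
    · obtain ⟨ha0, hb0⟩ : a = 0 ∧ b = 0 := by omega
      rw [ha0, hb0] at hnm
      exact absurd rfl hnm
    · exact h
  have hle : R.natDegree ≤ a + b - 1 := by
    refine (natDegree_sub_le _ _).trans (max_le ?_ ?_)
    · rcases Nat.eq_zero_or_pos a with h | h
      · rw [derivative_of_natDegree_zero (ha ▸ h), zero_mul, natDegree_zero]; omega
      · have := natDegree_derivative_le N
        exact natDegree_mul_le.trans (by omega)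
    · rcases Nat.eq_zero_or_pos b with h | h
      · rw [derivative_of_natDegree_zero (hb ▸ h), mul_zero, natDegree_zero]; omega
      · have := natDegree_derivative_le M
        exact natDegree_mul_le.trans (by omega)
  have hcoef : R.coeff (a + b - 1) ≠ 0 := by
    have e : ∀ p q : k[X], 1 ≤ p.natDegree + q.natDegree →
        (derivative p * q).coeff (p.natDegree + q.natDegree - 1) =
          (p.natDegree : k) * p.leadingCoeff * q.leadingCoeff := by
      intro p q hpq
      rcases Nat.eq_zero_or_pos p.natDegree with h | h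
      · rw [derivative_of_natDegree_zero h, zero_mul, coeff_zero, h, Nat.cast_zero, zero_mul,
          zero_mul]
      · rw [show p.natDegree + q.natDegree - 1 = (p.natDegree - 1) + q.natDegree by omega,
          coeff_mul_add_eq_of_natDegree_le (natDegree_derivative_le p) le_rfl, coeff_derivative,
          show p.natDegree - 1 + 1 = p.natDegree by omega, Nat.cast_sub h, coeff_natDegree,
          coeff_natDegree]
        push_cast; ring
    have e1 := e N M (ha ▸ hb ▸ hab)
    have e2 := e M N (by omega)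
    rw [coeff_sub, ha, hb, e1, mul_comm N (derivative M), Nat.add_comm N.natDegree, e2]
    intro h0
    refine hnm (sub_eq_zero.1 ((mul_eq_zero.1 ?_).resolve_right
      (mul_ne_zero (leadingCoeff_ne_zero.2 hN) (leadingCoeff_ne_zero.2 hM))))
    linear_combination h0
  have hdeg : R.natDegree = a + b - 1 := le_antisymm hle (le_natDegree_of_ne_zero hcoef)
  have hR0 : R ≠ 0 := fun h => hcoef (by rw [h, coeff_zero])
  rw [fracDer, map_div₀, map_pow, val_poly_of_one_lt P₀ hX hR0, val_poly_of_one_lt P₀ hX hM,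
    val_X_of_one_lt P₀ hX, hdeg, ← hb, ← exp_nsmul, ← exp_nsmul, ← exp_nsmul, ← exp_sub]
  congr 1
  simp only [nsmul_eq_mul]
  push_cast [Nat.cast_sub hab]
  ring

namespace AS

variable [FiniteDimensional (RatFunc k) K] {y : K} {f : RatFunc k}

/-- Artin-Schreier ramified places: `ord dx = 1 - ord f`, shifted by `-4` over infinity. -/
theorem val_D_chi_pole [PerfectField k] (H : AS y f) {P : Place k K}
    {φ : K →ₐ[k] LaurentSeries F} (hφ : LocRes.IsExpansionAt P.1 φ) {P₀ : Place k (RatFunc k)}
    {e : ℕ} (he : IsOverWith P P₀ e) (hneg : P₀.ord f < 0) (hodd : Odd (P₀.ord f)) :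
    Valued.v (LocRes.D F (φ χ)) =
      exp (P₀.ord f - 1 + (if 1 < P₀.1 RatFunc.X then (4 : ℤ) else 0)) := by
  obtain ⟨he2, -, -⟩ := H.ramified he hneg hodd
  subst he2
  have hy := H.ord_y he hneg
  push_cast at hy
  have hy0 : y ≠ 0 := fun h => by rw [h, ord_zero] at hy; omega
  have h2F : (2 : F) = 0 := two_eq_zero_alg H.two
  have h2L : (2 : LaurentSeries F) = 0 := two_eq_zero_alg h2F
  have hoddcast : ∀ m : ℤ, Odd m → (m : F) ≠ 0 := by
    rintro _ ⟨r, rfl⟩
    push_cast
    rw [h2F, zero_mul, zero_add]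
    exact one_ne_zero
  have hvy : Valued.v (φ y) = exp (-P₀.ord f) := by
    rw [hφ.1, val_eq_exp_neg_ord P hy0]; congr 1; omega
  have hDy := (val_D_of_val_eq _ hvy).1 (hoddcast _ hodd)
  have hf0 : f ≠ 0 := fun h => by rw [h, ord_zero] at hneg; exact lt_irrefl _ hneg
  have hDf : LocRes.D F (φ (α f)) = LocRes.D F (φ y) := by
    rw [← H.eq, map_add, map_add, sq, D_map_mul]
    linear_combination (φ y * LocRes.D F (φ y)) * h2L
  rw [← RatFunc.num_div_denom f, D_map_frac φ f.denom_ne_zero] at hDf
  have hDfv := congrArg Valued.v hDf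
  rw [map_mul, hφ.1, he, hDy] at hDfv
  have hN : f.num ≠ 0 := RatFunc.num_ne_zero hf0
  have hoddk : ∀ n : ℕ, Odd n → (n : k) ≠ 0 := by
    rintro _ ⟨r, rfl⟩
    push_cast
    rw [H.two, zero_mul, zero_add]
    exact one_ne_zero
  have hordf : P₀.ord f = P₀.ord (ι f.num) - P₀.ord (ι f.denom) := by
    rw [← ord_div P₀ (RatFunc.algebraMap_ne_zero hN) (RatFunc.algebraMap_ne_zero f.denom_ne_zero),
      RatFunc.num_div_denom]
  obtain ⟨r, hr⟩ := hodd
  have key : P₀.1 (fracDer f.num f.denom) =
      exp (1 - P₀.ord f - (if 1 < P₀.1 RatFunc.X then (2 : ℤ) else 0)) := by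
    split_ifs with hX
    · have hval : ∀ q : k[X], q ≠ 0 → P₀.ord (ι q) = -(q.natDegree : ℤ) := fun q hq =>
        ord_eq_of_val_eq P₀ (by
          rw [val_poly_of_one_lt P₀ hX hq, val_X_of_one_lt P₀ hX, ← exp_nsmul, nsmul_eq_mul,
            mul_one])
      rw [hval _ hN, hval _ f.denom_ne_zero] at hordf
      rw [val_fracDer_infinite P₀ hX hN f.denom_ne_zero ?_]
      · congr 1; omega
      · intro h
        have hge : f.denom.natDegree ≤ f.num.natDegree := by omega
        refine hoddk (f.num.natDegree - f.denom.natDegree) ?_ (by rw [Nat.cast_sub hge, h, sub_self])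
        exact Nat.odd_iff.2 (by omega)
    · rw [not_lt] at hX
      have h1 := (ord_nonneg_iff P₀ _).2 (val_poly_le P₀ hX f.num)
      have hMlt : P₀.1 (ι f.denom) < 1 :=
        (val_lt_one_iff' P₀ (RatFunc.algebraMap_ne_zero f.denom_ne_zero)).2 (by omega)
      obtain ⟨q, hq, hqM, hlt⟩ := exists_irreducible_of_val_lt P₀ f.denom_ne_zero hMlt
      have hqN : ¬ q ∣ f.num := fun hd =>
        hq.not_isUnit ((RatFunc.isCoprime_num_denom f).isUnit_of_dvd' hd hqM)
      obtain ⟨j, M', hM', hMj⟩ := WfDvdMonoid.max_power_factor f.denom_ne_zero hq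
      have hN2 : P₀.ord (ι f.num) = 0 := ord_eq_of_val_eq P₀ (n := 0)
        (by rw [val_poly_eq_one P₀ hq hlt hqN, exp_zero])
      have hM2 : P₀.ord (ι f.denom) = j := by
        have := ord_eq_of_val_eq P₀ (x := ι f.denom) (n := -(j : ℤ)) (by
          rw [hMj, map_mul, map_pow, map_mul, map_pow, val_irreducible P₀ hq hlt,
            val_poly_eq_one P₀ hq hlt hM', mul_one, ← exp_nsmul, nsmul_eq_mul, mul_neg, mul_one])
        omega
      rw [hN2, hM2] at hordf
      rw [hMj, val_fracDer_finite P₀ hq hlt (hoddk j (Nat.odd_iff.2 (by omega))) hqN hM']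
      congr 1; omega
  rw [key, ← exp_nsmul, nsmul_eq_mul] at hDfv
  rw [(eq_div_iff exp_ne_zero).2 ((mul_comm _ _).trans hDfv), ← exp_sub]
  congr 1
  push_cast
  split_ifs <;> ring

end AS

end Groth.Agent.FunField
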