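import Groth.Agent.Lib.FunField.DXRegular26
import Mathlib.Algebra.Polynomial.PartialFractions
import Mathlib.LinearAlgebra.Dimension.OrzechProperty

/-! # Poles of `f` at finitely many rational places `x = β` -/

namespace Groth.Agent.FunField

open WithZero FunFld Polynomial
open scoped Multiplicative

variable {k : Type*} [Field k]

local notation "ι" => algebraMap (Polynomial k) (RatFunc k)

theorem algebraMap_X_sub_C (α : k) :
    ι (X - C α) = (RatFunc.X : RatFunc k) - RatFunc.C α := by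
  rw [map_sub, RatFunc.algebraMap_X, RatFunc.algebraMap_C]

theorem val_X_sub_C_same (P : Place k (RatFunc k)) {α : k}
    (h : P.1 ((RatFunc.X : RatFunc k) - RatFunc.C α) < 1) :
    P.1 ((RatFunc.X : RatFunc k) - RatFunc.C α) = exp (-1) := by
  rw [← algebraMap_X_sub_C] at h ⊢
  exact val_irreducible P (irreducible_X_sub_C α) h

theorem val_X_sub_C_ne (P : Place k (RatFunc k)) {α β : k}
    (h : P.1 ((RatFunc.X : RatFunc k) - RatFunc.C α) < 1) (hne : β ≠ α) :
    P.1 ((RatFunc.X : RatFunc k) - RatFunc.C β) = 1 := by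
  rw [← algebraMap_X_sub_C] at h ⊢
  refine val_poly_eq_one P (irreducible_X_sub_C α) h fun hd => hne ?_
  have := dvd_iff_isRoot.1 hd
  rw [IsRoot, eval_sub, eval_X, eval_C, sub_eq_zero] at this
  exact this.symm

theorem val_X_sub_C_infinite (P : Place k (RatFunc k)) (h : 1 < P.1 RatFunc.X) (α : k) :
    P.1 ((RatFunc.X : RatFunc k) - RatFunc.C α) = exp 1 := by
  rw [← algebraMap_X_sub_C, val_poly_of_one_lt P h (X_sub_C_ne_zero α), natDegree_X_sub_C, pow_one,
    val_X_of_one_lt P h]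

theorem val_X_sub_C_le (P : Place k (RatFunc k)) (h : P.1 RatFunc.X ≤ 1) (α : k) :
    P.1 ((RatFunc.X : RatFunc k) - RatFunc.C α) ≤ 1 := by
  rw [← algebraMap_X_sub_C]; exact val_poly_le P h _

theorem val_C (P : Place k (RatFunc k)) {c : k} (hc : c ≠ 0) : P.1 (RatFunc.C c) = 1 := by
  rw [← RatFunc.algebraMap_C, ← aeval_ratFuncX, aeval_C, val_const P hc]

/-- The hypotheses on the poles. -/
structure PoleData (f : RatFunc k) (B : Finset k) (d : k → ℕ) : Prop where
  zero_mem : (0 : k) ∈ B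
  odd : ∀ α ∈ B, Odd (d α)
  pole : ∀ (p : Place k (RatFunc k)) (α : k), α ∈ B →
    p.1 ((RatFunc.X : RatFunc k) - RatFunc.C α) < 1 → p.ord f = -(d α : ℤ)
  int : ∀ p : Place k (RatFunc k),
    (∀ α ∈ B, 1 ≤ p.1 ((RatFunc.X : RatFunc k) - RatFunc.C α)) → p.1 f ≤ 1

namespace PoleData

variable {f : RatFunc k} {B : Finset k} {d : k → ℕ}

theorem ord_nonneg (D : PoleData f B d) (P : Place k (RatFunc k))
    (h : ∀ α ∈ B, 1 ≤ P.1 ((RatFunc.X : RatFunc k) - RatFunc.C α)) : 0 ≤ P.ord f :=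
  (ord_nonneg_iff P f).2 (D.int P h)

theorem infinite (D : PoleData f B d) (P : Place k (RatFunc k)) (h : 1 < P.1 RatFunc.X) :
    0 ≤ P.ord f :=
  D.ord_nonneg P fun α _ => by
    rw [val_X_sub_C_infinite P h, ← exp_zero, exp_le_exp]; norm_num

theorem ord_odd (D : PoleData f B d) (P : Place k (RatFunc k)) (h : P.ord f < 0) :
    Odd (P.ord f) := by
  by_contra hc
  have hall : ∀ α ∈ B, 1 ≤ P.1 ((RatFunc.X : RatFunc k) - RatFunc.C α) := fun α hα =>
    not_lt.1 fun hlt => hc (by
      rw [D.pole P α hα hlt, odd_neg]; exact (Int.odd_coe_nat _).2 (D.odd α hα))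
  exact absurd (D.ord_nonneg P hall) (not_le.2 h)

/-- `q = ∏ (X - α) ^ ((d α + 1) / 2)`. -/
noncomputable def den (B : Finset k) (d : k → ℕ) : k[X] :=
  ∏ α ∈ B, (X - C α) ^ ((d α + 1) / 2)

theorem den_ne_zero (B : Finset k) (d : k → ℕ) : den B d ≠ 0 :=
  Finset.prod_ne_zero_iff.2 fun _ _ => pow_ne_zero _ (X_sub_C_ne_zero _)

theorem natDegree_den (B : Finset k) (d : k → ℕ) :
    (den B d).natDegree = ∑ α ∈ B, (d α + 1) / 2 := by
  rw [den, natDegree_prod _ _ fun _ _ => pow_ne_zero _ (X_sub_C_ne_zero _)]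
  simp

theorem ord_den (D : PoleData f B d) (P : Place k (RatFunc k)) (hX : P.1 RatFunc.X ≤ 1) :
    P.ord (ι (den B d)) = halfPoles f P := by
  classical
  rw [halfPoles_apply]
  by_cases hex : ∃ α ∈ B, P.1 ((RatFunc.X : RatFunc k) - RatFunc.C α) < 1
  · obtain ⟨α, hα, hlt⟩ := hex
    rw [D.pole P α hα hlt]
    have hd := D.odd α hα
    obtain ⟨r, hr⟩ := hd
    rw [if_pos (by omega)]
    refine (ord_eq_of_val_eq P (n := -(((d α + 1) / 2 : ℕ) : ℤ)) ?_).trans (by omega)
    rw [den, map_prod, map_prod, Finset.prod_eq_single α]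
    · rw [map_pow, map_pow, algebraMap_X_sub_C, val_X_sub_C_same P hlt, ← exp_nsmul,
        nsmul_eq_mul, mul_neg, mul_one]
    · intro β _ hne
      rw [map_pow, map_pow, algebraMap_X_sub_C, val_X_sub_C_ne P hlt hne, one_pow]
    · exact fun h => absurd hα h
  · push Not at hex
    rw [if_neg (not_lt.2 (D.ord_nonneg P hex))]
    refine (ord_eq_of_val_eq P (n := 0) ?_).trans neg_zero
    rw [exp_zero, den, map_prod, map_prod]
    refine Finset.prod_eq_one fun β hβ => ?_
    rw [map_pow, map_pow, algebraMap_X_sub_C,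
      le_antisymm (val_X_sub_C_le P hX β) (hex β hβ), one_pow]

section K

variable {K : Type*} [Field K] [Algebra k K] [Algebra (RatFunc k) K]
  [IsScalarTower k (RatFunc k) K] [FiniteDimensional (RatFunc k) K] {y : K}

theorem genus_eq (D : PoleData f B d) (H : AS y f) (hK : IsFunctionField k K) :
    (genus k K : ℤ) + 1 = ∑ α ∈ B, (((d α + 1) / 2 : ℕ) : ℤ) := by
  obtain ⟨Pi, hPi⟩ := exists_infinite_place (k := k)
  have h := (H.halfPoles_eq hK D.ord_odd (den_ne_zero B d) D.ord_den hPi).2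
  rw [halfPoles_apply, if_neg (not_lt.2 (D.infinite Pi hPi)), add_zero, natDegree_den] at h
  rw [← h]; push_cast; rfl

/-- The two families. -/
abbrev Idx (B : Finset k) (d : k → ℕ) : Type _ :=
  {a : ↥B × ℕ // 1 ≤ a.2 ∧ 2 * a.2 + 1 ≤ d (a.1 : k)} ⊕ {b : ↥B // (b : k) ≠ 0}

/-- The partial fraction family. -/
noncomputable def fam (B : Finset k) (d : k → ℕ) : Idx B d → RatFunc k :=
  Sum.elim (fun a => ((RatFunc.X : RatFunc k) - RatFunc.C (a.1.1 : k))⁻¹ ^ (a.1.2 + 1))
    (fun b => RatFunc.C (b.1 : k) /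
      ((RatFunc.X : RatFunc k) * ((RatFunc.X : RatFunc k) - RatFunc.C (b.1 : k))))

theorem fam_mem (D : PoleData f B d) (i : Idx B d) : fam B d i ∈ FunFld.L (AS.W f) := by
  classical
  intro P
  rw [AS.W_apply]
  rcases lt_or_ge 1 (P.1 RatFunc.X) with hX | hX
  · rw [if_pos hX, if_neg (not_lt.2 (D.infinite P hX))]
    rcases i with ⟨⟨α, j⟩, hj, -⟩ | ⟨⟨b, hb⟩, hb0⟩
    · simp only [fam, Sum.elim_inl, map_pow, map_inv₀, val_X_sub_C_infinite P hX, ← exp_neg,
        ← exp_nsmul, exp_le_exp, nsmul_eq_mul]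
      push_cast
      omega
    · simp only [fam, Sum.elim_inr, map_div₀, map_mul, val_X_sub_C_infinite P hX,
        val_X_of_one_lt P hX, val_C P hb0, one_div, ← exp_add, ← exp_neg, exp_le_exp]
      norm_num
  · rw [if_neg hX.not_gt, sub_zero]
    by_cases hex : ∃ α ∈ B, P.1 ((RatFunc.X : RatFunc k) - RatFunc.C α) < 1
    · obtain ⟨α, hα, hlt⟩ := hex
      rw [D.pole P α hα hlt]
      obtain ⟨r, hr⟩ := D.odd α hα
      rw [if_pos (by omega)]
      rcases i with ⟨⟨⟨β, hβ⟩, j⟩, hj, hjd⟩ | ⟨⟨b, hb⟩, hb0⟩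
      · rcases eq_or_ne β α with rfl | hne
        · simp only [fam, Sum.elim_inl, map_pow, map_inv₀, val_X_sub_C_same P hlt, ← exp_neg,
            ← exp_nsmul, exp_le_exp, nsmul_eq_mul]
          dsimp only at hjd hj ⊢
          push_cast
          omega
        · simp only [fam, Sum.elim_inl, map_pow, map_inv₀, val_X_sub_C_ne P hlt hne, inv_one,
            one_pow]
          rw [← exp_zero, exp_le_exp]
          omega
      · have hX0 : P.1 RatFunc.X = if α = 0 then exp (-1) else 1 := by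
          have e : (RatFunc.X : RatFunc k) = RatFunc.X - RatFunc.C 0 := by rw [map_zero, sub_zero]
          split_ifs with h0
          · subst h0; rw [e, val_X_sub_C_same P hlt]
          · rw [e, val_X_sub_C_ne P hlt (Ne.symm h0)]
        simp only [fam, Sum.elim_inr, map_div₀, map_mul, val_C P hb0, hX0]
        rcases eq_or_ne b α with rfl | hne
        · rw [if_neg hb0, val_X_sub_C_same P hlt, one_mul, one_div, ← exp_neg, exp_le_exp]
          omega
        · rw [val_X_sub_C_ne P hlt hne, mul_one]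
          split_ifs
          · rw [one_div, ← exp_neg, exp_le_exp]; omega
          · rw [div_one, ← exp_zero, exp_le_exp]; omega
    · push Not at hex
      have hone : ∀ β ∈ B, P.1 ((RatFunc.X : RatFunc k) - RatFunc.C β) = 1 := fun β hβ =>
        le_antisymm (val_X_sub_C_le P hX β) (hex β hβ)
      rw [if_neg (not_lt.2 (D.ord_nonneg P hex)), exp_zero]
      rcases i with ⟨⟨⟨β, hβ⟩, j⟩, hj, hjd⟩ | ⟨⟨b, hb⟩, hb0⟩
      · simp only [fam, Sum.elim_inl, map_pow, map_inv₀, hone β hβ, inv_one, one_pow, le_refl]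
      · have h0 := hone 0 D.zero_mem
        rw [map_zero, sub_zero] at h0
        simp only [fam, Sum.elim_inr, map_div₀, map_mul, val_C P hb0, hone b hb, h0, mul_one,
          div_one, le_refl]

theorem W_le_span (D : PoleData f B d) (H : AS y f) (hK : IsFunctionField k K) :
    FunFld.L (AS.W f) ≤ Submodule.span k (Set.range (fam B d)) := by
  classical
  intro a ha
  obtain ⟨A, -, hA⟩ := (H.mem_L_W_iff hK D.ord_odd (den_ne_zero B d) D.ord_den a).1 ha
  obtain ⟨quo, r, hr, he⟩ := mul_prod_pow_inverse_eq_quo_add_sum_rem_mul_pow_inverse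
    (K := RatFunc k) (s := B) A (g := fun α => X - C α) (fun α _ => monic_X_sub_C α)
    (fun α _ β _ hne => isCoprime_X_sub_C_of_isUnit_sub
      (isUnit_iff_ne_zero.2 (sub_ne_zero.2 hne)))
    (fun α => (d α + 1) / 2) (gi := fun α => ((RatFunc.X : RatFunc k) - RatFunc.C α)⁻¹)
    (fun α _ => by
      rw [algebraMap_X_sub_C, inv_mul_cancel₀]
      rw [← algebraMap_X_sub_C]
      exact RatFunc.algebraMap_ne_zero (X_sub_C_ne_zero α))
  have ea : a = ι quo + ∑ α ∈ B, ∑ j, ι (r α j) *
      ((RatFunc.X : RatFunc k) - RatFunc.C α)⁻¹ ^ (j.1 + 1) := by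
    rw [hA, ← he, den, map_prod, div_eq_mul_inv, ← Finset.prod_inv_distrib]
    congr 1
    exact Finset.prod_congr rfl fun α _ => by rw [map_pow, algebraMap_X_sub_C, inv_pow]
  set S := Submodule.span k (Set.range (fam B d))
  set T := S ⊔ Submodule.span k {(RatFunc.X : RatFunc k)⁻¹}
  have hterm : ∀ α ∈ B, ∀ j : Fin ((d α + 1) / 2),
      ι (r α j) * ((RatFunc.X : RatFunc k) - RatFunc.C α)⁻¹ ^ (j.1 + 1) ∈ T := by
    intro α hα j
    obtain ⟨c, hc⟩ : ∃ c : k, r α j = C c := by
      refine ⟨(r α j).coeff 0, eq_C_of_degree_le_zero ?_⟩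
      have := hr α hα j
      rw [degree_X_sub_C] at this
      exact Order.le_of_lt_succ this
    rw [hc, ← aeval_ratFuncX, aeval_C, ← Algebra.smul_def]
    refine Submodule.smul_mem _ c ?_
    rcases Nat.eq_zero_or_pos j.1 with hj | hj
    · rw [hj, pow_one]
      rcases eq_or_ne α 0 with rfl | hne
      · rw [map_zero, sub_zero]
        exact Submodule.mem_sup_right (Submodule.mem_span_singleton_self _)
      · have h1 : fam B d (Sum.inr ⟨⟨α, hα⟩, hne⟩) ∈ T :=
          Submodule.mem_sup_left (Submodule.subset_span ⟨_, rfl⟩)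
        have h2 : (RatFunc.X : RatFunc k)⁻¹ ∈ T :=
          Submodule.mem_sup_right (Submodule.mem_span_singleton_self _)
        have hXα : (RatFunc.X : RatFunc k) - RatFunc.C α ≠ 0 := by
          rw [← algebraMap_X_sub_C]
          exact RatFunc.algebraMap_ne_zero (X_sub_C_ne_zero α)
        have hCα : RatFunc.C α ≠ 0 := (_root_.map_ne_zero (RatFunc.C (K := k))).2 hne
        have e : ((RatFunc.X : RatFunc k) - RatFunc.C α)⁻¹ =
            (RatFunc.X : RatFunc k)⁻¹ + fam B d (Sum.inr ⟨⟨α, hα⟩, hne⟩) := by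
          simp only [fam, Sum.elim_inr]
          have := RatFunc.X_ne_zero (K := k)
          field_simp
          ring
        rw [e]
        exact add_mem h2 h1
    · obtain ⟨r', hr'⟩ := D.odd α hα
      exact Submodule.mem_sup_left (Submodule.subset_span
        ⟨Sum.inl ⟨(⟨α, hα⟩, j.1), hj, by have := j.2; dsimp only; omega⟩, rfl⟩)
  have hmem : a - ι quo ∈ T := by
    rw [ea, add_sub_cancel_left]
    exact Submodule.sum_mem _ fun α hα => Submodule.sum_mem _ fun j _ => hterm α hα j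
  obtain ⟨s, hs, t, ht, hst⟩ := Submodule.mem_sup.1 hmem
  obtain ⟨c, rfl⟩ := Submodule.mem_span_singleton.1 ht
  have hsL : s ∈ FunFld.L (AS.W f) :=
    Submodule.span_le.2 (Set.range_subset_iff.2 D.fam_mem) hs
  have hrest : a - s ∈ FunFld.L (AS.W f) := sub_mem ha hsL
  suffices h0 : a - s = 0 by rwa [sub_eq_zero.1 h0]
  have erest : (a - s) * RatFunc.X = ι (quo * X + C c) := by
    rw [map_add, map_mul, RatFunc.algebraMap_X, RatFunc.algebraMap_C]
    rw [Algebra.smul_def, RatFunc.algebraMap_eq_C] at hst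
    have hXne : (RatFunc.X : RatFunc k) ≠ 0 := RatFunc.X_ne_zero
    have : a - s = ι quo + RatFunc.C c * (RatFunc.X : RatFunc k)⁻¹ := by linear_combination -hst
    rw [this]
    field_simp
  obtain ⟨Pi, hPi⟩ := exists_infinite_place (k := k)
  have hz : quo * X + C c = 0 := by
    by_contra hne
    have h1 := hrest Pi
    rw [AS.W_apply, if_pos hPi, if_neg (not_lt.2 (D.infinite Pi hPi))] at h1
    have h2 : Pi.1 (ι (quo * X + C c)) ≤ exp (-1) := by
      rw [← erest, map_mul, val_X_of_one_lt Pi hPi]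
      refine (mul_le_mul' h1 le_rfl).trans_eq ?_
      rw [← exp_add]; rfl
    rw [val_poly_of_one_lt Pi hPi hne, val_X_of_one_lt Pi hPi, ← exp_nsmul, exp_le_exp,
      nsmul_eq_mul, mul_one] at h2
    omega
  rw [hz, map_zero, mul_eq_zero] at erest
  exact erest.resolve_right RatFunc.X_ne_zero

/-- The family is a basis of `L(W)`. -/
theorem fam_basis (D : PoleData f B d) (H : AS y f) (hK : IsFunctionField k K) :
    LinearIndependent k (fam B d) ∧
      Submodule.span k (Set.range (fam B d)) = FunFld.L (AS.W f) := by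
  classical
  have hspan : Submodule.span k (Set.range (fam B d)) = FunFld.L (AS.W f) :=
    le_antisymm (Submodule.span_le.2 (Set.range_subset_iff.2 D.fam_mem)) (D.W_le_span H hK)
  refine ⟨?_, hspan⟩
  let e : (Σ α : ↥B, Fin ((d (α : k) - 1) / 2)) ≃
      {a : ↥B × ℕ // 1 ≤ a.2 ∧ 2 * a.2 + 1 ≤ d (a.1 : k)} :=
    { toFun := fun a => ⟨(a.1, a.2.1 + 1), by have := a.2.2; dsimp only; omega⟩
      invFun := fun a => ⟨a.1.1, ⟨a.1.2 - 1, by have := a.2.1; have := a.2.2; omega⟩⟩
      left_inv := fun a => by obtain ⟨a, j⟩ := a; simp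
      right_inv := fun a => by
        obtain ⟨⟨a, j⟩, h1, h2⟩ := a
        simp only [Subtype.mk.injEq, Prod.mk.injEq, true_and]
        dsimp only at h1; omega }
  letI := Fintype.ofEquiv _ e
  rw [linearIndependent_iff_card_eq_finrank_span]
  have hfin : Set.finrank k (Set.range (fam B d)) = ell (AS.W f) := by
    rw [Set.finrank, hspan]; rfl
  rw [hfin]
  have hell := ell_ratFunc (AS.W f) (by rw [H.deg_W hK D.ord_odd]; omega)
  rw [H.deg_W hK D.ord_odd] at hell
  have hg := D.genus_eq H hK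
  have hcard : Fintype.card {b : ↥B // (b : k) ≠ 0} = B.card - 1 := by
    rw [Fintype.card_subtype_compl, Fintype.card_coe,
      Fintype.card_subtype]
    congr 1
    rw [Finset.card_eq_one]
    exact ⟨⟨0, D.zero_mem⟩, by ext b; simp [Subtype.ext_iff]⟩
  rw [Fintype.card_sum, ← Fintype.card_congr e, Fintype.card_sigma, hcard]
  simp only [Fintype.card_fin]
  rw [Finset.sum_coe_sort B (fun α => (d α - 1) / 2)]
  have hsum : ∑ α ∈ B, (d α + 1) / 2 = (∑ α ∈ B, (d α - 1) / 2) + B.card := by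
    rw [Finset.card_eq_sum_ones, ← Finset.sum_add_distrib]
    refine Finset.sum_congr rfl fun α hα => ?_
    obtain ⟨r, hr⟩ := D.odd α hα
    omega
  rw [← Nat.cast_sum, hsum] at hg
  have hB : 1 ≤ B.card := Finset.card_pos.2 ⟨0, D.zero_mem⟩
  omega

end K

end PoleData

end Groth.Agent.FunField
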