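import Groth.Agent.Lib.FunField.DX26
import Groth.Agent.Lib.FunField.ASGenus26
import Groth.Agent.Lib.GeomFF26.Perfect

/-! # Regular differentials of quadratic extensions of `k(x)` -/

namespace Groth.Agent.FunField

open WithZero FunFld Polynomial
open scoped Multiplicative

universe w

section Rat

variable {k : Type*} [Field k]

local notation "ι" => algebraMap (Polynomial k) (RatFunc k)

theorem infinite_place_unique {P Q : Place k (RatFunc k)} (hP : 1 < P.1 RatFunc.X)
    (hQ : 1 < Q.1 RatFunc.X) : P = Q := by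
  classical
  by_contra hne
  have hval : ∀ R : Place k (RatFunc k), 1 < R.1 RatFunc.X →
      poleDiv (k := k) (RatFunc.X : RatFunc k) R = 1 := fun R hR => by
    rw [poleDiv_apply ff_ratFunc, ord_eq_of_val_eq R (val_X_of_one_lt R hR)]; rfl
  have hle : Finsupp.single P (1 : ℤ) + Finsupp.single Q 1 ≤
      poleDiv (k := k) (RatFunc.X : RatFunc k) := fun R => by
    rw [Finsupp.add_apply]
    by_cases hRP : R = P
    · subst hRP
      rw [Finsupp.single_eq_same, Finsupp.single_eq_of_ne hne, add_zero, hval R hP]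
    by_cases hRQ : R = Q
    · subst hRQ
      rw [Finsupp.single_eq_same, Finsupp.single_eq_of_ne hRP, zero_add, hval R hQ]
    rw [Finsupp.single_eq_of_ne hRP, Finsupp.single_eq_of_ne hRQ, add_zero]
    exact poleDiv_nonneg _ R
  have h1 := deg_mono hle
  rw [deg_add, deg_single, deg_single, deg_infinity P hP, deg_infinity Q hQ,
    deg_poleDiv_ratFuncX] at h1
  omega

theorem poleDiv_X_apply (P : Place k (RatFunc k)) :
    poleDiv (k := k) (RatFunc.X : RatFunc k) P = if 1 < P.1 RatFunc.X then 1 else 0 := by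
  rw [poleDiv_apply ff_ratFunc]
  split_ifs with h
  · rw [ord_eq_of_val_eq P (val_X_of_one_lt P h)]; rfl
  · exact max_eq_right (by have := (ord_nonneg_iff P _).2 (not_lt.1 h); omega)

theorem exists_infinite_place : ∃ P : Place k (RatFunc k), 1 < P.1 RatFunc.X := by
  obtain ⟨P, hP⟩ := exists_pole_of_transcendental ff_ratFunc (transcendental_ratFuncX (k := k))
  exact ⟨P, not_le.1 fun h => by have := (ord_nonneg_iff P _).2 h; omega⟩

theorem ord_poly_infinite {P : Place k (RatFunc k)} (h : 1 < P.1 RatFunc.X) {q : k[X]}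
    (hq : q ≠ 0) : P.ord (ι q) = -(q.natDegree : ℤ) :=
  ord_eq_of_val_eq P (by
    rw [val_poly_of_one_lt P h hq, val_X_of_one_lt P h, ← exp_nsmul, nsmul_eq_mul, mul_one])

theorem mem_L_nsmul_poleX (n : ℕ) (a : RatFunc k) :
    a ∈ FunFld.L (n • poleDiv (k := k) (RatFunc.X : RatFunc k)) ↔
      ∃ p : k[X], p.natDegree ≤ n ∧ a = ι p := by
  rw [Hyp.mem_L_nsmul ff_ratFunc transcendental_ratFuncX]
  constructor
  · intro h
    obtain ⟨p, hp⟩ := exists_aeval_of_bounded ff_ratFunc transcendental_ratFuncX (r := a)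
      (by rw [RatFunc.adjoin_X]; trivial) fun P hP => by simpa [max_eq_left hP] using h P
    refine ⟨p, Hyp.natDegree_le_of_val_le ff_ratFunc transcendental_ratFuncX fun P => hp ▸ h P, ?_⟩
    rw [hp, aeval_ratFuncX]
  · rintro ⟨p, hp, rfl⟩ P
    rw [← aeval_ratFuncX]
    exact Hyp.val_aeval_le_pow P hp

end Rat

variable {k K : Type*} [Field k] [Field K] [Algebra k K] [Algebra (RatFunc k) K]
  [IsScalarTower k (RatFunc k) K]

local notation "ι" => algebraMap (Polynomial k) (RatFunc k)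
local notation "α" => algebraMap (RatFunc k) K
local notation "χ" => algebraMap (RatFunc k) K RatFunc.X

theorem vDiff_le_one_iff {F : Type w} [Field F] [Algebra k F] {P : Place k K}
    {φ : K →ₐ[k] LaurentSeries F} (hφ : LocRes.IsExpansionAt P.1 φ) (z : K) {n : ℤ}
    (hD : Valued.v (LocRes.D F (φ χ)) = exp n) :
    LocRes.vDiff φ z χ ≤ 1 ↔ P.1 z ≤ exp (-n) := by
  rw [LocRes.vDiff, map_mul, hφ.1, hD, exp_neg, ← one_div, le_div_iff₀ (exp_pos (a := n))]

/-! ## `y² = f` -/

namespace Hyp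

variable [FiniteDimensional (RatFunc k) K] {y : K} {f : k[X]}

theorem unramified_unit (hdeg : Module.finrank (RatFunc k) K = 2) (H : Hyp χ y f)
    {P : Place k K} {P₀ : Place k (RatFunc k)} {e : ℕ} (he : IsOverWith P P₀ e)
    (hy : P.1 y = 1) : e = 1 := by
  have hle := fibre_of_two hdeg he
  have := isOverWith_pos he
  by_contra hne
  obtain ⟨hd, huniq⟩ := hle.2 (by omega)
  obtain ⟨r, hr⟩ := exists_sub_lt_of_deg_eq he hd hy.le
  have hover : IsOver (H.conjPlace P) P₀ := ⟨e, fun r => by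
    rw [Hyp.conjPlace_apply, H.conj_of_mem (algebraMap_mem_adjoin_chi r), he r]⟩
  have hr' : P.1 (-y - α r) < 1 := by
    have e1 : H.conj (y - α r) = -y - α r := by
      rw [map_sub, H.conj_y, H.conj_of_mem (algebraMap_mem_adjoin_chi r)]
    rw [← e1, ← Hyp.conjPlace_apply, huniq _ hover]
    exact hr
  have h2r : P.1 (α r) < 1 := by
    have h3 := P.1.map_add_lt hr hr'
    rw [show y - α r + (-y - α r) = algebraMap k K (-2) * α r by rw [map_neg, map_ofNat]; ring,
      map_mul, val_const P (neg_ne_zero.2 H.two), one_mul] at h3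
    exact h3
  have h4 := P.1.map_add_lt hr h2r
  rw [sub_add_cancel, hy] at h4
  exact lt_irrefl _ h4

theorem val_y_finite (hdeg : Module.finrank (RatFunc k) K = 2) (H : Hyp χ y f) {P : Place k K}
    {P₀ : Place k (RatFunc k)} {e : ℕ} (he : IsOverWith P P₀ e) (hX : P₀.1 RatFunc.X ≤ 1) :
    P.1 y = exp (-((e : ℤ) - 1)) := by
  have hyle : P.1 y ≤ 1 := by
    rw [← pow_le_one_iff_of_nonneg zero_le two_ne_zero, ← map_pow, H.eq, aeval_chi, he]
    exact pow_le_one₀ zero_le (val_poly_le P₀ hX f)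
  rcases hyle.lt_or_eq with hlt | heq
  · obtain ⟨P₀', e', p, he', hp, hpf, h1, -, -⟩ :=
      H.exists_root_below ((val_lt_one_iff' P H.y_ne_zero).1 hlt)
    obtain ⟨rfl, rfl⟩ := isOverWith_unique he he'
    obtain ⟨rfl, hy1, -⟩ := H.ramified hdeg hp hpf h1 he
    rw [val_eq_exp_neg_ord P H.y_ne_zero, hy1]; rfl
  · rw [heq, H.unramified_unit hdeg he heq]; simp

theorem ord_y_infinite (H : Hyp χ y f) {P : Place k K} {P₀ : Place k (RatFunc k)} {e : ℕ}
    (he : IsOverWith P P₀ e) (hX : 1 < P₀.1 RatFunc.X) :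
    2 * P.ord y = -((e : ℤ) * f.natDegree) := by
  have h := congrArg P.1 H.eq
  rw [map_pow, aeval_chi, he, val_poly_of_one_lt P₀ hX H.f_ne_zero, val_X_of_one_lt P₀ hX,
    val_eq_exp_neg_ord P H.y_ne_zero, ← exp_nsmul, ← exp_nsmul, ← exp_nsmul, exp_inj] at h
  simp only [nsmul_eq_mul, mul_one] at h
  push_cast at h
  linarith

variable (F : Place k K → Type w) [∀ P, Field (F P)] [∀ P, Algebra k (F P)]
  (φ : ∀ P, K →ₐ[k] LaurentSeries (F P))

/-- The bound on `ord z` making `z dx` regular. -/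
theorem regular_iff (hdeg : Module.finrank (RatFunc k) K = 2) (H : Hyp χ y f)
    (hφ : ∀ P, LocRes.IsExpansionAt P.1 (φ P)) {P : Place k K} {P₀ : Place k (RatFunc k)} {e : ℕ}
    (he : IsOverWith P P₀ e) (z : K) : LocRes.vDiff (φ P) z χ ≤ 1 ↔
      P.1 z ≤ exp (if 1 < P₀.1 RatFunc.X then -(e : ℤ) - 1 else (e : ℤ) - 1) := by
  have hek : (e : k) ≠ 0 := by
    have := (fibre_of_two hdeg he).1
    have := isOverWith_pos he
    rcases (show e = 1 ∨ e = 2 by omega) with rfl | rfl
    · simp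
    · simpa using H.two
  split_ifs with hX
  · rw [vDiff_le_one_iff (hφ P) z (val_D_chi_infinite (hφ P) he hek hX)]
    ring_nf
  · rw [vDiff_le_one_iff (hφ P) z (val_D_chi_finite (hφ P) he hek (not_lt.1 hX))]
    ring_nf

theorem regular_poly (hdeg : Module.finrank (RatFunc k) K = 2) (H : Hyp χ y f)
    (hK : IsFunctionField k K) (hφ : ∀ P, LocRes.IsExpansionAt P.1 (φ P)) (A : k[X])
    (hA : A = 0 ∨ A.natDegree < genus k K) (P : Place k K) :
    LocRes.vDiff (φ P) (α (ι A) / y) χ ≤ 1 := by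
  obtain ⟨e, he⟩ := isOver_under ff_ratFunc P
  set P₀ := under ff_ratFunc P
  rw [H.regular_iff F φ hdeg hφ he, map_div₀]
  rcases eq_or_ne A 0 with rfl | hA0
  · simp
  rw [div_le_iff₀ (by rw [zero_lt_iff]; simpa using H.y_ne_zero), he]
  split_ifs with hX
  · rw [val_poly_of_one_lt P₀ hX hA0, val_X_of_one_lt P₀ hX, ← exp_nsmul, ← exp_nsmul,
      val_eq_exp_neg_ord P H.y_ne_zero, ← exp_add, exp_le_exp]
    have hy := H.ord_y_infinite he hX
    have hd := hA.resolve_left hA0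
    rw [H.genus_eq hK] at hd
    simp only [nsmul_eq_mul, mul_one]
    rcases Nat.even_or_odd f.natDegree with hev | hod
    · obtain rfl := H.infinity_even hdeg hX hev he
      obtain ⟨m, hm⟩ := hev
      push_cast at hy ⊢
      omega
    · obtain rfl := H.infinity_odd hdeg hX hod he
      push_cast at hy ⊢
      omega
  · rw [H.val_y_finite hdeg he (not_lt.1 hX), ← exp_add, add_neg_cancel, exp_zero]
    exact pow_le_one₀ zero_le (val_poly_le P₀ (not_lt.1 hX) A)

theorem exists_of_regular (hdeg : Module.finrank (RatFunc k) K = 2) (H : Hyp χ y f)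
    (hK : IsFunctionField k K) (hφ : ∀ P, LocRes.IsExpansionAt P.1 (φ P)) {z : K}
    (hz : ∀ P, LocRes.vDiff (φ P) z χ ≤ 1) :
    ∃ A : k[X], A.degree < (genus k K : WithBot ℕ) ∧ z = α (ι A) / y := by
  have hy : y ∉ Set.range α := by
    rintro ⟨r, hr⟩
    exact H.notMem (hr ▸ algebraMap_mem_adjoin_chi r)
  obtain ⟨a, b, rfl⟩ := exists_decomp_of_finrank_two hdeg hy z
  have hσ : ∀ (P : Place k K) (P₀ : Place k (RatFunc k)) (e : ℕ), IsOverWith P P₀ e →
      P.1 (α a) ≤ exp (if 1 < P₀.1 RatFunc.X then -(e : ℤ) - 1 else (e : ℤ) - 1) ∧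
        P.1 (α b * y) ≤ exp (if 1 < P₀.1 RatFunc.X then -(e : ℤ) - 1 else (e : ℤ) - 1) := by
    intro P P₀ e he
    have h1 := (H.regular_iff F φ hdeg hφ he _).1 (hz P)
    have he' : IsOverWith (H.conjPlace P) P₀ e := fun r => by
      rw [Hyp.conjPlace_apply, H.conj_of_mem (algebraMap_mem_adjoin_chi r), he r]
    have h2 := (H.regular_iff F φ hdeg hφ he' _).1 (hz (H.conjPlace P))
    rw [Hyp.conjPlace_apply,
      H.conj_add_mul (algebraMap_mem_adjoin_chi a) (algebraMap_mem_adjoin_chi b)] at h2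
    have h2k : ∀ u : K, P.1 (algebraMap k K 2 * u) = P.1 u := fun u => by
      rw [map_mul, val_const P H.two, one_mul]
    constructor
    · rw [← h2k, show algebraMap k K 2 * α a = α a + α b * y + (α a - α b * y) by
        rw [map_ofNat]; ring]
      exact (P.1.map_add _ _).trans (max_le h1 h2)
    · rw [← h2k, show algebraMap k K 2 * (α b * y) = α a + α b * y - (α a - α b * y) by
        rw [map_ofNat]; ring]
      exact (P.1.map_sub _ _).trans (max_le h1 h2)
  obtain ⟨Pi, hPi⟩ := exists_infinite_place (k := k)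
  obtain ⟨Qi, ei, hQi⟩ := exists_over (K' := K) ff_ratFunc Pi
  have heipos := isOverWith_pos hQi
  have ha : a = 0 := by
    have hfin : ∀ P₀ : Place k (RatFunc k), P₀.1 RatFunc.X ≤ 1 → P₀.1 a ≤ 1 := by
      intro P₀ hX
      obtain ⟨P, e, he⟩ := exists_over (K' := K) ff_ratFunc P₀
      have h := (hσ P P₀ e he).1
      rw [if_neg hX.not_gt, he] at h
      by_cases ha0 : a = 0
      · simp [ha0]
      rw [val_eq_exp_neg_ord P₀ ha0, ← exp_nsmul, exp_le_exp, nsmul_eq_mul] at h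
      rw [val_le_one_iff P₀ ha0]
      by_contra hc
      push Not at hc
      have hepos := isOverWith_pos he
      nlinarith
    obtain ⟨p, rfl⟩ := exists_aeval_of_bounded ff_ratFunc transcendental_ratFuncX (r := a)
      (by rw [RatFunc.adjoin_X]; trivial) hfin
    by_contra hne
    have hp : p ≠ 0 := fun h => hne (by rw [h, map_zero])
    have h := (hσ Qi Pi ei hQi).1
    rw [if_pos hPi, hQi, aeval_ratFuncX, val_poly_of_one_lt Pi hPi hp, val_X_of_one_lt Pi hPi,
      ← exp_nsmul, ← exp_nsmul, exp_le_exp] at h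
    simp only [nsmul_eq_mul, mul_one] at h
    have : (0 : ℤ) ≤ (ei : ℤ) * p.natDegree := by positivity
    omega
  subst ha
  obtain ⟨A, hA⟩ := exists_aeval_of_bounded ff_ratFunc transcendental_ratFuncX (r := b * ι f)
    (by rw [RatFunc.adjoin_X]; trivial) fun P₀ hX => by
      obtain ⟨P, e, he⟩ := exists_over (K' := K) ff_ratFunc P₀
      have h := (hσ P P₀ e he).2
      rw [if_neg hX.not_gt] at h
      refine (pow_le_one_iff_of_nonneg zero_le (isOverWith_pos he).ne').1 ?_
      rw [← he, map_mul, ← aeval_chi, ← H.eq, sq, ← mul_assoc, map_mul,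
        H.val_y_finite hdeg he hX]
      refine (mul_le_mul' h le_rfl).trans_eq ?_
      rw [← exp_add, add_neg_cancel, exp_zero]
  rw [aeval_ratFuncX] at hA
  have hzA : α 0 + α b * y = α (ι A) / y := by
    rw [map_zero, zero_add, eq_div_iff H.y_ne_zero, ← hA, map_mul, ← aeval_chi, ← H.eq]; ring
  refine ⟨A, ?_, hzA⟩
  by_cases hA0 : A = 0
  · rw [hA0, degree_zero]; exact WithBot.bot_lt_coe _
  rw [degree_eq_natDegree hA0, Nat.cast_lt, H.genus_eq hK]
  have h := (hσ Qi Pi ei hQi).2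
  rw [if_pos hPi, show α b * y = α 0 + α b * y by rw [map_zero, zero_add], hzA, map_div₀,
    div_le_iff₀ (by rw [zero_lt_iff]; simpa using H.y_ne_zero), hQi,
    val_poly_of_one_lt Pi hPi hA0, val_X_of_one_lt Pi hPi, ← exp_nsmul, ← exp_nsmul,
    val_eq_exp_neg_ord Qi H.y_ne_zero, ← exp_add, exp_le_exp] at h
  simp only [nsmul_eq_mul, mul_one] at h
  have hy2 := H.ord_y_infinite hQi hPi
  rcases Nat.even_or_odd f.natDegree with hev | hod
  · obtain rfl := H.infinity_even hdeg hPi hev hQi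
    obtain ⟨m, hm⟩ := hev
    push_cast at hy2 h
    omega
  · obtain rfl := H.infinity_odd hdeg hPi hod hQi
    obtain ⟨m, hm⟩ := hod
    push_cast at hy2 h
    omega

end Hyp

/-! ## `y² + y = f` -/

namespace AS

variable [FiniteDimensional (RatFunc k) K] {y : K} {f : RatFunc k}

/-- The divisor whose conorm is `div (dx)`. -/
noncomputable def W (f : RatFunc k) : Divisor k (RatFunc k) :=
  halfPoles f - 2 • poleDiv (k := k) (RatFunc.X : RatFunc k)

theorem W_apply (f : RatFunc k) (P₀ : Place k (RatFunc k)) : W f P₀ =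
    (if P₀.ord f < 0 then (1 - P₀.ord f) / 2 else 0) - if 1 < P₀.1 RatFunc.X then 2 else 0 := by
  rw [W, Finsupp.sub_apply, halfPoles_apply, Finsupp.smul_apply, poleDiv_X_apply]
  congr 1
  split_ifs <;> rfl

theorem val_D_chi_eq [PerfectField k] (H : AS y f)
    (hodd : ∀ P₀ : Place k (RatFunc k), P₀.ord f < 0 → Odd (P₀.ord f))
    {F : Type w} [Field F] [Algebra k F] {P : Place k K} {φ : K →ₐ[k] LaurentSeries F}
    (hφ : LocRes.IsExpansionAt P.1 φ) {P₀ : Place k (RatFunc k)} {e : ℕ}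
    (he : IsOverWith P P₀ e) :
    Valued.v (LocRes.D F (φ χ)) = exp (-((e : ℤ) * W f P₀)) := by
  rw [W_apply]
  rcases lt_or_ge (P₀.ord f) 0 with hneg | hnn
  · obtain ⟨he2, -, -⟩ := H.ramified he hneg (hodd P₀ hneg)
    obtain ⟨r, hr⟩ := hodd P₀ hneg
    rw [H.val_D_chi_pole hφ he hneg (hodd P₀ hneg), if_pos hneg, he2]
    congr 1
    push_cast
    split_ifs <;> omega
  · obtain rfl := H.unramified he hnn
    rw [if_neg (not_lt.2 hnn)]
    split_ifs with hX
    · rw [val_D_chi_infinite hφ he (by simp) hX]; rfl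
    · rw [val_D_chi_finite hφ he (by simp) (not_lt.1 hX)]; rfl

theorem forall_le_iff_decomp (H : AS y f)
    (hodd : ∀ P₀ : Place k (RatFunc k), P₀.ord f < 0 → Odd (P₀.ord f))
    (E : Divisor k (RatFunc k)) (a b : RatFunc k) :
    (∀ (P : Place k K) (P₀ : Place k (RatFunc k)) (e : ℕ), IsOverWith P P₀ e →
      P.1 (α a + α b * y) ≤ exp ((e : ℤ) * E P₀)) ↔
    a ∈ FunFld.L E ∧ b ∈ FunFld.L (E - halfPoles f) := by
  constructor
  · intro h
    have hb' : ∀ (P : Place k K) (P₀ : Place k (RatFunc k)) (e : ℕ), IsOverWith P P₀ e →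
        P.1 (α b) ≤ exp ((e : ℤ) * E P₀) := by
      intro P P₀ e he
      have h1 := h P P₀ e he
      have h2 := h (mapPlace H.conj P) P₀ e (isOverWith_mapPlace H.conj he)
      rw [mapPlace_apply, H.conj_decomp rfl] at h2
      have := (P.1.map_sub _ _).trans (max_le h2 h1)
      rwa [add_sub_cancel_left] at this
    have key : ∀ P₀, P₀.1 a ≤ exp (E P₀) ∧ P₀.1 b ≤ exp (E P₀ - halfPoles f P₀) := by
      intro P₀
      obtain ⟨P, e, he⟩ := exists_over (K' := K) ff_ratFunc P₀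
      exact (H.local_iff hodd he _ a b fun _ _ => hb' P P₀ e he).1 (h P P₀ e he)
    exact ⟨fun P₀ => (key P₀).1, fun P₀ => by rw [Finsupp.sub_apply]; exact (key P₀).2⟩
  · rintro ⟨ha, hb⟩ P P₀ e he
    have hb0 := hb P₀
    rw [Finsupp.sub_apply] at hb0
    refine (H.local_iff hodd he _ a b fun hnn _ => ?_).2 ⟨ha P₀, hb0⟩
    rw [val_le_exp_iff_down he]
    rwa [halfPoles_apply, if_neg (not_lt.2 hnn), sub_zero] at hb0

/-- The regular differentials are the `a dx`, `a ∈ L(W)`. -/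
theorem regular_iff [PerfectField k] (H : AS y f)
    (hodd : ∀ P₀ : Place k (RatFunc k), P₀.ord f < 0 → Odd (P₀.ord f))
    (F : Place k K → Type w) [∀ P, Field (F P)] [∀ P, Algebra k (F P)]
    (φ : ∀ P, K →ₐ[k] LaurentSeries (F P)) (hφ : ∀ P, LocRes.IsExpansionAt P.1 (φ P)) (z : K) :
    (∀ P, LocRes.vDiff (φ P) z χ ≤ 1) ↔ ∃ a ∈ FunFld.L (W f), z = α a := by
  have key : ∀ (P : Place k K) (P₀ : Place k (RatFunc k)) (e : ℕ), IsOverWith P P₀ e →
      ∀ u : K, LocRes.vDiff (φ P) u χ ≤ 1 ↔ P.1 u ≤ exp ((e : ℤ) * W f P₀) := by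
    intro P P₀ e he u
    rw [vDiff_le_one_iff (hφ P) u (H.val_D_chi_eq hodd (hφ P) he), neg_neg]
  constructor
  · intro h
    have h1 : ∀ (P : Place k K) (P₀ : Place k (RatFunc k)) (e : ℕ), IsOverWith P P₀ e →
        P.1 (α (H.cA z) + α (H.cB z) * y) ≤ exp ((e : ℤ) * W f P₀) := fun P P₀ e he => by
      rw [← H.decomp z]; exact (key P P₀ e he z).1 (h P)
    obtain ⟨ha, hb⟩ := (H.forall_le_iff_decomp hodd (W f) _ _).1 h1
    have hbot : FunFld.L (W f - halfPoles f) = ⊥ := L_eq_bot_of_deg_neg ff_ratFunc (by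
      rw [W, deg_sub, deg_sub, deg_smul, deg_poleDiv_ratFuncX]; omega)
    rw [hbot, Submodule.mem_bot] at hb
    exact ⟨_, ha, by conv_lhs => rw [H.decomp z, hb, map_zero, zero_mul, add_zero]⟩
  · rintro ⟨a, ha, rfl⟩ P
    obtain ⟨e, he⟩ := isOver_under ff_ratFunc P
    rw [key P _ e he]
    have := (H.forall_le_iff_decomp hodd (W f) a 0).2 ⟨ha, zero_mem _⟩ P _ e he
    simpa using this

theorem deg_W (H : AS y f) (hK : IsFunctionField k K)
    (hodd : ∀ P₀ : Place k (RatFunc k), P₀.ord f < 0 → Odd (P₀.ord f)) :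
    (W f).deg = (genus k K : ℤ) - 1 := by
  rw [W, deg_sub, deg_smul, deg_poleDiv_ratFuncX, H.genus_eq hK hodd]
  push_cast; ring

theorem halfPoles_eq (H : AS y f) (hK : IsFunctionField k K)
    (hodd : ∀ P₀ : Place k (RatFunc k), P₀.ord f < 0 → Odd (P₀.ord f)) {q : k[X]} (hq0 : q ≠ 0)
    (hq : ∀ P₀ : Place k (RatFunc k), P₀.1 RatFunc.X ≤ 1 → P₀.ord (ι q) = halfPoles f P₀)
    {Pi : Place k (RatFunc k)} (hPi : 1 < Pi.1 RatFunc.X) :
    halfPoles f = FunFld.div k (ι q) +
        ((genus k K : ℤ) + 1) • poleDiv (k := k) (RatFunc.X : RatFunc k) ∧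
      (q.natDegree : ℤ) + halfPoles f Pi = (genus k K : ℤ) + 1 := by
  have hιq : ι q ≠ 0 := RatFunc.algebraMap_ne_zero hq0
  set c : ℤ := q.natDegree + halfPoles f Pi
  have hid : halfPoles f =
      FunFld.div k (ι q) + c • poleDiv (k := k) (RatFunc.X : RatFunc k) := by
    ext P
    rw [Finsupp.add_apply, Finsupp.smul_apply, div_apply ff_ratFunc, poleDiv_X_apply, smul_eq_mul]
    split_ifs with hX
    · obtain rfl := infinite_place_unique hX hPi
      rw [ord_poly_infinite hX hq0]; ring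
    · rw [hq P (not_lt.1 hX)]; ring
  have hc : c = (genus k K : ℤ) + 1 := by
    have h1 : (c • poleDiv (k := k) (RatFunc.X : RatFunc k)).deg = c := by
      have hc0 : 0 ≤ c := by
        have : 0 ≤ halfPoles f Pi := by rw [halfPoles_apply]; split_ifs <;> omega
        omega
      obtain ⟨n, hn⟩ := Int.eq_ofNat_of_zero_le hc0
      rw [hn, natCast_zsmul, deg_smul, deg_poleDiv_ratFuncX, mul_one]
    have h2 := congrArg Divisor.deg hid
    rw [deg_add, deg_div ff_ratFunc, h1, zero_add] at h2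
    have := H.genus_eq hK hodd
    omega
  exact ⟨hc ▸ hid, hc⟩

theorem mem_L_W_iff (H : AS y f) (hK : IsFunctionField k K)
    (hodd : ∀ P₀ : Place k (RatFunc k), P₀.ord f < 0 → Odd (P₀.ord f)) {q : k[X]} (hq0 : q ≠ 0)
    (hq : ∀ P₀ : Place k (RatFunc k), P₀.1 RatFunc.X ≤ 1 → P₀.ord (ι q) = halfPoles f P₀)
    (a : RatFunc k) :
    a ∈ FunFld.L (W f) ↔ ∃ A : k[X], A.degree < (genus k K : WithBot ℕ) ∧ a = ι A / ι q := by
  have hιq : ι q ≠ 0 := RatFunc.algebraMap_ne_zero hq0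
  obtain ⟨Pi, hPi⟩ := exists_infinite_place (k := k)
  obtain ⟨hid, -⟩ := H.halfPoles_eq hK hodd hq0 hq hPi
  rcases Nat.eq_zero_or_pos (genus k K) with hg | hg
  · rw [L_eq_bot_of_deg_neg ff_ratFunc (by rw [H.deg_W hK hodd, hg]; simp), Submodule.mem_bot, hg]
    constructor
    · rintro rfl
      exact ⟨0, by rw [degree_zero]; exact WithBot.bot_lt_coe _, by simp⟩
    · rintro ⟨A, hA, rfl⟩
      have : A = 0 := by
        by_contra hne
        rw [degree_eq_natDegree hne, Nat.cast_lt] at hA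
        omega
      simp [this]
  have hW : W f = (genus k K - 1) • poleDiv (k := k) (RatFunc.X : RatFunc k) + FunFld.div k (ι q) := by
    rw [W, hid, ← natCast_zsmul _ 2, ← natCast_zsmul _ (genus k K - 1), add_sub_assoc,
      ← sub_smul, add_comm]
    congr 2
    omega
  rw [hW, ← mul_mem_L ff_ratFunc _ hιq, mem_L_nsmul_poleX]
  constructor
  · rintro ⟨A, hA, e⟩
    refine ⟨A, ?_, by rw [← e, mul_div_cancel_left₀ a hιq]⟩
    by_cases hA0 : A = 0
    · rw [hA0, degree_zero]; exact WithBot.bot_lt_coe _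
    · rw [degree_eq_natDegree hA0, Nat.cast_lt]; omega
  · rintro ⟨A, hA, rfl⟩
    refine ⟨A, ?_, by rw [mul_div_cancel₀ _ hιq]⟩
    by_cases hA0 : A = 0
    · simp [hA0]
    · rw [degree_eq_natDegree hA0, Nat.cast_lt] at hA; omega

theorem val_D_ratFuncX {F : Type w} [Field F] [Algebra k F] (p : Place k (RatFunc k))
    {φ : RatFunc k →ₐ[k] LaurentSeries F} (hφ : LocRes.IsExpansionAt p.1 φ) :
    Valued.v (LocRes.D F (φ RatFunc.X)) =
      exp (if 1 < p.1 RatFunc.X then (2 : ℤ) else 0) := by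
  have hid : IsOverWith p p 1 := fun x => (pow_one _).symm
  split_ifs with hX
  · exact val_D_chi_infinite (K := RatFunc k) hφ hid (by simp) hX
  · exact val_D_chi_finite (K := RatFunc k) hφ hid (by simp) (not_lt.1 hX)

theorem diffExp_pole [PerfectField k] (H : AS y f) {p : Place k (RatFunc k)} (hneg : p.ord f < 0)
    (hodd : Odd (p.ord f)) {P : Place k K} {e : ℕ} (he : IsOverWith P p e)
    {F F' : Type w} [Field F] [Algebra k F] [Field F'] [Algebra k F']
    {φ : RatFunc k →ₐ[k] LaurentSeries F} (hφ : LocRes.IsExpansionAt p.1 φ)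
    {ψ : K →ₐ[k] LaurentSeries F'} (hψ : LocRes.IsExpansionAt P.1 ψ) {z : RatFunc k}
    (hz : LocRes.vDiff φ 1 z ≠ 0) : LocRes.diffExp φ ψ e z = 1 - p.ord f := by
  have hsep : Wronskian26.Sep k (RatFunc.X : RatFunc k) :=
    (GeomFF26.sep_iff_D_ne_zero ff_ratFunc
      (GeomFF26.isGeometric_of_perfect isFunctionField_ratFunc.2) _).2
      (GeomFF26.D_ne_zero_of_D_map φ fun h => by
        have := val_D_ratFuncX p hφ
        rw [h, map_zero] at this
        exact exp_ne_zero this.symm)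
  obtain ⟨c, hc⟩ := GeomFF26.exists_chain hsep z
  have h1 := hc φ
  have h2 := hc (ψ.comp (IsScalarTower.toAlgHom k (RatFunc k) K))
  simp only [AlgHom.comp_apply, IsScalarTower.toAlgHom_apply] at h2
  have e1 : LocRes.vDiff φ 1 z = p.1 c * Valued.v (LocRes.D F (φ RatFunc.X)) := by
    rw [GeomFF26.vDiff_one, h1, map_mul, hφ.1]
  have e2 : LocRes.vDiff ψ 1 (α z) = p.1 c ^ e * Valued.v (LocRes.D F' (ψ χ)) := by
    rw [GeomFF26.vDiff_one, h2, map_mul, hψ.1, he c]
  have hc0 : p.1 c ≠ 0 := fun h0 => hz (by rw [e1, h0, zero_mul])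
  obtain ⟨he2, -, -⟩ := H.ramified he hneg hodd
  rw [LocRes.diffExp, LocRes.ordDiff, LocRes.ordDiff, e1, e2, val_D_ratFuncX p hφ,
    H.val_D_chi_pole hψ he hneg hodd, log_mul hc0 exp_ne_zero,
    log_mul (pow_ne_zero _ hc0) exp_ne_zero, log_pow, log_exp, log_exp, he2, nsmul_eq_mul]
  push_cast
  split_ifs <;> ring

end AS

end Groth.Agent.FunField
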