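import Groth.Agent.Lib.FunField.Genus

/-! # Linear equivalence, elliptic function fields -/

namespace Groth.Agent.FunField

open WithZero FunFld Polynomial IntermediateField
open scoped Multiplicative

variable {k K : Type*} [Field k] [Field K] [Algebra k K]

/-- Linear equivalence of divisors. -/
def LE' (D E : Divisor k K) : Prop := ∃ x : K, x ≠ 0 ∧ E = D + FunFld.div k x

theorem LE'.refl (h : FF k K) (D : Divisor k K) : LE' D D :=
  ⟨1, one_ne_zero, by ext P; simp [div_apply h]⟩

theorem LE'.symm (h : FF k K) {D E : Divisor k K} (hDE : LE' D E) : LE' E D := by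
  obtain ⟨x, hx, rfl⟩ := hDE
  exact ⟨x⁻¹, inv_ne_zero hx, by rw [div_inv h]; abel⟩

theorem LE'.trans (h : FF k K) {D E F : Divisor k K} (h1 : LE' D E) (h2 : LE' E F) : LE' D F := by
  obtain ⟨x, hx, rfl⟩ := h1
  obtain ⟨y, hy, rfl⟩ := h2
  exact ⟨x * y, mul_ne_zero hx hy, by rw [div_mul h hx hy]; abel⟩

theorem LE'.add (h : FF k K) {D E D' E' : Divisor k K} (h1 : LE' D E) (h2 : LE' D' E') :
    LE' (D + D') (E + E') := by
  obtain ⟨x, hx, rfl⟩ := h1
  obtain ⟨y, hy, rfl⟩ := h2
  exact ⟨x * y, mul_ne_zero hx hy, by rw [div_mul h hx hy]; abel⟩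

theorem LE'.neg (h : FF k K) {D E : Divisor k K} (h1 : LE' D E) : LE' (-D) (-E) := by
  obtain ⟨x, hx, rfl⟩ := h1
  exact ⟨x⁻¹, inv_ne_zero hx, by rw [div_inv h]; abel⟩

theorem LE'.sub (h : FF k K) {D E D' E' : Divisor k K} (h1 : LE' D E) (h2 : LE' D' E') :
    LE' (D - D') (E - E') := by
  rw [sub_eq_add_neg, sub_eq_add_neg]; exact h1.add h (h2.neg h)

theorem LE'.deg (h : FF k K) {D E : Divisor k K} (h1 : LE' D E) : D.deg = E.deg := by
  obtain ⟨x, hx, rfl⟩ := h1
  rw [deg_add, deg_div h, add_zero]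

theorem LE'.ell (h : FF k K) {D E : Divisor k K} (h1 : LE' D E) : FunFld.ell D = FunFld.ell E := by
  obtain ⟨x, hx, rfl⟩ := h1
  rw [ell_add_div h D hx]

theorem exists_effective (h : FF k K) {D : Divisor k K} (hD : 0 < FunFld.ell D) :
    ∃ E : Divisor k K, 0 ≤ E ∧ LE' D E := by
  obtain ⟨z, hz, hz'⟩ := exists_ne_zero_of_ell_pos h hD
  exact ⟨_, hz', z, hz, rfl⟩

/-- If `ℓ(D) = 1` then `D ≥ 0` is alone in its class. -/
theorem eq_of_ell_eq_one (hK : IsFunctionField k K) {D E : Divisor k K} (hD : 0 ≤ D) (hE : 0 ≤ E)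
    (hl : FunFld.ell D = 1) (hDE : LE' D E) : E = D := by
  have h := ff hK
  obtain ⟨x, hx, rfl⟩ := hDE
  haveI := finiteDimensional_L h D
  have he : FunFld.L (0 : Divisor k K) = FunFld.L D :=
    Submodule.eq_of_le_of_finrank_eq (L_mono hD) (by rw [← FunFld.ell, ← FunFld.ell, ell_zero hK, hl])
  have hm : x ∈ FunFld.L (0 : Divisor k K) := he ▸ (mem_L_iff_div h hx).2 hE
  rw [L_zero hK, Submodule.mem_one] at hm
  obtain ⟨c, rfl⟩ := hm
  ext P
  simp [div_apply h]

/-- Base points of a complete linear system. -/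
theorem base_point (hK : IsFunctionField k K) {D E : Divisor k K} {P : Place k K}
    (hE : 0 ≤ E) (hDE : LE' D E) (hl : FunFld.ell (D - Finsupp.single P 1) = FunFld.ell D) :
    1 ≤ E P := by
  have h := ff hK
  obtain ⟨x, hx, rfl⟩ := hDE
  haveI := finiteDimensional_L h D
  have he : FunFld.L (D - Finsupp.single P 1) = FunFld.L D :=
    Submodule.eq_of_le_of_finrank_eq (L_mono (sub_le_self D (Finsupp.single_nonneg.2 zero_le_one))) hl
  have hm : x ∈ FunFld.L (D - Finsupp.single P 1) := he ▸ (mem_L_iff_div h hx).2 hE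
  rw [mem_L_iff_div h hx] at hm
  have := hm P
  simp at this ⊢
  omega

theorem exists_effective_deg_one (h : FF k K) [IsAlgClosed k] {D : Divisor k K}
    (hD : 0 < FunFld.ell D) (hd : D.deg = 1) : ∃ R : Place k K, LE' D (Finsupp.single R 1) := by
  obtain ⟨E, hE, hDE⟩ := exists_effective h hD
  have hd' : E.deg = 1 := (hDE.deg h).symm.trans hd
  obtain ⟨R, hR⟩ : ∃ R, 0 < E R := by
    by_contra! hc
    have := deg_mono (show E ≤ 0 from hc)
    rw [deg_zero] at this; omega
  have hle : Finsupp.single R 1 ≤ E := by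
    classical
    intro S
    simp only [Finsupp.single_apply]
    split
    · rename_i e; subst e; omega
    · exact hE S
  refine ⟨R, ?_⟩
  rwa [eq_of_le_of_deg h hle (by rw [hd', deg_single, deg_eq_one h R]; simp)]

theorem linearIndependent_of_ord {ι : Type*} [Fintype ι] (P : Place k K) (g : ι → K)
    (hne : ∀ i, g i ≠ 0) (hinj : Function.Injective fun i => P.ord (g i)) :
    LinearIndependent k g := by
  classical
  rw [Fintype.linearIndependent_iff]
  intro c hc i
  by_contra hci
  obtain ⟨j, hj, hjmax⟩ := (Finset.univ.filter fun i => c i ≠ 0).exists_min_image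
    (fun i => P.ord (g i)) ⟨i, by simp [hci]⟩
  have hjc : c j ≠ 0 := by simpa using hj
  have hv : ∀ l, c l ≠ 0 → P.1 (c l • g l) = exp (-P.ord (g l)) := fun l hl => by
    rw [Algebra.smul_def, map_mul, val_const P hl, one_mul, val_eq_exp_neg_ord P (hne l)]
  have := Valuation.map_sum_eq_of_lt P.1 (f := fun l => c l • g l) (s := Finset.univ) (j := j)
    (Finset.mem_univ _) (fun l hl => by
      have hlj : l ≠ j := by simpa using hl
      beta_reduce
      rw [hv j hjc]
      by_cases h0 : c l = 0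
      · simp [h0]
      · rw [hv l h0, exp_lt_exp]
        have h1 := hjmax l (by simp [h0])
        have h2 : P.ord (g j) ≠ P.ord (g l) := fun e => hlj (hinj e).symm
        omega)
  rw [hc, map_zero, hv j hjc] at this
  exact exp_ne_zero this.symm

end Groth.Agent.FunField
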