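import Groth.Agent.Lib.FunField.Proj3
import Mathlib.Algebra.MvPolynomial.NoZeroDivisors
import Mathlib.RingTheory.KrullDimension.Polynomial
import Mathlib.RingTheory.KrullDimension.Field
import Mathlib.RingTheory.Jacobson.Ring
import Mathlib.RingTheory.MvPolynomial.Basic
import Mathlib.Tactic.ComputeDegree

/-! # Plane models: degree and genus -/

namespace Groth.Agent.FunField

open WithZero FunFld MvPolynomial
open scoped Multiplicative

variable {k K : Type*} [Field k] [Field K] [Algebra k K]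

theorem two_mul_sum_sub (m : ℕ) :
    2 * ∑ i ∈ Finset.range (m + 1), (m + 1 - i) = (m + 1) * (m + 2) := by
  induction m with
  | zero => simp
  | succ m ih =>
    rw [Finset.sum_range_succ, show m + 1 + 1 - (m + 1) = 1 by omega,
      Finset.sum_congr rfl (g := fun i => (m + 1 - i) + 1) fun i hi => by
        have := Finset.mem_range.1 hi; omega,
      Finset.sum_add_distrib, Finset.sum_const, Finset.card_range, smul_eq_mul]
    linarith

theorem two_mul_finrank_restrictTotalDegree (m : ℕ) :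
    2 * Module.finrank k (restrictTotalDegree (Fin 2) k m) = (m + 1) * (m + 2) := by
  classical
  let S : Set (Fin 2 →₀ ℕ) := {n | (n.sum fun _ e => e) ≤ m}
  have hS : ∀ n : Fin 2 →₀ ℕ, n ∈ S ↔ n 0 + n 1 ≤ m := fun n => by
    show (n.sum fun _ e => e) ≤ m ↔ _
    rw [Finsupp.sum_fintype _ _ (fun _ => rfl), Fin.sum_univ_two]
  let T := (Finset.range (m + 1)).sigma fun i => Finset.range (m + 1 - i)
  have e : S ≃ T :=
    { toFun := fun n => ⟨⟨n.1 0, n.1 1⟩, by
        have := (hS _).1 n.2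
        simp only [T, Finset.mem_sigma, Finset.mem_range]
        omega⟩
      invFun := fun p => ⟨Finsupp.equivFunOnFinite.symm ![p.1.1, p.1.2], (hS _).2 (by
        have := p.2
        simp only [T, Finset.mem_sigma, Finset.mem_range] at this
        simp
        omega)⟩
      left_inv := fun n => Subtype.ext (Finsupp.ext fun i => by fin_cases i <;> simp)
      right_inv := fun p => Subtype.ext (by simp) }
  haveI : Fintype S := Fintype.ofEquiv _ e.symm
  rw [show restrictTotalDegree (Fin 2) k m = restrictSupport k S from rfl,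
    Module.finrank_eq_card_basis (basisRestrictSupport k S), Fintype.card_congr e, Fintype.card_coe,
    Finset.card_sigma]
  simp only [Finset.card_range]
  exact two_mul_sum_sub m

instance finite_restrictTotalDegree (m : ℕ) :
    Module.Finite k (restrictTotalDegree (Fin 2) k m) :=
  Module.finite_of_finrank_pos (by
    have := two_mul_finrank_restrictTotalDegree (k := k) m
    have : 0 < (m + 1) * (m + 2) := by positivity
    omega)

/-- Evaluation at `(x, y)`. -/
noncomputable def ev (x y : K) : MvPolynomial (Fin 2) k →ₐ[k] K := MvPolynomial.aeval ![x, y]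

/-- Values at `(x, y)` of polynomials of total degree `≤ m`. -/
noncomputable def Vm (x y : K) (m : ℕ) : Submodule k K :=
  (restrictTotalDegree (Fin 2) k m).map (ev x y).toLinearMap

theorem mem_Vm {x y : K} {m : ℕ} {z : K} :
    z ∈ Vm (k := k) x y m ↔ ∃ p : MvPolynomial (Fin 2) k, p.totalDegree ≤ m ∧ ev x y p = z := by
  simp [Vm, Submodule.mem_map, mem_restrictTotalDegree]

theorem Vm_mono {x y : K} {m n : ℕ} (h : m ≤ n) : Vm (k := k) x y m ≤ Vm (k := k) x y n := fun z hz => by
  obtain ⟨p, hp, rfl⟩ := mem_Vm.1 hz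
  exact mem_Vm.2 ⟨p, hp.trans h, rfl⟩

theorem mul_mem_Vm {x y : K} {m n : ℕ} {a b : K} (ha : a ∈ Vm (k := k) x y m)
    (hb : b ∈ Vm (k := k) x y n) : a * b ∈ Vm (k := k) x y (m + n) := by
  obtain ⟨p, hp, rfl⟩ := mem_Vm.1 ha
  obtain ⟨q, hq, rfl⟩ := mem_Vm.1 hb
  exact mem_Vm.2 ⟨p * q, (totalDegree_mul _ _).trans (by omega), map_mul _ _ _⟩

theorem span_le_Vm (x y : K) :
    Submodule.span k (Set.range ![(1 : K), x, y]) ≤ Vm (k := k) x y 1 := by
  rw [Submodule.span_le]
  rintro _ ⟨i, rfl⟩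
  fin_cases i
  · exact mem_Vm.2 ⟨1, by simp, map_one _⟩
  · exact mem_Vm.2 ⟨MvPolynomial.X 0, by simp, by simp [ev]⟩
  · exact mem_Vm.2 ⟨MvPolynomial.X 1, by simp, by simp [ev]⟩

/-- The basic hypotheses for a plane model. -/
structure PlaneModel (hK : IsFunctionField k K) (x y : K) : Prop where
  top : IntermediateField.adjoin k ({x, y} : Set K) = ⊤

variable {hK : IsFunctionField k K} {x y : K}

theorem PlaneModel.one_mem_span (_h : PlaneModel hK x y) :
    (1 : K) ∈ Submodule.span k (Set.range ![(1 : K), x, y]) := Submodule.subset_span ⟨0, rfl⟩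

theorem PlaneModel.gen (h : PlaneModel hK x y) :
    Gen (Submodule.span k (Set.range ![(1 : K), x, y])) (FunFld.mapDiv k ![(1 : K), x, y]) :=
  gen_mapDiv_of_one (ff hK) h.one_mem_span

theorem PlaneModel.bir (h : PlaneModel hK x y) :
    Bir (Submodule.span k (Set.range ![(1 : K), x, y])) := by
  refine bir_of_adjoin (top_le_iff.1 ?_)
  rw [← h.top, IntermediateField.adjoin_le_iff]
  rintro z (rfl | rfl)
  · exact IntermediateField.subset_adjoin _ _ ⟨1, by simp⟩
  · exact IntermediateField.subset_adjoin _ _ ⟨2, by simp⟩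

theorem PlaneModel.deg_pos (h : PlaneModel hK x y) :
    0 < (FunFld.mapDiv k ![(1 : K), x, y]).deg := by
  refine h.gen.deg_pos hK fun f hle => ?_
  obtain ⟨c, hc⟩ := Submodule.mem_span_singleton.1 (hle h.one_mem_span)
  have hmem : ∀ i, ![(1 : K), x, y] i ∈ (⊥ : IntermediateField k K) := fun i => by
    obtain ⟨d, hd⟩ := Submodule.mem_span_singleton.1 (hle (Submodule.subset_span ⟨i, rfl⟩))
    have hc0 : c ≠ 0 := fun e => by simp [e] at hc
    rw [IntermediateField.mem_bot]
    refine ⟨d / c, ?_⟩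
    rw [Algebra.smul_def] at hc
    rw [← hd, Algebra.smul_def, map_div₀, eq_inv_of_mul_eq_one_right hc, div_eq_mul_inv]
  obtain ⟨t, ht, -⟩ := ff hK
  refine ht ?_
  have : (⊤ : IntermediateField k K) ≤ ⊥ := by
    rw [← h.top, IntermediateField.adjoin_le_iff]
    rintro z (rfl | rfl)
    · exact hmem 1
    · exact hmem 2
  have ht' : t ∈ (⊥ : IntermediateField k K) := this IntermediateField.mem_top
  obtain ⟨a, ha⟩ := IntermediateField.mem_bot.1 ht'
  rw [← ha]
  exact isAlgebraic_algebraMap a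

theorem PlaneModel.Vm_le (h : PlaneModel hK x y) (m : ℕ) :
    Vm (k := k) x y m ≤ FunFld.L (m • FunFld.mapDiv k ![(1 : K), x, y]) := by
  intro z hz Q
  obtain ⟨p, hp, rfl⟩ := mem_Vm.1 hz
  have hG := h.gen
  have h1 : (1 : ℤᵐ⁰) ≤ exp (FunFld.mapDiv k ![(1 : K), x, y] Q) :=
    (map_one Q.1).ge.trans (hG.le h.one_mem_span Q)
  rw [p.as_sum, map_sum]
  refine Q.1.map_sum_le fun d hd => ?_
  have hdeg : d 0 + d 1 ≤ m := by
    have := (le_totalDegree hd).trans hp
    rwa [Finsupp.sum_fintype _ _ (fun _ => rfl), Fin.sum_univ_two] at this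
  rw [ev, aeval_monomial, Finsupp.prod_fintype _ _ (fun _ => pow_zero _), Fin.prod_univ_two,
    map_mul, map_mul, map_pow, map_pow]
  simp only [Matrix.cons_val_zero, Matrix.cons_val_one]
  refine (mul_le_mul' (Q.2.1 _) (mul_le_mul'
    (pow_le_pow_left₀ zero_le (hG.le (Submodule.subset_span ⟨1, rfl⟩) Q) (d 0))
    (pow_le_pow_left₀ zero_le (hG.le (Submodule.subset_span ⟨2, rfl⟩) Q) (d 1)))).trans ?_
  rw [one_mul, ← pow_add]
  refine (pow_le_pow_right₀ h1 hdeg).trans_eq ?_
  rw [← exp_nsmul]; simp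

theorem PlaneModel.finrank_Vm_le (h : PlaneModel hK x y) (m : ℕ) :
    Module.finrank k (Vm (k := k) x y m) ≤ ell (m • FunFld.mapDiv k ![(1 : K), x, y]) := by
  haveI := finiteDimensional_L (ff hK) (m • FunFld.mapDiv k ![(1 : K), x, y])
  exact Submodule.finrank_mono (h.Vm_le m)

theorem PlaneModel.ell_nsmul (h : PlaneModel hK x y) {m : ℕ} (hm : 2 * genus k K ≤ m) :
    (ell (m • FunFld.mapDiv k ![(1 : K), x, y]) : ℤ) =
      m * (FunFld.mapDiv k ![(1 : K), x, y]).deg + 1 - genus k K := by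
  have hd := h.deg_pos
  rw [ell_of_large_deg hK _ (by
    rw [deg_smul]
    have : (m : ℤ) ≤ m * (FunFld.mapDiv k ![(1 : K), x, y]).deg :=
      le_mul_of_one_le_right (by positivity) (by omega)
    omega), deg_smul]

theorem PlaneModel.exists_relation (h : PlaneModel hK x y) :
    ∃ f : MvPolynomial (Fin 2) k, Irreducible f ∧ ev x y f = 0 := by
  classical
  have hd := h.deg_pos
  set d := (FunFld.mapDiv k ![(1 : K), x, y]).deg
  let m : ℕ := 2 * d.toNat + 2 * genus k K + 1
  have hne : ∃ p ∈ restrictTotalDegree (Fin 2) k m, ev x y p = 0 ∧ p ≠ 0 := by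
    by_contra! hinj
    have h1 : Module.finrank k (restrictTotalDegree (Fin 2) k m) ≤
        Module.finrank k (Vm (k := k) x y m) := by
      refine le_of_eq (LinearEquiv.finrank_eq (LinearEquiv.ofBijective
        ((ev x y).toLinearMap.submoduleMap (restrictTotalDegree (Fin 2) k m))
        ⟨fun a b hab => ?_, LinearMap.submoduleMap_surjective _ _⟩))
      have h0 : ev x y (a.1 - b.1) = 0 := by
        rw [map_sub, sub_eq_zero]; exact congrArg Subtype.val hab
      exact Subtype.ext (sub_eq_zero.1 (hinj _ (Submodule.sub_mem _ a.2 b.2) h0))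
    have h2 := h1.trans (h.finrank_Vm_le m)
    have h3 : (ell (m • FunFld.mapDiv k ![(1 : K), x, y]) : ℤ) = m * d + 1 - genus k K :=
      h.ell_nsmul (m := m) (by omega)
    have h4 : ((2 * Module.finrank k (restrictTotalDegree (Fin 2) k m) : ℕ) : ℤ) =
        ((m + 1) * (m + 2) : ℕ) := congrArg Nat.cast (two_mul_finrank_restrictTotalDegree m)
    push_cast at h4
    have h5 : (2 * d : ℤ) + 1 ≤ m := by omega
    have h6 : (Module.finrank k (restrictTotalDegree (Fin 2) k m) : ℤ) ≤
        m * d + 1 - genus k K := by omega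
    nlinarith [mul_le_mul_of_nonneg_left h5 (Int.natCast_nonneg m)]
  obtain ⟨p, -, hp, hp0⟩ := hne
  have hprime : (RingHom.ker (ev (k := k) x y)).IsPrime := RingHom.ker_isPrime _
  suffices ∀ q : MvPolynomial (Fin 2) k, q ≠ 0 → ev x y q = 0 → ∃ f, Irreducible f ∧ ev x y f = 0 from
    this p hp0 hp
  intro q
  induction q using WfDvdMonoid.induction_on_irreducible with
  | zero => exact fun h0 => absurd rfl h0
  | unit u hu => exact fun _ h0 => absurd h0 (hu.map (ev x y)).ne_zero
  | mul a i ha hi ih =>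
    intro _ h0
    rw [map_mul, mul_eq_zero] at h0
    rcases h0 with h0 | h0
    · exact ⟨i, hi, h0⟩
    · exact ih ha h0

theorem PlaneModel.ker_ev (h : PlaneModel hK x y) {f : MvPolynomial (Fin 2) k} (hf : Irreducible f)
    (hfxy : ev x y f = 0) : RingHom.ker (ev (k := k) x y) = Ideal.span {f} := by
  classical
  set p := RingHom.ker (ev (k := k) x y)
  haveI hp : p.IsPrime := RingHom.ker_isPrime _
  have hle : Ideal.span {f} ≤ p := (Ideal.span_singleton_le_iff_mem _).2 hfxy
  by_contra hne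
  have hlt : Ideal.span {f} < p := lt_of_le_of_ne hle (Ne.symm hne)
  haveI hsp : (Ideal.span {f}).IsPrime :=
    (Ideal.span_singleton_prime hf.ne_zero).2 hf.prime
  have hmax : p.IsMaximal := by
    by_contra hnm
    obtain ⟨M, hM, hpM⟩ := p.exists_le_maximal hp.ne_top
    have hpM' : p < M := lt_of_le_of_ne hpM fun e => hnm (e ▸ hM)
    let a : PrimeSpectrum (MvPolynomial (Fin 2) k) := ⟨⊥, Ideal.isPrime_bot⟩
    let b : PrimeSpectrum (MvPolynomial (Fin 2) k) := ⟨_, hsp⟩
    let c : PrimeSpectrum (MvPolynomial (Fin 2) k) := ⟨_, hp⟩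
    let e : PrimeSpectrum (MvPolynomial (Fin 2) k) := ⟨M, hM.isPrime⟩
    have hab : a < b := by
      show (⊥ : Ideal (MvPolynomial (Fin 2) k)) < Ideal.span {f}
      rw [bot_lt_iff_ne_bot]; simpa using hf.ne_zero
    let s : LTSeries (PrimeSpectrum (MvPolynomial (Fin 2) k)) :=
      (((RelSeries.singleton _ a).snoc b hab).snoc c (by rw [RelSeries.last_snoc]; exact hlt)).snoc e
        (by rw [RelSeries.last_snoc]; exact hpM')
    have := Order.LTSeries.length_le_krullDim s
    rw [← ringKrullDim, MvPolynomial.ringKrullDim_of_isNoetherianRing, ringKrullDim_eq_zero_of_field,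
      Nat.card_fin, zero_add, show s.length = 3 from rfl] at this
    norm_num at this
  let A := (ev (k := k) x y).range
  haveI : Algebra.FiniteType k A :=
    Algebra.FiniteType.of_surjective (ev (k := k) x y).rangeRestrict
      (AlgHom.rangeRestrict_surjective _)
  have hfield : IsField A := by
    have hq : IsField (MvPolynomial (Fin 2) k ⧸ p) := Ideal.Quotient.maximal_ideal_iff_isField_quotient p |>.1 hmax
    exact MulEquiv.isField hq
      (Ideal.quotientKerEquivRange (ev (k := k) x y)).symm.toMulEquiv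
  letI := hfield.toField
  haveI : Module.Finite k A := finite_of_finite_type_of_isJacobsonRing k A
  haveI : Algebra.IsIntegral k A := Algebra.IsIntegral.of_finite k A
  have halg : ∀ z ∈ A, IsIntegral k z := fun z hz =>
    (Algebra.IsIntegral.isIntegral (R := k) (⟨z, hz⟩ : A)).map A.val
  obtain ⟨t, ht, -⟩ := ff hK
  refine ht ?_
  have hxI : IsIntegral k x := halg x ⟨MvPolynomial.X 0, by simp [ev]⟩
  have hyI : IsIntegral k y := halg y ⟨MvPolynomial.X 1, by simp [ev]⟩
  haveI := IntermediateField.isAlgebraic_adjoin (K := k) (L := K) (S := {x, y}) (by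
    rintro z (rfl | rfl) <;> assumption)
  have := (Algebra.IsAlgebraic.isAlgebraic (R := k)
    (⟨t, h.top ▸ trivial⟩ : IntermediateField.adjoin k ({x, y} : Set K)))
  exact this.algebraMap

theorem PlaneModel.finrank_Vm (h : PlaneModel hK x y) {f : MvPolynomial (Fin 2) k}
    (hf : Irreducible f) (hfxy : ev x y f = 0) {m : ℕ} (hm : f.totalDegree ≤ m) :
    2 * (Module.finrank k (Vm (k := k) x y m) : ℤ) =
      2 * m * f.totalDegree + 2 - ((f.totalDegree : ℤ) - 1) * ((f.totalDegree : ℤ) - 2) := by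
  classical
  set e := f.totalDegree
  let φ : restrictTotalDegree (Fin 2) k (m - e) →ₗ[k] restrictTotalDegree (Fin 2) k m :=
    { toFun := fun p => ⟨f * p.1, (mem_restrictTotalDegree _ _ _).2 ((totalDegree_mul _ _).trans (by
        have := (mem_restrictTotalDegree _ _ _).1 p.2; omega))⟩
      map_add' := fun p q => Subtype.ext (mul_add f _ _)
      map_smul' := fun c p => Subtype.ext (mul_smul_comm c f _) }
  have hφ : Function.Injective φ := fun p q hpq =>
    Subtype.ext (mul_left_cancel₀ hf.ne_zero (congrArg Subtype.val hpq))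
  let ψ := (ev x y).toLinearMap.submoduleMap (restrictTotalDegree (Fin 2) k m)
  have hker : LinearMap.ker ψ = LinearMap.range φ := by
    ext p
    rw [LinearMap.mem_ker, LinearMap.mem_range]
    constructor
    · intro hp
      have hp' : (p : MvPolynomial (Fin 2) k) ∈ RingHom.ker (ev (k := k) x y) := congrArg Subtype.val hp
      rw [h.ker_ev hf hfxy, Ideal.mem_span_singleton] at hp'
      obtain ⟨r, hr⟩ := hp'
      refine ⟨⟨r, (mem_restrictTotalDegree _ _ _).2 ?_⟩, Subtype.ext hr.symm⟩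
      rcases eq_or_ne r 0 with rfl | hr0
      · simp
      have := (mem_restrictTotalDegree _ _ _).1 p.2
      rw [hr, totalDegree_mul_of_isDomain hf.ne_zero hr0] at this
      omega
    · rintro ⟨r, rfl⟩
      exact Subtype.ext (show ev x y (f * r.1) = 0 by rw [map_mul, hfxy, zero_mul])
  have h1 := LinearMap.finrank_range_add_finrank_ker ψ
  rw [hker, LinearMap.finrank_range_of_inj hφ,
    LinearMap.range_eq_top.2 (LinearMap.submoduleMap_surjective _ _), finrank_top] at h1
  change Module.finrank k (Vm (k := k) x y m) + _ = _ at h1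
  have h2 : ((2 * Module.finrank k (restrictTotalDegree (Fin 2) k m) : ℕ) : ℤ) =
      ((m + 1) * (m + 2) : ℕ) := congrArg Nat.cast (two_mul_finrank_restrictTotalDegree m)
  have h3 : ((2 * Module.finrank k (restrictTotalDegree (Fin 2) k (m - e)) : ℕ) : ℤ) =
      (((m - e) + 1) * ((m - e) + 2) : ℕ) := congrArg Nat.cast (two_mul_finrank_restrictTotalDegree (m - e))
  push_cast [Nat.cast_sub hm] at h2 h3
  rw [← h1] at h2
  push_cast at h2
  linear_combination h2 - h3

theorem PlaneModel.exists_bound [IsAlgClosed k] (h : PlaneModel hK x y) :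
    ∃ C : ℕ, ∀ m, 2 * genus k K + 2 ≤ m →
      ell (m • FunFld.mapDiv k ![(1 : K), x, y]) ≤ Module.finrank k (Vm (k := k) x y (m + C)) := by
  classical
  have hff := ff hK
  set E := FunFld.mapDiv k ![(1 : K), x, y]
  let m₀ := 2 * genus k K + 2
  haveI := finiteDimensional_L hff (m₀ • E)
  let bs := Module.finBasis k (FunFld.L (m₀ • E))
  -- common denominator
  have hden : ∀ z : K, ∃ q : K, q ≠ 0 ∧ (∃ N, q ∈ Vm (k := k) x y N) ∧ ∃ N, q * z ∈ Vm (k := k) x y N := by
    intro z
    have hz : z ∈ IntermediateField.adjoin k ({x, y} : Set K) := h.top ▸ trivial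
    obtain ⟨r, hr, s, hs, rfl⟩ := IntermediateField.mem_adjoin_iff_div.1 hz
    have hV : ∀ u ∈ Algebra.adjoin k ({x, y} : Set K), ∃ N, u ∈ Vm (k := k) x y N := fun u hu => by
      have : Algebra.adjoin k ({x, y} : Set K) ≤ (ev (k := k) x y).range := Algebra.adjoin_le (by
        rintro z (rfl | rfl)
        · exact ⟨MvPolynomial.X 0, by simp [ev]⟩
        · exact ⟨MvPolynomial.X 1, by simp [ev]⟩)
      obtain ⟨p, rfl⟩ := this hu
      exact ⟨_, mem_Vm.2 ⟨p, le_rfl, rfl⟩⟩
    rcases eq_or_ne s 0 with rfl | hs0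
    · exact ⟨1, one_ne_zero, hV 1 (one_mem _), by simpa using hV 0 (zero_mem _)⟩
    · exact ⟨s, hs0, hV s hs, by rw [mul_div_cancel₀ _ hs0]; exact hV r hr⟩
  choose q hq hqV hqz using fun i => hden (bs i : K)
  let Q := ∏ i, q i
  have hQ0 : Q ≠ 0 := Finset.prod_ne_zero_iff.2 fun i _ => hq i
  choose M hM using hqV
  choose N hN using hqz
  let C₀ := (∑ i, M i) + ∑ i, N i
  have hprod : ∀ s : Finset (Fin (Module.finrank k (FunFld.L (m₀ • E)))),
      ∏ i ∈ s, q i ∈ Vm (k := k) x y (∑ i ∈ s, M i) := fun s => by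
    induction s using Finset.cons_induction with
    | empty => exact mem_Vm.2 ⟨1, by simp, map_one _⟩
    | cons a s ha ih => rw [Finset.prod_cons, Finset.sum_cons]; exact mul_mem_Vm (hM a) ih
  have hbase : ∀ u ∈ FunFld.L (m₀ • E), Q * u ∈ Vm (k := k) x y C₀ := by
    intro u hu
    rw [show u = ((⟨u, hu⟩ : FunFld.L (m₀ • E)) : K) from rfl, ← bs.sum_repr ⟨u, hu⟩,
      AddSubmonoidClass.coe_finsetSum, Finset.mul_sum]
    refine Submodule.sum_mem _ fun i _ => ?_
    rw [show ((bs.repr ⟨u, hu⟩ i • bs i : FunFld.L (m₀ • E)) : K) = bs.repr ⟨u, hu⟩ i • (bs i : K) from rfl,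
      mul_smul_comm]
    refine Submodule.smul_mem _ _ ?_
    simp only [Q]
    rw [← Finset.mul_prod_erase _ _ (Finset.mem_univ i), mul_right_comm]
    refine Vm_mono ?_ (mul_mem_Vm (hN i) (hprod _))
    have h1 : N i ≤ ∑ j, N j := Finset.single_le_sum (fun j _ => Nat.zero_le _) (Finset.mem_univ i)
    have h2 : ∑ j ∈ Finset.univ.erase i, M j ≤ ∑ j, M j :=
      Finset.sum_le_sum_of_subset (Finset.erase_subset _ _)
    omega
  have hall : ∀ m, m₀ ≤ m → ∀ u ∈ FunFld.L (m • E), Q * u ∈ Vm (k := k) x y (C₀ + (m - m₀)) := by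
    intro m hm
    induction m, hm using Nat.le_induction with
    | base => intro u hu; simpa using hbase u hu
    | succ m hm ih =>
      intro u hu
      obtain ⟨P⟩ := nonempty_place hff
      obtain ⟨g₁, hg₁, g₂, hg₂, hgP, hgg⟩ := h.gen.exists_pair hff P
      obtain ⟨a, ha, b, hb, rfl⟩ := pencil hK (h.gen.le hg₁) (h.gen.le hg₂) (ne_zero_of_val hgP) hgg
        (F := m • E) (by
          rw [deg_smul]
          have hd := h.deg_pos
          have : ((2 * genus k K + 1 : ℕ) : ℤ) * E.deg ≤ ((m : ℤ) - 1) * E.deg :=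
            mul_le_mul_of_nonneg_right (by omega) hd.le
          push_cast at this
          nlinarith) (show u ∈ FunFld.L (E + m • E) by rwa [add_comm, ← succ_nsmul])
      rw [show C₀ + (m + 1 - m₀) = 1 + (C₀ + (m - m₀)) by omega, mul_add, mul_left_comm,
        mul_left_comm Q g₂]
      exact Submodule.add_mem _ (mul_mem_Vm (span_le_Vm x y hg₁) (ih a ha))
        (mul_mem_Vm (span_le_Vm x y hg₂) (ih b hb))
  refine ⟨C₀, fun m hm => ?_⟩
  haveI := finiteDimensional_L hff (m • E)
  haveI : FiniteDimensional k (Vm (k := k) x y (m + C₀)) := Module.Finite.map _ _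
  let F : FunFld.L (m • E) →ₗ[k] Vm (k := k) x y (m + C₀) :=
    { toFun := fun u => ⟨Q * u, Vm_mono (by omega) (hall m hm u u.2)⟩
      map_add' := fun u v => Subtype.ext (mul_add Q _ _)
      map_smul' := fun c u => Subtype.ext (mul_smul_comm c Q _) }
  exact LinearMap.finrank_le_finrank_of_injective (f := F) fun u v huv =>
    Subtype.ext (mul_left_cancel₀ hQ0 (congrArg Subtype.val huv))

theorem PlaneModel.deg_eq [IsAlgClosed k] (h : PlaneModel hK x y) {f : MvPolynomial (Fin 2) k}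
    (hf : Irreducible f) (hfxy : ev x y f = 0) :
    (FunFld.mapDiv k ![(1 : K), x, y]).deg = f.totalDegree ∧
      2 * (genus k K : ℤ) ≤ ((f.totalDegree : ℤ) - 1) * ((f.totalDegree : ℤ) - 2) := by
  have hd := h.deg_pos
  set d := (FunFld.mapDiv k ![(1 : K), x, y]).deg
  set e := f.totalDegree
  set g := genus k K
  obtain ⟨C, hC⟩ := h.exists_bound
  have key : ∀ m, e ≤ m → 2 * g + 2 ≤ m →
      2 * (m : ℤ) * e + 2 - ((e : ℤ) - 1) * ((e : ℤ) - 2) ≤ 2 * (m * d + 1 - g) ∧
      2 * ((m : ℤ) * d + 1 - g) ≤ 2 * ((m : ℤ) + C) * e + 2 - ((e : ℤ) - 1) * ((e : ℤ) - 2) := by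
    intro m hm hm'
    have h1 := h.finrank_Vm hf hfxy hm
    have h2 := h.finrank_Vm hf hfxy (m := m + C) (by omega)
    have h3 := h.finrank_Vm_le m
    have h4 := hC m hm'
    have h5 : (ell (m • FunFld.mapDiv k ![(1 : K), x, y]) : ℤ) = m * d + 1 - g :=
      h.ell_nsmul (m := m) (by omega)
    push_cast at h2
    have h3' : (Module.finrank k (Vm (k := k) x y m) : ℤ) ≤ ell (m • FunFld.mapDiv k ![(1 : K), x, y]) :=
      Int.ofNat_le.2 h3
    have h4' : (ell (m • FunFld.mapDiv k ![(1 : K), x, y]) : ℤ) ≤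
        Module.finrank k (Vm (k := k) x y (m + C)) := Int.ofNat_le.2 h4
    constructor <;> linarith
  let D : ℕ := (((e : ℤ) - 1) * ((e : ℤ) - 2)).natAbs
  let m : ℕ := e + 2 * g + 2 + D + 2 * C * e
  obtain ⟨h1, h2⟩ := key m (by omega) (by omega)
  have hD1 : ((e : ℤ) - 1) * ((e : ℤ) - 2) ≤ D := by simp only [D]; exact Int.le_natAbs
  have hD2 : -(D : ℤ) ≤ ((e : ℤ) - 1) * ((e : ℤ) - 2) := by
    simp only [D]; have := Int.le_natAbs (a := -(((e : ℤ) - 1) * ((e : ℤ) - 2))); rw [Int.natAbs_neg] at this; omega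
  have hmD : (D : ℤ) + 2 * g + 2 * C * e + 1 ≤ m := by simp only [m]; push_cast; omega
  have hde : d = e := by
    rcases lt_trichotomy d (e : ℤ) with hlt | heq | hgt
    · exfalso
      have := mul_le_mul_of_nonneg_left (show (1 : ℤ) ≤ (e : ℤ) - d by omega) (Int.natCast_nonneg m)
      nlinarith [Int.natCast_nonneg C, Int.natCast_nonneg e]
    · exact heq
    · exfalso
      have := mul_le_mul_of_nonneg_left (show (1 : ℤ) ≤ d - (e : ℤ) by omega) (Int.natCast_nonneg m)
      nlinarith [Int.natCast_nonneg C, Int.natCast_nonneg e]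
  refine ⟨hde, ?_⟩
  rw [hde] at h1
  linarith

theorem PlaneModel.two_mul_genus_le [IsAlgClosed k] (h : PlaneModel hK x y) :
    2 * (genus k K : ℤ) ≤ ((FunFld.mapDiv k ![(1 : K), x, y]).deg - 1) *
      ((FunFld.mapDiv k ![(1 : K), x, y]).deg - 2) := by
  obtain ⟨f, hf, hfxy⟩ := h.exists_relation
  obtain ⟨h1, h2⟩ := h.deg_eq hf hfxy
  rw [h1]; exact h2

theorem PlaneModel.Vm_eq_L [IsAlgClosed k] (h : PlaneModel hK x y) {f : MvPolynomial (Fin 2) k}
    (hf : Irreducible f) (hfxy : ev x y f = 0)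
    (hg : 2 * (genus k K : ℤ) = ((FunFld.mapDiv k ![(1 : K), x, y]).deg - 1) *
      ((FunFld.mapDiv k ![(1 : K), x, y]).deg - 2)) {m : ℕ} (hm : f.totalDegree ≤ m)
    (hm' : 2 * genus k K ≤ m) :
    Vm (k := k) x y m = FunFld.L (m • FunFld.mapDiv k ![(1 : K), x, y]) := by
  haveI := finiteDimensional_L (ff hK) (m • FunFld.mapDiv k ![(1 : K), x, y])
  refine Submodule.eq_of_le_of_finrank_eq (h.Vm_le m) ?_
  rw [← ell]
  have h1 := h.finrank_Vm hf hfxy hm
  have h2 := h.ell_nsmul hm'
  rw [(h.deg_eq hf hfxy).1] at hg h2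
  have : (Module.finrank k (Vm (k := k) x y m) : ℤ) = ell (m • FunFld.mapDiv k ![(1 : K), x, y]) := by
    linarith
  exact_mod_cast this

theorem Vm_div_pow_mem_chA {f : K} (hf : f ∈ Submodule.span k (Set.range ![(1 : K), x, y])) (hf0 : f ≠ 0)
    {m : ℕ} {u : K} (hu : u ∈ Vm (k := k) x y m) :
    u / f ^ m ∈ chA (Submodule.span k (Set.range ![(1 : K), x, y])) f := by
  obtain ⟨p, hp, rfl⟩ := mem_Vm.1 hu
  rw [p.as_sum, map_sum, Finset.sum_div]
  refine sum_mem fun d hd => ?_
  have hdeg : d 0 + d 1 ≤ m := by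
    have := (le_totalDegree hd).trans hp
    rwa [Finsupp.sum_fintype _ _ (fun _ => rfl), Fin.sum_univ_two] at this
  rw [ev, aeval_monomial, Finsupp.prod_fintype _ _ (fun _ => pow_zero _), Fin.prod_univ_two,
    mul_div_assoc]
  simp only [Matrix.cons_val_zero, Matrix.cons_val_one]
  refine mul_mem (Subalgebra.algebraMap_mem _ _) ?_
  rw [show x ^ d 0 * y ^ d 1 / f ^ m = (x / f) ^ d 0 * (y / f) ^ d 1 * (1 / f) ^ (m - (d 0 + d 1)) by
    conv_lhs => rw [show m = (d 0 + d 1) + (m - (d 0 + d 1)) by omega, pow_add, pow_add]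
    rw [div_pow, div_pow, div_pow, one_pow]
    field_simp]
  exact mul_mem (mul_mem (pow_mem (div_mem_chA (Submodule.subset_span (s := Set.range ![(1 : K), x, y]) ⟨1, rfl⟩)) _)
    (pow_mem (div_mem_chA (Submodule.subset_span (s := Set.range ![(1 : K), x, y]) ⟨2, rfl⟩)) _))
    (pow_mem (div_mem_chA (Submodule.subset_span (s := Set.range ![(1 : K), x, y]) ⟨0, rfl⟩)) _)

theorem chA_mul_pow_mem {f : K} (hf : f ∈ Submodule.span k (Set.range ![(1 : K), x, y])) (hf0 : f ≠ 0)
    {u : K} (hu : u ∈ chA (Submodule.span k (Set.range ![(1 : K), x, y])) f) :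
    ∃ N : ℕ, ∀ M, N ≤ M → u * f ^ M ∈ Vm (k := k) x y M := by
  have hfM : ∀ M, f ^ M ∈ Vm (k := k) x y M := fun M => by
    induction M with
    | zero => exact mem_Vm.2 ⟨1, by simp, by simp⟩
    | succ M ih => rw [pow_succ]; exact mul_mem_Vm ih (span_le_Vm x y hf)
  refine Algebra.adjoin_induction
    (p := fun z _ => ∃ N : ℕ, ∀ M, N ≤ M → z * f ^ M ∈ Vm (k := k) x y M) ?_ ?_ ?_ ?_ hu
  · rintro _ ⟨v, hv, rfl⟩
    refine ⟨1, fun M hM => ?_⟩
    rw [show v / f * f ^ M = v * f ^ (M - 1) by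
      conv_lhs => rw [show M = (M - 1) + 1 by omega, pow_succ]
      field_simp]
    exact Vm_mono (by omega) (mul_mem_Vm (span_le_Vm x y hv) (hfM (M - 1)))
  · exact fun c => ⟨0, fun M _ => by rw [← Algebra.smul_def]; exact Submodule.smul_mem _ c (hfM M)⟩
  · rintro a b _ _ ⟨N, hN⟩ ⟨N', hN'⟩
    exact ⟨N + N', fun M hM => by
      rw [add_mul]; exact add_mem (hN M (by omega)) (hN' M (by omega))⟩
  · rintro a b _ _ ⟨N, hN⟩ ⟨N', hN'⟩
    refine ⟨N + N', fun M hM => ?_⟩
    rw [show a * b * f ^ M = (a * f ^ N) * (b * f ^ (M - N)) by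
      conv_lhs => rw [show M = N + (M - N) by omega, pow_add]
      ring]
    exact Vm_mono (by omega) (mul_mem_Vm (hN N le_rfl) (hN' (M - N) (by omega)))

theorem PlaneModel.genus_eq_iff [IsAlgClosed k] (h : PlaneModel hK x y) :
    2 * (genus k K : ℤ) = ((FunFld.mapDiv k ![(1 : K), x, y]).deg - 1) *
        ((FunFld.mapDiv k ![(1 : K), x, y]).deg - 2) ↔
      ∀ P : Place k K, IsNonsingularAt ![(1 : K), x, y] P := by
  classical
  have hff := ff hK
  have hd := h.deg_pos
  have hG := h.gen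
  set E := FunFld.mapDiv k ![(1 : K), x, y]
  obtain ⟨f, hf, hfxy⟩ := h.exists_relation
  constructor
  · intro hg P z hz
    obtain ⟨j, hjV, hj0, hjP, hjm⟩ := hG.exists_index P
    refine (inLocRing_iff hG hjV hjP ⟨j, hjm⟩ z).2 ?_
    refine hG.ns_of_kill hK hd hjV hjP (one_mem _) (map_one _) (fun u hu => ?_) z hz
    obtain ⟨m, hm, hum⟩ := exists_mul_pow_mem hff (hG.le hjV) hj0 hu (f.totalDegree + 2 * genus k K)
    rw [← h.Vm_eq_L hf hfxy hg (by omega) (by omega)] at hum
    have := Vm_div_pow_mem_chA hjV hj0 hum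
    rwa [mul_div_cancel_right₀ _ (pow_ne_zero _ hj0), ← one_mul u] at this
  · intro hns
    obtain ⟨P₀⟩ := nonempty_place hff
    obtain ⟨g₁, hg₁, g₂, hg₂, hgP, hgg⟩ := hG.exists_pair hff P₀
    have hg₁0 : g₁ ≠ 0 := ne_zero_of_val hgP
    have hle : ∀ w ∈ Submodule.span k (Set.range ![(1 : K), x, y]), w ≠ 0 →
        chB E w ≤ chA (Submodule.span k (Set.range ![(1 : K), x, y])) w := fun w hw hw0 =>
      hG.chB_le hK hd h.bir hw hw0 fun P hP z hz => by
        obtain ⟨j, -, -, -, hjm⟩ := hG.exists_index P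
        exact (inLocRing_iff hG hw hP ⟨j, hjm⟩ z).1 (hns P z hz)
    let m₀ := 2 * genus k K + 2
    haveI := finiteDimensional_L hff (m₀ • E)
    let bs := Module.finBasis k (FunFld.L (m₀ • E))
    have hr : ∀ w ∈ Submodule.span k (Set.range ![(1 : K), x, y]), ∃ r₀ : ℕ, ∀ r, r₀ ≤ r →
        ∀ u ∈ FunFld.L (m₀ • E), u * w ^ r ∈ Vm (k := k) x y (m₀ + r) := by
      intro w hw
      rcases eq_or_ne w 0 with rfl | hw0
      · exact ⟨1, fun r hr u _ => by rw [zero_pow (by omega), mul_zero]; exact zero_mem _⟩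
      choose N hN using fun i => chA_mul_pow_mem hw hw0
        (hle w hw hw0 (smul_div_pow_mem (f := w) (bs i).2))
      refine ⟨∑ i, N i, fun r hr u hu => ?_⟩
      rw [show u = ((⟨u, hu⟩ : FunFld.L (m₀ • E)) : K) from rfl, ← bs.sum_repr ⟨u, hu⟩,
        AddSubmonoidClass.coe_finsetSum, Finset.sum_mul]
      refine Submodule.sum_mem _ fun i _ => ?_
      rw [show ((bs.repr ⟨u, hu⟩ i • bs i : FunFld.L (m₀ • E)) : K) = bs.repr ⟨u, hu⟩ i • (bs i : K) from rfl,
        smul_mul_assoc]
      refine Submodule.smul_mem _ _ ?_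
      have h1 := hN i (m₀ + r) (le_add_left ((Finset.single_le_sum (fun j _ => Nat.zero_le _)
        (Finset.mem_univ i)).trans hr))
      rwa [pow_add w m₀ r, ← mul_assoc, div_mul_cancel₀ _ (pow_ne_zero _ hw0)] at h1
    obtain ⟨r₁, hr₁⟩ := hr g₁ hg₁
    obtain ⟨r₂, hr₂⟩ := hr g₂ hg₂
    let r := r₁ + r₂
    have hall : ∀ m, m₀ ≤ m → ∀ u ∈ FunFld.L (m • E),
        u * g₁ ^ r ∈ Vm (k := k) x y (m + r) ∧ u * g₂ ^ r ∈ Vm (k := k) x y (m + r) := by
      intro m hm
      induction m, hm using Nat.le_induction with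
      | base => exact fun u hu => ⟨hr₁ r (by omega) u hu, hr₂ r (by omega) u hu⟩
      | succ m hm ih =>
        intro u hu
        obtain ⟨a, ha, b, hb, rfl⟩ := pencil hK (hG.le hg₁) (hG.le hg₂) hg₁0 hgg
          (F := m • E) (by
            rw [deg_smul]
            have : ((2 * genus k K + 1 : ℕ) : ℤ) * E.deg ≤ ((m : ℤ) - 1) * E.deg :=
              mul_le_mul_of_nonneg_right (by omega) hd.le
            push_cast at this
            nlinarith) (show u ∈ FunFld.L (E + m • E) by rwa [add_comm, ← succ_nsmul])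
        rw [show m + 1 + r = 1 + (m + r) by omega, add_mul, add_mul, mul_assoc, mul_assoc, mul_assoc,
          mul_assoc]
        exact ⟨add_mem (mul_mem_Vm (span_le_Vm x y hg₁) (ih a ha).1)
            (mul_mem_Vm (span_le_Vm x y hg₂) (ih b hb).1),
          add_mem (mul_mem_Vm (span_le_Vm x y hg₁) (ih a ha).2)
            (mul_mem_Vm (span_le_Vm x y hg₂) (ih b hb).2)⟩
    -- now all large graded pieces agree
    let m := m₀ + f.totalDegree + r
    have hgg' : ∀ Q : Place k K, Q.1 (g₁ ^ r) = exp ((r • E) Q) ∨ Q.1 (g₂ ^ r) = exp ((r • E) Q) :=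
      fun Q => (hgg Q).imp (fun hQ => by rw [map_pow, hQ, ← exp_nsmul]; simp)
        (fun hQ => by rw [map_pow, hQ, ← exp_nsmul]; simp)
    have hdeg : 2 * (genus k K : ℤ) - 1 ≤ (m • E : Divisor k K).deg - (r • E : Divisor k K).deg := by
      rw [deg_smul, deg_smul]
      have h1 : ((2 * genus k K + 2 : ℕ) : ℤ) ≤ (((m₀ + f.totalDegree : ℕ) : ℤ)) * E.deg :=
        (le_mul_of_one_le_right (by positivity) (by omega)).trans
          (mul_le_mul_of_nonneg_right (by simp only [m₀]; push_cast; omega) hd.le)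
      simp only [m]
      push_cast at h1 ⊢
      linarith
    have heq : FunFld.L ((m + r) • E) ≤ Vm (k := k) x y (m + r) := by
      intro u hu
      obtain ⟨a, ha, b, hb, rfl⟩ := pencil hK (pow_mem_L_smul (hG.le hg₁) r) (pow_mem_L_smul (hG.le hg₂) r)
        (pow_ne_zero _ hg₁0) hgg' hdeg
        (show u ∈ FunFld.L (r • E + m • E) by rwa [add_comm, ← add_nsmul])
      rw [mul_comm (g₁ ^ r), mul_comm (g₂ ^ r)]
      exact add_mem (hall m (by omega) a ha).1 (hall m (by omega) b hb).2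
    haveI := finiteDimensional_L hff ((m + r) • E)
    have hfin : Module.finrank k (Vm (k := k) x y (m + r)) = ell ((m + r) • E) := by
      rw [le_antisymm (h.Vm_le (m + r)) heq, ell]
    have h1 := h.finrank_Vm hf hfxy (m := m + r) (by omega)
    have h2 := h.ell_nsmul (m := m + r) (by simp only [m, m₀]; omega)
    rw [hfin] at h1
    rw [(h.deg_eq hf hfxy).1] at h2 ⊢
    push_cast at h1 h2
    linarith

theorem PlaneModel.exists_triangular [IsAlgClosed k] (h : PlaneModel hK x y)
    (hns : ∀ P : Place k K, IsNonsingularAt ![(1 : K), x, y] P) :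
    ∃ m : ℕ, 2 * genus k K = m * (m + 1) := by
  have hg := h.genus_eq_iff.2 hns
  have hd := h.deg_pos
  obtain ⟨e, he⟩ := Int.eq_ofNat_of_zero_le hd.le
  rw [he] at hg hd
  match e with
  | 0 => simp at hd
  | 1 => exact ⟨0, by push_cast at hg; omega⟩
  | n + 2 =>
    refine ⟨n, Int.ofNat.inj ?_⟩
    show ((2 * genus k K : ℕ) : ℤ) = ((n * (n + 1) : ℕ) : ℤ)
    push_cast at hg ⊢
    rw [hg]; ring

end Groth.Agent.FunField
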