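import Groth.Agent.Lib.FunField.Weights
import Mathlib.RingTheory.Derivation.Basic
import Mathlib.Algebra.Polynomial.Derivative
import Mathlib.Algebra.Polynomial.Roots

/-! # Genus zero over an algebraically closed field: coordinate and derivation -/

namespace Groth.Agent.FunField

open WithZero FunFld Polynomial IntermediateField
open scoped Multiplicative

variable {k K : Type*} [Field k] [Field K] [Algebra k K]

theorem val_aeval_of_one_lt (P : Place k K) {x : K} (hx : 1 < P.1 x) {p : k[X]} (hp : p ≠ 0) :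
    P.1 (aeval x p) = P.1 x ^ p.natDegree :=
  Polynomial.valuation_aeval_eq_valuation_X_pow_natDegree_of_one_lt_valuation_X x hx hp

/-- A coordinate on a rational function field: one simple pole, generator. -/
structure Coord (k K : Type*) [Field k] [Field K] [Algebra k K] where
  x : K
  R : Place k K
  pole : R.1 x = exp 1
  other : ∀ Q : Place k K, Q ≠ R → Q.1 x ≤ 1
  trans : Transcendental k x
  repr : ∀ f : K, ∃ p q : k[X], q ≠ 0 ∧ f * aeval x q = aeval x p

theorem exists_coord [IsAlgClosed k] (hK : IsFunctionField k K) (hg : genus k K = 0) :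
    Nonempty (Coord k K) := by
  have h := ff hK
  obtain ⟨R⟩ := nonempty_place h
  have hdeg : Divisor.deg (Finsupp.single R 1 : Divisor k K) = 1 := by
    rw [deg_single, deg_eq_one h R]; simp
  have hl := ell_of_large_deg hK (Finsupp.single R 1) (by rw [hdeg, hg]; simp)
  rw [hdeg, hg] at hl
  haveI := finiteDimensional_L h (0 : Divisor k K)
  have hne : ¬ FunFld.L (Finsupp.single R 1) ≤ FunFld.L (0 : Divisor k K) := fun hh => by
    have := Submodule.finrank_mono hh
    rw [← ell, ← ell, ell_zero hK] at this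
    omega
  obtain ⟨x, hx, hx0⟩ := SetLike.not_le_iff_exists.1 hne
  have hne0 : x ≠ 0 := fun e => hx0 (e ▸ zero_mem _)
  have hother : ∀ Q : Place k K, Q ≠ R → Q.1 x ≤ 1 := fun Q hQ => by
    simpa [Finsupp.single_eq_of_ne hQ] using hx Q
  have hR : R.ord x = -1 := by
    have h1 := (mem_L_iff_ord hne0).1 hx R
    rw [Finsupp.single_eq_same] at h1
    by_contra h2
    refine hx0 ((mem_L_iff_ord hne0).2 fun S => ?_)
    rcases eq_or_ne S R with rfl | hS
    · simp; omega
    · have := (val_le_one_iff S hne0).1 (hother S hS)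
      simp; omega
  have htr : Transcendental k x := transcendental_of_val_ne_one R hne0 (fun e => by
    simp [Place.ord, e] at hR)
  have hpd : poleDiv (k := k) x = Finsupp.single R 1 := by
    ext Q
    rw [poleDiv_apply h]
    rcases eq_or_ne Q R with rfl | hQ
    · rw [Finsupp.single_eq_same, hR]; rfl
    · rw [Finsupp.single_eq_of_ne hQ]
      have := (val_le_one_iff Q hne0).1 (hother Q hQ)
      omega
  haveI := h.finiteDimensional htr
  have hfin : Module.finrank k⟮x⟯ K = 1 := by
    have := deg_poleDiv h htr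
    rw [hpd, hdeg] at this
    exact_mod_cast this.symm
  have htop : (k⟮x⟯ : IntermediateField k K) = ⊤ := IntermediateField.finrank_eq_one_iff_eq_top.1 hfin
  refine ⟨⟨x, R, ?_, hother, htr, fun f => ?_⟩⟩
  · rw [val_eq_exp_neg_ord R hne0, hR, neg_neg]
  · obtain ⟨p, q, hpq⟩ := (mem_adjoin_simple_iff k f).1 (htop ▸ IntermediateField.mem_top : f ∈ k⟮x⟯)
    rcases eq_or_ne q 0 with rfl | hq
    · exact ⟨0, 1, one_ne_zero, by simp [hpq]⟩
    · exact ⟨p, q, hq, by rw [hpq, div_mul_cancel₀ _ (aeval_ne_zero htr hq)]⟩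

namespace Coord

variable (c : Coord k K)

theorem aeval_inj {p q : k[X]} (h : aeval c.x p = aeval c.x q) : p = q := by
  by_contra hne
  exact aeval_ne_zero c.trans (sub_ne_zero.2 hne) (by rw [map_sub, h, sub_self])

/-- The underlying function of the derivation `d/dx`. -/
noncomputable def dfun (f : K) : K :=
  let p := (c.repr f).choose
  let q := (c.repr f).choose_spec.choose
  (aeval c.x (derivative p) - f * aeval c.x (derivative q)) / aeval c.x q

theorem dfun_eq {f : K} {p q : k[X]} (hq : q ≠ 0) (h : f * aeval c.x q = aeval c.x p) :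
    c.dfun f = (aeval c.x (derivative p) - f * aeval c.x (derivative q)) / aeval c.x q := by
  unfold dfun
  set p' := (c.repr f).choose
  set q' := (c.repr f).choose_spec.choose
  have hsp : q' ≠ 0 ∧ f * aeval c.x q' = aeval c.x p' := (c.repr f).choose_spec.choose_spec
  have hq0 : aeval c.x q ≠ 0 := aeval_ne_zero c.trans hq
  have hq0' : aeval c.x q' ≠ 0 := aeval_ne_zero c.trans hsp.1
  have hpol : p' * q = p * q' := by
    apply c.aeval_inj
    rw [map_mul, map_mul, ← hsp.2, ← h]; ring
  have hd := congrArg (fun e => aeval c.x (derivative e)) hpol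
  simp only [derivative_mul, map_add, map_mul, ← hsp.2, ← h] at hd
  rw [div_eq_div_iff hq0' hq0]
  linear_combination hd

theorem dfun_mul (f g : K) : c.dfun (f * g) = f * c.dfun g + g * c.dfun f := by
  obtain ⟨p, q, hq, h⟩ := c.repr f
  obtain ⟨p', q', hq', h'⟩ := c.repr g
  rw [c.dfun_eq hq h, c.dfun_eq hq' h', c.dfun_eq (p := p * p') (q := q * q') (mul_ne_zero hq hq')
    (by rw [map_mul, map_mul, ← h, ← h']; ring)]
  have hq0 := aeval_ne_zero c.trans hq
  have hq0' := aeval_ne_zero c.trans hq'
  simp only [derivative_mul, map_add, map_mul, ← h, ← h']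
  field_simp
  ring

theorem dfun_add (f g : K) : c.dfun (f + g) = c.dfun f + c.dfun g := by
  obtain ⟨p, q, hq, h⟩ := c.repr f
  obtain ⟨p', q', hq', h'⟩ := c.repr g
  rw [c.dfun_eq hq h, c.dfun_eq hq' h',
    c.dfun_eq (p := p * q' + p' * q) (q := q * q') (mul_ne_zero hq hq')
    (by rw [map_add, map_mul, map_mul, map_mul, ← h, ← h']; ring)]
  have hq0 := aeval_ne_zero c.trans hq
  have hq0' := aeval_ne_zero c.trans hq'
  simp only [derivative_mul, map_add, map_mul, ← h, ← h']
  field_simp
  ring

theorem dfun_const (a : k) : c.dfun (algebraMap k K a) = 0 := by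
  rw [c.dfun_eq (p := C a) (q := 1) one_ne_zero (by simp)]
  simp

/-- The derivation `d/dx`. -/
noncomputable def D : Derivation k K K :=
  Derivation.mk'
    { toFun := c.dfun
      map_add' := c.dfun_add
      map_smul' := fun a f => by
        rw [Algebra.smul_def, c.dfun_mul, c.dfun_const, RingHom.id_apply, Algebra.smul_def,
          mul_zero, add_zero] }
    (fun f g => by simp [c.dfun_mul])

theorem D_apply (f : K) : c.D f = c.dfun f := rfl

theorem D_eq {f : K} {p q : k[X]} (hq : q ≠ 0) (h : f * aeval c.x q = aeval c.x p) :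
    c.D f = aeval c.x (derivative p * q - p * derivative q) / aeval c.x q ^ 2 := by
  rw [D_apply, c.dfun_eq hq h, map_sub, map_mul, map_mul, ← h]
  have hq0 := aeval_ne_zero c.trans hq
  field_simp

theorem D_eq_zero [CharZero k] {f : K} (h : c.D f = 0) : f ∈ Set.range (algebraMap k K) := by
  obtain ⟨p, q, hq, hpq, hcop⟩ : ∃ p q : k[X], q ≠ 0 ∧ f * aeval c.x q = aeval c.x p ∧
      IsCoprime p q := by
    classical
    obtain ⟨p, q, hq, hpq⟩ := c.repr f
    have hg : gcd p q ≠ 0 := gcd_ne_zero_of_right hq
    obtain ⟨a, b, hab⟩ := exists_gcd_eq_mul_add_mul p q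
    obtain ⟨p', hp'⟩ := gcd_dvd_left p q
    obtain ⟨q', hq'⟩ := gcd_dvd_right p q
    generalize gcd p q = G at hg hab hp' hq'
    refine ⟨p', q', fun e => hq (by rw [hq', e, mul_zero]), ?_, ?_⟩
    · rw [hp', hq', map_mul, map_mul, mul_left_comm] at hpq
      exact mul_left_cancel₀ (aeval_ne_zero c.trans hg) hpq
    · refine ⟨a, b, mul_left_cancel₀ hg ?_⟩
      calc G * (a * p' + b * q') = (G * p') * a + (G * q') * b := by ring
        _ = p * a + q * b := by rw [← hp', ← hq']
        _ = G * 1 := by rw [← hab, mul_one]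
  rw [c.D_eq hq hpq, div_eq_zero_iff] at h
  have h0 : derivative p * q - p * derivative q = 0 := by
    refine c.aeval_inj ?_
    rw [map_zero]
    exact h.resolve_right (pow_ne_zero _ (aeval_ne_zero c.trans hq))
  have hdvd : q ∣ derivative q :=
    hcop.symm.dvd_of_dvd_mul_left ⟨derivative p, by linear_combination -h0⟩
  have hq' : derivative q = 0 := by
    by_contra hne
    have := natDegree_le_of_dvd hdvd hne
    have hd : q.natDegree ≠ 0 := fun e => hne (derivative_of_natDegree_zero e)
    have := natDegree_derivative_lt hd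
    omega
  rw [hq', mul_zero, sub_zero, mul_eq_zero] at h0
  have hp' := h0.resolve_right hq
  rw [eq_C_of_derivative_eq_zero hq'] at hq hpq
  rw [eq_C_of_derivative_eq_zero hp', aeval_C, aeval_C] at hpq
  refine ⟨p.coeff 0 / q.coeff 0, ?_⟩
  have hne : algebraMap k K (q.coeff 0) ≠ 0 := by
    simpa using fun e : q.coeff 0 = 0 => hq (by rw [e, map_zero])
  rw [map_div₀, div_eq_iff hne, hpq]

theorem val_D_pole [IsAlgClosed k] (f : K) (b : ℤ) (hf : c.R.1 f ≤ exp b) :
    c.R.1 (c.D f) ≤ exp (b - 1) := by
  obtain ⟨p, q, hq, h⟩ := c.repr f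
  rw [c.D_eq hq h]
  set r := derivative p * q - p * derivative q with hr
  rcases eq_or_ne r 0 with hr0 | hr0
  · simp [hr0]
  have hp : p ≠ 0 := fun e => hr0 (by simp [hr, e])
  have h1 : 1 < c.R.1 c.x := by rw [c.pole, ← exp_zero, exp_lt_exp]; norm_num
  have hv : ∀ s : k[X], s ≠ 0 → c.R.1 (aeval c.x s) = exp (s.natDegree : ℤ) := fun s hs => by
    rw [val_aeval_of_one_lt c.R h1 hs, c.pole, ← exp_nsmul]; simp
  have hfb : (p.natDegree : ℤ) ≤ b + q.natDegree := by
    have := congrArg c.R.1 h
    rw [map_mul, hv q hq, hv p hp] at this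
    rw [← exp_le_exp (G := ℤ), ← this, exp_add]
    exact mul_le_mul' hf le_rfl
  have hdeg : (r.natDegree : ℤ) + 1 ≤ p.natDegree + q.natDegree := by
    by_cases hpq0 : p.natDegree = 0 ∧ q.natDegree = 0
    · exact absurd (by
        rw [hr, derivative_of_natDegree_zero hpq0.1, derivative_of_natDegree_zero hpq0.2]
        simp) hr0
    · have hA : (derivative p * q).natDegree + 1 ≤ p.natDegree + q.natDegree := by
        rcases Nat.eq_zero_or_pos p.natDegree with e | e
        · rw [derivative_of_natDegree_zero e]; simp; omega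
        · have := natDegree_derivative_lt e.ne'
          have := natDegree_mul_le (p := derivative p) (q := q)
          omega
      have hB : (p * derivative q).natDegree + 1 ≤ p.natDegree + q.natDegree := by
        rcases Nat.eq_zero_or_pos q.natDegree with e | e
        · rw [derivative_of_natDegree_zero e]; simp; omega
        · have := natDegree_derivative_lt e.ne'
          have := natDegree_mul_le (p := p) (q := derivative q)
          omega
      have := natDegree_sub_le (derivative p * q) (p * derivative q)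
      rw [← hr] at this
      omega
  rw [map_div₀, map_pow, hv r hr0, hv q hq, ← exp_nsmul, ← exp_sub, exp_le_exp]
  simp
  omega

theorem val_D_finite [IsAlgClosed k] [CharZero k] (hK : IsFunctionField k K) {Q : Place k K} (hQ : Q ≠ c.R)
    (f : K) (b : ℤ) (hf : Q.1 f ≤ exp b) : Q.1 (c.D f) ≤ exp (b + 1) := by
  have h := ff hK
  obtain ⟨a, ha⟩ : ∃ a : k, Q.1 (c.x - algebraMap k K a) < 1 := by
    haveI hf := h.finite_residueField Q
    haveI : Algebra.IsIntegral k (IsLocalRing.ResidueField Q.O) :=
      ⟨fun x => IsIntegral.of_mem_of_fg ⊤ (by convert hf.fg_top using 0 <;> rfl) x trivial⟩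
    obtain ⟨a, ha⟩ := (IsAlgClosed.algebraMap_bijective_of_isIntegral (k := k)
      (K := IsLocalRing.ResidueField Q.O)).2 (IsLocalRing.residue Q.O ⟨c.x, c.other Q hQ⟩)
    refine ⟨a, ?_⟩
    have := (residue_eq_zero_iff Q (⟨c.x, c.other Q hQ⟩ - algebraMap k Q.O a)).1 (by
      rw [map_sub, ← ha]; exact sub_self _)
    exact this
  set t := c.x - algebraMap k K a with ht
  have hta : aeval c.x (X - C a) = t := by simp [t]
  have ht0 : t ≠ 0 := hta ▸ aeval_ne_zero c.trans (X_sub_C_ne_zero a)
  have htt : Transcendental k t := transcendental_of_val_ne_one Q ht0 ha.ne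
  have htord : Q.ord t = 1 := by
    have h1 : 0 < Q.ord t := (val_lt_one_iff' Q ht0).1 ha
    have h2 := sum_ord_mul_deg_le h htt {Q} (by intro P hP; simp at hP; subst hP; omega)
    have h3 := deg_poleDiv h htt
    have h4 : poleDiv (k := k) t ≤ Finsupp.single c.R 1 := by
      classical
      intro S
      rw [poleDiv_apply h]
      rcases eq_or_ne S c.R with rfl | hS
      · rw [Finsupp.single_eq_same]
        have : c.R.1 t ≤ exp 1 := c.R.1.map_sub_le c.pole.le
          ((c.R.2.1 a).trans (by rw [← exp_zero, exp_le_exp]; norm_num))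
        rw [val_le_exp_iff _ ht0] at this
        omega
      · rw [Finsupp.single_eq_of_ne hS]
        have : S.1 t ≤ 1 := S.1.map_sub_le (c.other S hS) (S.2.1 a)
        rw [val_le_one_iff _ ht0] at this
        omega
    have h5 := deg_mono h4
    rw [h3, deg_single, deg_eq_one h] at h5
    rw [Finset.sum_singleton, deg_eq_one h] at h2
    push_cast at h2 h5
    omega
  have hvt : Q.1 t = exp (-1) := by rw [val_eq_exp_neg_ord Q ht0, htord]
  have hv : ∀ s : k[X], s ≠ 0 → Q.1 (aeval c.x s) = exp (-(s.rootMultiplicity a : ℤ)) := by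
    intro s hs
    obtain ⟨s₁, hs₁, hnd⟩ := exists_eq_pow_rootMultiplicity_mul_and_not_dvd s hs a
    nth_rewrite 1 [hs₁]
    rw [map_mul, map_pow, hta, map_mul, map_pow, hvt, ← exp_nsmul]
    have : Q.1 (aeval c.x s₁) = 1 := by
      refine le_antisymm (val_aeval_le Q (c.other Q hQ) s₁) (not_lt.1 fun hlt => hnd ?_)
      rw [dvd_iff_isRoot]
      by_contra hne
      obtain ⟨s₂, hs₂⟩ := X_sub_C_dvd_sub_C_eval (p := s₁) (a := a)
      have h6 : aeval c.x s₁ - algebraMap k K (s₁.eval a) = t * aeval c.x s₂ := by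
        have := congrArg (aeval c.x) hs₂
        rwa [map_mul, map_sub, aeval_C, hta] at this
      have h7 : Q.1 (algebraMap k K (s₁.eval a)) < 1 := by
        rw [show algebraMap k K (s₁.eval a) = aeval c.x s₁ - t * aeval c.x s₂ by rw [← h6]; ring]
        refine Q.1.map_sub_lt hlt ?_
        rw [map_mul]
        exact lt_of_le_of_lt (mul_le_of_le_one_right' (val_aeval_le Q (c.other Q hQ) _)) ha
      rw [val_const Q hne] at h7
      exact lt_irrefl _ h7
    rw [this, mul_one]
    simp
  obtain ⟨p, q, hq, hpq⟩ := c.repr f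
  rw [c.D_eq hq hpq]
  rcases eq_or_ne p 0 with rfl | hp
  · simp
  have hfb : -b + q.rootMultiplicity a ≤ (p.rootMultiplicity a : ℤ) := by
    have := congrArg Q.1 hpq
    rw [map_mul, hv q hq, hv p hp] at this
    have h8 : exp (-(p.rootMultiplicity a : ℤ)) ≤ exp (b + -(q.rootMultiplicity a : ℤ)) := by
      rw [← this, exp_add]; exact mul_le_mul' hf le_rfl
    rw [exp_le_exp] at h8
    omega
  have key : ∀ s : k[X], s ≠ 0 → Q.1 (aeval c.x (derivative s)) ≤
      exp (1 - (s.rootMultiplicity a : ℤ)) := by
    intro s hs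
    rcases eq_or_ne (derivative s) 0 with h0 | h0
    · simp [h0]
    rw [hv _ h0, exp_le_exp]
    have := rootMultiplicity_sub_one_le_derivative_rootMultiplicity s a
    omega
  rw [map_div₀, map_pow, hv q hq, map_sub, map_mul, map_mul, div_le_iff₀ (pow_pos exp_pos 2),
    ← exp_nsmul, ← exp_add]
  refine Q.1.map_sub_le ?_ ?_
  · rw [map_mul, hv q hq]
    refine (mul_le_mul' (key p hp) le_rfl).trans ?_
    rw [← exp_add, exp_le_exp]; simp; omega
  · rw [map_mul, hv p hp]
    refine (mul_le_mul' le_rfl (key q hq)).trans ?_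
    rw [← exp_add, exp_le_exp]; simp; omega

end Coord

end Groth.Agent.FunField
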