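import Groth.Agent.Lib.FunField.GenusOne
import Groth.Agent.Lib.FunField.Rational
import Groth.Agent.Lib.FunField.Plane
import Groth.Agent.Lib.FunField.LinEquiv
import Mathlib.RingTheory.RootsOfUnity.AlgebraicallyClosed
import Mathlib.RingTheory.Localization.FractionRing

/-! # Automorphisms of an elliptic function field fixing the origin -/

namespace Groth.Agent.FunField.EllAut

open FunFld Polynomial
open WithZero (exp)

variable {k K : Type*} [Field k] [IsAlgClosed k] [Field K] [Algebra k K]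

/-- A Weierstrass model with distinguished place. -/
structure WModel (k K : Type*) [Field k] [Field K] [Algebra k K] where
  P : Place k K
  a : k
  b : k
  x : K
  y : K
  hP : P.deg = 1
  eq : y ^ 2 = x ^ 3 + algebraMap k K a * x + algebraMap k K b
  top : IntermediateField.adjoin k ({x, y} : Set K) = ⊤
  hx : x ∈ FunFld.L (Finsupp.single P 2)
  hxo : P.ord x = -2
  hy : y ∈ FunFld.L (Finsupp.single P 3)
  hyo : P.ord y = -3

variable (m : WModel k K)

omit [IsAlgClosed k] in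
theorem WModel.val_x : m.P.1 m.x = exp 2 := by
  have h0 : m.x ≠ 0 := fun e => by have := m.hxo; rw [e, ord_zero] at this; omega
  rw [val_eq_exp_neg_ord m.P h0, m.hxo]; rfl

omit [IsAlgClosed k] in
theorem WModel.val_y : m.P.1 m.y = exp 3 := by
  have h0 : m.y ≠ 0 := fun e => by have := m.hyo; rw [e, ord_zero] at this; omega
  rw [val_eq_exp_neg_ord m.P h0, m.hyo]; rfl

omit [IsAlgClosed k] in
theorem WModel.one_lt : 1 < m.P.1 m.x := by
  rw [m.val_x, ← WithZero.exp_zero, WithZero.exp_lt_exp]; norm_num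

omit [IsAlgClosed k] in
theorem WModel.val_poly {p : k[X]} (hp : p ≠ 0) : m.P.1 (aeval m.x p) = exp (2 * (p.natDegree : ℤ)) := by
  rw [val_aeval_of_one_lt m.P m.one_lt hp, m.val_x, ← WithZero.exp_nsmul]
  congr 1
  simp; ring

omit [IsAlgClosed k] in
theorem WModel.indep {A B : k[X]} (h : aeval m.x A + aeval m.x B * m.y = 0) : A = 0 ∧ B = 0 := by
  by_cases hB : B = 0
  · refine ⟨by_contra fun hA => ?_, hB⟩
    rw [hB, map_zero, zero_mul, add_zero] at h
    have := m.val_poly hA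
    rw [h, map_zero] at this
    exact WithZero.exp_ne_zero this.symm
  · exfalso
    have h2 := congrArg m.P.1 (eq_neg_of_add_eq_zero_left h)
    rw [Valuation.map_neg, map_mul, m.val_poly hB, m.val_y, ← WithZero.exp_add] at h2
    by_cases hA : A = 0
    · rw [hA, map_zero, map_zero] at h2; exact WithZero.exp_ne_zero h2.symm
    · rw [m.val_poly hA, WithZero.exp_inj] at h2; omega

omit [IsAlgClosed k] in
theorem WModel.disc_cases (hd : 4 * m.a ^ 3 + 27 * m.b ^ 2 ≠ 0) : m.a ≠ 0 ∨ m.b ≠ 0 := by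
  by_contra! h; exact hd (by rw [h.1, h.2]; ring)

/-- The scalings preserving the model. -/
def WModel.scalings : Type _ := {u : k // u ≠ 0 ∧ m.a * (u ^ 4 - 1) = 0 ∧ m.b * (u ^ 6 - 1) = 0}

omit [IsAlgClosed k] in
theorem WModel.exists_aut {u : k} (hu : u ≠ 0) (ha : m.a * (u ^ 4 - 1) = 0) (hb : m.b * (u ^ 6 - 1) = 0) :
    ∃ σ : K ≃ₐ[k] K, (∀ z, m.P.1 (σ z) = m.P.1 z) ∧
      σ m.x = algebraMap k K (u ^ 2) * m.x ∧ σ m.y = algebraMap k K (u ^ 3) * m.y := by
  classical
  set c : k[X] := X ^ 3 + C m.a * X + C m.b with hc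
  set x' := algebraMap k K (u ^ 2) * m.x with hx'
  set y' := algebraMap k K (u ^ 3) * m.y with hy'
  have hcx : aeval m.x c = m.y ^ 2 := by rw [hc, m.eq]; simp
  have ha' : algebraMap k K m.a * algebraMap k K u ^ 6 = algebraMap k K m.a * algebraMap k K u ^ 2 := by
    rw [← map_pow, ← map_pow, ← map_mul, ← map_mul]
    congr 1; linear_combination u ^ 2 * ha
  have hb' : algebraMap k K m.b * algebraMap k K u ^ 6 = algebraMap k K m.b := by
    rw [← map_pow, ← map_mul]; congr 1; linear_combination hb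
  have heq' : y' ^ 2 = aeval x' c := by
    rw [hc, hy', hx']
    simp only [map_add, map_mul, map_pow, aeval_X, aeval_C]
    linear_combination algebraMap k K u ^ 6 * m.eq + m.x * ha' + hb'
  -- every polynomial in `x, y` has a normal form
  have hnf : ∀ p : MvPolynomial (Fin 2) k, ∃ A B : k[X],
      MvPolynomial.aeval ![m.x, m.y] p = aeval m.x A + aeval m.x B * m.y ∧
      MvPolynomial.aeval ![x', y'] p = aeval x' A + aeval x' B * y' := by
    intro p
    induction p using MvPolynomial.induction_on with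
    | C r => exact ⟨C r, 0, by simp, by simp⟩
    | add p q hp hq =>
      obtain ⟨A, B, h1, h2⟩ := hp; obtain ⟨A', B', h3, h4⟩ := hq
      refine ⟨A + A', B + B', ?_, ?_⟩ <;> simp only [map_add, h1, h2, h3, h4] <;> ring
    | mul_X p i hp =>
      obtain ⟨A, B, h1, h2⟩ := hp
      fin_cases i
      · refine ⟨A * X, B * X, ?_, ?_⟩ <;>
          simp only [map_mul, MvPolynomial.aeval_X, aeval_X, h1, h2, Fin.zero_eta, Matrix.cons_val_zero] <;> ring
      · refine ⟨B * c, A, ?_, ?_⟩ <;>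
          simp only [map_mul, MvPolynomial.aeval_X, h1, h2, Fin.mk_one, Matrix.cons_val_one, Matrix.cons_val_fin_one]
        · linear_combination -(aeval m.x B) * hcx
        · linear_combination (aeval x' B) * heq'
  let ev0 : MvPolynomial (Fin 2) k →ₐ[k] K := MvPolynomial.aeval ![m.x, m.y]
  let ev1 : MvPolynomial (Fin 2) k →ₐ[k] K := MvPolynomial.aeval ![x', y']
  have hker : ∀ p, ev0 p = 0 → ev1 p = 0 := fun p hp => by
    obtain ⟨A, B, h1, h2⟩ := hnf p
    obtain ⟨rfl, rfl⟩ := m.indep (h1.symm.trans hp)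
    show MvPolynomial.aeval ![x', y'] p = 0
    rw [h2]; simp
  have hinj1 : ∀ p, ev1 p = 0 → ev0 p = 0 := fun p hp => by
    obtain ⟨A, B, h1, h2⟩ := hnf p
    have h3 : aeval m.x (A.comp (C (u ^ 2) * X)) + aeval m.x (C (u ^ 3) * B.comp (C (u ^ 2) * X)) * m.y = 0 := by
      rw [← hp, show ev1 p = _ from h2, map_mul, aeval_comp, aeval_comp, map_mul, aeval_C, aeval_C, aeval_X, ← hx', hy']
      ring
    obtain ⟨hA, hB⟩ := m.indep h3
    have hq : (C (u ^ 2) * X : k[X]).natDegree = 1 := natDegree_C_mul_X _ (pow_ne_zero _ hu)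
    have hcomp : ∀ {q : k[X]}, q.comp (C (u ^ 2) * X) = 0 → q = 0 := fun {q} h0 => by
      rcases comp_eq_zero_iff.1 h0 with h | ⟨-, h⟩
      · exact h
      · have := congrArg Polynomial.natDegree h; rw [hq, natDegree_C] at this; omega
    have hB' : B.comp (C (u ^ 2) * X) = 0 :=
      (mul_eq_zero.1 hB).resolve_left (by simpa using hu)
    show MvPolynomial.aeval ![m.x, m.y] p = 0
    rw [h1, hcomp hA, hcomp hB']; simp
  let A := ev0.range
  have hfac : ∀ z : A, ∃ p, ev0 p = (z : K) := fun z => z.2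
  choose sec hsec using hfac
  have hwd : ∀ (z : A) (p : MvPolynomial (Fin 2) k), ev0 p = (z : K) → ev1 (sec z) = ev1 p := fun z p hp =>
    sub_eq_zero.1 (by rw [← map_sub]; exact hker _ (by rw [map_sub, hsec, hp, sub_self]))
  let g : A →ₐ[k] K :=
    { toFun := fun z => ev1 (sec z)
      map_one' := by rw [hwd 1 1 (by simp), map_one]
      map_mul' := fun z w => by rw [hwd (z * w) (sec z * sec w) (by simp [hsec]), map_mul]
      map_zero' := by rw [hwd 0 0 (by simp), map_zero]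
      map_add' := fun z w => by rw [hwd (z + w) (sec z + sec w) (by simp [hsec]), map_add]
      commutes' := fun r => by rw [hwd _ (MvPolynomial.C r) (by simp [ev0])]; simp [ev1] }
  have hg : Function.Injective g := by
    rw [injective_iff_map_eq_zero]
    intro z hz
    have := hinj1 _ hz
    rw [hsec] at this
    exact Subtype.ext this
  haveI : IsFractionRing A K := by
    refine IsFractionRing.of_field A K fun z => ?_
    have hz : z ∈ IntermediateField.adjoin k (Set.range ![m.x, m.y]) := by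
      have : Set.range ![m.x, m.y] = ({m.x, m.y} : Set K) := by simp [Matrix.range_cons, Set.pair_comm]
      rw [this, m.top]; trivial
    obtain ⟨r, s, hrs⟩ := (IntermediateField.mem_adjoin_range_iff k _ z).1 hz
    exact ⟨⟨_, r, rfl⟩, ⟨_, s, rfl⟩, hrs⟩
  let σ₀ : K →ₐ[k] K := IsFractionRing.liftAlgHom (R := k) (A := A) (K := K) (g := g) hg
  have hσ0 : ∀ p, σ₀ (ev0 p) = ev1 p := fun p => by
    rw [← hwd ⟨ev0 p, p, rfl⟩ p rfl]
    exact IsFractionRing.lift_algebraMap (g := g.toRingHom) hg ⟨ev0 p, p, rfl⟩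
  have hσx : σ₀ m.x = x' := by
    have := hσ0 (MvPolynomial.X 0); simpa [ev0, ev1] using this
  have hσy : σ₀ m.y = y' := by
    have := hσ0 (MvPolynomial.X 1); simpa [ev0, ev1] using this
  have hsurj : Function.Surjective σ₀ := by
    rw [← AlgHom.fieldRange_eq_top, ← top_le_iff, ← m.top, IntermediateField.adjoin_le_iff]
    rintro z (rfl | rfl)
    · refine ⟨algebraMap k K (u ^ 2)⁻¹ * m.x, ?_⟩
      show σ₀ _ = _
      rw [map_mul, AlgHom.commutes, hσx, hx', ← mul_assoc, ← map_mul, inv_mul_cancel₀ (pow_ne_zero _ hu), map_one, one_mul]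
    · refine ⟨algebraMap k K (u ^ 3)⁻¹ * m.y, ?_⟩
      show σ₀ _ = _
      rw [map_mul, AlgHom.commutes, hσy, hy', ← mul_assoc, ← map_mul, inv_mul_cancel₀ (pow_ne_zero _ hu), map_one, one_mul]
  let σ : K ≃ₐ[k] K := AlgEquiv.ofBijective σ₀ ⟨σ₀.toRingHom.injective, hsurj⟩
  refine ⟨σ, fun z => ?_, hσx, hσy⟩
  let Q : Place k K := ⟨m.P.1.comap (σ : K →+* K), fun r => by
    show m.P.1 (σ (algebraMap k K r)) ≤ 1
    rw [σ.commutes]; exact m.P.2.1 r, m.P.2.2.comp σ.surjective⟩
  suffices Q = m.P from congrArg (fun R : Place k K => R.1 z) this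
  by_contra hne
  have h1 := m.hx Q
  rw [Finsupp.single_eq_of_ne hne, WithZero.exp_zero] at h1
  have h2 : m.P.1 (σ m.x) ≤ 1 := h1
  rw [show σ m.x = x' from hσx, hx', map_mul, val_const m.P (pow_ne_zero _ hu), one_mul] at h2
  exact absurd m.one_lt (not_lt.2 h2)

variable (hK : IsFunctionField k K) (hg : genus k K = 1)
include hK hg

theorem mem_span_of_mem_L {n : ℕ} (hn : 1 ≤ n) {ι : Type*} [Fintype ι] (v : ι → K)
    (hcard : Fintype.card ι = n) (hv : LinearIndependent k v) {P : Place k K} (hP : P.deg = 1)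
    (hmem : ∀ i, v i ∈ FunFld.L (Finsupp.single P (n : ℤ))) {z : K}
    (hz : z ∈ FunFld.L (Finsupp.single P (n : ℤ))) : ∃ r : ι → k, ∑ i, r i • v i = z := by
  haveI := finiteDimensional_L (ff hK) (Finsupp.single P (n : ℤ))
  have hle : Submodule.span k (Set.range v) ≤ FunFld.L (Finsupp.single P (n : ℤ)) :=
    Submodule.span_le.2 (by rintro _ ⟨i, rfl⟩; exact hmem i)
  have hell := ell_g1_single hK hg hP (n := (n : ℤ)) (by omega)
  unfold FunFld.ell at hell
  have heq := Submodule.eq_of_le_of_finrank_le hle (by rw [finrank_span_eq_card hv, hcard]; omega)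
  rw [← heq] at hz
  exact (Submodule.mem_span_range_iff_exists_fun k).1 hz

theorem WModel.classify (h2 : (2 : k) ≠ 0) (h3 : (3 : k) ≠ 0) (σ : K ≃ₐ[k] K)
    (hσ : ∀ z, m.P.1 (σ z) = m.P.1 z) :
    ∃ u : k, u ≠ 0 ∧ m.a * (u ^ 4 - 1) = 0 ∧ m.b * (u ^ 6 - 1) = 0 ∧
      σ m.x = algebraMap k K (u ^ 2) * m.x ∧ σ m.y = algebraMap k K (u ^ 3) * m.y := by
  have hL : ∀ {n : ℤ} {z : K}, z ∈ FunFld.L (Finsupp.single m.P n) → σ z ∈ FunFld.L (Finsupp.single m.P n) := by
    intro n z hz R
    rcases eq_or_ne R m.P with rfl | hR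
    · rw [hσ]; exact hz _
    · let Q : Place k K := ⟨R.1.comap (σ : K →+* K), fun r => by
        show R.1 (σ (algebraMap k K r)) ≤ 1
        rw [σ.commutes]; exact R.2.1 r, R.2.2.comp σ.surjective⟩
      have hQ : Q ≠ m.P := fun e => hR (place_ext fun w => by
        have h1 : R.1 (σ (σ.symm w)) = m.P.1 (σ.symm w) := congrArg (fun S : Place k K => S.1 (σ.symm w)) e
        rw [σ.apply_symm_apply] at h1
        rw [h1, ← hσ (σ.symm w), σ.apply_symm_apply])
      have := hz Q
      rw [Finsupp.single_eq_of_ne hQ] at this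
      rw [Finsupp.single_eq_of_ne hR]
      exact this
  have h1L : ∀ {n : ℕ}, (1 : K) ∈ FunFld.L (Finsupp.single m.P (n : ℤ)) := fun {n} R => by
    rw [map_one, ← WithZero.exp_zero, WithZero.exp_le_exp]
    rcases eq_or_ne R m.P with rfl | hR <;> simp [*, Finsupp.single_eq_of_ne]
  have hx3 : m.x ∈ FunFld.L (Finsupp.single m.P ((3 : ℕ) : ℤ)) := fun R => by
    refine (m.hx R).trans (WithZero.exp_le_exp.2 ?_)
    rcases eq_or_ne R m.P with rfl | hR <;> simp [*, Finsupp.single_eq_of_ne]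
  have hind2 : LinearIndependent k ![(1 : K), m.x] := by
    refine Fintype.linearIndependent_iff.2 fun g hg0 => ?_
    obtain ⟨e, -⟩ := m.indep (A := C (g 0) + C (g 1) * X) (B := 0) (by
      rw [← hg0, Fin.sum_univ_two]; simp [Algebra.smul_def])
    have e0 := congrArg (fun q => coeff q 0) e
    have e1 := congrArg (fun q => coeff q 1) e
    simp at e0 e1
    intro i; fin_cases i
    · exact e0
    · exact e1
  have hind3 : LinearIndependent k ![(1 : K), m.x, m.y] := by
    refine Fintype.linearIndependent_iff.2 fun g hg0 => ?_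
    obtain ⟨e, eB⟩ := m.indep (A := C (g 0) + C (g 1) * X) (B := C (g 2)) (by
      rw [← hg0, Fin.sum_univ_three]; simp [Algebra.smul_def])
    have e0 := congrArg (fun q => coeff q 0) e
    have e1 := congrArg (fun q => coeff q 1) e
    simp at e0 e1
    intro i; fin_cases i
    · exact e0
    · exact e1
    · exact C_eq_zero.1 eB
  obtain ⟨r, hr⟩ := mem_span_of_mem_L hK hg (n := 2) (by norm_num) _ (Fintype.card_fin 2) hind2 m.hP
    (fun i => by fin_cases i; exacts [h1L, m.hx]) (hL m.hx)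
  obtain ⟨s, hs⟩ := mem_span_of_mem_L hK hg (n := 3) (by norm_num) _ (Fintype.card_fin 3) hind3 m.hP
    (fun i => by fin_cases i; exacts [h1L, hx3, m.hy]) (hL m.hy)
  simp only [Fin.sum_univ_two, Fin.sum_univ_three, Matrix.cons_val_zero, Matrix.cons_val_one,
    Matrix.cons_val_two, Matrix.tail_cons, Matrix.head_cons, Algebra.smul_def, mul_one] at hr hs
  set β := r 0; set α := r 1; set ε := s 0; set δ := s 1; set γ := s 2
  have heq := congrArg σ m.eq
  simp only [map_add, map_mul, map_pow, AlgEquiv.commutes, ← hr, ← hs] at heq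
  obtain ⟨eA, eB⟩ := m.indep
    (A := C γ ^ 2 * (X ^ 3 + C m.a * X + C m.b) + (C ε + C δ * X) ^ 2 -
      ((C β + C α * X) ^ 3 + C m.a * (C β + C α * X) + C m.b))
    (B := C 2 * C γ * (C ε + C δ * X)) (by
      simp only [map_add, map_sub, map_mul, map_pow, aeval_C, aeval_X, map_ofNat]
      linear_combination heq - algebraMap k K γ ^ 2 * m.eq)
  have hA : C γ ^ 2 * (X ^ 3 + C m.a * X + C m.b) + (C ε + C δ * X) ^ 2 -
      ((C β + C α * X) ^ 3 + C m.a * (C β + C α * X) + C m.b) =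
      C (γ ^ 2 - α ^ 3) * X ^ 3 + C (δ ^ 2 - 3 * α ^ 2 * β) * X ^ 2 +
        C (γ ^ 2 * m.a + 2 * ε * δ - 3 * α * β ^ 2 - m.a * α) * X +
        C (γ ^ 2 * m.b + ε ^ 2 - β ^ 3 - m.a * β - m.b) := by
    simp only [map_add, map_sub, map_mul, map_pow, map_ofNat]; ring
  rw [hA] at eA
  have hγ : γ ≠ 0 := fun h0 => by
    have h1 : m.P.1 (σ m.y) ≤ exp 2 := by
      rw [← hs, h0, map_zero, zero_mul, add_zero]
      refine (m.P.1.map_add _ _).trans (max_le ((m.P.2.1 _).trans ?_) ?_)
      · rw [← WithZero.exp_zero, WithZero.exp_le_exp]; norm_num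
      · rw [map_mul, m.val_x]; exact mul_le_of_le_one_left' (m.P.2.1 _)
    rw [hσ, m.val_y, WithZero.exp_le_exp] at h1
    norm_num at h1
  have hδε : ε = 0 ∧ δ = 0 := by
    have hB2 : C ε + C δ * X = 0 :=
      (mul_eq_zero.1 eB).resolve_left (mul_ne_zero (by simpa using h2) (by simpa using hγ))
    have e0 := congrArg (fun q => coeff q 0) hB2
    have e1 := congrArg (fun q => coeff q 1) hB2
    simp at e0 e1
    exact ⟨e0, e1⟩
  obtain ⟨hε, hδ⟩ := hδε
  have c3 := congrArg (fun q => coeff q 3) eA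
  have c2 := congrArg (fun q => coeff q 2) eA
  have c1 := congrArg (fun q => coeff q 1) eA
  have c0 := congrArg (fun q => coeff q 0) eA
  simp only [coeff_add, coeff_C_mul, coeff_X_pow, coeff_X, coeff_C, coeff_zero] at c3 c2 c1 c0
  norm_num at c3 c2 c1 c0
  have hα : α ≠ 0 := fun h0 => by
    rw [h0, zero_pow three_ne_zero, sub_zero] at c3; exact hγ (pow_eq_zero_iff two_ne_zero |>.1 c3)
  have hβ : β = 0 := by
    have h' : 3 * α ^ 2 * β = 0 := by linear_combination (δ : k) * hδ - c2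
    exact (mul_eq_zero.1 h').resolve_left (mul_ne_zero h3 (pow_ne_zero _ hα))
  have hca : γ ^ 2 * m.a - m.a * α = 0 := by rw [hε, hβ] at c1; linear_combination c1
  have hcb : γ ^ 2 * m.b - m.b = 0 := by rw [hε, hβ] at c0; linear_combination c0
  refine ⟨γ / α, div_ne_zero hγ hα, ?_, ?_, ?_, ?_⟩
  · field_simp
    linear_combination α ^ 3 * hca + m.a * γ ^ 2 * c3
  · field_simp
    linear_combination α ^ 6 * hcb + m.b * γ ^ 2 * (γ ^ 2 + α ^ 3) * c3
  · rw [← hr, hβ, map_zero, zero_add, show (γ / α) ^ 2 = α by field_simp; linear_combination c3]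
  · rw [← hs, hε, hδ, map_zero, zero_mul, zero_add, zero_add,
      show (γ / α) ^ 3 = γ by field_simp; linear_combination c3]

open Classical in
theorem WModel.card_fixing (h2 : (2 : k) ≠ 0) (h3 : (3 : k) ≠ 0) (hd : 4 * m.a ^ 3 + 27 * m.b ^ 2 ≠ 0)
    (N : ℕ) (hN : N = if m.a = 0 then 6 else if m.b = 0 then 4 else 2) :
    Nat.card {σ : K ≃ₐ[k] K // ∀ z : K, m.P.1 (σ z) = m.P.1 z} = N := by
  classical
  have hNk : (N : k) ≠ 0 := by
    rw [hN]; split_ifs
    · push_cast; rw [show (6 : k) = 2 * 3 by norm_num]; exact mul_ne_zero h2 h3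
    · push_cast; rw [show (4 : k) = 2 * 2 by norm_num]; exact mul_ne_zero h2 h2
    · push_cast; exact h2
  haveI : NeZero (N : k) := ⟨hNk⟩
  haveI : NeZero N := ⟨fun e => hNk (by simp [e])⟩
  have hiff : ∀ u : k, u ^ N = 1 ↔ (u ≠ 0 ∧ m.a * (u ^ 4 - 1) = 0 ∧ m.b * (u ^ 6 - 1) = 0) := by
    intro u
    rw [hN]
    split_ifs with ha hb
    · have hb : m.b ≠ 0 := (m.disc_cases hd).resolve_left (not_not.2 ha)
      constructor
      · intro h; exact ⟨fun e => by simp [e] at h, by simp [ha], by simp [h]⟩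
      · rintro ⟨-, -, h⟩; exact sub_eq_zero.1 ((mul_eq_zero.1 h).resolve_left hb)
    · constructor
      · intro h; exact ⟨fun e => by simp [e] at h, by simp [h], by simp [hb]⟩
      · rintro ⟨-, h, -⟩; exact sub_eq_zero.1 ((mul_eq_zero.1 h).resolve_left ha)
    · constructor
      · intro h
        exact ⟨fun e => by simp [e] at h, by rw [show u ^ 4 = (u ^ 2) ^ 2 by ring, h]; simp,
          by rw [show u ^ 6 = (u ^ 2) ^ 3 by ring, h]; simp⟩
      · rintro ⟨-, h4, h6⟩
        have h4' := sub_eq_zero.1 ((mul_eq_zero.1 h4).resolve_left ha)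
        have h6' := sub_eq_zero.1 ((mul_eq_zero.1 h6).resolve_left hb)
        calc u ^ 2 = u ^ 4 * u ^ 2 := by rw [h4', one_mul]
          _ = u ^ 6 := by ring
          _ = 1 := h6'
  rw [← HasEnoughRootsOfUnity.natCard_rootsOfUnity k N]
  have hclass := fun σ : {σ : K ≃ₐ[k] K // ∀ z : K, m.P.1 (σ z) = m.P.1 z} =>
    m.classify hK hg h2 h3 σ.1 σ.2
  choose u hu0 hua hub hux huy using hclass
  refine Nat.card_congr (Equiv.ofBijective (fun σ => rootsOfUnity.mkOfPowEq (u σ)
    ((hiff (u σ)).2 ⟨hu0 σ, hua σ, hub σ⟩)) ⟨?_, ?_⟩)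
  · intro σ τ h
    have h' : u σ = u τ := congrArg (fun w : rootsOfUnity N k => ((w : kˣ) : k)) h
    refine Subtype.ext (AlgEquiv.coe_toAlgHom_injective (AlgHom.ext fun z => ?_))
    let E : IntermediateField k K :=
      { Subalgebra.toSubsemiring (AlgHom.equalizer (σ.1 : K →ₐ[k] K) (τ.1 : K →ₐ[k] K)) with
        algebraMap_mem' := fun r => (σ.1.commutes r).trans (τ.1.commutes r).symm
        inv_mem' := fun w (hw : σ.1 w = τ.1 w) => show σ.1 w⁻¹ = τ.1 w⁻¹ by rw [map_inv₀, map_inv₀, hw] }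
    have hE : IntermediateField.adjoin k ({m.x, m.y} : Set K) ≤ E := by
      rw [IntermediateField.adjoin_le_iff]
      rintro w (rfl | rfl)
      · show σ.1 m.x = τ.1 m.x; rw [hux, hux, h']
      · show σ.1 m.y = τ.1 m.y; rw [huy, huy, h']
    exact hE (m.top ▸ IntermediateField.mem_top : z ∈ _)
  · intro w
    have hw : ((w : kˣ) : k) ^ N = 1 := by
      rw [← Units.val_pow_eq_pow_val, (mem_rootsOfUnity N (w : kˣ)).1 w.2, Units.val_one]
    obtain ⟨hw0, hwa, hwb⟩ := (hiff _).1 hw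
    obtain ⟨σ, hσ, hσx, hσy⟩ := m.exists_aut hw0 hwa hwb
    refine ⟨⟨σ, hσ⟩, ?_⟩
    refine Subtype.ext (Units.ext ?_)
    show u ⟨σ, hσ⟩ = ((w : kˣ) : k)
    have hxne : m.x ≠ 0 := fun e => by have := m.hxo; rw [e, ord_zero] at this; omega
    have hyne : m.y ≠ 0 := fun e => by have := m.hyo; rw [e, ord_zero] at this; omega
    have e2 : u ⟨σ, hσ⟩ ^ 2 = ((w : kˣ) : k) ^ 2 :=
      (algebraMap k K).injective (mul_right_cancel₀ hxne ((hux ⟨σ, hσ⟩).symm.trans hσx))
    have e3 : u ⟨σ, hσ⟩ ^ 3 = ((w : kˣ) : k) ^ 3 :=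
      (algebraMap k K).injective (mul_right_cancel₀ hyne ((huy ⟨σ, hσ⟩).symm.trans hσy))
    rw [pow_succ, e2, pow_succ _ 2] at e3
    exact mul_left_cancel₀ (pow_ne_zero _ hw0) e3

end Groth.Agent.FunField.EllAut
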