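import Groth.Agent.Lib.FunField.RR
import Groth.Agent.Lib.FunField.Weights
import Groth.Agent.Lib.FunField.LinEquiv
import Groth.Agent.Lib.FunField.Genus
import Groth.Prelude.Def_W4bk4goldsch45
import Mathlib.Algebra.Module.Submodule.Union
import Mathlib.RingTheory.Nakayama
import Mathlib.Algebra.BigOperators.Field

/-! # Base-point-free pencils and the nonsingularity criterion for linear systems -/

namespace Groth.Agent.FunField

open WithZero FunFld
open scoped Multiplicative

variable {k K : Type*} [Field k] [Field K] [Algebra k K]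

/-- `|E|` has no base point. -/
def Bpf (E : Divisor k K) : Prop := ∀ Q : Place k K, ∃ f ∈ FunFld.L E, Q.1 f = exp (E Q)

theorem ne_zero_of_val {Q : Place k K} {x : K} {a : ℤ} (h : Q.1 x = exp a) : x ≠ 0 := by
  rintro rfl
  rw [map_zero] at h
  exact exp_ne_zero h.symm

theorem eq_exp_of_notMem_sub {E : Divisor k K} {Q : Place k K} {f : K} (hf : f ∈ FunFld.L E)
    (hn : f ∉ FunFld.L (E - Finsupp.single Q 1)) : Q.1 f = exp (E Q) := by
  classical
  refine le_antisymm (hf Q) ?_
  by_contra hlt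
  rw [not_le] at hlt
  refine hn fun R => ?_
  rcases eq_or_ne R Q with rfl | hR
  · simp only [Finsupp.sub_apply, Finsupp.single_eq_same]
    rcases eq_or_ne f 0 with rfl | hf0
    · simp
    rw [val_eq_exp_neg_ord R hf0, exp_lt_exp] at hlt
    rw [val_eq_exp_neg_ord R hf0, exp_le_exp]
    omega
  · simpa [Finsupp.single_eq_of_ne hR] using hf R

theorem notMem_sub_of_eq_exp {E : Divisor k K} {Q : Place k K} {f : K} (hf : Q.1 f = exp (E Q)) :
    f ∉ FunFld.L (E - Finsupp.single Q 1) := by
  intro hm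
  have := hm Q
  rw [hf, exp_le_exp] at this
  simp at this

theorem bpf_of_ell (h : FF k K) {E : Divisor k K}
    (he : ∀ Q : Place k K, ell (E - Finsupp.single Q 1) < ell E) : Bpf E := by
  intro Q
  haveI := finiteDimensional_L h (E - Finsupp.single Q 1)
  obtain ⟨f, hf, hn⟩ := SetLike.not_le_iff_exists.1 fun hle : FunFld.L E ≤ FunFld.L (E - Finsupp.single Q 1) =>
    (he Q).not_ge (Submodule.finrank_mono hle)
  exact ⟨f, hf, eq_exp_of_notMem_sub hf hn⟩

theorem bpf_of_large_deg (hK : IsFunctionField k K) [IsAlgClosed k] {E : Divisor k K}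
    (hE : 2 * (genus k K : ℤ) ≤ E.deg) : Bpf E := by
  refine bpf_of_ell (ff hK) fun Q => ?_
  have h1 := ell_of_large_deg hK E (by omega)
  have hd := deg_sub_single (ff hK) E Q 1
  have h2 := ell_of_large_deg hK (E - Finsupp.single Q 1) (by omega)
  omega

theorem exists_const_near (h : FF k K) [IsAlgClosed k] (P : Place k K) {b : K} (hb : P.1 b ≤ 1) :
    ∃ c : k, P.1 (b - algebraMap k K c) < 1 := by
  haveI hf := h.finite_residueField P
  haveI : Algebra.IsIntegral k (IsLocalRing.ResidueField P.O) :=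
    ⟨fun x => IsIntegral.of_mem_of_fg ⊤ (by convert hf.fg_top using 0 <;> rfl) x trivial⟩
  obtain ⟨c, hc⟩ := (IsAlgClosed.algebraMap_bijective_of_isIntegral (k := k)
    (K := IsLocalRing.ResidueField P.O)).2 (IsLocalRing.residue P.O ⟨b, hb⟩)
  refine ⟨c, ?_⟩
  have h0 : IsLocalRing.residue P.O (⟨b, hb⟩ - algebraMap k P.O c) = 0 := by
    rw [map_sub, ← hc]; exact sub_self _
  simpa [coe_algebraMap_O] using (residue_eq_zero_iff P _).1 h0

theorem exists_pair (h : FF k K) [IsAlgClosed k] {E : Divisor k K} (hE : Bpf E) (P : Place k K) :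
    ∃ f ∈ FunFld.L E, ∃ g ∈ FunFld.L E, P.1 f = exp (E P) ∧
      ∀ Q : Place k K, Q.1 f = exp (E Q) ∨ Q.1 g = exp (E Q) := by
  classical
  obtain ⟨f, hf, hfP⟩ := hE P
  have hf0 : f ≠ 0 := ne_zero_of_val hfP
  let S := (E + FunFld.div k f).support
  let p : S → Submodule k (FunFld.L E) := fun Q =>
    (FunFld.L (E - Finsupp.single Q.1 1)).comap (FunFld.L E).subtype
  obtain ⟨g, hg⟩ := Submodule.exists_forall_notMem_of_forall_ne_top p fun Q htop => by
    obtain ⟨u, hu, huQ⟩ := hE Q.1
    exact notMem_sub_of_eq_exp huQ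
      (show (⟨u, hu⟩ : FunFld.L E) ∈ p Q by rw [htop]; trivial)
  refine ⟨f, hf, g, g.2, hfP, fun Q => ?_⟩
  by_cases hQ : Q ∈ S
  · exact .inr (eq_exp_of_notMem_sub g.2 (hg ⟨Q, hQ⟩))
  · refine .inl ?_
    simp only [S, Finsupp.mem_support_iff, Finsupp.add_apply, not_not, div_apply h] at hQ
    rw [val_eq_exp_neg_ord Q hf0]
    congr 1
    omega

/-- The base-point-free pencil trick. -/
theorem pencil (hK : IsFunctionField k K) [IsAlgClosed k] {E F : Divisor k K} {f g : K}
    (hf : f ∈ FunFld.L E) (hg : g ∈ FunFld.L E) (hf0 : f ≠ 0)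
    (hfg : ∀ Q : Place k K, Q.1 f = exp (E Q) ∨ Q.1 g = exp (E Q))
    (hdeg : 2 * (genus k K : ℤ) - 1 ≤ F.deg - E.deg) {h : K} (hh : h ∈ FunFld.L (E + F)) :
    ∃ a ∈ FunFld.L F, ∃ b ∈ FunFld.L F, h = f * a + g * b := by
  have hff := ff hK
  have hprod : ∀ {u a : K}, u ∈ FunFld.L E → a ∈ FunFld.L F → u * a ∈ FunFld.L (E + F) :=
    fun {u a} hu ha Q => by
      rw [map_mul, Finsupp.add_apply, exp_add]; exact mul_le_mul' (hu Q) (ha Q)
  by_cases hg0 : g = 0
  · subst hg0
    refine ⟨h / f, fun Q => ?_, 0, Submodule.zero_mem _, by rw [mul_zero, add_zero, mul_div_cancel₀ _ hf0]⟩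
    have hex : Q.1 f = exp (E Q) := (hfg Q).resolve_right fun e => ne_zero_of_val e rfl
    rw [map_div₀, hex, div_le_iff₀ exp_pos, ← exp_add]
    simpa [add_comm] using hh Q
  haveI := finiteDimensional_L hff F
  haveI := finiteDimensional_L hff (E + F)
  haveI := finiteDimensional_L hff (F - E)
  let Φ : FunFld.L F × FunFld.L F →ₗ[k] FunFld.L (E + F) :=
    { toFun := fun p => ⟨f * p.1 + g * p.2,
        Submodule.add_mem _ (hprod hf p.1.2) (hprod hg p.2.2)⟩
      map_add' := fun p q => Subtype.ext (by simp; ring)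
      map_smul' := fun c p => Subtype.ext (by simp [Algebra.smul_def]; ring) }
  have hEQ : ∀ {u : K} {R : Place k K}, u ∈ FunFld.L (F - E) → ∀ {v : K}, v ∈ FunFld.L E →
      R.1 (v * u) ≤ exp (F R) := fun {u R} hu {v} hv => by
    rw [map_mul]
    refine (mul_le_mul' (hv R) (hu R)).trans_eq ?_
    rw [← exp_add]; simp
  let Ψ : FunFld.L (F - E) →ₗ[k] FunFld.L F × FunFld.L F :=
    { toFun := fun u => (⟨g * u, fun R => hEQ u.2 hg⟩, -⟨f * u, fun R => hEQ u.2 hf⟩)
      map_add' := fun u v => Prod.ext (Subtype.ext (by simp; ring)) (Subtype.ext (by simp; ring))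
      map_smul' := fun c u => Prod.ext (Subtype.ext (by simp [Algebra.smul_def]; ring))
        (Subtype.ext (by simp [Algebra.smul_def]; ring)) }
  have hΨ : Function.Injective Ψ := fun u v huv => by
    have := congrArg (fun p => ((Prod.fst p : FunFld.L F) : K)) huv
    exact Subtype.ext (mul_left_cancel₀ hg0 this)
  have hker : LinearMap.ker Φ ≤ LinearMap.range Ψ := by
    rintro ⟨a, b⟩ hab
    have hab' : f * (a : K) + g * (b : K) = 0 := congrArg Subtype.val (LinearMap.mem_ker.1 hab)
    have hb : (b : K) = -(f * ((a : K) / g)) := by field_simp; linear_combination hab'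
    have ha : (a : K) = g * ((a : K) / g) := (mul_div_cancel₀ _ hg0).symm
    refine ⟨⟨(a : K) / g, fun R => ?_⟩, Prod.ext (Subtype.ext ha.symm) (Subtype.ext (show -(f * ((a : K) / g)) = (b : K) from hb.symm))⟩
    rw [Finsupp.sub_apply, sub_eq_add_neg, exp_add, exp_neg, ← div_eq_mul_inv, le_div_iff₀ exp_pos]
    rcases hfg R with hR | hR
    · rw [← hR, ← map_mul, mul_comm, ← neg_neg (f * _), Valuation.map_neg, ← hb]
      exact b.2 R
    · rw [← hR, ← map_mul, mul_comm, ← ha]
      exact a.2 R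
  have h1 := LinearMap.finrank_range_add_finrank_ker Φ
  have h2 := Submodule.finrank_mono hker
  rw [LinearMap.finrank_range_of_inj hΨ, ← ell] at h2
  rw [Module.finrank_prod, ← ell] at h1
  have hE0 : 0 ≤ E.deg := by
    have := deg_nonneg ((mem_L_iff_div hff hf0).1 hf)
    rw [deg_add, deg_div hff] at this; omega
  have e1 := ell_of_large_deg hK F (by omega)
  have e2 := ell_of_large_deg hK (E + F) (by rw [deg_add]; omega)
  have e3 := ell_of_large_deg hK (F - E) (by rw [deg_sub]; omega)
  rw [deg_add] at e2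
  rw [deg_sub] at e3
  have htop : LinearMap.range Φ = ⊤ := by
    refine Submodule.eq_top_of_finrank_eq (le_antisymm (Submodule.finrank_le _) ?_)
    rw [← ell]; omega
  obtain ⟨⟨a, b⟩, hab⟩ := LinearMap.range_eq_top.1 htop ⟨h, hh⟩
  exact ⟨a, a.2, b, b.2, (congrArg Subtype.val hab).symm⟩

theorem exists_denominator (hK : IsFunctionField k K) [IsAlgClosed k] {D : Divisor k K} (hd : 0 < D.deg)
    (P : Place k K) {z : K} (hz : P.1 z ≤ 1) (m₀ : ℕ) :
    ∃ m, m₀ ≤ m ∧ ∃ b ∈ FunFld.L (m • D), P.1 b = exp ((m • D) P) ∧ z * b ∈ FunFld.L (m • D) := by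
  have h := ff hK
  let m : ℕ := m₀ + (2 * genus k K + (poleDiv (k := k) z).deg.toNat)
  have hZP : poleDiv (k := k) z P = 0 := by
    rw [poleDiv_apply h, max_eq_right]
    have := (ord_nonneg_iff P z).2 hz
    omega
  obtain ⟨b, hb, hbP⟩ := bpf_of_large_deg hK (E := m • D - poleDiv (k := k) z) (by
    rw [deg_sub, deg_smul]
    have : (m : ℤ) ≤ m * D.deg := le_mul_of_one_le_right (by positivity) (by omega)
    omega) P
  refine ⟨m, Nat.le_add_right _ _, b, L_mono (sub_le_self _ (poleDiv_nonneg z)) hb, ?_, fun Q => ?_⟩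
  · rw [hbP, Finsupp.sub_apply, hZP, sub_zero]
  · rcases eq_or_ne z 0 with rfl | hz0
    · simp
    have h2 : Q.1 z ≤ exp (poleDiv (k := k) z Q) := by
      rw [poleDiv_apply h, val_le_exp_iff Q hz0]
      omega
    rw [map_mul]
    refine (mul_le_mul' h2 (hb Q)).trans_eq ?_
    rw [← exp_add]; simp

theorem isNonsingularAt_of_bpf (hK : IsFunctionField k K) [IsAlgClosed k] {D : Divisor k K}
    (hd : 0 < D.deg) (hD : Bpf D) (P : Place k K) (hDP : Bpf (D - Finsupp.single P 1))
    {n : ℕ} (φ : Fin (n + 1) → K) (hspan : Submodule.span k (Set.range φ) = FunFld.L D) :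
    IsNonsingularAt φ P := by
  classical
  have hff := ff hK
  have hφD : ∀ i, φ i ∈ FunFld.L D := fun i => hspan ▸ Submodule.subset_span (Set.mem_range_self i)
  obtain ⟨j, -, hj⟩ := Finset.univ.exists_max_image (fun i => P.1 (φ i)) Finset.univ_nonempty
  have hj' : ∀ i, P.1 (φ i) ≤ P.1 (φ j) := fun i => hj i (Finset.mem_univ _)
  have hjP : P.1 (φ j) = exp (D P) := by
    refine le_antisymm (hφD j P) ?_
    obtain ⟨f, hf, hfP⟩ := hD P
    rw [← hfP]
    rw [← hspan] at hf
    obtain ⟨c, rfl⟩ := (Submodule.mem_span_range_iff_exists_fun k).1 hf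
    refine P.1.map_sum_le fun i _ => ?_
    rw [Algebra.smul_def, map_mul]
    exact (mul_le_mul' (P.2.1 _) (hj' i)).trans_eq (one_mul _)
  have hj0 : φ j ≠ 0 := ne_zero_of_val hjP
  set A := Algebra.adjoin k (Set.range fun i => φ i / φ j)
  have hA : ∀ f ∈ FunFld.L D, f / φ j ∈ A := by
    intro f hf
    rw [← hspan] at hf
    induction hf using Submodule.span_induction with
    | mem x hx => obtain ⟨i, rfl⟩ := hx; exact Algebra.subset_adjoin ⟨i, rfl⟩
    | zero => simp
    | add x y _ _ hx hy => rw [add_div]; exact A.add_mem hx hy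
    | smul c x _ hx => rw [Algebra.smul_def, mul_div_assoc, ← Algebra.smul_def]; exact A.smul_mem hx c
  let m₀ : ℕ := 2 * genus k K + 2
  set B : Submodule A K := Submodule.span A ((fun u => u / φ j ^ m₀) '' (FunFld.L (m₀ • D) : Set K))
  have hB : B.FG := by
    haveI := finiteDimensional_L hff (m₀ • D)
    let bs := Module.finBasis k (FunFld.L (m₀ • D))
    refine ⟨Finset.univ.image fun i => (bs i : K) / φ j ^ m₀, le_antisymm (Submodule.span_le.2 ?_) (Submodule.span_le.2 ?_)⟩
    · simp only [Finset.coe_image, Finset.coe_univ, Set.image_univ, Set.range_subset_iff]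
      exact fun i => Submodule.subset_span ⟨_, (bs i).2, rfl⟩
    · rintro _ ⟨u, hu, rfl⟩
      have hu' : u = ∑ i, bs.repr ⟨u, hu⟩ i • (bs i : K) := by
        conv_lhs => rw [show u = ((⟨u, hu⟩ : FunFld.L (m₀ • D)) : K) from rfl, ← bs.sum_repr ⟨u, hu⟩]
        rw [AddSubmonoidClass.coe_finset_sum]
        exact Finset.sum_congr rfl fun i _ => rfl
      show u / _ ∈ _
      rw [hu', Finset.sum_div]
      refine Submodule.sum_mem _ fun i _ => ?_
      have : (bs.repr ⟨u, hu⟩ i • (bs i : K)) / φ j ^ m₀ =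
          algebraMap k A (bs.repr ⟨u, hu⟩ i) • ((bs i : K) / φ j ^ m₀) := by
        rw [Algebra.smul_def, mul_div_assoc]; rfl
      rw [this]
      exact Submodule.smul_mem _ _ (Submodule.subset_span (by simp))
  have hnd : ∀ m : ℕ, (m • D : Divisor k K).deg = m * D.deg := fun m => deg_smul m D
  -- all sections of all multiples lie in `B`
  have hall : ∀ m, m₀ ≤ m → ∀ u ∈ FunFld.L (m • D), u / φ j ^ m ∈ B := by
    intro m hm
    induction m, hm using Nat.le_induction with
    | base => exact fun u hu => Submodule.subset_span ⟨u, hu, rfl⟩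
    | succ m hm ih =>
      intro u hu
      obtain ⟨f, hf, g, hg, hfP, hfg⟩ := exists_pair hff hD P
      have hf0 : f ≠ 0 := ne_zero_of_val hfP
      obtain ⟨a, ha, b, hb, rfl⟩ := pencil hK hf hg hf0 hfg (F := m • D) (by
        rw [hnd]
        have : (2 * genus k K + 1 : ℤ) * D.deg ≤ ((m : ℤ) - 1) * D.deg :=
          mul_le_mul_of_nonneg_right (by omega) hd.le
        nlinarith) (show u ∈ FunFld.L (D + m • D) by rwa [add_comm, ← succ_nsmul])
      have key : ∀ w ∈ FunFld.L D, ∀ c ∈ FunFld.L (m • D), w * c / φ j ^ (m + 1) ∈ B := by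
        intro w hw c hc
        rw [show w * c / φ j ^ (m + 1) = (⟨w / φ j, hA w hw⟩ : A) • (c / φ j ^ m) by
          rw [Algebra.smul_def]; show _ = w / φ j * (c / φ j ^ m); rw [pow_succ]; field_simp]
        exact B.smul_mem _ (ih c hc)
      rw [add_div]
      exact B.add_mem (key f hf a ha) (key g hg b hb)
  let I : Ideal A :=
    { carrier := {a | P.1 (a : K) < 1}
      add_mem' := fun {a b} ha hb => (P.1.map_add _ _).trans_lt (max_lt ha hb)
      zero_mem' := by simp
      smul_mem' := fun c x hx => by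
        have hc : P.1 (c : K) ≤ 1 := by
          obtain ⟨c, hc⟩ := c
          refine Algebra.adjoin_induction (p := fun x _ => P.1 x ≤ 1) ?_ ?_ ?_ ?_ hc
          · rintro _ ⟨i, rfl⟩
            rw [map_div₀]
            exact div_le_one_of_le₀ (hj' i) zero_le
          · exact P.2.1
          · exact fun x y _ _ hx hy => (P.1.map_add _ _).trans (max_le hx hy)
          · intro x y _ _ hx hy
            rw [map_mul]
            exact (mul_le_mul' hx hy).trans_eq (one_mul _)
        show P.1 ((c : K) * (x : K)) < 1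
        rw [map_mul]
        exact (mul_le_of_le_one_left' hc).trans_lt hx }
  let A1 : Submodule A K := Submodule.span A {(1 : K)}
  have hBP : ∀ u ∈ FunFld.L (m₀ • D), P.1 (u / φ j ^ m₀) ≤ 1 := fun u hu => by
    rw [map_div₀, map_pow, hjP, ← exp_nsmul, div_le_one₀ exp_pos]
    simpa using hu P
  have hkey : B.map A1.mkQ ≤ I • B.map A1.mkQ := by
    rw [Submodule.map_span, Submodule.span_le]
    rintro _ ⟨_, ⟨u, hu, rfl⟩, rfl⟩
    obtain ⟨c, hc⟩ := exists_const_near hff P (hBP u hu)
    have hu' : u - algebraMap k K c * φ j ^ m₀ ∈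
        FunFld.L ((D - Finsupp.single P 1) + (m₀ - 1) • D) := by
      have e : (D - Finsupp.single P 1) + (m₀ - 1) • D = m₀ • D - Finsupp.single P 1 := by
        rw [show m₀ = (m₀ - 1) + 1 by omega, succ_nsmul]
        simp only [Nat.add_sub_cancel]; abel
      rw [e]
      intro Q
      have hpow : φ j ^ m₀ ∈ FunFld.L (m₀ • D) := fun R => by
        rw [map_pow]
        refine (pow_le_pow_left₀ zero_le (hφD j R) m₀).trans_eq ?_
        rw [← exp_nsmul]; simp
      have hmem : u - algebraMap k K c * φ j ^ m₀ ∈ FunFld.L (m₀ • D) :=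
        Submodule.sub_mem _ hu (by rw [← Algebra.smul_def]; exact Submodule.smul_mem _ c hpow)
      rcases eq_or_ne Q P with rfl | hQ
      · simp only [Finsupp.sub_apply, Finsupp.single_eq_same]
        rcases eq_or_ne (u - algebraMap k K c * φ j ^ m₀) 0 with h0 | h0
        · rw [h0]; simp
        have hc' : Q.1 (u - algebraMap k K c * φ j ^ m₀) < exp ((m₀ • D) Q) := by
          have hh : u - algebraMap k K c * φ j ^ m₀ =
              (u / φ j ^ m₀ - algebraMap k K c) * φ j ^ m₀ := by
            rw [sub_mul, div_mul_cancel₀ _ (pow_ne_zero _ hj0)]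
          rw [hh, map_mul, map_pow, hjP, ← exp_nsmul]
          refine (mul_lt_mul_of_pos_right hc exp_pos).trans_eq ?_
          simp
        rw [val_eq_exp_neg_ord Q h0, exp_lt_exp] at hc'
        rw [val_eq_exp_neg_ord Q h0, exp_le_exp]
        omega
      · simpa [Finsupp.single_eq_of_ne hQ] using hmem Q
    obtain ⟨f, hf, g, hg, hfP, hfg⟩ := exists_pair hff hDP P
    have hf0 : f ≠ 0 := ne_zero_of_val hfP
    obtain ⟨a, ha, b, hb, hab⟩ := pencil hK hf hg hf0 hfg (F := (m₀ - 1) • D) (by
      rw [hnd, deg_sub, deg_single, deg_eq_one hff]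
      have h2 : (2 * genus k K : ℤ) * D.deg + D.deg = (((m₀ - 1 : ℕ) : ℤ)) * D.deg := by
        rw [show ((m₀ - 1 : ℕ) : ℤ) = 2 * genus k K + 1 by omega]; ring
      nlinarith [Int.natCast_nonneg (genus k K)]) hu'
    have key : ∀ w ∈ FunFld.L (D - Finsupp.single P 1), ∀ v ∈ FunFld.L ((m₀ - 1) • D),
        A1.mkQ (w * v / φ j ^ m₀) ∈ I • B.map A1.mkQ := by
      intro w hw v hv
      have hwD : w ∈ FunFld.L D := L_mono (sub_le_self _ (Finsupp.single_nonneg.2 zero_le_one)) hw
      have hwI : (⟨w / φ j, hA w hwD⟩ : A) ∈ I := by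
        show P.1 (w / φ j) < 1
        rw [map_div₀, hjP, div_lt_one₀ exp_pos]
        refine (hw P).trans_lt ?_
        rw [Finsupp.sub_apply, Finsupp.single_eq_same, exp_lt_exp]
        omega
      have hvB : v / φ j ^ (m₀ - 1) ∈ B := by
        have hv' : v * φ j ∈ FunFld.L (m₀ • D) := fun R => by
          rw [map_mul]
          refine (mul_le_mul' (hv R) (hφD j R)).trans_eq ?_
          rw [← exp_add, ← Finsupp.add_apply, ← succ_nsmul, Nat.sub_add_cancel (by omega)]
        have := hall m₀ le_rfl _ hv'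
        rwa [show v / φ j ^ (m₀ - 1) = v * φ j / φ j ^ m₀ by
          conv_rhs => rw [show m₀ = (m₀ - 1) + 1 by omega, pow_succ]
          field_simp]
      rw [show w * v / φ j ^ m₀ = (⟨w / φ j, hA w hwD⟩ : A) • (v / φ j ^ (m₀ - 1)) by
        rw [Algebra.smul_def]; show _ = w / φ j * (v / φ j ^ (m₀ - 1))
        conv_lhs => rw [show m₀ = (m₀ - 1) + 1 by omega, pow_succ]
        field_simp, map_smul]
      exact Submodule.smul_mem_smul hwI (Submodule.mem_map_of_mem hvB)
    have hsplit : u / φ j ^ m₀ = f * a / φ j ^ m₀ + g * b / φ j ^ m₀ +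
        (algebraMap k A c) • (1 : K) := by
      rw [← add_div, ← hab, Algebra.smul_def, mul_one]
      show _ = _ + algebraMap k K c
      field_simp; ring
    rw [SetLike.mem_coe, ← Submodule.map_span]
    show A1.mkQ (u / φ j ^ m₀) ∈ I • Submodule.map A1.mkQ B
    rw [hsplit, map_add, map_add]
    refine Submodule.add_mem _ (Submodule.add_mem _ (key f hf a ha) (key g hg b hb)) ?_
    rw [Submodule.mkQ_apply, (Submodule.Quotient.mk_eq_zero A1).2
      (Submodule.smul_mem _ _ (Submodule.subset_span rfl))]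
    exact Submodule.zero_mem _
  obtain ⟨r, hr1, hr⟩ := Submodule.exists_sub_one_mem_and_smul_eq_zero_of_fg_of_le_smul I
    (B.map A1.mkQ) (hB.map _) hkey
  have hrP : P.1 (r : K) = 1 := by
    have hlt : P.1 ((r : K) - 1) < 1 := hr1
    simpa using P.1.map_one_add_of_lt hlt
  intro z hz
  obtain ⟨m, hm, b, hb, hbP, hzb⟩ := exists_denominator hK hd P hz m₀
  have hmemA : ∀ u ∈ B, (r : K) * u ∈ A := by
    intro u hu
    have h0 := hr _ (Submodule.mem_map_of_mem (f := A1.mkQ) hu)
    rw [← map_smul, Submodule.mkQ_apply, Submodule.Quotient.mk_eq_zero,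
      Submodule.mem_span_singleton] at h0
    obtain ⟨a, ha⟩ := h0
    have : (a : K) = (r : K) * u := by simpa [Algebra.smul_def] using ha
    exact this ▸ a.2
  refine ⟨j, hj0, hj', _, hmemA _ (hall m hm _ hzb), _, hmemA _ (hall m hm _ hb), ?_, ?_⟩
  · rw [map_mul, hrP, one_mul, map_div₀, hbP, map_pow, hjP, ← exp_nsmul,
      show (m • D : Divisor k K) P = m • D P from Finsupp.smul_apply _ _ _, div_self exp_ne_zero]
  · ring

theorem isNonsingularAt_of_deg_ge (hK : IsFunctionField k K) [IsAlgClosed k] {D : Divisor k K}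
    (hD : 2 * (genus k K : ℤ) + 1 ≤ D.deg) (P : Place k K)
    {n : ℕ} (φ : Fin (n + 1) → K) (hspan : Submodule.span k (Set.range φ) = FunFld.L D) :
    IsNonsingularAt φ P :=
  isNonsingularAt_of_bpf hK (by omega) (bpf_of_large_deg hK (by omega)) P
    (bpf_of_large_deg hK (by rw [deg_sub_single (ff hK)]; omega)) φ hspan

theorem ell_le_one_of_gonality (hK : IsFunctionField k K) [IsAlgClosed k]
    (h2 : ∀ x : K, Transcendental k x →
      2 < Module.finrank (IntermediateField.adjoin k ({x} : Set K)) K)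
    {E : Divisor k K} (hE : 0 ≤ E) (hd : E.deg ≤ 2) : ell E ≤ 1 := by
  by_contra hlt
  have h := ff hK
  obtain ⟨x, hx, hx0⟩ := SetLike.not_le_iff_exists.1 fun hle : FunFld.L E ≤ FunFld.L 0 => hlt (by
    haveI := finiteDimensional_L h (0 : Divisor k K)
    exact (Submodule.finrank_mono hle).trans (ell_zero hK).le)
  have htr : Transcendental k x := fun ha => hx0 (by
    obtain ⟨c, rfl⟩ := hK.2 x ha
    rw [L_zero hK, Submodule.mem_one]
    exact ⟨c, rfl⟩)
  have h3 : poleDiv (k := k) x ≤ E := by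
    refine sup_le ?_ hE
    rw [← sub_nonneg, sub_neg_eq_add]
    exact (mem_L_iff_div h (ne_zero_of_transcendental htr)).1 hx
  have h4 := deg_mono h3
  rw [deg_poleDiv h htr] at h4
  have := h2 x htr
  omega

theorem isNonsingularAt_of_canonical (hK : IsFunctionField k K) [IsAlgClosed k]
    (h2 : ∀ x : K, Transcendental k x →
      2 < Module.finrank (IntermediateField.adjoin k ({x} : Set K)) K)
    {C : Divisor k K} (hC : IsCanonical k K C) (P : Place k K)
    {n : ℕ} (φ : Fin (n + 1) → K) (hspan : Submodule.span k (Set.range φ) = FunFld.L C) :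
    IsNonsingularAt φ P := by
  have h := ff hK
  have hd1 : ∀ Q : Place k K, Divisor.deg (Finsupp.single Q (1 : ℤ)) = 1 := fun Q => by
    simp [deg_single, deg_eq_one h]
  have hs1 : ∀ Q : Place k K, (0 : Divisor k K) ≤ Finsupp.single Q 1 := fun Q =>
    Finsupp.single_nonneg.2 zero_le_one
  have hle1 : ∀ E : Divisor k K, 0 ≤ E → E.deg ≤ 2 → ell E = 1 := fun E hE hdE => by
    refine le_antisymm (ell_le_one_of_gonality hK h2 hE hdE) ?_
    rw [← ell_zero hK]
    exact ell_mono h hE
  obtain ⟨hl, hdeg⟩ := isCanonical_deg hK hC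
  have hrr := fun E => riemann_roch hK hC E
  have hE2 := hle1 (Finsupp.single P 1 + Finsupp.single P 1) (add_nonneg (hs1 P) (hs1 P))
    (by rw [deg_add, hd1]; omega)
  have h2' := hrr (Finsupp.single P 1 + Finsupp.single P 1)
  rw [hE2, deg_add, hd1] at h2'
  have hrr1 : ∀ Q : Place k K, (1 : ℤ) - ell (C - Finsupp.single Q 1) = 2 - genus k K := fun Q => by
    have h1 := hrr (Finsupp.single Q 1)
    rw [hle1 _ (hs1 Q) (by rw [hd1]; norm_num), hd1] at h1
    omega
  refine isNonsingularAt_of_bpf hK (by omega) (bpf_of_ell h fun Q => ?_) P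
    (bpf_of_ell h fun Q => ?_) φ hspan
  · have := hrr1 Q
    omega
  · have h1 := hrr (Finsupp.single P 1 + Finsupp.single Q 1)
    rw [hle1 _ (add_nonneg (hs1 P) (hs1 Q)) (by rw [deg_add, hd1, hd1]; norm_num),
      deg_add, hd1, hd1, ← sub_sub] at h1
    have := hrr1 P
    omega

end Groth.Agent.FunField
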