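import Groth.Agent.Lib.FunField.Basic
import Mathlib.FieldTheory.IntermediateField.Adjoin.Algebra
import Mathlib.RingTheory.AlgebraicIndependent.TranscendenceBasis
import Mathlib.RingTheory.Bezout

/-! # Residue fields are finite, places exist -/

namespace Groth.Agent.FunField

open WithZero FunFld Polynomial IntermediateField IntermediateField.algebraAdjoinAdjoin
open scoped Multiplicative

variable {k K : Type*} [Field k] [Field K] [Algebra k K]

variable (k K) in
/-- The weak form of the function-field hypothesis (constants may be bigger than `k`). -/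
def FF : Prop := ∃ x : K, Transcendental k x ∧ FiniteDimensional k⟮x⟯ K

/-- Over `k(y)`, `K` is finite for every transcendental `y`. -/
theorem FF.finiteDimensional (h : FF k K) {y : K} (hy : Transcendental k y) :
    FiniteDimensional k⟮y⟯ K := by
  obtain ⟨x, hx, hfin⟩ := h
  have halg : Algebra.IsAlgebraic (Algebra.adjoin k ({x} : Set K)) K := by
    haveI : Algebra.IsAlgebraic k⟮x⟯ K := Algebra.IsAlgebraic.of_finite _ _
    exact (IsFractionRing.comap_isAlgebraic_iff (A := Algebra.adjoin k ({x} : Set K))
      (K := k⟮x⟯) (C := K)).2 this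
  have htr : Algebra.trdeg k K ≤ 1 := by
    haveI := halg
    simpa using Algebra.IsAlgebraic.trdeg_le_cardinalMk (R := k) (A := K) (s := ({x} : Set K))
  have hind : AlgebraicIndependent k (fun _ : PUnit.{1} => y) := by
    rw [algebraicIndependent_unique_type_iff]; exact hy
  have hbasis := hind.isTranscendenceBasis_of_lift_trdeg_le_of_finite (by simpa using htr)
  have halg' := IsTranscendenceBasis.isAlgebraic_field hbasis
  rw [Set.range_const] at halg'
  obtain ⟨S, hS⟩ := (Module.finite_def.1 hfin : (⊤ : Submodule k⟮x⟯ K).FG)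
  have htop : IntermediateField.adjoin k ({x} ∪ (S : Set K)) = ⊤ := by
    rw [eq_top_iff]
    intro z _
    have hz : z ∈ Submodule.span k⟮x⟯ (S : Set K) := by rw [hS]; trivial
    induction hz using Submodule.span_induction with
    | mem a ha => exact subset_adjoin _ _ (Or.inr ha)
    | zero => exact zero_mem _
    | add a b _ _ ha hb => exact add_mem (ha trivial) (hb trivial)
    | smul c a _ ha =>
      exact mul_mem (adjoin.mono k _ _ Set.subset_union_left c.2) (ha trivial)
  have htop' : IntermediateField.adjoin k⟮y⟯ ({x} ∪ (S : Set K)) = ⊤ := by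
    rw [eq_top_iff]
    intro z _
    have hz : z ∈ IntermediateField.adjoin k ({x} ∪ (S : Set K)) := by rw [htop]; trivial
    exact (IntermediateField.adjoin_le_iff (T := (IntermediateField.adjoin k⟮y⟯
      ({x} ∪ (S : Set K))).restrictScalars k)).2 (fun a ha => subset_adjoin k⟮y⟯ _ ha) hz
  haveI : Finite ↑(({x} : Set K) ∪ (S : Set K)) :=
    ((Set.finite_singleton x).union S.finite_toSet).to_subtype
  haveI := IntermediateField.finiteDimensional_adjoin (K := k⟮y⟯) (L := K)
    (S := {x} ∪ (S : Set K)) fun a _ => (halg'.isAlgebraic a).isIntegral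
  rw [htop'] at this
  exact Module.Finite.equiv (IntermediateField.topEquiv (F := k⟮y⟯) (E := K)).toLinearEquiv

theorem aeval_ne_zero {x : K} (hx : Transcendental k x) {p : k[X]} (hp : p ≠ 0) :
    aeval x p ≠ 0 := fun h => hx ⟨p, hp, h⟩

/-- A family is independent over `k(x)` if every polynomial relation has all constant terms zero. -/
theorem linearIndependent_of_poly {ι : Type*} [Fintype ι] {x : K} (hx : Transcendental k x)
    (g : ι → K) (H : ∀ φ : ι → k[X], ∑ i, aeval x (φ i) * g i = 0 → ∀ i, (φ i).coeff 0 = 0) :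
    LinearIndependent k⟮x⟯ g := by
  have main : ∀ φ : ι → k[X], ∑ i, aeval x (φ i) * g i = 0 → ∀ i, φ i = 0 := by
    intro φ hφ i
    induction hn : (φ i).natDegree generalizing φ with
    | zero => rw [Polynomial.eq_C_of_natDegree_eq_zero hn, H φ hφ i, map_zero]
    | succ n ih =>
      choose ψ hψ using fun j => X_dvd_iff.2 (H φ hφ j)
      have h2 : ∑ j, aeval x (ψ j) * g j = 0 := by
        have h1 : x * ∑ j, aeval x (ψ j) * g j = 0 := by
          rw [← hφ, Finset.mul_sum]
          exact Finset.sum_congr rfl fun j _ => by rw [hψ j, map_mul, aeval_X, mul_assoc]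
        exact (mul_eq_zero.1 h1).resolve_left
          (fun h0 => hx (h0 ▸ isAlgebraic_zero))
      have hne : ψ i ≠ 0 := fun h0 => by simp [hψ i, h0] at hn
      have hdeg : (ψ i).natDegree = n := by
        rw [hψ i, natDegree_X_mul hne] at hn; omega
      rw [hψ i, ih ψ h2 hdeg, mul_zero]
  classical
  rw [Fintype.linearIndependent_iff]
  intro c hc i
  choose r s hrs using fun j => (mem_adjoin_simple_iff k ((c j : k⟮x⟯) : K)).1 (c j).2
  let s' : ι → k[X] := fun j => if s j = 0 then 1 else s j
  let r' : ι → k[X] := fun j => if s j = 0 then 0 else r j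
  have hs' : ∀ j, aeval x (s' j) ≠ 0 := fun j => aeval_ne_zero hx (by
    by_cases h : s j = 0 <;> simp [s', h])
  have hrs' : ∀ j, aeval x (r' j) = (c j : K) * aeval x (s' j) := by
    intro j
    by_cases h : s j = 0
    · simp [r', s', h, hrs j]
    · have := aeval_ne_zero hx h
      simp [r', s', h, hrs j, this]
  have hrel : ∑ j, aeval x (r' j * ∏ l ∈ Finset.univ.erase j, s' l) * g j = 0 := by
    calc ∑ j, aeval x (r' j * ∏ l ∈ Finset.univ.erase j, s' l) * g j
        = ∑ j, (∏ l, aeval x (s' l)) * ((c j : K) * g j) := by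
          refine Finset.sum_congr rfl fun j _ => ?_
          rw [map_mul, hrs' j, map_prod, ← Finset.mul_prod_erase Finset.univ
            (fun l => aeval x (s' l)) (Finset.mem_univ j)]
          ring
      _ = 0 := by
          rw [← Finset.mul_sum]
          have : ∑ j, (c j : K) * g j = 0 := by
            simpa [Algebra.smul_def] using hc
          rw [this, mul_zero]
  have h0 := main _ hrel i
  have hr : r' i = 0 := by
    refine (mul_eq_zero.1 h0).resolve_right ?_
    rw [Finset.prod_eq_zero_iff]
    rintro ⟨l, -, hl⟩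
    exact hs' l (by simp [hl])
  have := hrs' i
  rw [hr, map_zero] at this
  exact ZeroMemClass.coe_eq_zero.1 ((mul_eq_zero.1 this.symm).resolve_right (hs' i))

/-- The residue map as an algebra map. -/
noncomputable def residueAlg (P : Place k K) : P.O →ₐ[k] IsLocalRing.ResidueField P.O :=
  { IsLocalRing.residue P.O with commutes' := fun _ => rfl }

/-- The inclusion of the valuation ring as an algebra map. -/
def inclAlg (P : Place k K) : P.O →ₐ[k] K :=
  { P.O.subtype with commutes' := fun _ => rfl }

theorem inclAlg_apply (P : Place k K) (x : P.O) : inclAlg P x = (x : K) := rfl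

theorem transcendental_of_val_ne_one (P : Place k K) {x : K} (h0 : x ≠ 0) (h1 : P.1 x ≠ 1) :
    Transcendental k x :=
  Valuation.transcendental_of_ne_one k x h0 h1 (v := P.1)

theorem residue_indep_lift (P : Place k K) {t : K} (ht0 : t ≠ 0) (ht : P.1 t < 1)
    {ι : Type*} [Fintype ι] (z : ι → P.O)
    (hz : LinearIndependent k fun i => residueLin P (z i)) :
    LinearIndependent k⟮t⟯ fun i => (z i : K) := by
  refine linearIndependent_of_poly (transcendental_of_val_ne_one P ht0 ht.ne) _ fun φ hφ => ?_
  let t' : P.O := ⟨t, ht.le⟩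
  have h1 : ∑ i, aeval t' (φ i) * z i = 0 := by
    apply Subtype.val_injective
    show inclAlg P (∑ i, aeval t' (φ i) * z i) = inclAlg P 0
    rw [map_sum, map_zero, ← hφ]
    exact Finset.sum_congr rfl fun i _ => by
      rw [map_mul, ← aeval_algHom_apply]; rfl
  have h2 := congrArg (residueAlg P) h1
  rw [map_sum, map_zero] at h2
  have ht' : residueAlg P t' = 0 := (residue_eq_zero_iff P t').2 ht
  refine Fintype.linearIndependent_iff.1 hz (fun i => (φ i).coeff 0) ?_
  rw [← h2]
  refine Finset.sum_congr rfl fun i _ => ?_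
  rw [map_mul, ← aeval_algHom_apply, ht', ← coeff_zero_eq_aeval_zero', ← Algebra.smul_def]
  rfl

/-- Residue fields are finite-dimensional. -/
theorem FF.finite_residueField (h : FF k K) (P : Place k K) :
    FiniteDimensional k (IsLocalRing.ResidueField P.O) := by
  obtain ⟨t, ht0, ht⟩ := exists_uniformizer P
  have ht1 : P.1 t < 1 := by rw [ht, ← exp_zero, exp_lt_exp]; norm_num
  haveI := h.finiteDimensional (transcendental_of_val_ne_one P ht0 ht1.ne)
  refine Module.rank_lt_aleph0_iff.1 ((rank_le (n := Module.finrank k⟮t⟯ K) fun s hs => ?_).trans_lt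
    (Cardinal.natCast_lt_aleph0 (n := _)))
  choose z hz using fun i : s => residueLin_surjective P i.1
  have := (residue_indep_lift P ht0 ht1 z (by simp only [hz]; exact hs)).fintype_card_le_finrank
  simpa using this

/-- A valuation subring containing `k`, other than `K`, is a discrete valuation ring. -/
theorem FF.isDiscreteValuationRing (h : FF k K) (V : ValuationSubring K)
    (hk : ∀ c : k, algebraMap k K c ∈ V) (hV : ¬ IsField V) : IsDiscreteValuationRing V := by
  have hwf : WfDvdMonoid V := by
    refine ⟨wellFounded_iff_isEmpty_descending_chain.2 ⟨fun ⟨f, hf⟩ => ?_⟩⟩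
    choose hne q hq hfq using hf
    classical
    let g : ℕ → V := fun n => f (n + 1)
    have hg0 : ∀ n, g n ≠ 0 := fun n => hne n
    have hnu : ∀ n, g n ∈ IsLocalRing.maximalIdeal V := by
      intro n
      show f (n + 1) ∈ _
      rw [hfq (n + 1)]
      exact Ideal.mul_mem_left _ _ ((IsLocalRing.mem_maximalIdeal _).2 (hq (n + 1)))
    have hdiv : ∀ i d : ℕ, ∃ r ∈ IsLocalRing.maximalIdeal V, g i = g (i + d + 1) * r := by
      intro i d
      induction d with
      | zero => exact ⟨q (i + 1), (IsLocalRing.mem_maximalIdeal _).2 (hq (i + 1)), hfq (i + 1)⟩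
      | succ d ih =>
        obtain ⟨r, hr, he⟩ := ih
        refine ⟨q (i + d + 1 + 1) * r, Ideal.mul_mem_left _ _ hr, ?_⟩
        rw [he, ← mul_assoc]
        congr 1
        exact hfq (i + d + 1 + 1)
    let A : Subalgebra k K := { V.toSubring.toSubsemiring with algebraMap_mem' := hk }
    let x : K := (g 0 : K)
    have hx0 : x ≠ 0 := fun h0 => hg0 0 (Subtype.ext h0)
    have hx : Transcendental k x := by
      intro halg
      have hinv : x⁻¹ ∈ V := Subalgebra.inv_mem_of_algebraic (A := A) (x := ⟨x, (g 0).2⟩) halg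
      exact (IsLocalRing.mem_maximalIdeal _).1 (hnu 0)
        (IsUnit.of_mul_eq_one (a := g 0) ⟨x⁻¹, hinv⟩ (Subtype.ext (mul_inv_cancel₀ hx0)))
    haveI := h.finiteDimensional hx
    set n := Module.finrank k⟮x⟯ K
    have hli : LinearIndependent k⟮x⟯ fun i : Fin (n + 1) => (g i : K) := by
      refine linearIndependent_of_poly hx _ fun φ hφ => ?_
      by_contra! hc
      obtain ⟨i₁, hi₁⟩ := hc
      obtain ⟨j, hj, hjmax⟩ := (Finset.univ.filter fun i => (φ i).coeff 0 ≠ 0).exists_max_image id
        ⟨i₁, by simp [hi₁]⟩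
      simp only [Finset.mem_filter, Finset.mem_univ, true_and, id_eq] at hj hjmax
      let xV : V := g 0
      let ev : k[X] → V := fun p => ⟨aeval x p, (aeval (⟨x, (g 0).2⟩ : A) p).2 |> fun hm => by
        rwa [← Subalgebra.aeval_coe] at hm⟩
      have hrel : ∑ i, ev (φ i) * g i = 0 := Subtype.ext (by
        show V.subtype _ = V.subtype 0
        rw [map_sum, map_zero]
        exact hφ)
      have hmem : ev (φ j) * g j ∈ IsLocalRing.maximalIdeal V * Ideal.span {g j} := by
        rw [← Finset.sum_erase_add _ _ (Finset.mem_univ j), add_eq_zero_iff_eq_neg'] at hrel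
        rw [hrel]
        refine neg_mem (sum_mem fun i hi => ?_)
        rcases lt_or_gt_of_ne (Finset.ne_of_mem_erase hi) with hlt | hgt
        · obtain ⟨r, hr, he⟩ := hdiv i (j - i - 1)
          have hlt' : (i : ℕ) < j := hlt
          rw [show (i : ℕ) + (j - i - 1) + 1 = j by omega] at he
          rw [he, show ev (φ i) * (g j * r) = (ev (φ i) * r) * g j by ring]
          exact Ideal.mul_mem_mul (Ideal.mul_mem_left _ _ hr) (Ideal.subset_span rfl)
        · have hc0 : (φ i).coeff 0 = 0 := by
            by_contra hcc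
            exact absurd (hjmax i hcc) (not_le.2 hgt)
          obtain ⟨ψ, hψ⟩ := X_dvd_iff.2 hc0
          obtain ⟨r, hr, he⟩ : ∃ r, r ∈ (⊤ : Ideal V) ∧ xV = g j * r := by
            rcases Nat.eq_zero_or_pos (j : ℕ) with h0 | h0
            · exact ⟨1, trivial, by simp [xV, h0]⟩
            · obtain ⟨r, -, he⟩ := hdiv 0 (j - 1)
              rw [show 0 + ((j : ℕ) - 1) + 1 = j by omega] at he
              exact ⟨r, trivial, he⟩
          have hev : ev (φ i) = xV * ev ψ := Subtype.ext (by
            show aeval x (φ i) = x * aeval x ψ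
            rw [hψ, map_mul, aeval_X])
          rw [hev, he, show g j * r * ev ψ * g i = (r * ev ψ * g i) * g j by ring]
          exact Ideal.mul_mem_mul (Ideal.mul_mem_left _ _ (hnu i)) (Ideal.subset_span rfl)
      rw [Ideal.mem_mul_span_singleton] at hmem
      obtain ⟨r, hr, he⟩ := hmem
      replace hr : ev (φ j) ∈ IsLocalRing.maximalIdeal V := mul_right_cancel₀ (hg0 j) he ▸ hr
      have hev0 : ev (φ j) - (⟨algebraMap k K ((φ j).coeff 0), hk _⟩ : V) = xV * ev (φ j).divX :=
        Subtype.ext (by
          show aeval x (φ j) - algebraMap k K ((φ j).coeff 0) = x * aeval x (φ j).divX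
          have := congrArg (aeval x) (X_mul_divX_add (φ j))
          rw [map_add, map_mul, aeval_X, aeval_C] at this
          rw [← this]; ring)
      have hcm : (⟨algebraMap k K ((φ j).coeff 0), hk _⟩ : V) ∈ IsLocalRing.maximalIdeal V := by
        rw [eq_comm, eq_sub_iff_add_eq', ← eq_sub_iff_add_eq] at hev0
        rw [hev0]
        exact sub_mem hr (Ideal.mul_mem_right _ _ (hnu 0))
      refine (IsLocalRing.mem_maximalIdeal _).1 hcm (IsUnit.of_mul_eq_one
        (a := (⟨algebraMap k K ((φ j).coeff 0), hk _⟩ : V))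
        ⟨algebraMap k K ((φ j).coeff 0)⁻¹, hk _⟩ (Subtype.ext ?_))
      show algebraMap k K _ * algebraMap k K _ = 1
      rw [← map_mul, mul_inv_cancel₀ hj, map_one]
    have := hli.fintype_card_le_finrank
    simp at this
    omega
  haveI : IsPrincipalIdealRing V := ((IsBezout.TFAE (R := V)).out 3 1).1 hwf
  exact { toIsLocalRing := inferInstance, not_a_field' := fun h0 => hV (IsLocalRing.isField_iff_maximalIdeal_eq.2 h0) }

/-- Every valuation subring containing `k`, other than `K`, comes from a place. -/
theorem FF.exists_place_of_valuationSubring (h : FF k K) (V : ValuationSubring K)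
    (hk : ∀ c : k, algebraMap k K c ∈ V) (hV : ¬ IsField V) :
    ∃ P : Place k K, P.O = V := by
  haveI := h.isDiscreteValuationRing V hk hV
  let w := (IsDiscreteValuationRing.maximalIdeal V).valuation K
  have hle : ∀ z : K, w z ≤ 1 ↔ z ∈ V := by
    intro z
    constructor
    · intro hz
      obtain ⟨a, ha⟩ := IsDiscreteValuationRing.exists_lift_of_le_one hz
      rw [← ha]; exact a.2
    · intro hz
      exact IsDedekindDomain.HeightOneSpectrum.valuation_le_one _ (⟨z, hz⟩ : V)
  exact ⟨⟨w, fun c => (hle _).2 (hk c),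
    IsDedekindDomain.HeightOneSpectrum.valuation_surjective K _⟩, SetLike.ext hle⟩

theorem exists_val_lt_one_of_valuationSubring (h : FF k K) {x : K} (hx : Transcendental k x) :
    ∃ P : Place k K, P.1 x < 1 := by
  let A : Subalgebra k K := Algebra.adjoin k {x}
  let x' : A.toSubring := ⟨x, Algebra.subset_adjoin rfl⟩
  have hne : Ideal.span ({x'} : Set A.toSubring) ≠ ⊤ := by
    rw [Ne, Ideal.span_singleton_eq_top]
    intro hu
    obtain ⟨⟨b, hb⟩, hb'⟩ := hu.exists_right_inv
    have hb'' : x * b = 1 := congrArg Subtype.val hb'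
    obtain ⟨p, rfl⟩ : b ∈ (aeval x : k[X] →ₐ[k] K).range := by
      rw [← Algebra.adjoin_singleton_eq_range_aeval]; exact hb
    have : aeval x (X * p - 1) = 0 := by rw [map_sub, map_mul, aeval_X, map_one]; exact sub_eq_zero.2 hb''
    have hz : X * p - 1 = 0 := by_contra fun hz => aeval_ne_zero hx hz this
    simpa using congrArg (fun q => coeff q 0) hz
  obtain ⟨V, hAV, hxV⟩ := Ideal.image_subset_nonunits_valuationSubring _ hne
  have hxn : x ∈ V.nonunits := hxV ⟨x', Ideal.subset_span rfl, rfl⟩
  have hx0 : x ≠ 0 := fun h0 => hx (h0 ▸ isAlgebraic_zero)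
  obtain ⟨hxmem, hxinv⟩ : x ∈ V ∧ x⁻¹ ∉ V := by
    rw [ValuationSubring.mem_nonunits_iff] at hxn
    refine ⟨(V.valuation_le_one_iff x).1 hxn.le, fun hinv => ?_⟩
    have := (V.valuation_le_one_iff x⁻¹).2 hinv
    rw [map_inv₀, inv_le_one₀ (by simp [zero_lt_iff, hx0])] at this
    exact absurd hxn (not_lt.2 this)
  obtain ⟨P, hP⟩ := h.exists_place_of_valuationSubring V (fun c => hAV (A.algebraMap_mem c))
    (fun hF => hxinv (by
      obtain ⟨b, hb⟩ := hF.mul_inv_cancel (a := (⟨x, hxmem⟩ : V))
        (fun h0 => hx0 (congrArg Subtype.val h0))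
      have : x * (b : K) = 1 := congrArg Subtype.val hb
      rw [inv_eq_of_mul_eq_one_right this]; exact b.2))
  refine ⟨P, lt_of_le_of_ne ((hP ▸ hxmem : x ∈ P.O)) fun h1 => hxinv ?_⟩
  rw [← hP, mem_O_iff, map_inv₀, h1, inv_one]

end Groth.Agent.FunField
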