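import Groth.Agent.Lib.FunField.LinEquiv
import Mathlib.FieldTheory.IntermediateField.Algebraic

/-! # Genus one -/

namespace Groth.Agent.FunField

open WithZero FunFld Polynomial IntermediateField
open scoped Multiplicative

variable {k K : Type*} [Field k] [Field K] [Algebra k K]

theorem ell_g1 (hK : IsFunctionField k K) (hg : genus k K = 1) (D : Divisor k K) (hD : 1 ≤ D.deg) :
    (FunFld.ell D : ℤ) = D.deg := by
  have := ell_of_large_deg hK D (by omega)
  omega

theorem ell_g1_single (hK : IsFunctionField k K) (hg : genus k K = 1) {P : Place k K}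
    (hP : P.deg = 1) {n : ℤ} (hn : 1 ≤ n) : (FunFld.ell (Finsupp.single P n) : ℤ) = n := by
  rw [ell_g1 hK hg _ (by rw [deg_single, hP]; simpa using hn), deg_single, hP]; simp

theorem exists_ord_eq_g1 (hK : IsFunctionField k K) (hg : genus k K = 1) {P : Place k K}
    (hP : P.deg = 1) (n : ℕ) (hn : 2 ≤ n) :
    ∃ f : K, f ≠ 0 ∧ f ∈ FunFld.L (Finsupp.single P (n : ℤ)) ∧ P.ord f = -n := by
  refine not_gap_iff.1 fun hgap => ?_
  have h1 := ell_g1_single hK hg hP (n := n) (by omega)
  have h2 := ell_g1_single hK hg hP (n := (n : ℤ) - 1) (by omega)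
  unfold FunFld.ell at h1 h2
  rw [hgap] at h1
  omega

theorem poleDiv_eq_single (h : FF k K) {P : Place k K} {f : K} (hf0 : f ≠ 0) {n : ℕ}
    (hf : f ∈ FunFld.L (Finsupp.single P (n : ℤ))) (hord : P.ord f = -n) :
    poleDiv (k := k) f = Finsupp.single P (n : ℤ) := by
  ext Q
  rw [poleDiv_apply h]
  have := (mem_L_iff_ord hf0).1 hf Q
  rcases eq_or_ne Q P with rfl | hQ
  · rw [Finsupp.single_eq_same, hord]; omega
  · rw [Finsupp.single_eq_of_ne hQ] at this ⊢; omega

theorem transcendental_of_pole (P : Place k K) {f : K} (hord : P.ord f ≠ 0) :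
    Transcendental k f := by
  refine transcendental_of_val_ne_one P (fun e => ?_) (fun e => ?_)
  · rw [e] at hord; simp at hord
  · exact hord (by simp [Place.ord, e])

theorem adjoin_pair_eq_top (h : FF k K) {P : Place k K} (hP : P.deg = 1) {x y : K} {m n : ℕ}
    (hm : 0 < m) (hn : 0 < n) (hmn : Nat.Coprime m n)
    (hx : x ∈ FunFld.L (Finsupp.single P (m : ℤ))) (hxo : P.ord x = -m)
    (hy : y ∈ FunFld.L (Finsupp.single P (n : ℤ))) (hyo : P.ord y = -n) :
    IntermediateField.adjoin k ({x, y} : Set K) = ⊤ := by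
  have hx0 : x ≠ 0 := fun e => by rw [e] at hxo; simp at hxo; omega
  have hy0 : y ≠ 0 := fun e => by rw [e] at hyo; simp at hyo; omega
  have htx := transcendental_of_pole P (f := x) (by omega)
  have hty := transcendental_of_pole P (f := y) (by omega)
  have hdx := deg_poleDiv h htx
  have hdy := deg_poleDiv h hty
  rw [poleDiv_eq_single h hx0 hx hxo, deg_single, hP] at hdx
  rw [poleDiv_eq_single h hy0 hy hyo, deg_single, hP] at hdy
  push_cast at hdx hdy
  rw [mul_one, Nat.cast_inj] at hdx hdy
  set E := IntermediateField.adjoin k ({x, y} : Set K)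
  have key : ∀ z : K, z ∈ E → Module.finrank E K ∣ Module.finrank k⟮z⟯ K := by
    intro z hz
    have hle : k⟮z⟯ ≤ E := adjoin_simple_le_iff.2 hz
    exact IntermediateField.finrank_dvd_of_le_left hle
  have hgx := key x (subset_adjoin _ _ (by simp))
  have hgy := key y (subset_adjoin _ _ (by simp))
  rw [← hdx] at hgx
  rw [← hdy] at hgy
  exact IntermediateField.finrank_eq_one_iff_eq_top.1 (Nat.eq_one_of_dvd_coprimes hmn hgx hgy)

end Groth.Agent.FunField
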