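import Groth.Agent.Lib.FunField.RR
import Groth.Agent.Lib.FunField.Rational
import Groth.Agent.Lib.FunField.Galois
import Mathlib.FieldTheory.RatFunc.IntermediateField
import Mathlib.RingTheory.Polynomial.Basic

/-! # Hyperelliptic function fields `y² = f(x)`, characteristic not two -/

namespace Groth.Agent.FunField

open WithZero FunFld Polynomial IntermediateField
open scoped Multiplicative

variable {k K : Type*} [Field k] [Field K] [Algebra k K]

/-! ## Polynomial algebra -/

/-- If `f` is squarefree and `(p/q)² f` is a polynomial, then so is `p/q`. -/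
theorem exists_eq_mul_of_sq_mul_eq {f p q c : k[X]} (hf : Squarefree f) (hq : q ≠ 0)
    (h : p ^ 2 * f = c * q ^ 2) : ∃ b : k[X], p = b * q := by
  obtain ⟨p', q', g, hco, hp, hq'⟩ := UniqueFactorizationMonoid.exists_reduced_factors' p q hq
  subst hp hq'
  have hg : g ^ 2 ≠ 0 := pow_ne_zero 2 (left_ne_zero_of_mul hq)
  have h' : p' ^ 2 * f = c * q' ^ 2 :=
    mul_left_cancel₀ hg (by linear_combination h)
  have hco' : IsCoprime (q' ^ 2) (p' ^ 2) := hco.isCoprime.symm.pow
  have hdvd : q' ^ 2 ∣ f :=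
    hco'.dvd_of_dvd_mul_left (Dvd.intro_left c h'.symm)
  have hu : IsUnit q' := hf q' (by rwa [pow_two] at hdvd)
  obtain ⟨v, hv⟩ := hu.exists_left_inv
  exact ⟨p' * v, by linear_combination (-(p' * g)) * hv⟩

/-- A nonzero polynomial is a square times a squarefree polynomial. -/
theorem exists_sq_mul_squarefree (h : k[X]) (h0 : h ≠ 0) :
    ∃ s g : k[X], s ≠ 0 ∧ Squarefree g ∧ h = s ^ 2 * g := by
  induction hn : h.natDegree using Nat.strong_induction_on generalizing h with
  | _ n ih =>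
    by_cases hsq : Squarefree h
    · exact ⟨1, h, one_ne_zero, hsq, by ring⟩
    simp only [Squarefree, not_forall] at hsq
    obtain ⟨d, ⟨h', rfl⟩, hd⟩ := hsq
    have hh' : h' ≠ 0 := right_ne_zero_of_mul h0
    have hd0 : d ≠ 0 := left_ne_zero_of_mul (left_ne_zero_of_mul h0)
    have hdeg : 0 < d.natDegree := natDegree_pos_iff_degree_pos.2
      (degree_pos_of_ne_zero_of_nonunit hd0 hd)
    obtain ⟨s, g, hs, hg, he⟩ := ih h'.natDegree (by
      rw [← hn, natDegree_mul (mul_ne_zero hd0 hd0) hh', natDegree_mul hd0 hd0]; omega) h' hh' rfl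
    exact ⟨d * s, g, mul_ne_zero hd0 hs, hg, by rw [he]; ring⟩

/-! ## `k(x)` inside `K` -/

theorem aeval_inj_of_transcendental {x : K} (hx : Transcendental k x) {p q : k[X]}
    (h : aeval x p = aeval x q) : p = q :=
  (transcendental_iff_injective.1 hx) h

theorem aeval_mem_adjoin (x : K) (p : k[X]) : aeval x p ∈ k⟮x⟯ :=
  (mem_adjoin_simple_iff k _).2 ⟨p, 1, by simp⟩

theorem exists_fraction {x r : K} (hr : r ∈ k⟮x⟯) :
    ∃ p q : k[X], q ≠ 0 ∧ r * aeval x q = aeval x p := by
  obtain ⟨p, q, rfl⟩ := (mem_adjoin_simple_iff k _).1 hr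
  by_cases hq : aeval x q = 0
  · exact ⟨0, 1, one_ne_zero, by simp [hq]⟩
  · exact ⟨p, q, fun e => hq (by simp [e]), by field_simp⟩

/-- An element of `k(x)` with no poles outside the poles of `x` is a polynomial in `x`. -/
theorem exists_aeval_of_bounded (h : FF k K) {x : K} (hx : Transcendental k x) {r : K}
    (hr : r ∈ k⟮x⟯) (hb : ∀ P : Place k K, P.1 x ≤ 1 → P.1 r ≤ 1) :
    ∃ p : k[X], r = aeval x p := by
  obtain ⟨p₀, q₀, hq₀, he⟩ := exists_fraction hr
  obtain ⟨p, q, g, hco, hp, hq⟩ := UniqueFactorizationMonoid.exists_reduced_factors' p₀ q₀ hq₀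
  have hg : g ≠ 0 := by rintro rfl; exact hq₀ (by rw [← hq, zero_mul])
  have hq0 : q ≠ 0 := by rintro rfl; exact hq₀ (by rw [← hq, mul_zero])
  have hrel : r * aeval x q = aeval x p := by
    rw [← hp, ← hq, map_mul, map_mul] at he
    exact mul_left_cancel₀ (aeval_ne_zero hx hg) (by linear_combination he)
  rcases Nat.eq_zero_or_pos q.natDegree with hd | hd
  · obtain ⟨a, rfl⟩ := natDegree_eq_zero.1 hd
    have ha : a ≠ 0 := fun e => hq0 (by rw [e, map_zero])
    refine ⟨C a⁻¹ * p, ?_⟩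
    rw [map_mul, ← hrel, aeval_C, aeval_C, mul_left_comm, ← map_mul, inv_mul_cancel₀ ha, map_one,
      mul_one]
  · exfalso
    have htq : Transcendental k (aeval x q) :=
      hx.aeval q hd.ne' (mem_nonZeroDivisors_of_ne_zero (leadingCoeff_ne_zero.2 hq0))
    obtain ⟨P, hP⟩ := exists_zero_of_transcendental h htq
    have hPq : P.1 (aeval x q) < 1 := (val_lt_one_iff' P (aeval_ne_zero hx hq0)).2 hP
    have hPx : P.1 x ≤ 1 := by
      by_contra hc
      rw [not_le] at hc
      rw [val_aeval_of_one_lt P hc hq0] at hPq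
      exact absurd (one_lt_pow₀ hc hd.ne') hPq.le.not_gt
    have hPp : P.1 (aeval x p) < 1 := by
      rw [← hrel, map_mul]
      exact lt_of_le_of_lt (mul_le_of_le_one_left' (hb P hPx)) hPq
    obtain ⟨u, v, huv⟩ := hco.isCoprime
    have h1 : P.1 (aeval x (u * p + v * q)) < 1 := by
      rw [map_add]
      refine P.1.map_add_lt ?_ ?_ <;> rw [map_mul, map_mul]
      · exact lt_of_le_of_lt (mul_le_of_le_one_left' (val_aeval_le P hPx u)) hPp
      · exact lt_of_le_of_lt (mul_le_of_le_one_left' (val_aeval_le P hPx v)) hPq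
    rw [huv, map_one, map_one] at h1
    exact lt_irrefl _ h1

/-! ## Quadratic extensions -/

section Quad

variable {F L : Type*} [Field F] [Field L] [Algebra F L]

theorem exists_decomp_of_finrank_two (hdeg : Module.finrank F L = 2) {w : L}
    (hw : w ∉ Set.range (algebraMap F L)) (u : L) :
    ∃ a b : F, u = algebraMap F L a + algebraMap F L b * w := by
  have hli : LinearIndependent F ![(1 : L), w] := by
    refine LinearIndependent.pair_iff.2 fun s t hst => ?_
    rw [Algebra.smul_def, Algebra.smul_def, mul_one] at hst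
    by_cases ht : t = 0
    · rw [ht, map_zero, zero_mul, add_zero] at hst
      exact ⟨(algebraMap F L).injective (by rw [hst, map_zero]), ht⟩
    · refine absurd ⟨-s / t, ?_⟩ hw
      have ht' : algebraMap F L t ≠ 0 := by simpa using ht
      rw [map_div₀, map_neg, div_eq_iff ht']
      linear_combination -hst
  haveI : FiniteDimensional F L := Module.finite_of_finrank_eq_succ hdeg
  have hspan : (⊤ : Submodule F L) ≤ Submodule.span F (Set.range ![(1 : L), w]) := by
    rw [hli.span_eq_top_of_card_eq_finrank (by simp [hdeg])]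
  have hu : u ∈ Submodule.span F {(1 : L), w} := by
    have := hspan (Submodule.mem_top (x := u))
    simpa [Matrix.range_cons, Matrix.range_empty, Set.union_empty, Set.singleton_union,
      Set.pair_comm] using this
  obtain ⟨a, b, hab⟩ := Submodule.mem_span_pair.1 hu
  exact ⟨a, b, by rw [← hab, Algebra.smul_def, Algebra.smul_def, mul_one]⟩

theorem exists_sq_mem_of_finrank_two (hdeg : Module.finrank F L = 2) (h2 : (2 : F) ≠ 0) :
    ∃ w : L, w ∉ Set.range (algebraMap F L) ∧ w ^ 2 ∈ Set.range (algebraMap F L) := by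
  haveI : FiniteDimensional F L := Module.finite_of_finrank_eq_succ hdeg
  obtain ⟨u, hu⟩ : ∃ u : L, u ∉ Set.range (algebraMap F L) := by
    by_contra! hc
    have : Module.finrank F L ≤ 1 := by
      refine finrank_le_one 1 fun z => ?_
      obtain ⟨a, ha⟩ := hc z
      exact ⟨a, by rw [Algebra.smul_def, mul_one, ha]⟩
    omega
  obtain ⟨a, b, hab⟩ := exists_decomp_of_finrank_two hdeg hu (u ^ 2)
  have hm : algebraMap F L 2 * algebraMap F L (b / 2) = algebraMap F L b := by
    rw [← map_mul]; congr 1; field_simp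
  rw [map_ofNat] at hm
  refine ⟨u - algebraMap F L (b / 2), ?_, a + (b / 2) ^ 2, ?_⟩
  · rintro ⟨c, hc⟩
    exact hu ⟨c + b / 2, by rw [map_add, hc, sub_add_cancel]⟩
  · rw [map_add, map_pow]
    linear_combination u * hm - hab

end Quad

/-! ## The hyperelliptic data -/

/-- `K = k(x) + k(x) y` with `y² = f(x)`, `f` squarefree non-constant, `char k ≠ 2`. -/
structure Hyp (x y : K) (f : k[X]) : Prop where
  two : (2 : k) ≠ 0
  tr : Transcendental k x
  sqf : Squarefree f
  deg : 1 ≤ f.natDegree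
  eq : y ^ 2 = aeval x f
  gen : ∀ u : K, ∃ a ∈ k⟮x⟯, ∃ b ∈ k⟮x⟯, u = a + b * y

theorem not_mem_adjoin {x y : K} {f : k[X]} (hx : Transcendental k x) (hf : Squarefree f)
    (hd : 1 ≤ f.natDegree) (heq : y ^ 2 = aeval x f) : y ∉ k⟮x⟯ := by
  intro hy
  obtain ⟨p, q, hq, he⟩ := exists_fraction hy
  have hpq : p ^ 2 = f * q ^ 2 := by
    refine aeval_inj_of_transcendental hx ?_
    rw [map_mul, map_pow, map_pow, ← heq, ← he, mul_pow]
  have : q ∣ p := (IsIntegrallyClosed.pow_dvd_pow_iff (R := k[X]) two_ne_zero).1 (hpq ▸ dvd_mul_left _ _)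
  obtain ⟨s, rfl⟩ := this
  have hfs : f = s * s := mul_left_cancel₀ (pow_ne_zero 2 hq) (by linear_combination -hpq)
  have hu : IsUnit s := hf s (by rw [hfs])
  rw [hfs, natDegree_mul (hu.ne_zero) (hu.ne_zero), natDegree_eq_zero_of_isUnit hu] at hd
  omega

theorem Hyp.of_adjoin (h2 : ringChar k ≠ 2) {x y : K} (hx : Transcendental k x)
    (hxy : IntermediateField.adjoin k ({x, y} : Set K) = ⊤) {f : k[X]} (hf : Squarefree f)
    (hd : 1 ≤ f.natDegree) (heq : y ^ 2 = aeval x f) : Hyp x y f := by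
  refine ⟨Ring.two_ne_zero h2, hx, hf, hd, heq, fun u => ?_⟩
  have hint : IsAlgebraic k⟮x⟯ y := by
    refine IsAlgebraic.of_pow (n := 2) two_pos ?_
    rw [heq]
    exact isAlgebraic_algebraMap (⟨aeval x f, aeval_mem_adjoin x f⟩ : k⟮x⟯)
  have htop : k⟮x⟯⟮y⟯ = ⊤ := by
    apply IntermediateField.restrictScalars_injective k
    rw [adjoin_simple_adjoin_simple, hxy, restrictScalars_top]
  have hu : u ∈ Algebra.adjoin k⟮x⟯ ({y} : Set K) := by
    rw [← adjoin_simple_toSubalgebra_of_isAlgebraic hint, htop]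
    trivial
  induction hu using Algebra.adjoin_induction with
  | mem z hz =>
    rw [Set.mem_singleton_iff] at hz
    exact ⟨0, zero_mem _, 1, one_mem _, by rw [hz, zero_add, one_mul]⟩
  | algebraMap r => exact ⟨r.1, r.2, 0, zero_mem _, by simp⟩
  | add u v _ _ ihu ihv =>
    obtain ⟨a, ha, b, hb, rfl⟩ := ihu
    obtain ⟨a', ha', b', hb', rfl⟩ := ihv
    exact ⟨a + a', add_mem ha ha', b + b', add_mem hb hb', by ring⟩
  | mul u v _ _ ihu ihv =>
    obtain ⟨a, ha, b, hb, rfl⟩ := ihu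
    obtain ⟨a', ha', b', hb', rfl⟩ := ihv
    exact ⟨a * a' + b * b' * aeval x f,
      add_mem (mul_mem ha ha') (mul_mem (mul_mem hb hb') (aeval_mem_adjoin x f)),
      a * b' + b * a', add_mem (mul_mem ha hb') (mul_mem hb ha'), by
        linear_combination (b * b') * heq⟩

namespace Hyp

variable {x y : K} {f : k[X]}

theorem notMem (H : Hyp x y f) : y ∉ k⟮x⟯ := not_mem_adjoin H.tr H.sqf H.deg H.eq

theorem f_ne_zero (H : Hyp x y f) : f ≠ 0 := ne_zero_of_natDegree_gt H.deg

theorem y_ne_zero (H : Hyp x y f) : y ≠ 0 := fun h => H.notMem (h ▸ zero_mem _)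

theorem eq_zero_of_add_mul (H : Hyp x y f) {a b : K} (ha : a ∈ k⟮x⟯) (hb : b ∈ k⟮x⟯)
    (h : a + b * y = 0) : a = 0 ∧ b = 0 := by
  by_cases hb0 : b = 0
  · exact ⟨by rwa [hb0, zero_mul, add_zero] at h, hb0⟩
  · refine absurd ?_ H.notMem
    have : y = -a / b := by rw [eq_div_iff hb0]; linear_combination h
    rw [this]
    exact div_mem (neg_mem ha) hb

theorem ext_iff' (H : Hyp x y f) {a b a' b' : K} (ha : a ∈ k⟮x⟯) (hb : b ∈ k⟮x⟯)
    (ha' : a' ∈ k⟮x⟯) (hb' : b' ∈ k⟮x⟯) (h : a + b * y = a' + b' * y) : a = a' ∧ b = b' := by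
  have := H.eq_zero_of_add_mul (sub_mem ha ha') (sub_mem hb hb') (by linear_combination h)
  exact ⟨sub_eq_zero.1 this.1, sub_eq_zero.1 this.2⟩

noncomputable def cA (H : Hyp x y f) (u : K) : K := (H.gen u).choose

noncomputable def cB (H : Hyp x y f) (u : K) : K := (H.gen u).choose_spec.2.choose

theorem cA_mem (H : Hyp x y f) (u : K) : H.cA u ∈ k⟮x⟯ := (H.gen u).choose_spec.1

theorem cB_mem (H : Hyp x y f) (u : K) : H.cB u ∈ k⟮x⟯ := (H.gen u).choose_spec.2.choose_spec.1

theorem decomp (H : Hyp x y f) (u : K) : u = H.cA u + H.cB u * y :=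
  (H.gen u).choose_spec.2.choose_spec.2

/-- `a + b y ↦ a - b y`. -/
noncomputable def conjFun (H : Hyp x y f) (u : K) : K := H.cA u - H.cB u * y

theorem conjFun_eq (H : Hyp x y f) {u a b : K} (ha : a ∈ k⟮x⟯) (hb : b ∈ k⟮x⟯)
    (h : u = a + b * y) : H.conjFun u = a - b * y := by
  obtain ⟨e1, e2⟩ := H.ext_iff' (H.cA_mem u) (H.cB_mem u) ha hb ((H.decomp u).symm.trans h)
  rw [conjFun, e1, e2]

theorem conjFun_conjFun (H : Hyp x y f) (u : K) : H.conjFun (H.conjFun u) = u := by
  rw [H.conjFun_eq (u := H.conjFun u) (H.cA_mem u) (neg_mem (H.cB_mem u))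
    (by rw [conjFun]; ring), neg_mul, sub_neg_eq_add]
  exact (H.decomp u).symm

/-- The hyperelliptic involution. -/
noncomputable def conj (H : Hyp x y f) : K ≃ₐ[k] K where
  toFun := H.conjFun
  invFun := H.conjFun
  left_inv := H.conjFun_conjFun
  right_inv := H.conjFun_conjFun
  map_mul' u v := by
    rw [H.conjFun_eq (u := u * v) (a := H.cA u * H.cA v + H.cB u * H.cB v * aeval x f)
      (b := H.cA u * H.cB v + H.cB u * H.cA v)
      (add_mem (mul_mem (H.cA_mem u) (H.cA_mem v))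
        (mul_mem (mul_mem (H.cB_mem u) (H.cB_mem v)) (aeval_mem_adjoin x f)))
      (add_mem (mul_mem (H.cA_mem u) (H.cB_mem v)) (mul_mem (H.cB_mem u) (H.cA_mem v)))]
    · simp only [conjFun]
      linear_combination (-(H.cB u * H.cB v)) * H.eq
    · conv_lhs => rw [H.decomp u, H.decomp v]
      linear_combination (H.cB u * H.cB v) * H.eq
  map_add' u v := by
    rw [H.conjFun_eq (u := u + v) (add_mem (H.cA_mem u) (H.cA_mem v))
      (add_mem (H.cB_mem u) (H.cB_mem v))]
    · simp only [conjFun]; ring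
    · conv_lhs => rw [H.decomp u, H.decomp v]
      ring
  commutes' c := by
    rw [H.conjFun_eq (a := algebraMap k K c) (b := 0) (k⟮x⟯.algebraMap_mem c) (zero_mem _)
      (by simp)]
    simp

theorem conj_add_mul (H : Hyp x y f) {a b : K} (ha : a ∈ k⟮x⟯) (hb : b ∈ k⟮x⟯) :
    H.conj (a + b * y) = a - b * y := H.conjFun_eq ha hb rfl

theorem conj_of_mem (H : Hyp x y f) {a : K} (ha : a ∈ k⟮x⟯) : H.conj a = a := by
  simpa using H.conj_add_mul ha (zero_mem _)

theorem conj_x (H : Hyp x y f) : H.conj x = x :=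
  H.conj_of_mem (mem_adjoin_simple_self k x)

theorem conj_aeval (H : Hyp x y f) (p : k[X]) : H.conj (aeval x p) = aeval x p :=
  H.conj_of_mem (aeval_mem_adjoin x p)

theorem conj_y (H : Hyp x y f) : H.conj y = -y := by
  simpa using H.conj_add_mul (zero_mem _) (one_mem (k⟮x⟯))

theorem conj_conj (H : Hyp x y f) (u : K) : H.conj (H.conj u) = u := H.conjFun_conjFun u

/-- The conjugate place. -/
noncomputable def conjPlace (H : Hyp x y f) (P : Place k K) : Place k K :=
  ⟨P.1.comap (H.conj : K →+* K), fun c => by simpa using P.2.1 c,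
    P.2.2.comp H.conj.surjective⟩

theorem conjPlace_apply (H : Hyp x y f) (P : Place k K) (u : K) :
    (H.conjPlace P).1 u = P.1 (H.conj u) := rfl

theorem finrank_two (H : Hyp x y f) : Module.finrank k⟮x⟯ K = 2 := by
  have hli : LinearIndependent k⟮x⟯ ![(1 : K), y] := by
    refine LinearIndependent.pair_iff.2 fun s t hst => ?_
    have := H.eq_zero_of_add_mul s.2 t.2 (by simpa [Algebra.smul_def] using hst)
    exact ⟨Subtype.ext this.1, Subtype.ext this.2⟩
  have hspan : ⊤ ≤ Submodule.span k⟮x⟯ (Set.range ![(1 : K), y]) := by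
    intro u _
    have : u = (⟨H.cA u, H.cA_mem u⟩ : k⟮x⟯) • ![(1 : K), y] 0 +
        (⟨H.cB u, H.cB_mem u⟩ : k⟮x⟯) • ![(1 : K), y] 1 := by
      simpa [Algebra.smul_def] using H.decomp u
    rw [this]
    exact add_mem (Submodule.smul_mem _ _ (Submodule.subset_span ⟨0, rfl⟩))
      (Submodule.smul_mem _ _ (Submodule.subset_span ⟨1, rfl⟩))
  rw [Module.finrank_eq_card_basis (Module.Basis.mk hli hspan), Fintype.card_fin]

theorem ff (H : Hyp x y f) : FF k K :=
  ⟨x, H.tr, Module.finite_of_finrank_eq_succ H.finrank_two⟩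

theorem isFunctionField (H : Hyp x y f) : IsFunctionField k K := by
  refine ⟨H.ff, fun u hu => ?_⟩
  haveI : NeZero (2 : k) := ⟨H.two⟩
  have h2K : (2 : K) ≠ 0 := by
    rw [← map_ofNat (algebraMap k K) 2]; simpa using H.two
  set a := H.cA u with hadef
  set b := H.cB u with hbdef
  have ha : IsAlgebraic k a := by
    have h1 : IsAlgebraic k (u + H.conj u) := hu.add (hu.algHom H.conj.toAlgHom)
    have e : u + H.conj u = algebraMap k K 2 * a := by
      conv_lhs => rw [H.decomp u]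
      rw [H.conj_add_mul (H.cA_mem u) (H.cB_mem u), map_ofNat, hadef]; ring
    rw [e] at h1
    have h3 := (isAlgebraic_algebraMap (R := k) (A := K) (2⁻¹ : k)).mul h1
    rwa [← mul_assoc, ← map_mul, inv_mul_cancel₀ H.two, map_one, one_mul] at h3
  have hby : IsAlgebraic k (b * y) := by
    have := hu.sub ha
    rwa [show u - a = b * y by conv_lhs => rw [H.decomp u, ← hbdef, ← hadef, add_sub_cancel_left]]
      at this
  have key : ∀ r ∈ k⟮x⟯, IsAlgebraic k r → ∃ c : k, r = algebraMap k K c := by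
    intro r hr halg
    obtain ⟨p, rfl⟩ := exists_aeval_of_bounded H.ff H.tr hr fun P _ => by
      by_cases h0 : r = 0
      · simp [h0]
      · exact (val_eq_one_of_isAlgebraic P halg h0).le
    rcases Nat.eq_zero_or_pos p.natDegree with hd | hd
    · obtain ⟨c, rfl⟩ := natDegree_eq_zero.1 hd
      exact ⟨c, aeval_C _ _⟩
    · exact absurd halg (H.tr.aeval p hd.ne' (mem_nonZeroDivisors_of_ne_zero
        (leadingCoeff_ne_zero.2 (ne_zero_of_natDegree_gt hd))))
  obtain ⟨c, hc⟩ := key a (H.cA_mem u) ha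
  obtain ⟨e, he⟩ := key ((b * y) ^ 2)
    (by rw [mul_pow, H.eq]; exact mul_mem (pow_mem (H.cB_mem u) 2) (aeval_mem_adjoin x f))
    (hby.pow 2)
  have hb0 : b = 0 := by
    obtain ⟨p, q, hq, hpq⟩ := exists_fraction (H.cB_mem u)
    rw [← hbdef] at hpq
    have hrel : p ^ 2 * f = C e * q ^ 2 := by
      refine aeval_inj_of_transcendental H.tr ?_
      rw [map_mul, map_mul, map_pow, map_pow, aeval_C, ← he, ← hpq, ← H.eq]; ring
    obtain ⟨B, rfl⟩ := exists_eq_mul_of_sq_mul_eq H.sqf hq hrel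
    have hB : B ^ 2 * f = C e := mul_right_cancel₀ (pow_ne_zero 2 hq) (by linear_combination hrel)
    by_contra hb
    have hB0 : B ≠ 0 := by
      rintro rfl
      rw [zero_mul, map_zero, mul_eq_zero] at hpq
      exact hpq.elim hb (aeval_ne_zero H.tr hq)
    have := congrArg natDegree hB
    rw [natDegree_mul (pow_ne_zero 2 hB0) H.f_ne_zero, natDegree_C] at this
    have := H.deg
    omega
  exact ⟨c, by rw [← hc, H.decomp u, ← hbdef, hb0, zero_mul, add_zero, hadef]⟩

/-! ## `L(n D)` -/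

theorem poleDiv_exp (h : FF k K) (P : Place k K) (n : ℕ) {x : K} (hx : x ≠ 0) :
    exp ((n • poleDiv (k := k) x) P) = (max 1 (P.1 x)) ^ n := by
  have e : exp (poleDiv (k := k) x P) = max 1 (P.1 x) := by
    rw [poleDiv_apply h, val_eq_exp_neg_ord P hx]
    rcases le_total (-P.ord x) 0 with hle | hle
    · rw [max_eq_right hle, max_eq_left (by rw [← exp_zero]; exact exp_le_exp.2 hle), exp_zero]
    · rw [max_eq_left hle, max_eq_right (by rw [← exp_zero]; exact exp_le_exp.2 hle)]
  rw [Finsupp.smul_apply, exp_nsmul, e]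

theorem val_aeval_le_pow (P : Place k K) {x : K} {p : k[X]} {n : ℕ} (hp : p.natDegree ≤ n) :
    P.1 (aeval x p) ≤ (max 1 (P.1 x)) ^ n := by
  rcases le_or_gt (P.1 x) 1 with hle | hlt
  · exact (val_aeval_le P hle p).trans (one_le_pow₀ (le_max_left _ _))
  · by_cases h0 : p = 0
    · simp [h0]
    rw [val_aeval_of_one_lt P hlt h0, max_eq_right hlt.le]
    exact pow_le_pow_right₀ hlt.le hp

theorem natDegree_le_of_val_le (h : FF k K) {x : K} (hx : Transcendental k x) {p : k[X]} {n : ℕ}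
    (hp : ∀ P : Place k K, P.1 (aeval x p) ≤ (max 1 (P.1 x)) ^ n) : p.natDegree ≤ n := by
  by_cases h0 : p = 0
  · simp [h0]
  obtain ⟨P, hP⟩ := exists_pole_of_transcendental h hx
  have h1 : 1 < P.1 x := by
    rw [val_eq_exp_neg_ord P (ne_zero_of_transcendental hx), ← exp_zero]
    exact exp_lt_exp.2 (by omega)
  have := hp P
  rw [val_aeval_of_one_lt P h1 h0, max_eq_right h1.le] at this
  exact (pow_le_pow_iff_right₀ h1).1 this

theorem mem_L_nsmul (h : FF k K) {x : K} (hx : Transcendental k x) (n : ℕ) {u : K} :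
    u ∈ FunFld.L (n • poleDiv (k := k) x) ↔ ∀ P : Place k K, P.1 u ≤ (max 1 (P.1 x)) ^ n :=
  forall_congr' fun P => by rw [poleDiv_exp h P n (ne_zero_of_transcendental hx)]

/-- `L(n·(x)_∞) = {A(x) + B(x) y : deg A ≤ n, 2 deg B + deg f ≤ 2 n}`. -/
theorem mem_L_iff_exists (H : Hyp x y f) (n : ℕ) {u : K} :
    u ∈ FunFld.L (n • poleDiv (k := k) x) ↔ ∃ A B : k[X], A.natDegree ≤ n ∧
      (B = 0 ∨ 2 * B.natDegree + f.natDegree ≤ 2 * n) ∧ u = aeval x A + aeval x B * y := by
  rw [mem_L_nsmul H.ff H.tr]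
  constructor
  · intro hu
    have hv : ∀ P : Place k K, P.1 (H.conj u) ≤ (max 1 (P.1 x)) ^ n := fun P => by
      have := hu (H.conjPlace P)
      rwa [conjPlace_apply, conjPlace_apply, H.conj_x] at this
    set a := H.cA u with hadef
    set b := H.cB u with hbdef
    have eu : u = a + b * y := H.decomp u
    have ev : H.conj u = a - b * y := rfl
    have h2K : ∀ P : Place k K, P.1 (2⁻¹ : K) = 1 := fun P => by
      have e : (2⁻¹ : K) = algebraMap k K 2⁻¹ := by rw [map_inv₀, map_ofNat]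
      rw [e, val_const P (inv_ne_zero H.two)]
    have h2ne : (2 : K) ≠ 0 := by
      rw [← map_ofNat (algebraMap k K) 2]; simpa using H.two
    have ha : ∀ P : Place k K, P.1 a ≤ (max 1 (P.1 x)) ^ n := fun P => by
      have : a = 2⁻¹ * (u + H.conj u) := by rw [ev, eu]; field_simp; ring
      rw [this, map_mul, h2K, one_mul]
      exact (P.1.map_add _ _).trans (max_le (hu P) (hv P))
    have hbb : ∀ P : Place k K, P.1 (b ^ 2 * aeval x f) ≤ (max 1 (P.1 x)) ^ (2 * n) := fun P => by
      have hby : P.1 (b * y) ≤ (max 1 (P.1 x)) ^ n := by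
        rw [show b * y = u - a by rw [eu]; ring]
        exact (P.1.map_sub _ _).trans (max_le (hu P) (ha P))
      rw [← H.eq, ← mul_pow, map_pow, mul_comm 2 n, pow_mul]
      exact pow_le_pow_left₀ zero_le hby 2
    obtain ⟨A, hA⟩ := exists_aeval_of_bounded H.ff H.tr (H.cA_mem u) fun P hP => by
      simpa [max_eq_left hP] using ha P
    obtain ⟨Cc, hC⟩ := exists_aeval_of_bounded H.ff H.tr
      (mul_mem (pow_mem (H.cB_mem u) 2) (aeval_mem_adjoin x f)) fun P hP => by
      simpa [max_eq_left hP] using hbb P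
    obtain ⟨p, q, hq, hpq⟩ := exists_fraction (H.cB_mem u)
    rw [← hbdef] at hpq hC
    have hrel : p ^ 2 * f = Cc * q ^ 2 := by
      refine aeval_inj_of_transcendental H.tr ?_
      rw [map_mul, map_mul, map_pow, map_pow, ← hC, ← hpq]; ring
    obtain ⟨B, rfl⟩ := exists_eq_mul_of_sq_mul_eq H.sqf hq hrel
    rw [map_mul] at hpq
    have hB : b = aeval x B := mul_right_cancel₀ (aeval_ne_zero H.tr hq) hpq
    rw [← hadef] at hA
    refine ⟨A, B, natDegree_le_of_val_le H.ff H.tr fun P => hA ▸ ha P, ?_, by rw [← hA, ← hB]; exact eu⟩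
    by_cases hB0 : B = 0
    · exact Or.inl hB0
    right
    have := natDegree_le_of_val_le H.ff H.tr (p := B ^ 2 * f) (n := 2 * n) fun P => by
      rw [map_mul, map_pow, ← hB]; exact hbb P
    rwa [natDegree_mul (pow_ne_zero 2 hB0) H.f_ne_zero, natDegree_pow] at this
  · rintro ⟨A, B, hA, hB, rfl⟩ P
    refine (P.1.map_add _ _).trans (max_le (val_aeval_le_pow P hA) ?_)
    rcases hB with rfl | hB
    · simp
    rw [← pow_le_pow_iff_left₀ zero_le zero_le two_ne_zero, ← map_pow, mul_pow, H.eq, ← map_pow,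
      ← map_mul, ← pow_mul, mul_comm n]
    exact val_aeval_le_pow P (natDegree_mul_le.trans (by rw [natDegree_pow]; omega))

theorem ell_nsmul (H : Hyp x y f) (n : ℕ) :
    ell (n • poleDiv (k := k) x) = (n + 1) + (n + 1 - (f.natDegree + 1) / 2) := by
  classical
  set m := n + 1 - (f.natDegree + 1) / 2
  let Φ : degreeLT k (n + 1) × degreeLT k m →ₗ[k] K :=
    LinearMap.coprod ((aeval x).toLinearMap ∘ₗ (degreeLT k (n + 1)).subtype)
      ((LinearMap.mulRight k y) ∘ₗ (aeval x).toLinearMap ∘ₗ (degreeLT k m).subtype)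
  have hΦ : ∀ a b, Φ (a, b) = aeval x a.1 + aeval x b.1 * y := fun _ _ => rfl
  have hinj : Function.Injective Φ := by
    rw [← LinearMap.ker_eq_bot, LinearMap.ker_eq_bot']
    rintro ⟨⟨a, ha⟩, ⟨b, hb⟩⟩ h0
    rw [hΦ] at h0
    obtain ⟨e1, e2⟩ := H.eq_zero_of_add_mul (aeval_mem_adjoin x a) (aeval_mem_adjoin x b) h0
    have e1' : a = 0 := aeval_inj_of_transcendental H.tr (by rw [e1, map_zero])
    have e2' : b = 0 := aeval_inj_of_transcendental H.tr (by rw [e2, map_zero])
    subst e1' e2'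
    rfl
  have hmem : ∀ {p : k[X]} {N : ℕ}, p ∈ degreeLT k N ↔ p = 0 ∨ p.natDegree < N := by
    intro p N
    rw [mem_degreeLT]
    by_cases hp : p = 0
    · simp [hp]
    · rw [← natDegree_lt_iff_degree_lt hp]; simp [hp]
  have hrange : LinearMap.range Φ = FunFld.L (n • poleDiv (k := k) x) := by
    ext u
    rw [H.mem_L_iff_exists n, LinearMap.mem_range]
    constructor
    · rintro ⟨⟨⟨a, ha⟩, ⟨b, hb⟩⟩, rfl⟩
      refine ⟨a, b, ?_, ?_, hΦ _ _⟩
      · rcases hmem.1 ha with rfl | ha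
        · simp
        · omega
      · rcases hmem.1 hb with rfl | hb
        · exact Or.inl rfl
        · right; omega
    · rintro ⟨A, B, hA, hB, rfl⟩
      refine ⟨(⟨A, hmem.2 (Or.inr (by omega))⟩, ⟨B, hmem.2 ?_⟩), hΦ _ _⟩
      rcases hB with rfl | hB
      · exact Or.inl rfl
      · right; omega
  rw [ell, ← hrange, LinearMap.finrank_range_of_inj hinj,
    (LinearEquiv.prodCongr (degreeLTEquiv k (n + 1)) (degreeLTEquiv k m)).finrank_eq,
    Module.finrank_prod, Module.finrank_fin_fun, Module.finrank_fin_fun]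

theorem genus_eq (H : Hyp x y f) (hK : IsFunctionField k K) :
    genus k K = (f.natDegree - 1) / 2 := by
  have h1 := H.ell_nsmul (genus k K + f.natDegree)
  have hdeg : (((genus k K + f.natDegree) • poleDiv (k := k) x).deg) =
      2 * ((genus k K + f.natDegree : ℕ) : ℤ) := by
    rw [deg_smul, deg_poleDiv H.ff H.tr, H.finrank_two]
    push_cast; ring
  have h2 := ell_of_large_deg hK ((genus k K + f.natDegree) • poleDiv (k := k) x)
    (by rw [hdeg]; omega)
  rw [h1, hdeg] at h2
  have := H.deg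
  omega

end Hyp

/-! ## Quadratic subfields `k(x)` -/

theorem transcendental_of_finrank_two (h : FF k K) {x : K}
    (hx : Module.finrank k⟮x⟯ K = 2) : Transcendental k x := by
  intro halg
  haveI := adjoin.finiteDimensional halg.isIntegral
  haveI : Module.Finite k⟮x⟯ K := Module.finite_of_finrank_eq_succ hx
  haveI : Module.Finite k K := Module.Finite.trans k⟮x⟯ K
  obtain ⟨x₀, hx₀, -⟩ := h
  exact hx₀ (IsAlgebraic.of_finite k x₀)

theorem exists_hyp_of_finrank_two (hK : IsFunctionField k K) (h2 : ringChar k ≠ 2) {x : K}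
    (hx : Module.finrank k⟮x⟯ K = 2) : ∃ (y : K) (f : k[X]), Hyp x y f := by
  have hr : ∀ u : K, u ∈ k⟮x⟯ ↔ u ∈ Set.range (algebraMap k⟮x⟯ K) := fun u =>
    ⟨fun hu => ⟨⟨u, hu⟩, rfl⟩, fun ⟨a, ha⟩ => ha ▸ a.2⟩
  have htr := transcendental_of_finrank_two (ff hK) hx
  have h2F : (2 : k⟮x⟯) ≠ 0 := by
    rw [← map_ofNat (algebraMap k k⟮x⟯) 2]
    simpa using Ring.two_ne_zero h2
  obtain ⟨w, hw, hw2⟩ := exists_sq_mem_of_finrank_two hx h2F
  rw [← hr] at hw hw2
  obtain ⟨p, q, hq, hpq⟩ := exists_fraction hw2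
  have hp0 : p ≠ 0 := by
    rintro rfl
    rw [map_zero, mul_eq_zero, pow_eq_zero_iff two_ne_zero] at hpq
    exact hpq.elim (fun e => hw (e ▸ zero_mem _)) (aeval_ne_zero htr hq)
  obtain ⟨s, f, hs, hf, hsf⟩ := exists_sq_mul_squarefree (p * q) (mul_ne_zero hp0 hq)
  have hs' := aeval_ne_zero htr hs
  have hq' := aeval_ne_zero htr hq
  set c := aeval x q / aeval x s
  have hc0 : c ≠ 0 := div_ne_zero hq' hs'
  have hc : c ∈ k⟮x⟯ := div_mem (aeval_mem_adjoin x q) (aeval_mem_adjoin x s)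
  have hy : w * c ∉ k⟮x⟯ := fun hmem => hw (by
    have := div_mem hmem hc; rwa [mul_div_cancel_right₀ w hc0] at this)
  have heq : (w * c) ^ 2 = aeval x f := by
    have e := congrArg (aeval x) hsf
    rw [map_mul, map_mul, map_pow, ← hpq] at e
    simp only [c]
    field_simp
    linear_combination e
  have hd : 1 ≤ f.natDegree := by
    by_contra hd
    obtain ⟨a, rfl⟩ := natDegree_eq_zero.1 (Nat.lt_one_iff.1 (not_le.1 hd))
    obtain ⟨b, hb⟩ := hK.2 (w * c) (IsAlgebraic.of_pow (n := 2) two_pos (by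
      rw [heq, aeval_C]; exact isAlgebraic_algebraMap a))
    exact hy (hb ▸ k⟮x⟯.algebraMap_mem b)
  refine ⟨w * c, f, Ring.two_ne_zero h2, htr, hf, hd, heq, fun u => ?_⟩
  obtain ⟨a, b, hab⟩ := exists_decomp_of_finrank_two hx (w := w * c) (fun h => hy ((hr _).2 h)) u
  exact ⟨a, a.2, b, b.2, hab⟩

theorem mem_of_quadratic_subfields (hK : IsFunctionField k K) (h2 : ringChar k ≠ 2)
    (hg : 2 ≤ genus k K) {x x' : K} (hx : Module.finrank k⟮x⟯ K = 2)
    (hx' : Module.finrank k⟮x'⟯ K = 2) : x' ∈ k⟮x⟯ := by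
  obtain ⟨y, f, H⟩ := exists_hyp_of_finrank_two hK h2 hx
  obtain ⟨y', f', H'⟩ := exists_hyp_of_finrank_two hK h2 hx'
  have hgd := H.genus_eq hK
  have hgd' := H'.genus_eq hK
  have hcan : ∀ {x y : K} {f : k[X]}, Hyp x y f → genus k K = (f.natDegree - 1) / 2 →
      IsCanonical k K ((genus k K - 1) • poleDiv (k := k) x) := by
    intro x y f H hgd
    refine isCanonical_of_ell_deg hK ?_ ?_
    · rw [H.ell_nsmul]; omega
    · rw [deg_smul, deg_poleDiv H.ff H.tr, H.finrank_two]; omega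
  obtain ⟨z, hz, hzC⟩ := isCanonical_sub_isCanonical hK (hcan H hgd) (hcan H' hgd')
  have hmem : ∀ u : K, (∀ P : Place k K, P.1 u ≤ (max 1 (P.1 x')) ^ (genus k K - 1)) →
      z * u ∈ k⟮x⟯ := fun u hu => by
    have h1 : z * u ∈ FunFld.L ((genus k K - 1) • poleDiv (k := k) x) := by
      rw [mul_mem_L (ff hK) _ hz, ← hzC, Hyp.mem_L_nsmul H'.ff H'.tr]
      exact hu
    obtain ⟨A, B, -, hB, e⟩ := (H.mem_L_iff_exists _).1 h1
    rcases hB with rfl | hB
    · rw [e, map_zero, zero_mul, add_zero]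
      exact aeval_mem_adjoin x A
    · omega
  have h1 := hmem 1 fun P => by rw [map_one]; exact one_le_pow₀ (le_max_left _ _)
  have h3 := hmem x' fun P =>
    (le_max_right 1 _).trans (le_self_pow₀ (le_max_left _ _) (by omega))
  rw [mul_one] at h1
  have := div_mem h3 h1
  rwa [mul_div_cancel_left₀ x' hz] at this

end Groth.Agent.FunField
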