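import Groth.Agent.Lib.FunField.Proj3

/-! # Nonsingularity via hyperplanes of multiplicity one -/

namespace Groth.Agent.FunField.HyperMult

open WithZero FunFld
open scoped Multiplicative

variable {k K : Type*} [Field k] [IsAlgClosed k] [Field K] [Algebra k K]

theorem sum_term (h : FF k K) {E : Divisor k K} {f v : K} {Q : Place k K} (hfQ : Q.1 f = exp (E Q))
    (hv0 : v ≠ 0) : E Q + Q.ord v = Q.ord (v / f) := by
  rw [ord_div Q hv0 (ne_zero_of_val hfQ), ord_eq_of_val_eq Q hfQ]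
  ring

theorem main (hK : IsFunctionField k K) {n : ℕ} (hn : 1 ≤ n) {φ : Fin (n + 1) → K}
    (hφ : LinearIndependent k φ)
    (hbir : IntermediateField.adjoin k (Set.range fun i => φ i / φ 0) = ⊤) (P : Place k K) :
    IsNonsingularAt φ P ↔ ∃ c : Fin (n + 1) → k, ∑ i, c i • φ i ≠ 0 ∧
      ∑ᶠ Q ∈ {Q : Place k K | SameImage φ P Q}, ((mapDiv k φ) Q + Q.ord (∑ i, c i • φ i)) = 1 := by
  classical
  obtain ⟨hG, hd⟩ := gen_of_linearIndependent hK hn hφ
  set E := mapDiv k φ
  set V := Submodule.span k (Set.range φ) with hV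
  have hB := bir_of_adjoin hbir
  obtain ⟨j, hjV, hj0, hjP, hjm⟩ := hG.exists_index P
  set f := φ j
  have hset : {Q : Place k K | SameImage φ P Q} = {Q | Sm V E f P Q} :=
    Set.ext fun Q => sameImage_iff hK hG hjV hjP
  rw [hset]
  have hns_iff : IsNonsingularAt φ P ↔ ∀ z : K, P.1 z ≤ 1 → z ∈ locR V f P :=
    ⟨fun hh z hz => (inLocRing_iff hG hjV hjP ⟨j, hjm⟩ z).1 (hh z hz),
     fun hh z hz => (inLocRing_iff hG hjV hjP ⟨j, hjm⟩ z).2 (hh z hz)⟩
  have hterm : ∀ v ∈ V, v ≠ 0 → ∀ Q ∈ {Q | Sm V E f P Q}, E Q + Q.ord v = Q.ord (v / f) :=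
    fun v _ hv0 Q hQ => sum_term (ff hK) hQ.1 hv0
  rw [hns_iff]
  constructor
  · intro hns
    have hone : {Q | Sm V E f P Q} = {P} := by
      ext Q
      refine ⟨fun hS => (eq_of_O_le fun x (hx : P.1 x ≤ 1) => (hG.sm_val hS (hns x hx)).1).symm, ?_⟩
      rintro rfl
      exact ⟨hjP, fun v hv => by
        obtain ⟨c, hc⟩ := exists_const_near (ff hK) Q (hG.val_div_le hjP hv)
        exact ⟨c, hc, hc⟩⟩
    obtain ⟨t, ht0, ht⟩ := exists_uniformizer P
    obtain ⟨v, hv, c, hvc⟩ := hG.exists_uniformizer_div hK hjP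
      (hns t (by rw [ht, ← exp_zero, exp_le_exp]; norm_num)) ht
    have he : v - c • f = (v / f - algebraMap k K c) * f := by
      rw [Algebra.smul_def, sub_mul, div_mul_cancel₀ _ hj0]
    have hmem : v - c • f ∈ V := V.sub_mem hv (V.smul_mem c hjV)
    obtain ⟨d, hd'⟩ := (Submodule.mem_span_range_iff_exists_fun k).1 hmem
    have hne : v - c • f ≠ 0 := by rw [he]; exact mul_ne_zero (ne_zero_of_val hvc) hj0
    refine ⟨d, by rw [hd']; exact hne, ?_⟩
    rw [hd', hone, finsum_mem_singleton, hterm _ hmem hne P (by rw [hone]; rfl), he, mul_div_assoc,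
      div_self hj0, mul_one]
    exact ord_eq_of_val_eq P hvc
  · rintro ⟨d, hd0, hsum⟩
    set v := ∑ i, d i • φ i
    have hv : v ∈ V := (Submodule.mem_span_range_iff_exists_fun k).2 ⟨d, rfl⟩
    have hfin : {Q | Sm V E f P Q}.Finite := hG.finite_sm hK hd hjV hjP
    have hPmem : P ∈ {Q | Sm V E f P Q} := ⟨hjP, fun w hw => by
      obtain ⟨c, hc⟩ := exists_const_near (ff hK) P (hG.val_div_le hjP hw)
      exact ⟨c, hc, hc⟩⟩
    rw [finsum_mem_congr rfl (hterm v hv hd0), finsum_mem_eq_finite_toFinset_sum _ hfin] at hsum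
    have hvf0 : v / f ≠ 0 := div_ne_zero hd0 hj0
    obtain ⟨c, hc⟩ := exists_const_near (ff hK) P (hG.val_div_le hjP hv)
    have hconst : ∀ Q ∈ {Q | Sm V E f P Q}, Q.1 (v / f - algebraMap k K c) < 1 := fun Q hQ => by
      obtain ⟨c', h1, h2⟩ := hQ.2 v hv
      rwa [const_unique P hc h1]
    have hc0 : c = 0 := by
      by_contra hne
      rw [Finset.sum_eq_zero fun Q hQ => ord_eq_of_val_eq Q (n := 0) (by
        rw [exp_zero, Valuation.map_eq_of_sub_lt Q.1 (x := algebraMap k K c) (by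
          rw [val_const Q hne]; exact hconst Q (hfin.mem_toFinset.1 hQ)), val_const Q hne])] at hsum
      exact zero_ne_one hsum
    have hpos : ∀ Q ∈ hfin.toFinset, 1 ≤ Q.ord (v / f) := fun Q hQ => by
      have h1 := hconst Q (hfin.mem_toFinset.1 hQ)
      rw [hc0, map_zero, sub_zero, val_lt_one_iff' Q hvf0] at h1
      omega
    have hP' := hfin.mem_toFinset.2 hPmem
    rw [← Finset.add_sum_erase _ _ hP'] at hsum
    have hrest : ∀ Q ∈ hfin.toFinset.erase P, 1 ≤ Q.ord (v / f) := fun Q hQ =>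
      hpos Q (Finset.mem_of_mem_erase hQ)
    have hempty : hfin.toFinset.erase P = ∅ := by
      by_contra hne
      obtain ⟨Q, hQ⟩ := Finset.nonempty_iff_ne_empty.2 hne
      have := Finset.single_le_sum (fun R hR => le_trans zero_le_one (hrest R hR)) hQ
      have := hrest Q hQ
      have := hpos P hP'
      omega
    rw [hempty, Finset.sum_empty, add_zero] at hsum
    refine hG.ns_of_unique_uniformizer hK hd hB hjV hjP (fun Q hQ => ?_)
      ⟨1, one_mem _, map_one _, by rw [mul_one]; exact div_mem_chA hv⟩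
      (by rw [val_eq_exp_neg_ord P hvf0, hsum])
    by_contra hne
    have : Q ∈ hfin.toFinset.erase P := Finset.mem_erase.2 ⟨hne, hfin.mem_toFinset.2 hQ⟩
    rw [hempty] at this
    exact Finset.notMem_empty Q this

end Groth.Agent.FunField.HyperMult
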