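import Groth.Agent.Lib.FunField.Hyper26

/-! # Places of hyperelliptic function fields over `k(x)` -/

namespace Groth.Agent.FunField

open WithZero FunFld Polynomial IntermediateField
open scoped Multiplicative

/-! ## The rational function field -/

section Rat

variable {k : Type*} [Field k]

local notation "ι" => algebraMap (Polynomial k) (RatFunc k)

theorem aeval_ratFuncX (p : k[X]) : aeval (RatFunc.X : RatFunc k) p = ι p := by
  rw [← RatFunc.algebraMap_X, aeval_algebraMap_apply, aeval_X_left_apply]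

theorem transcendental_ratFuncX : Transcendental k (RatFunc.X : RatFunc k) := by
  rw [transcendental_iff_injective]
  intro p q h
  rw [aeval_ratFuncX, aeval_ratFuncX] at h
  exact RatFunc.algebraMap_injective k h

theorem finrank_adjoin_ratFuncX :
    Module.finrank k⟮(RatFunc.X : RatFunc k)⟯ (RatFunc k) = 1 := by
  rw [RatFunc.adjoin_X, IntermediateField.finrank_top]

theorem ff_ratFunc : FF k (RatFunc k) :=
  ⟨RatFunc.X, transcendental_ratFuncX, Module.finite_of_finrank_eq_succ finrank_adjoin_ratFuncX⟩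

theorem val_poly_le (P : Place k (RatFunc k)) (h : P.1 RatFunc.X ≤ 1) (p : k[X]) :
    P.1 (ι p) ≤ 1 := aeval_ratFuncX p ▸ val_aeval_le P h p

theorem val_poly_of_one_lt (P : Place k (RatFunc k)) (h : 1 < P.1 RatFunc.X) {p : k[X]}
    (hp : p ≠ 0) : P.1 (ι p) = P.1 RatFunc.X ^ p.natDegree :=
  aeval_ratFuncX p ▸ val_aeval_of_one_lt P h hp

/-- If all polynomial values are powers of the value of `t`, that value generates. -/
theorem log_val_unit (P : Place k (RatFunc k)) (t : RatFunc k)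
    (h : ∀ p : k[X], p ≠ 0 → ∃ i : ℕ, P.1 (ι p) = P.1 t ^ i) :
    WithZero.log (P.1 t) = 1 ∨ WithZero.log (P.1 t) = -1 := by
  obtain ⟨r, hr⟩ := P.2.2 (exp 1)
  have hr0 : r ≠ 0 := fun e => by rw [e, map_zero] at hr; exact exp_ne_zero hr.symm
  obtain ⟨i, hi⟩ := h r.num (RatFunc.num_ne_zero hr0)
  obtain ⟨j, hj⟩ := h r.denom r.denom_ne_zero
  have hnz : ∀ p : k[X], p ≠ 0 → P.1 (ι p) ≠ 0 := fun p hp => by
    simpa using hp
  rw [← RatFunc.num_div_denom r, map_div₀] at hr
  have h1 : WithZero.log (P.1 (ι r.num) / P.1 (ι r.denom)) = 1 := by rw [hr, log_exp]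
  rw [log_div (hnz _ (RatFunc.num_ne_zero hr0)) (hnz _ r.denom_ne_zero), hi, hj, log_pow,
    log_pow, nsmul_eq_mul, nsmul_eq_mul, ← sub_mul] at h1
  exact Int.eq_one_or_neg_one_of_mul_eq_one (by linarith [h1] :
    WithZero.log (P.1 t) * ((i : ℤ) - j) = 1)

theorem val_eq_exp_log (P : Place k (RatFunc k)) {t : RatFunc k} (h0 : t ≠ 0) :
    P.1 t = exp (WithZero.log (P.1 t)) := (exp_log (by simpa using h0)).symm

theorem val_X_of_one_lt (P : Place k (RatFunc k)) (h : 1 < P.1 RatFunc.X) :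
    P.1 RatFunc.X = exp 1 := by
  have e := val_eq_exp_log P (ne_zero_of_transcendental transcendental_ratFuncX)
  rcases log_val_unit P RatFunc.X (fun p hp => ⟨_, val_poly_of_one_lt P h hp⟩) with hl | hl
  · rw [e, hl]
  · rw [e, hl, ← exp_zero, exp_lt_exp] at h; omega

theorem deg_infinity (P : Place k (RatFunc k)) (h : 1 < P.1 RatFunc.X) : P.deg = 1 := by
  have hd : (poleDiv (k := k) (RatFunc.X : RatFunc k)).deg = 1 := by
    rw [deg_poleDiv ff_ratFunc transcendental_ratFuncX, finrank_adjoin_ratFuncX, Nat.cast_one]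
  have hord : P.ord RatFunc.X = -1 := ord_eq_of_val_eq P (val_X_of_one_lt P h)
  have hle : Finsupp.single P (1 : ℤ) ≤ poleDiv (k := k) (RatFunc.X : RatFunc k) := fun Q => by
    by_cases hQ : Q = P
    · subst hQ
      rw [Finsupp.single_eq_same, poleDiv_apply ff_ratFunc, hord]; simp
    · rw [Finsupp.single_eq_of_ne hQ]
      exact poleDiv_nonneg _ Q
  have h1 := deg_mono hle
  rw [deg_single, hd, one_mul] at h1
  have := deg_pos ff_ratFunc P
  omega

theorem le_one_of_poly_lt_one (P : Place k (RatFunc k)) {p : k[X]} (hp0 : p ≠ 0)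
    (h : P.1 (ι p) < 1) : P.1 RatFunc.X ≤ 1 := by
  by_contra hc
  rw [not_le] at hc
  rw [val_poly_of_one_lt P hc hp0] at h
  exact h.not_ge (one_le_pow₀ hc.le)

theorem val_poly_eq_one (P : Place k (RatFunc k)) {p a : k[X]} (hp : Irreducible p)
    (h : P.1 (ι p) < 1) (ha : ¬ p ∣ a) : P.1 (ι a) = 1 := by
  have hX := le_one_of_poly_lt_one P hp.ne_zero h
  refine le_antisymm (val_poly_le P hX a) (le_of_not_gt fun hlt => ?_)
  obtain ⟨u, v, huv⟩ := hp.coprime_iff_not_dvd.2 ha
  have h1 : P.1 (ι (u * p + v * a)) < 1 := by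
    rw [map_add]
    refine P.1.map_add_lt ?_ ?_ <;> rw [map_mul, map_mul]
    · exact lt_of_le_of_lt (mul_le_of_le_one_left' (val_poly_le P hX u)) h
    · exact lt_of_le_of_lt (mul_le_of_le_one_left' (val_poly_le P hX v)) hlt
  rw [huv, map_one, map_one] at h1
  exact lt_irrefl _ h1

theorem val_irreducible (P : Place k (RatFunc k)) {p : k[X]} (hp : Irreducible p)
    (h : P.1 (ι p) < 1) : P.1 (ι p) = exp (-1) := by
  have e := val_eq_exp_log P (t := ι p) (by simpa using hp.ne_zero)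
  have hl := log_val_unit P (ι p) fun q hq => by
    obtain ⟨n, a, ha, rfl⟩ := WfDvdMonoid.max_power_factor hq hp
    exact ⟨n, by rw [map_mul, map_mul, map_pow, map_pow, val_poly_eq_one P hp h ha, mul_one]⟩
  rcases hl with hl | hl
  · rw [e, hl, ← exp_zero, exp_lt_exp] at h; omega
  · rw [e, hl]

theorem val_squarefree_mul (P : Place k (RatFunc k)) {p f : k[X]} (hp : Irreducible p)
    (h : P.1 (ι p) < 1) (hf : Squarefree f) (hpf : p ∣ f) : P.1 (ι f) = exp (-1) := by
  obtain ⟨g, rfl⟩ := hpf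
  have hg : ¬ p ∣ g := fun hd => hp.not_isUnit (hf p (mul_dvd_mul_left p hd))
  rw [map_mul, map_mul, val_irreducible P hp h, val_poly_eq_one P hp h hg, mul_one]

theorem exists_irreducible_of_val_lt (P : Place k (RatFunc k)) {f : k[X]} (hf : f ≠ 0)
    (h : P.1 (ι f) < 1) : ∃ p : k[X], Irreducible p ∧ p ∣ f ∧ P.1 (ι p) < 1 := by
  have hX := le_one_of_poly_lt_one P hf h
  induction f using WfDvdMonoid.induction_on_irreducible with
  | zero => exact absurd rfl hf
  | unit u hu =>
    obtain ⟨c, hc, rfl⟩ := Polynomial.isUnit_iff.1 hu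
    rw [← aeval_ratFuncX, aeval_C, val_const P hc.ne_zero] at h
    exact absurd h (lt_irrefl _)
  | mul a i ha hi ih =>
    by_cases hia : P.1 (ι i) < 1
    · exact ⟨i, hi, dvd_mul_right _ _, hia⟩
    · rw [map_mul, map_mul] at h
      have h1 : P.1 (ι i) = 1 := le_antisymm (val_poly_le P hX i) (not_lt.1 hia)
      rw [h1, one_mul] at h
      obtain ⟨p, hp1, hp2, hp3⟩ := ih ha h
      exact ⟨p, hp1, dvd_mul_of_dvd_right hp2 _, hp3⟩

end Rat

/-! ## Extensions of `k(x)` -/

section Ext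

variable {k K : Type*} [Field k] [Field K] [Algebra k K] [Algebra (RatFunc k) K]
  [IsScalarTower k (RatFunc k) K]

local notation "ι" => algebraMap (Polynomial k) (RatFunc k)
local notation "χ" => algebraMap (RatFunc k) K RatFunc.X

theorem aeval_chi (p : k[X]) : aeval χ p = algebraMap (RatFunc k) K (ι p) := by
  rw [aeval_algebraMap_apply, aeval_ratFuncX]

theorem transcendental_chi : Transcendental k χ := fun ha =>
  transcendental_ratFuncX ((isAlgebraic_algebraMap_iff (algebraMap (RatFunc k) K).injective).1 ha)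

theorem algebraMap_mem_adjoin_chi (r : RatFunc k) : algebraMap (RatFunc k) K r ∈ k⟮χ⟯ := by
  rw [← RatFunc.num_div_denom r, map_div₀, ← aeval_chi, ← aeval_chi]
  exact div_mem (aeval_mem_adjoin _ _) (aeval_mem_adjoin _ _)

theorem Hyp.of_ratFunc (h2 : ringChar k ≠ 2) (hdeg : Module.finrank (RatFunc k) K = 2) {y : K}
    {f : k[X]} (hf : Squarefree f) (hd : 1 ≤ f.natDegree)
    (heq : y ^ 2 = algebraMap (RatFunc k) K (ι f)) : Hyp χ y f := by
  rw [← aeval_chi] at heq
  refine ⟨Ring.two_ne_zero h2, transcendental_chi, hf, hd, heq, fun u => ?_⟩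
  have hy : y ∉ Set.range (algebraMap (RatFunc k) K) := by
    rintro ⟨r, rfl⟩
    exact not_mem_adjoin transcendental_chi hf hd heq (algebraMap_mem_adjoin_chi r)
  obtain ⟨a, b, hab⟩ := exists_decomp_of_finrank_two hdeg hy u
  exact ⟨_, algebraMap_mem_adjoin_chi a, _, algebraMap_mem_adjoin_chi b, hab⟩

variable [FiniteDimensional (RatFunc k) K]

/-- The residue field below embeds into the residue field above. -/
theorem deg_le_of_isOver {P : Place k K} {P₀ : Place k (RatFunc k)} (h : IsOver P P₀) :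
    P₀.deg ≤ P.deg := by
  obtain ⟨e, he⟩ := h
  have he0 : e ≠ 0 := by have := isOverWith_pos he; omega
  let g : P₀.O →+* P.O :=
    ((algebraMap (RatFunc k) K).comp P₀.O.subtype).codRestrict P.O fun r => by
      rw [mem_O_iff]
      show P.1 (algebraMap (RatFunc k) K r.1) ≤ 1
      rw [he]
      exact pow_le_one₀ zero_le r.2
  have hg : ∀ r : P₀.O, ((g r : P.O) : K) = algebraMap (RatFunc k) K r.1 := fun _ => rfl
  haveI : IsLocalHom g := ⟨fun r hr => by
    by_contra hnu
    have h1 : IsLocalRing.residue P₀.O r = 0 := (IsLocalRing.residue_eq_zero_iff r).2 hnu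
    rw [residue_eq_zero_iff] at h1
    have h2 : P.1 ((g r : P.O) : K) < 1 := by rw [hg, he]; exact pow_lt_one₀ zero_le h1 he0
    exact (IsLocalRing.residue_ne_zero_iff_isUnit (g r)).2 hr
      ((residue_eq_zero_iff P (g r)).2 h2)⟩
  let R : IsLocalRing.ResidueField P₀.O →ₐ[k] IsLocalRing.ResidueField P.O :=
    { IsLocalRing.ResidueField.map g with
      commutes' := fun c => by
        show IsLocalRing.ResidueField.map g (IsLocalRing.residue P₀.O (algebraMap k P₀.O c)) =
          IsLocalRing.residue P.O (algebraMap k P.O c)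
        rw [IsLocalRing.ResidueField.map_residue]
        congr 1
        apply Subtype.ext
        rw [hg, coe_algebraMap_O, coe_algebraMap_O,
          ← IsScalarTower.algebraMap_apply k (RatFunc k) K] }
  haveI := (ff_extend (K' := K) ff_ratFunc).finite_residueField P
  exact LinearMap.finrank_le_finrank_of_injective (f := R.toLinearMap) R.toRingHom.injective

/-- In a quadratic extension `e(P) ≤ 2`, and `e(P) = 2` forces a single place, of the same degree. -/
theorem fibre_of_two (hdeg : Module.finrank (RatFunc k) K = 2) {P : Place k K}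
    {P₀ : Place k (RatFunc k)} {e : ℕ} (he : IsOverWith P P₀ e) :
    e ≤ 2 ∧ (2 ≤ e → P.deg = P₀.deg ∧ ∀ Q, IsOver Q P₀ → Q = P) := by
  classical
  have hff : FF k (RatFunc k) := ff_ratFunc
  set s := (finite_fibre (K' := K) hff P₀).toFinset
  have hs : ∀ Q, Q ∈ s ↔ IsOver Q P₀ := fun Q => Set.Finite.mem_toFinset _
  have hsum := sum_fibre hff P₀ s hs
  rw [hdeg] at hsum
  have hPs : P ∈ s := (hs P).2 ⟨e, he⟩
  rw [← Finset.add_sum_erase s _ hPs, ramIdx_eq he] at hsum
  have h0 := deg_pos hff P₀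
  have h1 := deg_le_of_isOver (P := P) (P₀ := P₀) ⟨e, he⟩
  have h2 : e * P₀.deg ≤ 2 * P₀.deg := le_trans (Nat.mul_le_mul_left e h1) (by omega)
  refine ⟨Nat.le_of_mul_le_mul_right h2 h0, fun he2 => ?_⟩
  have h3 : 2 * P.deg ≤ e * P.deg := Nat.mul_le_mul_right _ he2
  refine ⟨by omega, fun Q hQ => ?_⟩
  by_contra hne
  have hQs : Q ∈ s.erase P := Finset.mem_erase.2 ⟨hne, (hs Q).2 hQ⟩
  have h4 : ramIdx Q P₀ * Q.deg ≤ ∑ R ∈ s.erase P, ramIdx R P₀ * R.deg :=
    Finset.single_le_sum (f := fun R => ramIdx R P₀ * R.deg) (fun _ _ => Nat.zero_le _) hQs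
  have h5 : 0 < ramIdx Q P₀ * Q.deg :=
    Nat.mul_pos (isOverWith_pos (isOverWith_ramIdx hQ)) (deg_pos (ff_extend (K' := K) hff) Q)
  omega

/-- A residue class of a degree-one place is a constant. -/
theorem exists_const_sub_lt {F : Type*} [Field F] [Algebra k F] {P : Place k F} (hP : P.deg = 1)
    {z : F} (hz : P.1 z ≤ 1) : ∃ c : k, P.1 (z - algebraMap k F c) < 1 := by
  obtain ⟨c, hc⟩ := exists_smul_eq_of_finrank_eq_one hP one_ne_zero
    (IsLocalRing.residue P.O ⟨z, hz⟩)
  refine ⟨c, ?_⟩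
  have h1 : IsLocalRing.residue P.O (⟨z, hz⟩ - algebraMap k P.O c) = 0 := by
    rw [map_sub, ← hc, sub_eq_zero]
    exact (Algebra.smul_def c (1 : IsLocalRing.ResidueField P.O)).trans (mul_one _)
  rw [residue_eq_zero_iff] at h1
  simpa [coe_algebraMap_O] using h1

theorem Hyp.infinity_odd (hdeg : Module.finrank (RatFunc k) K = 2) {y : K} {f : k[X]}
    (H : Hyp χ y f) {P₀ : Place k (RatFunc k)} (h0 : 1 < P₀.1 RatFunc.X)
    (hodd : Odd f.natDegree) {P : Place k K} {e : ℕ} (he : IsOverWith P P₀ e) : e = 2 := by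
  have h := congrArg P.1 H.eq
  rw [map_pow, aeval_chi, he, val_poly_of_one_lt P₀ h0 H.f_ne_zero, val_X_of_one_lt P₀ h0,
    val_eq_exp_neg_ord P H.y_ne_zero, ← exp_nsmul, ← exp_nsmul, ← exp_nsmul, exp_inj] at h
  simp only [nsmul_eq_mul, mul_one] at h
  have := (fibre_of_two hdeg he).1
  have := isOverWith_pos he
  obtain ⟨m, hm⟩ := hodd
  by_contra hne
  have he1 : e = 1 := by omega
  subst he1
  push_cast at h
  omega

theorem Hyp.infinity_even (hdeg : Module.finrank (RatFunc k) K = 2) {y : K} {f : k[X]}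
    (H : Hyp χ y f) {P₀ : Place k (RatFunc k)} (h0 : 1 < P₀.1 RatFunc.X)
    (heven : Even f.natDegree) {P : Place k K} {e : ℕ} (he : IsOverWith P P₀ e) : e = 1 := by
  have hle := fibre_of_two hdeg he
  have hpos := isOverWith_pos he
  by_contra hne
  obtain ⟨hdP, huniq⟩ := hle.2 (by omega)
  rw [deg_infinity P₀ h0] at hdP
  obtain ⟨m, hm⟩ := heven
  set z := y / χ ^ m
  have hχ : χ ≠ 0 := ne_zero_of_transcendental transcendental_chi
  have hz : P.1 z = 1 := by
    have h2 : P.1 z ^ 2 = 1 := by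
      have hy2 : P.1 (y ^ 2) = P.1 χ ^ (2 * m) := by
        rw [H.eq, aeval_chi, he, he, val_poly_of_one_lt P₀ h0 H.f_ne_zero, ← pow_mul, ← pow_mul,
          hm, ← two_mul, mul_comm]
      rw [← map_pow, div_pow, map_div₀, hy2, map_pow, map_pow, ← pow_mul, mul_comm m 2,
        div_self (pow_ne_zero _ (by simpa using hχ))]
    exact (pow_eq_one_iff_of_nonneg zero_le two_ne_zero).1 h2
  obtain ⟨c, hc⟩ := exists_const_sub_lt hdP hz.le
  have hc0 : c ≠ 0 := by
    rintro rfl
    rw [map_zero, sub_zero, hz] at hc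
    exact lt_irrefl _ hc
  have hover : IsOver (H.conjPlace P) P₀ := ⟨e, fun r => by
    rw [Hyp.conjPlace_apply, H.conj_of_mem (algebraMap_mem_adjoin_chi r), he r]⟩
  have hσ : H.conjPlace P = P := huniq _ hover
  have hc' : P.1 (-z - algebraMap k K c) < 1 := by
    have e1 : H.conj (z - algebraMap k K c) = -z - algebraMap k K c := by
      rw [map_sub, AlgEquiv.commutes, map_div₀, H.conj_y, map_pow, H.conj_x, neg_div]
    rw [← e1, ← Hyp.conjPlace_apply, hσ]
    exact hc
  have h3 := P.1.map_add_lt hc hc'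
  rw [show z - algebraMap k K c + (-z - algebraMap k K c) = algebraMap k K (-(2 * c)) by
    rw [map_neg, map_mul, map_ofNat]; ring, val_const P (neg_ne_zero.2 (mul_ne_zero H.two hc0))]
    at h3
  exact lt_irrefl _ h3

theorem Hyp.ramified (hdeg : Module.finrank (RatFunc k) K = 2) {y : K} {f : k[X]}
    (H : Hyp χ y f) {P₀ : Place k (RatFunc k)} {p : k[X]} (hp : Irreducible p) (hpf : p ∣ f)
    (h0 : P₀.1 (ι p) < 1) {P : Place k K} {e : ℕ} (he : IsOverWith P P₀ e) :
    e = 2 ∧ P.ord y = 1 ∧ P.deg = P₀.deg ∧ ∀ Q, IsOver Q P₀ → Q = P := by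
  have h := congrArg P.1 H.eq
  rw [map_pow, aeval_chi, he, val_squarefree_mul P₀ hp h0 H.sqf hpf,
    val_eq_exp_neg_ord P H.y_ne_zero, ← exp_nsmul, ← exp_nsmul, exp_inj] at h
  simp only [nsmul_eq_mul] at h
  have hle := fibre_of_two hdeg he
  have := hle.1
  have := isOverWith_pos he
  push_cast at h
  have he2 : e = 2 := by omega
  exact ⟨he2, by omega, hle.2 he2.ge⟩

theorem Hyp.exists_root_below {y : K} {f : k[X]} (H : Hyp χ y f) {P : Place k K}
    (hy : 0 < P.ord y) : ∃ (P₀ : Place k (RatFunc k)) (e : ℕ) (p : k[X]),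
      IsOverWith P P₀ e ∧ Irreducible p ∧ p ∣ f ∧ P₀.1 (ι p) < 1 ∧ P₀.1 RatFunc.X ≤ 1 ∧
        P₀.1 (ι f) < 1 := by
  obtain ⟨e, he⟩ := isOver_under ff_ratFunc P
  set P₀ := under ff_ratFunc P
  have h := congrArg P.1 H.eq
  rw [map_pow, aeval_chi, he] at h
  have hy1 : P.1 y ^ 2 < 1 :=
    pow_lt_one₀ zero_le ((val_lt_one_iff' P H.y_ne_zero).2 hy) two_ne_zero
  rw [h] at hy1
  have h1 : P₀.1 (ι f) < 1 := lt_of_not_ge fun hge => hy1.not_ge (one_le_pow₀ hge)
  obtain ⟨p, hp, hpf, hp1⟩ := exists_irreducible_of_val_lt P₀ H.f_ne_zero h1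
  exact ⟨P₀, e, p, he, hp, hpf, hp1, le_one_of_poly_lt_one P₀ H.f_ne_zero h1, h1⟩

end Ext

end Groth.Agent.FunField
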