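import Groth.Agent.Lib.FunField.Ext
import Mathlib.LinearAlgebra.FreeModule.Norm
import Mathlib.RingTheory.Localization.NormTrace
import Mathlib.RingTheory.DedekindDomain.IntegralClosure

/-! # The norm and orders at places -/

namespace Groth.Agent.FunField

open WithZero FunFld Module
open scoped Multiplicative

variable {k K K' : Type*} [Field k] [Field K] [Field K'] [Algebra k K] [Algebra K K'] [Algebra k K']
  [IsScalarTower k K K']

omit [Algebra K K'] [IsScalarTower k K K'] in
theorem finrank_quot_of_rel {S : Type*} [CommRing S] [Algebra k S] (ι : S →ₗ[k] K') (I : Ideal S)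
    {p r : Submodule k K'} {n : ℤ} (hr : Rel p r n) (h1 : ∀ x, ι x ∈ r)
    (h2 : ∀ y ∈ r, ∃ x, ι x = y) (h3 : ∀ x, x ∈ I ↔ ι x ∈ p) :
    Module.Finite k (S ⧸ I) ∧ (finrank k (S ⧸ I) : ℤ) = n := by
  let φ : S →ₗ[k] (r ⧸ p.comap r.subtype) := Submodule.mkQ _ ∘ₗ ι.codRestrict r h1
  have hφ : Function.Surjective φ := fun q => by
    obtain ⟨⟨y, hy⟩, rfl⟩ := Submodule.mkQ_surjective _ q
    obtain ⟨x, hx⟩ := h2 y hy
    exact ⟨x, congrArg (Submodule.mkQ _) (Subtype.ext hx)⟩
  have hker : LinearMap.ker φ = I.restrictScalars k := by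
    ext x
    rw [LinearMap.mem_ker, Submodule.restrictScalars_mem, h3]
    exact Submodule.Quotient.mk_eq_zero _
  let e : (S ⧸ I) ≃ₗ[k] (r ⧸ p.comap r.subtype) :=
    (Submodule.Quotient.restrictScalarsEquiv k I).symm.trans
      ((Submodule.quotEquivOfEq _ _ hker.symm).trans (φ.quotKerEquivOfSurjective hφ))
  haveI := hr.fin
  exact ⟨Module.Finite.equiv e.symm, by rw [e.finrank_eq, hr.eq]⟩

omit [Algebra K K'] [IsScalarTower k K K'] [Field K'] [Algebra k K'] in
theorem ord_prod (P : Place k K) {ι : Type*} (s : Finset ι) (f : ι → K) (hf : ∀ i ∈ s, f i ≠ 0) :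
    P.ord (∏ i ∈ s, f i) = ∑ i ∈ s, P.ord (f i) := by
  simp only [Place.ord, map_prod]
  induction s using Finset.cons_induction with
  | empty => simp
  | cons a s ha ih =>
    rw [Finset.forall_mem_cons] at hf
    rw [Finset.prod_cons, Finset.sum_cons, ← ih hf.2,
      log_mul (by simpa using hf.1) (Finset.prod_ne_zero_iff.2 fun i hi => by simpa using hf.2 i hi)]
    ring

omit [Algebra K K'] [IsScalarTower k K K'] [Field K'] [Algebra k K'] in
theorem finrank_quot_span_O (h : FF k K) (P : Place k K) {a : P.O} (ha : a ≠ 0) :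
    Module.Finite k (P.O ⧸ Ideal.span ({a} : Set P.O)) ∧
      (finrank k (P.O ⧸ Ideal.span ({a} : Set P.O)) : ℤ) = P.deg * P.ord (a : K) := by
  have ha' : (a : K) ≠ 0 := by simpa using ha
  have hn : 0 ≤ P.ord (a : K) := (ord_nonneg_iff P (a : K)).2 a.2
  have hr := rel_filt h P (show -P.ord (a : K) ≤ 0 by omega)
  rw [sub_neg_eq_add, zero_add, mul_comm] at hr
  refine finrank_quot_of_rel (K' := K)
    { toFun := fun x : P.O => (x : K)
      map_add' := fun x y => rfl
      map_smul' := fun c x => (coe_smul_O P c x).trans (by simp [Algebra.smul_def]) }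
    _ hr (fun x => by simpa [mem_filt] using x.2)
    (fun y hy => ⟨⟨y, by simpa [mem_filt, mem_O_iff] using hy⟩, rfl⟩) fun x => ?_
  rw [Ideal.mem_span_singleton, mem_filt, ← val_eq_exp_neg_ord P ha']
  show a ∣ x ↔ P.1 (x : K) ≤ P.1 (a : K)
  constructor
  · rintro ⟨c, rfl⟩
    simpa using mul_le_of_le_one_right' (a := P.1 (a : K)) c.2
  · intro hx
    refine ⟨⟨(x : K) / a, ?_⟩, Subtype.ext (mul_div_cancel₀ _ ha').symm⟩
    rw [mem_O_iff, map_div₀]
    exact div_le_one_of_le₀ hx zero_le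

variable [FiniteDimensional K K']

theorem ord_norm_of_integral (h : FF k K) (P : Place k K) (s : Finset (Place k K'))
    (hs : ∀ Q, Q ∈ s ↔ IsOver Q P) {x : K'} (hx : x ≠ 0) (hint : ∀ Q ∈ s, 0 ≤ Q.ord x) :
    (P.deg : ℤ) * P.ord (Algebra.norm K x) = ∑ Q ∈ s, (Q.deg : ℤ) * Q.ord x := by
  classical
  letI : Algebra P.O K' := ((algebraMap K K').comp P.O.subtype).toAlgebra
  haveI : IsScalarTower P.O K K' := IsScalarTower.of_algebraMap_eq' rfl
  haveI : IsScalarTower k P.O K' := IsScalarTower.of_algebraMap_eq fun c =>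
    IsScalarTower.algebraMap_apply k K K' c
  haveI : IsDiscreteValuationRing P.O := by
    refine h.isDiscreteValuationRing P.O P.2.1 fun hF => ?_
    obtain ⟨t, ht0, ht⟩ := exists_uniformizer P
    have htO : t ∈ P.O := by rw [mem_O_iff, ht, ← exp_zero, exp_le_exp]; norm_num
    obtain ⟨b, hb⟩ := hF.mul_inv_cancel (a := (⟨t, htO⟩ : P.O))
      (fun e => ht0 (congrArg Subtype.val e))
    have h1 : P.1 t * P.1 (b : K) = 1 := by
      rw [← map_mul, show t * (b : K) = 1 from congrArg Subtype.val hb, map_one]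
    have h2 : exp (-(1 : ℤ)) * P.1 (b : K) < 1 := by
      refine (mul_le_of_le_one_right' b.2).trans_lt ?_
      rw [← exp_zero, exp_lt_exp]; norm_num
    rw [ht] at h1
    exact h2.ne h1
  let R := integralClosure P.O K'
  haveI : Module.Finite P.O R := finite_integralClosure h P
  haveI : Module.IsTorsionFree P.O R := by
    rw [Module.isTorsionFree_iff_algebraMap_injective]
    exact fun a b hab => Subtype.ext ((algebraMap K K').injective (congrArg Subtype.val hab))
  haveI : Module.Free P.O R := Module.free_of_finite_type_torsion_free'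
  haveI : IsLocalization (Algebra.algebraMapSubmonoid R (nonZeroDivisors P.O)) K' :=
    IsIntegralClosure.isLocalization P.O K K' R
  have hs' : ∀ y : K', IsIntegral P.O y ↔ ∀ Q ∈ s, Q.1 y ≤ 1 := fun y => by
    simp [hs, isIntegral_iff h P y]
  have hxR : x ∈ R := (hs' x).2 fun Q hQ => (ord_nonneg_iff Q x).1 (hint Q hQ)
  let z : R := ⟨x, hxR⟩
  have hz : z ≠ 0 := fun e => hx (congrArg Subtype.val e)
  have hnorm : Algebra.norm K x = (Algebra.norm P.O z : K) :=
    Algebra.norm_localization P.O (nonZeroDivisors P.O) z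
  have hr := rel_loc (ff_extend h) s (fun Q => -Q.ord x) (fun _ => 0) fun Q hQ => by
    show -Q.ord x ≤ 0
    linarith [hint Q hQ]
  obtain ⟨-, hdim⟩ := finrank_quot_of_rel ((R.val.toLinearMap).restrictScalars k)
    (Ideal.span ({z} : Set R)) hr
    (fun y => mem_loc.2 fun Q hQ => by simpa using (hs' _).1 y.2 Q hQ)
    (fun y hy => ⟨⟨y, (hs' y).2 fun Q hQ => by simpa using mem_loc.1 hy Q hQ⟩, rfl⟩) fun y => by
    rw [Ideal.mem_span_singleton, mem_loc]
    simp only [LinearMap.restrictScalars_apply, AlgHom.toLinearMap_apply, Subalgebra.coe_val]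
    simp only [← val_eq_exp_neg_ord _ hx]
    constructor
    · rintro ⟨c, rfl⟩ Q hQ
      rw [Subalgebra.coe_mul, map_mul]
      exact mul_le_of_le_one_right' ((hs' _).1 c.2 Q hQ)
    · intro hy
      refine ⟨⟨(y : K') / x, (hs' _).2 fun Q hQ => ?_⟩, Subtype.ext (mul_div_cancel₀ _ hx).symm⟩
      rw [map_div₀]
      exact div_le_one_of_le₀ (hy Q hQ) zero_le
  let b := Module.Free.chooseBasis P.O R
  have hI : Ideal.span ({z} : Set R) ≠ ⊥ := by simpa using hz
  have hsc : ∀ i, (Ideal.smithCoeffs b _ hI i : P.O) ≠ 0 := Ideal.smithCoeffs_ne_zero b _ hI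
  haveI := fun i => (finrank_quot_span_O h P (hsc i)).1
  rw [Ideal.finrank_quotient_eq_sum k hI b, Nat.cast_sum,
    Finset.sum_congr rfl fun i _ => (finrank_quot_span_O h P (hsc i)).2] at hdim
  obtain ⟨u, hu⟩ := (associated_norm_prod_smith b hz).symm
  have hu0 : P.ord ((u : P.O) : K) = 0 := by
    have hv : P.1 ((u : P.O) : K) = 1 := by
      refine le_antisymm u.1.2 ?_
      have h4 : P.1 ((u : P.O) : K) * P.1 (((u⁻¹ : P.Oˣ) : P.O) : K) = 1 := by
        rw [← map_mul, ← MulMemClass.coe_mul, Units.mul_inv]; simp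
      exact h4.ge.trans (mul_le_of_le_one_right' ((u⁻¹ : P.Oˣ) : P.O).2)
    simp [Place.ord, hv]
  rw [hnorm, ← hu, MulMemClass.coe_mul, ord_mul P, hu0, add_zero, SubmonoidClass.coe_finset_prod,
    ord_prod P _ _ fun i _ => by simpa using hsc i, Finset.mul_sum, hdim]
  · exact Finset.sum_congr rfl fun Q _ => by ring
  · simpa [SubmonoidClass.coe_finset_prod, Finset.prod_ne_zero_iff] using fun i => hsc i
  · exact fun e => u.ne_zero (Subtype.ext e)

theorem ord_norm (h : FF k K) (P : Place k K) (x : K') (s : Finset (Place k K'))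
    (hs : ∀ Q, Q ∈ s ↔ IsOver Q P) :
    (P.deg : ℤ) * P.ord (Algebra.norm K x) = ∑ Q ∈ s, (Q.deg : ℤ) * Q.ord x := by
  classical
  rcases eq_or_ne x 0 with rfl | hx
  · simp [Place.ord]
  obtain ⟨t, ht0, ht⟩ := exists_uniformizer P
  have htord : P.ord t = 1 := by simp [Place.ord, ht]
  let N : ℕ := ∑ Q ∈ s, (-Q.ord x).toNat
  let c : K' := algebraMap K K' (t ^ N)
  have hc : c ≠ 0 := by simpa [c] using pow_ne_zero N ht0
  have hordc : ∀ Q ∈ s, Q.ord c = (ramIdx Q P : ℤ) * N := fun Q hQ => by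
    simp only [c]
    rw [ord_of_isOverWith (isOverWith_ramIdx ((hs Q).1 hQ)), ord_pow, htord, mul_one]
  have h1 := ord_norm_of_integral h P s hs (mul_ne_zero hx hc) fun Q hQ => by
    rw [ord_mul Q hx hc, hordc Q hQ]
    have h2 : (-Q.ord x).toNat ≤ N :=
      Finset.single_le_sum (f := fun R : Place k K' => (-R.ord x).toNat) (fun R _ => Nat.zero_le _) hQ
    have h3 : 1 ≤ ramIdx Q P := isOverWith_pos (isOverWith_ramIdx ((hs Q).1 hQ))
    nlinarith [Int.self_le_toNat (-Q.ord x)]
  have hsum : ∑ Q ∈ s, (Q.deg : ℤ) * ((ramIdx Q P : ℤ) * N) = finrank K K' * P.deg * N := by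
    rw [← Nat.cast_mul, ← sum_fibre h P s hs]
    generalize (N : ℤ) = M
    push_cast
    rw [Finset.sum_mul]
    exact Finset.sum_congr rfl fun Q _ => by push_cast; ring
  rw [map_mul, ord_mul P (by simpa [Algebra.norm_ne_zero_iff] using hx)
      (by simpa [Algebra.norm_ne_zero_iff] using hc)] at h1
  rw [Finset.sum_congr rfl fun Q hQ => by rw [ord_mul Q hx hc, hordc Q hQ, mul_add],
    Finset.sum_add_distrib, hsum] at h1
  have h5 : P.ord (Algebra.norm K c) = finrank K K' * N := by
    simp only [c]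
    rw [Algebra.norm_algebraMap, ← pow_mul, ord_pow, htord, mul_one]; push_cast; ring
  rw [h5] at h1
  linarith

end Groth.Agent.FunField
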