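import Groth.Agent.Lib.FunField.Norm
import Groth.Agent.Lib.FunField.Embed
import Mathlib.RingTheory.Norm.Defs
import Mathlib.LinearAlgebra.Determinant

/-!
# The value of a norm at a place

`N(g)(P) = ∏_{Q | P} g(Q) ^ e(Q|P)` for `g` integral at all places over `P`, over an algebraically
closed field of constants: the multiplication by `g` on `R/tR` (`R` the integral closure of the
valuation ring of `P`) is triangular along the filtration by orders.
-/

namespace Groth.Agent.FunField

open WithZero FunFld Module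
open scoped Multiplicative

variable {k K K' : Type*} [Field k] [Field K] [Field K'] [Algebra k K] [Algebra K K'] [Algebra k K']
  [IsScalarTower k K K'] [FiniteDimensional K K'] [IsAlgClosed k]

omit [Algebra K K'] [IsScalarTower k K K'] [FiniteDimensional K K'] [Field K'] [Algebra k K'] in
theorem bijective_algebraMap_residueField (h : FF k K) (P : Place k K) :
    Function.Bijective (algebraMap k (IsLocalRing.ResidueField P.O)) := by
  haveI hf := h.finite_residueField P
  haveI : Algebra.IsIntegral k (IsLocalRing.ResidueField P.O) :=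
    ⟨fun x => IsIntegral.of_mem_of_fg ⊤ (by convert hf.fg_top using 0 <;> rfl) x trivial⟩
  exact IsAlgClosed.algebraMap_bijective_of_isIntegral

/-- The residue at `P`, with values in `k`. -/
noncomputable def residueK (h : FF k K) (P : Place k K) : P.O →+* k :=
  ((RingEquiv.ofBijective (algebraMap k (IsLocalRing.ResidueField P.O))
    (bijective_algebraMap_residueField h P)).symm : _ →+* k).comp (IsLocalRing.residue P.O)

omit [Algebra K K'] [IsScalarTower k K K'] [FiniteDimensional K K'] [Field K'] [Algebra k K'] in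
theorem residueK_eq_iff (h : FF k K) (P : Place k K) (x : P.O) (c : k) :
    residueK h P x = c ↔ P.1 ((x : K) - algebraMap k K c) < 1 := by
  rw [residueK, RingHom.comp_apply, RingHom.coe_coe, RingEquiv.symm_apply_eq]
  have : IsLocalRing.residue P.O x = algebraMap k (IsLocalRing.ResidueField P.O) c ↔
      IsLocalRing.residue P.O (x - algebraMap k P.O c) = 0 := by
    rw [map_sub, sub_eq_zero]; rfl
  rw [RingEquiv.ofBijective_apply, this, residue_eq_zero_iff]
  rfl

omit [Algebra K K'] [IsScalarTower k K K'] [FiniteDimensional K K'] [Field K'] [Algebra k K'] in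
theorem residueK_algebraMap (h : FF k K) (P : Place k K) (c : k) :
    residueK h P (algebraMap k P.O c) = c := by
  rw [residueK_eq_iff, coe_algebraMap_O, sub_self, map_zero]
  exact zero_lt_one

/-- Values at a place: the norm is the product of the values above. -/
theorem norm_value (h : FF k K) (P : Place k K) (s : Finset (Place k K'))
    (hs : ∀ Q, Q ∈ s ↔ IsOver Q P) {g : K'} (a : Place k K' → k)
    (ha : ∀ Q ∈ s, Q.1 (g - algebraMap k K' (a Q)) < 1) :
    P.1 (Algebra.norm K g - algebraMap k K (∏ Q ∈ s, a Q ^ ramIdx Q P)) < 1 := by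
  classical
  letI : Algebra P.O K' := ((algebraMap K K').comp P.O.subtype).toAlgebra
  haveI : IsScalarTower P.O K K' := IsScalarTower.of_algebraMap_eq' rfl
  haveI : IsScalarTower k P.O K' := IsScalarTower.of_algebraMap_eq fun c =>
    IsScalarTower.algebraMap_apply k K K' c
  haveI : IsDiscreteValuationRing P.O := by
    refine h.isDiscreteValuationRing P.O P.2.1 fun hF => ?_
    obtain ⟨t, ht0, ht⟩ := exists_uniformizer P
    have htO : t ∈ P.O := by rw [mem_O_iff, ht, ← exp_zero, exp_le_exp]; norm_num
    obtain ⟨b, hb⟩ := hF.mul_inv_cancel (a := (⟨t, htO⟩ : P.O))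
      (fun e => ht0 (congrArg Subtype.val e))
    have h1 : P.1 t * P.1 (b : K) = 1 := by
      rw [← map_mul, show t * (b : K) = 1 from congrArg Subtype.val hb, map_one]
    have h2 : exp (-(1 : ℤ)) * P.1 (b : K) < 1 := by
      refine (mul_le_of_le_one_right' b.2).trans_lt ?_
      rw [← exp_zero, exp_lt_exp]; norm_num
    rw [ht] at h1
    exact h2.ne h1
  let R := integralClosure P.O K'
  haveI : Module.Finite P.O R := finite_integralClosure h P
  haveI : Module.IsTorsionFree P.O R := by
    rw [Module.isTorsionFree_iff_algebraMap_injective]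
    exact fun a b hab => Subtype.ext ((algebraMap K K').injective (congrArg Subtype.val hab))
  haveI : Module.Free P.O R := Module.free_of_finite_type_torsion_free'
  haveI : IsLocalization (Algebra.algebraMapSubmonoid R (nonZeroDivisors P.O)) K' :=
    IsIntegralClosure.isLocalization P.O K K' R
  have hs' : ∀ y : K', y ∈ R ↔ ∀ Q ∈ s, Q.1 y ≤ 1 := fun y => by
    rw [mem_integralClosure_iff, isIntegral_iff h P y]
    simp [hs]
  have hff : FF k K' := ff_extend h
  have hgR : g ∈ R := (hs' g).2 fun Q hQ => by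
    rw [show g = (g - algebraMap k K' (a Q)) + algebraMap k K' (a Q) by ring]
    exact (Valuation.map_add _ _ _).trans (max_le (ha Q hQ).le (Q.2.1 _))
  let z : R := ⟨g, hgR⟩
  let b := Module.Free.chooseBasis P.O R
  haveI : Fintype (Module.Free.ChooseBasisIndex P.O R) := Module.Free.ChooseBasisIndex.fintype P.O R
  let ψ := residueK h P
  let φ : R →ₗ[k] (Module.Free.ChooseBasisIndex P.O R → k) :=
    { toFun := fun y i => ψ (b.repr y i)
      map_add' := fun y y' => by ext i; simp
      map_smul' := fun c y => by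
        ext i
        rw [← IsScalarTower.algebraMap_smul P.O c y, map_smul]
        simp only [Finsupp.smul_apply, RingHom.id_apply, Pi.smul_apply, smul_eq_mul, map_mul, ψ, residueK_algebraMap] }
  let G : (Module.Free.ChooseBasisIndex P.O R → k) →ₗ[k] (Module.Free.ChooseBasisIndex P.O R → k) :=
    Matrix.toLin' ((Algebra.leftMulMatrix b z).map ψ)
  have hG : ∀ y : R, G (φ y) = φ (z * y) := fun y => by
    ext i
    rw [Matrix.toLin'_apply]
    show Matrix.mulVec _ (ψ ∘ fun j => b.repr y j) i = ψ (b.repr (z * y) i)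
    rw [← RingHom.map_mulVec, Algebra.leftMulMatrix_mulVec_repr]
  have hdet : ψ (Algebra.norm P.O z) = LinearMap.det G := by
    rw [LinearMap.det_toLin', Algebra.norm_eq_matrix_det b, RingHom.map_det]
    rfl
  -- lattices
  let e : Place k K' → ℤ := fun Q => (ramIdx Q P : ℤ)
  let incl : R →ₗ[k] K' := (R.val.toLinearMap).restrictScalars k
  let L : (Place k K' → ℤ) → Submodule k R := fun c => (loc s (fun Q => -c Q)).comap incl
  have hmemL : ∀ (c : Place k K' → ℤ) (y : R), y ∈ L c ↔ ∀ Q ∈ s, Q.1 (y : K') ≤ exp (-c Q) :=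
    fun c y => Submodule.mem_comap.trans mem_loc
  obtain ⟨t, ht0, ht⟩ := exists_uniformizer P
  have htO : t ∈ P.O := by rw [mem_O_iff, ht, ← exp_zero, exp_le_exp]; norm_num
  let tO : P.O := ⟨t, htO⟩
  have hvt : ∀ Q ∈ s, Q.1 (algebraMap K K' t) = exp (-e Q) := fun Q hQ => by
    rw [isOverWith_ramIdx ((hs Q).1 hQ) t, ht, ← exp_nsmul]; simp [e]
  have hker : ∀ y : R, φ y = 0 ↔ y ∈ L e := fun y => by
    rw [hmemL]
    constructor
    · intro hy Q hQ
      have hsum : (y : K') = ∑ i, algebraMap K K' ((b.repr y i : P.O) : K) * (b i : K') := by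
        conv_lhs => rw [← b.sum_repr y]
        rw [AddSubmonoidClass.coe_finset_sum]
        refine Finset.sum_congr rfl fun i _ => ?_
        rw [Algebra.smul_def, MulMemClass.coe_mul]
        rfl
      rw [hsum]
      refine Valuation.map_sum_le _ fun i _ => ?_
      have h1 : P.1 ((b.repr y i : P.O) : K) < 1 := by
        simpa using (residueK_eq_iff h P (b.repr y i) 0).1 (congrFun hy i)
      have h2 : Q.1 (algebraMap K K' ((b.repr y i : P.O) : K)) ≤ exp (-e Q) := by
        rw [isOverWith_ramIdx ((hs Q).1 hQ), ← hvt Q hQ, isOverWith_ramIdx ((hs Q).1 hQ) t]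
        refine pow_le_pow_left₀ zero_le ?_ _
        rw [ht, ← lt_one_iff_le]; exact h1
      rw [map_mul]
      exact (mul_le_mul' h2 ((hs' _).1 (b i).2 Q hQ)).trans_eq (mul_one _)
    · intro hy
      have hq : (y : K') / algebraMap K K' t ∈ R := (hs' _).2 fun Q hQ => by
        rw [map_div₀, hvt Q hQ]
        exact div_le_one_of_le₀ (hy Q hQ) zero_le
      have hyt : y = tO • (⟨_, hq⟩ : R) := Subtype.ext <| by
        rw [Algebra.smul_def, MulMemClass.coe_mul]
        exact (mul_div_cancel₀ _ fun e0 => ht0 ((algebraMap K K').injective (e0.trans (map_zero _).symm))).symm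
      ext i
      show ψ (b.repr y i) = 0
      rw [hyt, map_smul, Finsupp.smul_apply, smul_eq_mul, map_mul,
        (residueK_eq_iff h P tO 0).2 (by
          rw [map_zero, sub_zero]; show P.1 t < 1; rw [ht, ← exp_zero, exp_lt_exp]; norm_num), zero_mul]
  have hsurjφ : Function.Surjective φ := fun v => by
    refine ⟨∑ i, algebraMap k P.O (v i) • b i, ?_⟩
    ext i
    show ψ (b.repr _ i) = v i
    rw [b.repr_sum_self]
    exact residueK_algebraMap h P (v i)
  let W : (Place k K' → ℤ) → Submodule k (Module.Free.ChooseBasisIndex P.O R → k) :=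
    fun c => (L c).map φ
  have hW : ∀ c : Place k K' → ℤ, (∀ Q ∈ s, 0 ≤ c Q ∧ c Q ≤ e Q) →
      (finrank k (W c) : ℤ) = ∑ Q ∈ s, (e Q - c Q) := fun c hc => by
    have hr := rel_loc hff s (fun Q => -e Q) (fun Q => -c Q) fun Q hQ => neg_le_neg (hc Q hQ).2
    have hin : ∀ y ∈ loc s (fun Q => -c Q), y ∈ R := fun y hy => (hs' y).2 fun Q hQ => by
      refine (mem_loc.1 hy Q hQ).trans ?_
      rw [← exp_zero, exp_le_exp]
      linarith [(hc Q hQ).1]
    let f : loc s (fun Q => -c Q) →ₗ[k] W c :=
      (φ ∘ₗ { toFun := fun y => (⟨y.1, hin y.1 y.2⟩ : R)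
              map_add' := fun _ _ => rfl
              map_smul' := fun r y => Subtype.ext rfl }).codRestrict (W c)
        fun y => Submodule.mem_map.2 ⟨⟨y.1, hin y.1 y.2⟩, y.2, rfl⟩
    have hf : Function.Surjective f := by
      rintro ⟨v, hv⟩
      obtain ⟨y, hy, rfl⟩ := Submodule.mem_map.1 hv
      exact ⟨⟨(y : K'), hy⟩, Subtype.ext rfl⟩
    have hkf : LinearMap.ker f =
        (loc s fun Q => -e Q).comap (loc s fun Q => -c Q).subtype := by
      ext y
      rw [LinearMap.mem_ker, Submodule.mem_comap, ← Subtype.coe_inj]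
      exact hker _
    have heq := Rel.of_surjective (p := loc s fun Q => -e Q) hr.le f hf hkf
    rw [← heq.eq, hr.eq]
    refine Finset.sum_congr rfl fun Q _ => ?_
    rw [deg_eq_one hff Q, Nat.cast_one, mul_one]
    ring
  have hinv : ∀ c : Place k K' → ℤ, W c ≤ (W c).comap G := fun c => by
    rintro v hv
    obtain ⟨y, hy, rfl⟩ := Submodule.mem_map.1 hv
    refine Submodule.mem_comap.2 ?_
    rw [hG]
    refine Submodule.mem_map.2 ⟨z * y, (hmemL c _).2 fun Q hQ => ?_, rfl⟩
    rw [MulMemClass.coe_mul, map_mul]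
    exact (mul_le_of_le_one_left' ((hs' g).1 hgR Q hQ)).trans ((hmemL c y).1 hy Q hQ)
  -- the determinant along the filtration
  have key : ∀ (n : ℕ) (c : Place k K' → ℤ), (∀ Q ∈ s, 0 ≤ c Q ∧ c Q ≤ e Q) →
      ∑ Q ∈ s, (e Q - c Q) = n →
      LinearMap.det (G.restrict (hinv c)) = ∏ Q ∈ s, a Q ^ (e Q - c Q).toNat := by
    intro n
    induction n with
    | zero =>
      intro c hc hn
      have h0 : finrank k (W c) = 0 := by
        have := hW c hc
        rw [hn] at this
        exact_mod_cast this
      haveI : Subsingleton (W c) := Module.finrank_zero_iff.1 h0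
      rw [LinearMap.det_eq_one_of_subsingleton, Finset.prod_eq_one]
      intro Q hQ
      have hz := (Finset.sum_eq_zero_iff_of_nonneg fun R hR => sub_nonneg.2 (hc R hR).2).1 hn Q hQ
      rw [hz]; simp
    | succ n ih =>
      intro c hc hn
      obtain ⟨Q₀, hQ₀, hlt⟩ : ∃ Q₀ ∈ s, c Q₀ < e Q₀ := by
        by_contra! hall
        have : ∑ Q ∈ s, (e Q - c Q) ≤ 0 := Finset.sum_nonpos fun Q hQ => sub_nonpos.2 (hall Q hQ)
        omega
      set c' := Function.update c Q₀ (c Q₀ + 1) with hc'
      have hc'0 : c' Q₀ = c Q₀ + 1 := Function.update_self _ _ _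
      have hc'1 : ∀ Q, Q ≠ Q₀ → c' Q = c Q := fun Q hQ => Function.update_of_ne hQ _ _
      have hb' : ∀ Q ∈ s, 0 ≤ c' Q ∧ c' Q ≤ e Q := fun Q hQ => by
        rcases eq_or_ne Q Q₀ with rfl | hne
        · rw [hc'0]; exact ⟨by linarith [(hc Q hQ).1], hlt⟩
        · rw [hc'1 Q hne]; exact hc Q hQ
      have hsum : ∑ Q ∈ s, (e Q - c' Q) = n := by
        rw [← Finset.add_sum_erase _ _ hQ₀, Finset.sum_congr rfl (fun Q hQ => by
          rw [hc'1 Q (Finset.ne_of_mem_erase hQ)]), hc'0]
        rw [← Finset.add_sum_erase _ _ hQ₀] at hn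
        push_cast at hn ⊢
        linarith
      have hle : W c' ≤ W c := Submodule.map_mono fun y hy => (hmemL c y).2 fun Q hQ => by
        refine ((hmemL c' y).1 hy Q hQ).trans (exp_le_exp.2 ?_)
        rcases eq_or_ne Q Q₀ with rfl | hne
        · rw [hc'0]; linarith
        · rw [hc'1 Q hne]
      set W' := (W c').comap (W c).subtype with hW'
      have hW'inv : W' ≤ W'.comap (G.restrict (hinv c)) := fun v hv => hinv c' hv
      have hquot : W'.mapQ W' (G.restrict (hinv c)) hW'inv = a Q₀ • LinearMap.id := by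
        refine LinearMap.ext fun q => ?_
        obtain ⟨⟨v, hv⟩, rfl⟩ := Submodule.mkQ_surjective _ q
        obtain ⟨y, hy, rfl⟩ := Submodule.mem_map.1 hv
        rw [Submodule.mkQ_apply, Submodule.mapQ_apply, LinearMap.smul_apply, LinearMap.id_apply,
          ← Submodule.Quotient.mk_smul, Submodule.Quotient.eq]
        show G (φ y) - a Q₀ • φ y ∈ W c'
        rw [hG, ← map_smul, ← map_sub]
        refine Submodule.mem_map.2 ⟨_, (hmemL c' _).2 fun Q hQ => ?_, rfl⟩
        have hcoe : ((z * y - a Q₀ • y : R) : K') = (g - algebraMap k K' (a Q₀)) * (y : K') := by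
          rw [sub_mul, ← Algebra.smul_def]; rfl
        rw [hcoe, map_mul]
        rcases eq_or_ne Q Q₀ with rfl | hne
        · rw [hc'0, neg_add, add_comm, exp_add]
          exact mul_le_mul' ((lt_one_iff_le _).1 (ha Q hQ)) ((hmemL c y).1 hy Q hQ)
        · rw [hc'1 Q hne]
          refine (mul_le_of_le_one_left' ?_).trans ((hmemL c y).1 hy Q hQ)
          exact (Valuation.map_sub _ _ _).trans (max_le ((hs' g).1 hgR Q hQ) (Q.2.1 _))
      have hrankq : finrank k (W c ⧸ W') = 1 := by
        have h1 := Submodule.finrank_quotient_add_finrank W'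
        rw [(Submodule.comapSubtypeEquivOfLe hle).finrank_eq] at h1
        have h2 := hW c hc
        have h3 := hW c' hb'
        rw [hn] at h2
        rw [hsum] at h3
        push_cast at h2 h3
        omega
      have hdet' : LinearMap.det (M := ↥W') ((G.restrict (hinv c)).restrict hW'inv : ↥W' →ₗ[k] ↥W') =
          LinearMap.det (G.restrict (hinv c')) := by
        exact ((LinearMap.det_conj (M := ↥W') (N := ↥(W c'))
          ((G.restrict (hinv c)).restrict hW'inv : ↥W' →ₗ[k] ↥W')
          (Submodule.comapSubtypeEquivOfLe hle : ↥W' ≃ₗ[k] ↥(W c'))).symm).trans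
          (congrArg LinearMap.det (LinearMap.ext fun v => Subtype.ext rfl))
      haveI : Module.Free k ↥W' := Module.Free.of_divisionRing k ↥W'
      haveI : Module.Free k (↥(W c) ⧸ W') := Module.Free.of_divisionRing k _
      rw [LinearMap.det_eq_det_mul_det W' _ hW'inv, hdet', ih c' hb' hsum, hquot, LinearMap.det_smul,
        LinearMap.det_id, mul_one, hrankq, pow_one, ← Finset.mul_prod_erase _ _ hQ₀,
        ← Finset.mul_prod_erase _ _ hQ₀, mul_right_comm, ← pow_succ]
      congr 1
      · congr 1
        rw [hc'0]; omega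
      · exact Finset.prod_congr rfl fun Q hQ => by rw [hc'1 Q (Finset.ne_of_mem_erase hQ)]
  have htop : W (fun _ => 0) = ⊤ := by
    rw [eq_top_iff]
    rintro v -
    obtain ⟨y, rfl⟩ := hsurjφ v
    exact Submodule.mem_map.2 ⟨y, (hmemL _ y).2 fun Q hQ => by simpa using (hs' _).1 y.2 Q hQ, rfl⟩
  have hfin := key (∑ Q ∈ s, ramIdx Q P) (fun _ => 0) (fun Q _ => ⟨le_rfl, Int.natCast_nonneg _⟩)
    (by push_cast; simp [e])
  have hdetG : LinearMap.det (G.restrict (hinv fun _ => 0)) = LinearMap.det G := by
    rw [← LinearMap.det_conj (G.restrict (hinv fun _ => 0)) (LinearEquiv.ofTop _ htop)]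
    congr 1
  have hnorm : Algebra.norm K g = (Algebra.norm P.O z : K) :=
    Algebra.norm_localization P.O (nonZeroDivisors P.O) z
  rw [hnorm, ← residueK_eq_iff h P]
  refine (hdet.trans (hdetG.symm.trans hfin)).trans ?_
  refine Finset.prod_congr rfl fun Q _ => ?_
  simp [e]

end Groth.Agent.FunField
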