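import Groth.Agent.Lib.FunField.Rational
import Mathlib.LinearAlgebra.Matrix.ToLinearEquiv
import Mathlib.LinearAlgebra.Matrix.Determinant.Basic

/-! # Wronskians and the Plücker bound in genus zero -/

namespace Groth.Agent.FunField

open WithZero FunFld Matrix
open scoped Multiplicative

variable {k K : Type*} [Field k] [Field K] [Algebra k K]

/-- The Wronskian matrix of `f` with respect to `δ`. -/
def wrMatrix (δ : Derivation k K K) {n : ℕ} (f : Fin n → K) : Matrix (Fin n) (Fin n) K :=
  Matrix.of fun i j => (⇑δ)^[(i : ℕ)] (f j)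

theorem det_wrMatrix_ne_zero (δ : Derivation k K K)
    (hδ : ∀ c : K, δ c = 0 → c ∈ Set.range (algebraMap k K)) :
    ∀ {n : ℕ} (f : Fin n → K), LinearIndependent k f → (wrMatrix δ f).det ≠ 0 := by
  intro n
  induction n with
  | zero => intro f _; simp [Matrix.det_fin_zero]
  | succ n ih =>
    intro f hf hdet
    have hf' := hf.comp Fin.castSucc (Fin.castSucc_injective n)
    have hinj : ∀ w : Fin n → K, (wrMatrix δ (f ∘ Fin.castSucc)).mulVec w = 0 → w = 0 := by
      intro w hw
      by_contra hne
      exact ih _ hf' (exists_mulVec_eq_zero_iff.1 ⟨w, hne, hw⟩)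
    obtain ⟨v, hv0, hv⟩ := exists_mulVec_eq_zero_iff.2 hdet
    have hvi : ∀ i : Fin (n + 1), ∑ j, (⇑δ)^[(i : ℕ)] (f j) * v j = 0 := fun i => congrFun hv i
    have hlast : v (Fin.last n) ≠ 0 := by
      intro h0
      refine hv0 (funext fun j => ?_)
      have := hinj (v ∘ Fin.castSucc) (funext fun i => by
        have := hvi i.castSucc
        rw [Fin.sum_univ_castSucc, h0, mul_zero, add_zero] at this
        simpa [wrMatrix, Matrix.mulVec, dotProduct] using this)
      induction j using Fin.lastCases with
      | last => exact h0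
      | cast j => exact congrFun this j
    let u : Fin (n + 1) → K := fun j => v j / v (Fin.last n)
    have hui : ∀ i : Fin (n + 1), ∑ j, (⇑δ)^[(i : ℕ)] (f j) * u j = 0 := fun i => by
      simp only [u, div_eq_mul_inv, ← mul_assoc, ← Finset.sum_mul, hvi i, zero_mul]
    have hu1 : u (Fin.last n) = 1 := div_self hlast
    have hD : ∀ j, δ (u j) = 0 := by
      have := hinj (fun j => δ (u j.castSucc)) (funext fun i => by
        have h1 := congrArg δ (hui i.castSucc)
        rw [map_sum, map_zero] at h1
        simp only [Derivation.leibniz, smul_eq_mul, Finset.sum_add_distrib] at h1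
        have h2 : ∑ j, u j * δ ((⇑δ)^[(i : ℕ)] (f j)) = 0 := by
          rw [← hui i.succ]
          refine Finset.sum_congr rfl fun j _ => ?_
          rw [Fin.val_succ, Function.iterate_succ_apply', mul_comm]
        simp only [Fin.val_castSucc] at h1
        rw [h2, add_zero, Fin.sum_univ_castSucc, hu1, Derivation.map_one_eq_zero, mul_zero,
          add_zero] at h1
        simpa [wrMatrix, Matrix.mulVec, dotProduct] using h1)
      intro j
      induction j using Fin.lastCases with
      | last => rw [hu1, Derivation.map_one_eq_zero]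
      | cast j => exact congrFun this j
    choose c hc using fun j => hδ _ (hD j)
    have h0 : ∑ j, c j • f j = 0 := by
      rw [← hui 0]
      exact Finset.sum_congr rfl fun j _ => by simp [Algebra.smul_def, hc, mul_comm]
    have := Fintype.linearIndependent_iff.1 hf c h0 (Fin.last n)
    have hh := hc (Fin.last n)
    rw [this, map_zero, hu1] at hh
    exact zero_ne_one hh

theorem prod_exp {ι : Type*} (s : Finset ι) (g : ι → ℤ) :
    ∏ i ∈ s, exp (g i) = exp (∑ i ∈ s, g i) := by
  classical
  induction s using Finset.induction_on with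
  | empty => simp
  | insert a s ha ih => rw [Finset.prod_insert ha, Finset.sum_insert ha, ih, exp_add]

/-- Bounding a determinant. -/
theorem val_det_le (P : Place k K) {n : ℕ} (M : Matrix (Fin n) (Fin n) K) (α β : Fin n → ℤ)
    (h : ∀ i j, P.1 (M i j) ≤ exp (α i + β j)) : P.1 M.det ≤ exp (∑ i, α i + ∑ j, β j) := by
  rw [Matrix.det_apply]
  refine P.1.map_sum_le fun σ _ => ?_
  have hs : ∀ y : K, P.1 (Equiv.Perm.sign σ • y) = P.1 y := fun y => by
    rcases Int.units_eq_one_or (Equiv.Perm.sign σ) with e | e <;> simp [e, Valuation.map_neg]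
  rw [hs, map_prod]
  refine le_trans (Finset.prod_le_prod (fun i _ => zero_le) fun i _ => h (σ i) i) ?_
  rw [prod_exp, Finset.sum_add_distrib, Equiv.sum_comp σ α]

theorem exists_adapted [IsAlgClosed k] (h : FF k K) {D : Divisor k K} {d : ℕ} (hD : D.deg = d)
    (P : Place k K) : ∀ (s : ℕ) (V : Submodule k K), V ≤ FunFld.L D → Module.finrank k V = s →
    ∃ (b : Fin s → K) (m : Fin s → ℕ), LinearIndependent k b ∧ (∀ j, b j ∈ V) ∧
      (∀ j, b j ∈ FunFld.L (D - Finsupp.single P (m j : ℤ))) ∧ wSum V D P d = ∑ j, m j := by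
  intro s
  induction s with
  | zero =>
    intro V hV h0
    refine ⟨Fin.elim0, Fin.elim0, linearIndependent_empty_type, fun j => j.elim0,
      fun j => j.elim0, ?_⟩
    simp only [Finset.univ_eq_empty, Finset.sum_empty, wSum]
    exact Finset.sum_eq_zero fun n _ => Nat.le_zero.1 ((hDim_le h hV P _).trans h0.le)
  | succ s ih =>
    intro V hV hs
    haveI := finiteDimensional_of_le_L h hV
    classical
    have hex : ∃ n : ℕ, hDim V D P ((n : ℤ) + 1) < s + 1 :=
      ⟨d, by rw [hDim_eq_zero h P (by omega)]; omega⟩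
    set n := Nat.find hex
    have hn : hDim V D P ((n : ℤ) + 1) < s + 1 := Nat.find_spec hex
    have hnd : n ≤ d := Nat.find_min' hex (by rw [hDim_eq_zero h P (by omega)]; omega)
    have hbelow : ∀ j : ℕ, j ≤ n → hDim V D P (j : ℤ) = s + 1 := by
      intro j hj
      rcases Nat.eq_zero_or_pos j with rfl | hj0
      · rw [Nat.cast_zero, hDim_zero hV, hs]
      · have h1 := Nat.find_min hex (show j - 1 < n by omega)
        rw [show (((j - 1 : ℕ) : ℤ) + 1) = j by omega] at h1
        have := (hDim_le h hV P (j : ℤ)).trans hs.le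
        omega
    set U := V ⊓ FunFld.L (D - Finsupp.single P ((n : ℤ) + 1)) with hU
    have hU' : Module.finrank k U = s := by
      have h1 := hDim_le_add_nat h hV P (n : ℤ)
      rw [hbelow n le_rfl] at h1
      change s + 1 ≤ Module.finrank k U + 1 at h1
      change Module.finrank k U < s + 1 at hn
      omega
    obtain ⟨b, m, hb, hbV, hbL, hW⟩ := ih U (inf_le_left.trans hV) hU'
    have hVn : V ≤ FunFld.L (D - Finsupp.single P (n : ℤ)) := by
      have h1 : V ⊓ FunFld.L (D - Finsupp.single P (n : ℤ)) = V :=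
        Submodule.eq_of_le_of_finrank_eq inf_le_left (by rw [hs]; exact hbelow n le_rfl)
      exact inf_eq_left.1 h1
    have hnotle : ¬ V ≤ U := fun hle => by
      have := Submodule.finrank_mono hle
      haveI := Submodule.finiteDimensional_inf_left V (FunFld.L (D - Finsupp.single P ((n : ℤ) + 1)))
      omega
    obtain ⟨e, heV, heU⟩ := SetLike.not_le_iff_exists.1 hnotle
    refine ⟨Fin.cons e b, Fin.cons n m, ?_, ?_, ?_, ?_⟩
    · refine linearIndependent_fin_cons.2 ⟨hb, fun hmem => heU ?_⟩
      exact Submodule.span_le.2 (Set.range_subset_iff.2 hbV) hmem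
    · intro j
      induction j using Fin.cases with
      | zero => simpa using heV
      | succ j => simpa using (Submodule.mem_inf.1 (hbV j)).1
    · intro j
      induction j using Fin.cases with
      | zero => simpa using hVn heV
      | succ j => simpa using hbL j
    · rw [Fin.sum_univ_succ, Fin.cons_zero]
      simp only [Fin.cons_succ]
      rw [← hW]
      have key : ∀ j ∈ Finset.range d, hDim V D P ((j : ℤ) + 1) =
          hDim U D P ((j : ℤ) + 1) + if j < n then 1 else 0 := by
        intro j _
        split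
        · rename_i hj
          have h1 := hbelow (j + 1) hj
          push_cast at h1
          rw [h1, hDim, hU, inf_assoc, inf_eq_left.2 (L_mono (sub_le_sub_left
            (single_le_single P (by omega : (j : ℤ) + 1 ≤ (n : ℤ) + 1)) D))]
          change s + 1 = Module.finrank k U + 1
          omega
        · rename_i hj
          rw [add_zero, hDim, hDim, hU, inf_assoc, inf_eq_right.2 (L_mono (sub_le_sub_left
            (single_le_single P (by omega : (n : ℤ) + 1 ≤ (j : ℤ) + 1)) D))]
      rw [wSum, Finset.sum_congr rfl key, Finset.sum_add_distrib, wSum, add_comm, Finset.sum_boole]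
      congr 1
      rw [show (Finset.range d).filter (fun j => j < n) = Finset.range n by
        ext j; simp; omega]
      simp

/-- Plücker bound in genus zero. -/
theorem plucker_bound [IsAlgClosed k] [CharZero k] (hK : IsFunctionField k K) (hg : genus k K = 0)
    {D : Divisor k K} {d r : ℕ} (hD : D.deg = d) {V : Submodule k K} (hV : V ≤ FunFld.L D)
    (hr : Module.finrank k V = r + 1) (S : Finset (Place k K)) :
    2 * (∑ P ∈ S, (wSum V D P d : ℤ)) + 2 * ((r : ℤ) * (r + 1)) ≤
      2 * ((r : ℤ) + 1) * d + (S.card : ℤ) * ((r : ℤ) * (r + 1)) := by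
  classical
  have h := ff hK
  obtain ⟨c⟩ := exists_coord hK hg
  haveI := finiteDimensional_of_le_L h hV
  let e := Module.finBasisOfFinrankEq k V hr
  let W := (wrMatrix c.D fun j => (e j : K)).det
  have hW : W ≠ 0 := det_wrMatrix_ne_zero c.D (fun _ => c.D_eq_zero) _
    (e.linearIndependent.map' V.subtype V.ker_subtype)
  let T : ℤ := ∑ i : Fin (r + 1), (i : ℤ)
  have hT : 2 * T = (r : ℤ) * (r + 1) := by
    simp only [T]
    rw [Fin.sum_univ_eq_sum_range (fun i => (i : ℤ))]
    have := Finset.sum_range_id_mul_two (r + 1)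
    have h2 : ((∑ i ∈ Finset.range (r + 1), i : ℕ) : ℤ) * 2 = ((r + 1) * r : ℕ) := by
      rw [← Nat.cast_two, ← Nat.cast_mul, this]; simp
    push_cast at h2
    linarith
  have key : ∀ (P : Place k K) (σ : ℤ),
      (∀ f b, P.1 f ≤ exp b → P.1 (c.D f) ≤ exp (b + σ)) →
      (wSum V D P d : ℤ) ≤ P.ord W + ((r : ℤ) + 1) * D P + σ * T := by
    intro P σ hσ
    obtain ⟨b, m, hb, hbV, hbL, hWm⟩ := exists_adapted h hD P (r + 1) V hV hr
    have hiter : ∀ (i : ℕ) f a, P.1 f ≤ exp a → P.1 ((⇑c.D)^[i] f) ≤ exp ((i : ℤ) * σ + a) := by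
      intro i
      induction i with
      | zero => intro f a hf; simpa using hf
      | succ i ih =>
        intro f a hf
        rw [Function.iterate_succ_apply']
        refine (hσ _ _ (ih f a hf)).trans_eq (congrArg exp ?_)
        push_cast; ring
    have hdet := val_det_le P (wrMatrix c.D b) (fun i => (i : ℤ) * σ) (fun j => D P - m j)
      fun i j => hiter i _ _ (by simpa using hbL j P)
    let C : Matrix (Fin (r + 1)) (Fin (r + 1)) k := Matrix.of fun i j => e.repr ⟨b j, hbV j⟩ i
    have hmul : wrMatrix c.D b = wrMatrix c.D (fun j => (e j : K)) * C.map (algebraMap k K) := by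
      refine Matrix.ext fun i j => ?_
      have hbj : b j = ∑ l, C l j • (e l : K) := by
        have := congrArg V.subtype (e.sum_repr ⟨b j, hbV j⟩)
        rw [map_sum] at this
        exact this.symm.trans (Finset.sum_congr rfl fun l _ => rfl)
      rw [Matrix.mul_apply]
      show (⇑c.D)^[(i : ℕ)] (b j) = _
      have hlin : ⇑((c.D : K →ₗ[k] K) ^ (i : ℕ)) = (⇑c.D)^[(i : ℕ)] :=
        Module.End.coe_pow _ _
      rw [hbj, ← hlin, map_sum]
      refine Finset.sum_congr rfl fun l _ => ?_
      rw [map_smul, Algebra.smul_def, hlin, mul_comm]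
      rfl
    have hbW : (wrMatrix c.D b).det ≠ 0 := det_wrMatrix_ne_zero c.D (fun _ => c.D_eq_zero) _ hb
    have hvC : P.1 ((C.map (algebraMap k K)).det) = 1 := by
      rw [← RingHom.mapMatrix_apply, ← RingHom.map_det]
      refine val_const P fun h0 => hbW ?_
      rw [hmul, Matrix.det_mul, ← RingHom.mapMatrix_apply, ← RingHom.map_det, h0, map_zero, mul_zero]
    rw [hmul, Matrix.det_mul, map_mul, hvC, mul_one, val_eq_exp_neg_ord P hW, exp_le_exp,
      ← Finset.sum_mul, Finset.sum_sub_distrib, Finset.sum_const, Finset.card_univ,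
      Fintype.card_fin, nsmul_eq_mul] at hdet
    rw [hWm, Nat.cast_sum]
    push_cast at hdet
    linarith
  let E : Divisor k K := (2 : ℕ) • (FunFld.div k W + (r + 1) • D) -
    Finsupp.single c.R (2 * ((r : ℤ) * (r + 1)))
  have hEdeg : E.deg = 2 * ((r : ℤ) + 1) * d - 2 * ((r : ℤ) * (r + 1)) := by
    rw [deg_sub, deg_smul, deg_add, deg_smul, deg_div h, hD, deg_single, deg_eq_one h]
    push_cast; ring
  have hE : ∀ P, 2 * (wSum V D P d : ℤ) - (r : ℤ) * (r + 1) ≤ E P := by
    intro P
    have hEP : E P = 2 * (P.ord W + ((r : ℤ) + 1) * D P) -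
        (Finsupp.single c.R (2 * ((r : ℤ) * (r + 1))) : Divisor k K) P := by
      simp [E, div_apply h]; ring
    rcases eq_or_ne P c.R with hP | hP
    · have := key P (-1) (fun f b hf => by rw [hP] at hf ⊢; exact c.val_D_pole f b hf)
      rw [hEP, hP, Finsupp.single_eq_same]
      rw [hP] at this
      linarith
    · have := key P 1 (fun f b hf => c.val_D_finite hK hP f b hf)
      rw [hEP, Finsupp.single_eq_of_ne hP]
      linarith
  have hrd : r ≤ d := by have := finrank_le_deg_succ hK hV hD; omega
  have hnn : ∀ P, 0 ≤ E P := fun P => by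
    have h1 := hE P
    have h2 := two_mul_wSum_ge h hV (d := d) hr hrd P
    have h3 : ((r * (r + 1) : ℕ) : ℤ) ≤ ((2 * wSum V D P d : ℕ) : ℤ) := by exact_mod_cast h2
    push_cast at h3
    omega
  have h4 : ∑ P ∈ S, (2 * (wSum V D P d : ℤ) - (r : ℤ) * (r + 1)) ≤ E.deg := by
    rw [deg_eq_sum E (E.support ∪ S) Finset.subset_union_left]
    refine le_trans (Finset.sum_le_sum fun P _ => ?_)
      (Finset.sum_le_sum_of_subset_of_nonneg Finset.subset_union_right
        fun P _ _ => mul_nonneg (hnn P) (Int.natCast_nonneg _))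
    rw [deg_eq_one h P, Nat.cast_one, mul_one]
    exact hE P
  rw [hEdeg, Finset.sum_sub_distrib, Finset.sum_const, nsmul_eq_mul, ← Finset.mul_sum] at h4
  linarith

end Groth.Agent.FunField
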