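import Groth.Agent.Lib.FunField.Proj

/-! # Projective maps given by tuples: bridge and criteria -/

namespace Groth.Agent.FunField

open WithZero FunFld
open scoped Multiplicative

variable {k K : Type*} [Field k] [Field K] [Algebra k K] {V : Submodule k K} {E : Divisor k K}

theorem mapDiv_apply (h : FF k K) {ι : Type*} [Fintype ι] [Nonempty ι] (φ : ι → K) (P : Place k K) :
    FunFld.mapDiv k φ P = -Finset.univ.inf' Finset.univ_nonempty (fun i => P.ord (φ i)) := by
  classical
  have hfin : (Function.support fun Q : Place k K =>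
      -Finset.univ.inf' Finset.univ_nonempty (fun i => Q.ord (φ i))).Finite := by
    refine (Finset.univ.biUnion fun i => (FunFld.div k (φ i)).support).finite_toSet.subset fun Q hQ => ?_
    by_contra hne
    simp only [Finset.coe_biUnion, Set.mem_iUnion, Finset.mem_coe, Finsupp.mem_support_iff,
      div_apply h, not_exists, not_not] at hne
    apply hQ
    obtain ⟨i, hi, hie⟩ := Finset.exists_mem_eq_inf' Finset.univ_nonempty fun i => Q.ord (φ i)
    show -Finset.univ.inf' Finset.univ_nonempty (fun i => Q.ord (φ i)) = 0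
    rw [hie, hne i hi, neg_zero]
  rw [FunFld.mapDiv, dif_pos hfin]
  rfl

theorem gen_mapDiv (h : FF k K) {ι : Type*} [Fintype ι] [Nonempty ι] {φ : ι → K} (hφ : ∀ i, φ i ≠ 0) :
    Gen (Submodule.span k (Set.range φ)) (FunFld.mapDiv k φ) := by
  refine ⟨Submodule.span_le.2 ?_, fun Q => ?_⟩
  · rintro _ ⟨i, rfl⟩
    refine (mem_L_iff_ord (hφ i)).2 fun Q => ?_
    have := Finset.inf'_le (fun i => Q.ord (φ i)) (Finset.mem_univ i)
    rw [mapDiv_apply h]
    omega
  · obtain ⟨i, -, hi⟩ := Finset.exists_mem_eq_inf' Finset.univ_nonempty fun i => Q.ord (φ i)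
    exact ⟨φ i, Submodule.subset_span ⟨i, rfl⟩, by rw [mapDiv_apply h, hi, val_eq_exp_neg_ord Q (hφ i)]⟩

theorem Gen.of_span {ι : Type*} {φ : ι → K} (hG : Gen (Submodule.span k (Set.range φ)) E)
    {P : Place k K} {j : ι} (hj : ∀ i, P.1 (φ i) ≤ P.1 (φ j)) : P.1 (φ j) = exp (E P) := by
  refine hG.eq_exp_of_max (Submodule.subset_span ⟨j, rfl⟩) fun v hv => ?_
  induction hv using Submodule.span_induction with
  | mem x hx => obtain ⟨i, rfl⟩ := hx; exact hj i
  | zero => simp
  | add x y _ _ hx hy => exact (P.1.map_add _ _).trans (max_le hx hy)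
  | smul c x _ hx =>
    rw [Algebra.smul_def, map_mul]; exact (mul_le_of_le_one_left' (P.2.1 c)).trans hx

theorem Gen.exists_index {ι' : Type*} [Finite ι'] [Nonempty ι'] {φ : ι' → K}
    (hG : Gen (Submodule.span k (Set.range φ)) E) (P : Place k K) :
    ∃ j, φ j ∈ Submodule.span k (Set.range φ) ∧ φ j ≠ 0 ∧ P.1 (φ j) = exp (E P) ∧
      ∀ i, P.1 (φ i) ≤ P.1 (φ j) := by
  obtain ⟨j, hj⟩ := Finite.exists_max fun i => P.1 (φ i)
  have := hG.of_span hj
  exact ⟨j, Submodule.subset_span ⟨j, rfl⟩, ne_zero_of_val this, this, hj⟩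

theorem Gen.deg_pos (hK : IsFunctionField k K) (hG : Gen V E)
    (hnc : ∀ f : K, ¬ V ≤ Submodule.span k {f}) : 0 < E.deg := by
  have h := ff hK
  obtain ⟨P⟩ := nonempty_place h
  refine lt_of_le_of_ne (hG.deg_nonneg h P) fun hd => ?_
  obtain ⟨f, hf, hfP⟩ := hG.ex P
  have hf0 : f ≠ 0 := ne_zero_of_val hfP
  have he : E + FunFld.div k f = 0 :=
    (eq_of_le_of_deg h ((mem_L_iff_div h hf0).1 (hG.le hf))
      (by rw [deg_add, deg_div h, deg_zero]; omega)).symm
  refine hnc f fun v hv => ?_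
  have hv' : v / f ∈ FunFld.L (0 : Divisor k K) := fun Q => by
    have hQ : Q.1 f = exp (E Q) := by
      have := DFunLike.congr_fun he Q
      simp only [Finsupp.add_apply, div_apply h, Finsupp.coe_zero, Pi.zero_apply] at this
      rw [val_eq_exp_neg_ord Q hf0]; congr 1; omega
    simpa using hG.val_div_le hQ hv
  rw [L_zero hK, Submodule.mem_one] at hv'
  obtain ⟨c, hc⟩ := hv'
  refine Submodule.mem_span_singleton.2 ⟨c, ?_⟩
  rw [Algebra.smul_def, hc, div_mul_cancel₀ _ hf0]

theorem not_le_span_singleton {n : ℕ} (hn : 1 ≤ n) {φ : Fin (n + 1) → K}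
    (hφ : LinearIndependent k φ) (f : K) :
    ¬ Submodule.span k (Set.range φ) ≤ Submodule.span k {f} := by
  intro hle
  have h1 := Submodule.finrank_mono hle
  rw [finrank_span_eq_card hφ, Fintype.card_fin] at h1
  have h2 := (finrank_span_le_card ({f} : Set K) (R := k)).trans (by simp : _ ≤ 1)
  omega

theorem gen_of_linearIndependent (hK : IsFunctionField k K) {n : ℕ} (hn : 1 ≤ n)
    {φ : Fin (n + 1) → K} (hφ : LinearIndependent k φ) :
    Gen (Submodule.span k (Set.range φ)) (FunFld.mapDiv k φ) ∧ 0 < (FunFld.mapDiv k φ).deg :=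
  have hG := gen_mapDiv (ff hK) hφ.ne_zero
  ⟨hG, hG.deg_pos hK (not_le_span_singleton hn hφ)⟩

theorem chA_span {ι : Type*} (φ : ι → K) (f : K) :
    chA (Submodule.span k (Set.range φ)) f = Algebra.adjoin k (Set.range fun i => φ i / f) := by
  refine le_antisymm (Algebra.adjoin_le ?_) (Algebra.adjoin_mono ?_)
  · rintro _ ⟨v, hv, rfl⟩
    show v / f ∈ _
    induction hv using Submodule.span_induction with
    | mem x hx => obtain ⟨i, rfl⟩ := hx; exact Algebra.subset_adjoin ⟨i, rfl⟩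
    | zero => simp
    | add x y _ _ hx hy => rw [add_div]; exact add_mem hx hy
    | smul c x _ hx =>
      rw [Algebra.smul_def, mul_div_assoc, ← Algebra.smul_def]; exact Subalgebra.smul_mem _ hx c
  · rintro _ ⟨i, rfl⟩; exact ⟨φ i, Submodule.subset_span ⟨i, rfl⟩, rfl⟩

theorem chA_transfer {f f' : K} (hf : f ∈ V) (hf0 : f ≠ 0) (hf'0 : f' ≠ 0) {u : K}
    (hu : u ∈ chA V f) : ∃ N : ℕ, ∀ m ≥ N, u * (f / f') ^ m ∈ chA V f' := by
  have hr : f / f' ∈ chA V f' := div_mem_chA hf
  refine Algebra.adjoin_induction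
    (p := fun x _ => ∃ N : ℕ, ∀ m ≥ N, x * (f / f') ^ m ∈ chA V f') ?_ ?_ ?_ ?_ hu
  · rintro _ ⟨v, hv, rfl⟩
    refine ⟨1, fun m hm => ?_⟩
    rw [show v / f * (f / f') ^ m = v / f' * (f / f') ^ (m - 1) by
      conv_lhs => rw [show m = (m - 1) + 1 by omega, pow_succ]
      field_simp]
    exact mul_mem (div_mem_chA hv) (pow_mem hr _)
  · exact fun c => ⟨0, fun m _ => mul_mem (Subalgebra.algebraMap_mem _ c) (pow_mem hr m)⟩
  · rintro x y _ _ ⟨a, ha⟩ ⟨b, hb⟩
    refine ⟨max a b, fun m hm => ?_⟩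
    rw [add_mul]
    exact add_mem (ha m (le_trans (le_max_left _ _) hm)) (hb m (le_trans (le_max_right _ _) hm))
  · rintro x y _ _ ⟨a, ha⟩ ⟨b, hb⟩
    refine ⟨a + b, fun m hm => ?_⟩
    rw [show x * y * (f / f') ^ m = (x * (f / f') ^ a) * (y * (f / f') ^ (m - a)) by
      rw [show (f / f') ^ m = (f / f') ^ a * (f / f') ^ (m - a) by
        rw [← pow_add]; congr 1; omega]
      ring]
    exact mul_mem (ha a le_rfl) (hb _ (by omega))

theorem locR_le_locR {f f' : K} {P : Place k K} (hf : f ∈ V) (hf0 : f ≠ 0)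
    (heq : P.1 f = P.1 f') : locR V f P ≤ locR V f' P := by
  have hf'0 : f' ≠ 0 := fun e => hf0 (by rwa [e, map_zero, map_eq_zero] at heq)
  rintro z ⟨w, hw, hw1, hzw⟩
  obtain ⟨a, ha⟩ := chA_transfer hf hf0 hf'0 hw
  obtain ⟨b, hb⟩ := chA_transfer hf hf0 hf'0 hzw
  refine ⟨w * (f / f') ^ (a + b), ha _ (Nat.le_add_right a b), ?_, ?_⟩
  · rw [map_mul, hw1, map_pow, map_div₀, ← heq, div_self (by simp [hf0]), one_pow, one_mul]
  · rw [← mul_assoc]; exact hb _ (Nat.le_add_left b a)

theorem inLocRing_iff {ι : Type*} {φ : ι → K} (hG : Gen (Submodule.span k (Set.range φ)) E)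
    {P : Place k K} {f : K} (hf : f ∈ Submodule.span k (Set.range φ)) (hfP : P.1 f = exp (E P))
    (hex : ∃ j, ∀ i, P.1 (φ i) ≤ P.1 (φ j)) (z : K) :
    InLocRing φ P z ↔ z ∈ locR (Submodule.span k (Set.range φ)) f P := by
  constructor
  · rintro ⟨j, hj0, hj, u, hu, w, hw, hw1, hzw⟩
    have hjP := hG.of_span hj
    refine locR_le_locR (V := Submodule.span k (Set.range φ)) (Submodule.subset_span ⟨j, rfl⟩) hj0
      (hjP.trans hfP.symm)
      (show z ∈ locR _ (φ j) P from ⟨w, ?_, hw1, ?_⟩)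
    · rw [chA_span]; exact hw
    · rw [chA_span, hzw]; exact hu
  · intro hz
    obtain ⟨j, hj⟩ := hex
    have hjP := hG.of_span hj
    obtain ⟨w, hw, hw1, hzw⟩ := locR_le_locR hf (ne_zero_of_val hfP) (hfP.trans hjP.symm) hz
    rw [chA_span] at hw hzw
    exact ⟨j, ne_zero_of_val hjP, hj, _, hzw, w, hw, hw1, rfl⟩

theorem Gen.sm_chart (hG : Gen V E) (hK : IsFunctionField k K) [IsAlgClosed k] {f f' : K}
    {P Q : Place k K} (hf' : f' ∈ V) (hfP : P.1 f = exp (E P))
    (hf'P : P.1 f' = exp (E P)) (hS : Sm V E f P Q) : Sm V E f' P Q := by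
  obtain ⟨hfQ, hc⟩ := hS
  obtain ⟨b, hbP, hbQ⟩ := hc f' hf'
  have hb : b ≠ 0 := fun e => by
    rw [e, map_zero, sub_zero, map_div₀, hfP, hf'P, div_self exp_ne_zero] at hbP
    exact lt_irrefl _ hbP
  have hQ1 : Q.1 (f' / f) = 1 := by
    rw [Valuation.map_eq_of_sub_lt Q.1 (x := algebraMap k K b) (by rwa [val_const Q hb]),
      val_const Q hb]
  rw [map_div₀, hfQ, div_eq_one_iff_eq exp_ne_zero] at hQ1
  refine ⟨hQ1, fun v hv => ?_⟩
  obtain ⟨a, haP, haQ⟩ := hc v hv
  have e : v / f' = (v / f) / (f' / f) := by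
    rw [div_div_div_cancel_right₀ (ne_zero_of_val hfP)]
  exact ⟨a / b, e ▸ near_div P haP hbP hb, e ▸ near_div Q haQ hbQ hb⟩

theorem sameImage_iff (hK : IsFunctionField k K) [IsAlgClosed k] {ι : Type*} [Finite ι] [Nonempty ι]
    {φ : ι → K} (hG : Gen (Submodule.span k (Set.range φ)) E) {P Q : Place k K} {f : K}
    (hf : f ∈ Submodule.span k (Set.range φ)) (hfP : P.1 f = exp (E P)) :
    SameImage φ P Q ↔ Sm (Submodule.span k (Set.range φ)) E f P Q := by
  constructor
  · rintro ⟨j, hj0, hjP, hjQ, hc⟩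
    refine hG.sm_chart hK hf (hG.of_span hjP) hfP ⟨hG.of_span hjQ, fun v hv => ?_⟩
    induction hv using Submodule.span_induction with
    | mem x hx => obtain ⟨i, rfl⟩ := hx; exact hc i
    | zero => exact ⟨0, by simp, by simp⟩
    | add x y _ _ hx hy =>
      obtain ⟨a, ha, ha'⟩ := hx
      obtain ⟨b, hb, hb'⟩ := hy
      have e : (x + y) / φ j - algebraMap k K (a + b) =
          (x / φ j - algebraMap k K a) + (y / φ j - algebraMap k K b) := by
        rw [map_add]; ring
      exact ⟨a + b, e ▸ (P.1.map_add _ _).trans_lt (max_lt ha hb),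
        e ▸ (Q.1.map_add _ _).trans_lt (max_lt ha' hb')⟩
    | smul c x _ hx =>
      obtain ⟨a, ha, ha'⟩ := hx
      have e : (c • x) / φ j - algebraMap k K (c * a) =
          algebraMap k K c * (x / φ j - algebraMap k K a) := by
        rw [Algebra.smul_def, map_mul]; ring
      refine ⟨c * a, ?_, ?_⟩ <;> rw [e, map_mul]
      · exact (mul_le_of_le_one_left' (P.2.1 c)).trans_lt ha
      · exact (mul_le_of_le_one_left' (Q.2.1 c)).trans_lt ha'
  · intro hS
    obtain ⟨j, hjV, hj0, hjP, hjm⟩ := hG.exists_index P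
    obtain ⟨hjQ, hc⟩ := hG.sm_chart hK hjV hfP hjP hS
    exact ⟨j, hj0, hjm, fun i => hjQ ▸ hG.le (Submodule.subset_span ⟨i, rfl⟩) Q,
      fun i => hc _ (Submodule.subset_span ⟨i, rfl⟩)⟩

theorem bir_of_adjoin {n : ℕ} {φ : Fin (n + 1) → K}
    (hbir : IntermediateField.adjoin k (Set.range fun i => φ i / φ 0) = ⊤) :
    Bir (Submodule.span k (Set.range φ)) := by
  intro f hf hf0 z
  have hle : IntermediateField.adjoin k (Set.range fun i => φ i / φ 0) ≤
      IntermediateField.adjoin k ((fun v => v / f) '' (Submodule.span k (Set.range φ) : Set K)) := by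
    refine IntermediateField.adjoin_le_iff.2 ?_
    rintro _ ⟨i, rfl⟩
    show φ i / φ 0 ∈ _
    rw [← div_div_div_cancel_right₀ hf0 (φ i) (φ 0)]
    exact div_mem (IntermediateField.subset_adjoin _ _ ⟨φ i, Submodule.subset_span ⟨i, rfl⟩, rfl⟩)
      (IntermediateField.subset_adjoin _ _ ⟨φ 0, Submodule.subset_span ⟨0, rfl⟩, rfl⟩)
  have hz : z ∈ IntermediateField.adjoin k
      ((fun v => v / f) '' (Submodule.span k (Set.range φ) : Set K)) := hle (hbir ▸ trivial)
  obtain ⟨r, hr, s, hs, rfl⟩ := IntermediateField.mem_adjoin_iff_div.1 hz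
  rcases eq_or_ne s 0 with rfl | hs0
  · exact ⟨0, zero_mem _, 1, one_mem _, one_ne_zero, by simp⟩
  · exact ⟨r, hr, s, hs, hs0, div_mul_cancel₀ _ hs0⟩

theorem Gen.finite_not_ns (hK : IsFunctionField k K) [IsAlgClosed k] {ι : Type*} [Fintype ι]
    [Nonempty ι] {φ : ι → K} (hG : Gen (Submodule.span k (Set.range φ)) E) (hd : 0 < E.deg)
    (hB : Bir (Submodule.span k (Set.range φ))) :
    {P : Place k K | ¬ IsNonsingularAt φ P}.Finite := by
  classical
  have h := ff hK
  let S : ι → Finset (Place k K) := fun j =>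
    if hj : φ j = 0 then ∅ else
      (FunFld.div k (hG.exists_conductor hK hd hB (Submodule.subset_span ⟨j, rfl⟩) hj).choose).support
  refine (Finset.univ.biUnion S).finite_toSet.subset fun P hP => ?_
  obtain ⟨j, hjV, hj0, hjP, hjm⟩ := hG.exists_index P
  simp only [Finset.coe_biUnion, Set.mem_iUnion, Finset.mem_coe]
  refine ⟨j, Finset.mem_univ _, ?_⟩
  simp only [S, dif_neg hj0]
  by_contra hnot
  rw [Finsupp.notMem_support_iff, div_apply h] at hnot
  have hspec := (hG.exists_conductor hK hd hB (Submodule.subset_span ⟨j, rfl⟩) hj0).choose_spec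
  refine hP fun z hz => (inLocRing_iff hG hjV hjP ⟨j, hjm⟩ z).2 ?_
  exact hG.ns_of_conductor_unit hK hd hjV hjP hspec.1 hspec.2.2 hnot hspec.2.1 z hz

theorem Gen.ns_of_unique_uniformizer (hK : IsFunctionField k K) [IsAlgClosed k] (hG : Gen V E)
    (hd : 0 < E.deg) (hB : Bir V) {f : K} (hf : f ∈ V) {P : Place k K} (hfP : P.1 f = exp (E P))
    (huniq : ∀ Q : Place k K, Sm V E f P Q → Q = P) {t : K} (ht : t ∈ locR V f P)
    (htP : P.1 t = exp (-1)) : ∀ z : K, P.1 z ≤ 1 → z ∈ locR V f P := by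
  intro z hz
  have key : ∀ N : ℕ, ∃ y ∈ locR V f P, P.1 (z - y) ≤ exp (-(N : ℤ)) := by
    intro N
    induction N with
    | zero => exact ⟨0, zero_mem _, by simpa using hz⟩
    | succ N ih =>
      obtain ⟨y, hy, hyN⟩ := ih
      have ht0 : t ≠ 0 := ne_zero_of_val htP
      have hq : P.1 ((z - y) / t ^ N) ≤ 1 := by
        rw [map_div₀, map_pow, htP, ← exp_nsmul, div_le_one₀ exp_pos]
        simpa using hyN
      obtain ⟨c, hc⟩ := exists_const_near (ff hK) P hq
      refine ⟨y + algebraMap k K c * t ^ N,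
        add_mem hy (mul_mem (Subalgebra.algebraMap_mem _ c) (pow_mem ht N)), ?_⟩
      rw [show z - (y + algebraMap k K c * t ^ N) = ((z - y) / t ^ N - algebraMap k K c) * t ^ N by
        rw [sub_mul, div_mul_cancel₀ _ (pow_ne_zero _ ht0)]; ring, map_mul, map_pow, htP, ← exp_nsmul]
      refine (mul_le_mul_left ((lt_one_iff_le _).1 hc) _).trans ?_
      rw [← exp_add, exp_le_exp]; simp
  obtain ⟨N, hN⟩ := hG.exists_bound hK hd hB hf hfP
  obtain ⟨y, hy, hyN⟩ := key N
  have := add_mem hy (hN (z - y) fun Q hQ => by rw [huniq Q hQ]; exact hyN)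
  simpa using this

theorem Gen.exists_uniformizer_div (hK : IsFunctionField k K) [IsAlgClosed k] (hG : Gen V E)
    {f : K} {P : Place k K} (hfP : P.1 f = exp (E P)) {t : K}
    (ht : t ∈ locR V f P) (htP : P.1 t = exp (-1)) :
    ∃ v ∈ V, ∃ c : k, P.1 (v / f - algebraMap k K c) = exp (-1) := by
  by_contra! hne
  have hgen : ∀ v ∈ V, ∃ c : k, P.1 (v / f - algebraMap k K c) ≤ exp (-2) := fun v hv => by
    obtain ⟨c, hc⟩ := exists_const_near (ff hK) P (hG.val_div_le hfP hv)
    refine ⟨c, ?_⟩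
    rcases eq_or_ne (v / f - algebraMap k K c) 0 with h0 | h0
    · rw [h0]; simp
    have h1 := (lt_one_iff_le _).1 hc
    have h2 := hne v hv c
    rw [val_eq_exp_neg_ord P h0] at h1 h2 ⊢
    rw [exp_le_exp] at h1 ⊢
    have : -P.ord (v / f - algebraMap k K c) ≠ -1 := fun e => h2 (by rw [e])
    omega
  have hle2 : ∀ {x y : K}, P.1 x ≤ exp (-2) → P.1 y ≤ 1 → P.1 (x * y) ≤ exp (-2) := fun hx hy => by
    rw [map_mul]; exact (mul_le_mul' hx hy).trans_eq (mul_one _)
  have hA : ∀ a ∈ chA V f, ∃ c : k, P.1 (a - algebraMap k K c) ≤ exp (-2) := fun a ha => by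
    refine Algebra.adjoin_induction
      (p := fun x _ => ∃ c : k, P.1 (x - algebraMap k K c) ≤ exp (-2)) ?_ ?_ ?_ ?_ ha
    · rintro _ ⟨v, hv, rfl⟩; exact hgen v hv
    · exact fun r => ⟨r, by simp⟩
    · rintro x y _ _ ⟨a, ha⟩ ⟨b, hb⟩
      refine ⟨a + b, ?_⟩
      rw [map_add, show x + y - (algebraMap k K a + algebraMap k K b) =
        (x - algebraMap k K a) + (y - algebraMap k K b) by ring]
      exact (P.1.map_add _ _).trans (max_le ha hb)
    · rintro x y hx _ ⟨a, ha⟩ ⟨b, hb⟩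
      refine ⟨a * b, ?_⟩
      rw [map_mul, show x * y - algebraMap k K a * algebraMap k K b =
        (y - algebraMap k K b) * x + (x - algebraMap k K a) * algebraMap k K b by ring]
      exact (P.1.map_add _ _).trans (max_le (hle2 hb (hG.chA_le f hx P hfP)) (hle2 ha (P.2.1 b)))
  obtain ⟨w, hw, hw1, htw⟩ := ht
  obtain ⟨c, hc⟩ := hA _ htw
  have htw1 : P.1 (t * w) = exp (-1) := by rw [map_mul, hw1, mul_one, htP]
  have hc0 : c = 0 := by
    refine (const_unique P (x := t * w) (a := 0) (b := c) ?_ (hc.trans_lt ?_)).symm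
    · rw [map_zero, sub_zero, htw1, ← exp_zero, exp_lt_exp]; norm_num
    · rw [← exp_zero, exp_lt_exp]; norm_num
  rw [hc0, map_zero, sub_zero, htw1, exp_le_exp] at hc
  norm_num at hc

theorem finrank_inf_sub_add_one (hK : IsFunctionField k K) [IsAlgClosed k] {U : Submodule k K}
    {D : Divisor k K} (hU : U ≤ FunFld.L D) {R : Place k K} {g : K} (hg : g ∈ U)
    (hgR : R.1 g = exp (D R)) :
    Module.finrank k ↥(U ⊓ FunFld.L (D - Finsupp.single R 1)) + 1 = Module.finrank k ↥U := by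
  classical
  haveI : FiniteDimensional k U := finiteDimensional_of_le_L (ff hK) hU
  have hg0 : g ≠ 0 := ne_zero_of_val hgR
  have hdis : (U ⊓ FunFld.L (D - Finsupp.single R 1)) ⊓ Submodule.span k {g} = ⊥ := by
    rw [eq_bot_iff]
    rintro x ⟨⟨-, hxL⟩, hx⟩
    obtain ⟨c, rfl⟩ := Submodule.mem_span_singleton.1 hx
    by_cases hc : c = 0
    · simp [hc]
    · exact absurd (by simpa [hc] using (Submodule.smul_mem_iff _ hc).1 hxL) (notMem_sub_of_eq_exp hgR)
  have hsup : (U ⊓ FunFld.L (D - Finsupp.single R 1)) ⊔ Submodule.span k {g} = U := by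
    refine le_antisymm (sup_le inf_le_left (by simpa using hg)) fun x hx => ?_
    have hq : R.1 (x / g) ≤ 1 := by
      rw [map_div₀, hgR, div_le_one₀ exp_pos]; exact hU hx R
    obtain ⟨c, hc⟩ := exists_const_near (ff hK) R hq
    refine Submodule.mem_sup.2 ⟨x - c • g, ⟨Submodule.sub_mem _ hx (U.smul_mem c hg), ?_⟩, c • g,
      Submodule.smul_mem _ _ (Submodule.mem_span_singleton_self g), sub_add_cancel _ _⟩
    by_contra hn
    have h1 := eq_exp_of_notMem_sub (hU (U.sub_mem hx (U.smul_mem c hg))) hn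
    have h2 : x - c • g = (x / g - algebraMap k K c) * g := by
      rw [Algebra.smul_def, sub_mul, div_mul_cancel₀ _ hg0]
    rw [h2, map_mul, hgR] at h1
    have h3 : R.1 (x / g - algebraMap k K c) * exp (D R) < exp (D R) := by
      have := mul_lt_mul_of_pos_right hc (exp_pos (a := D R))
      rwa [one_mul] at this
    exact h3.ne h1
  have h1 := Submodule.finrank_sup_add_finrank_inf_eq (U ⊓ FunFld.L (D - Finsupp.single R 1))
    (Submodule.span k {g})
  rw [hsup, hdis, finrank_bot, finrank_span_singleton hg0] at h1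
  omega

theorem Gen.codim_two_iff (hK : IsFunctionField k K) [IsAlgClosed k] (hG : Gen V E)
    (P Q : Place k K) :
    Module.finrank k ↥(V ⊓ FunFld.L (E - Finsupp.single P 1 - Finsupp.single Q 1)) + 2 =
        Module.finrank k ↥V ↔
      ∃ v ∈ V ⊓ FunFld.L (E - Finsupp.single P 1),
        Q.1 v = exp ((E - Finsupp.single P 1 : Divisor k K) Q) := by
  haveI : FiniteDimensional k V := finiteDimensional_of_le_L (ff hK) hG.le
  obtain ⟨g, hg, hgP⟩ := hG.ex P
  have h1 := finrank_inf_sub_add_one hK hG.le hg hgP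
  have hinf : (V ⊓ FunFld.L (E - Finsupp.single P 1)) ⊓
      FunFld.L (E - Finsupp.single P 1 - Finsupp.single Q 1) =
      V ⊓ FunFld.L (E - Finsupp.single P 1 - Finsupp.single Q 1) := by
    rw [inf_assoc, inf_eq_right.2 (L_mono (sub_le_self _ (Finsupp.single_nonneg.2 zero_le_one)))]
  constructor
  · intro h2
    by_contra! hne
    have : V ⊓ FunFld.L (E - Finsupp.single P 1) ≤
        FunFld.L (E - Finsupp.single P 1 - Finsupp.single Q 1) := fun v hv => by
      by_contra hn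
      exact hne v hv (eq_exp_of_notMem_sub (Submodule.mem_inf.1 hv).2 hn)
    rw [← hinf, inf_eq_left.2 this] at h2
    omega
  · rintro ⟨v, hv, hvQ⟩
    have h2 := finrank_inf_sub_add_one hK (inf_le_right) hv hvQ
    rw [hinf] at h2
    omega

theorem Gen.uniformizer_of_section (hG : Gen V E) {f v : K} {P : Place k K}
    (hfP : P.1 f = exp (E P)) (hv : v ∈ V)
    (hvP : P.1 v = exp ((E - Finsupp.single P 1 : Divisor k K) P)) :
    v / f ∈ locR V f P ∧ P.1 (v / f) = exp (-1) := by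
  refine ⟨⟨1, one_mem _, map_one _, by rw [mul_one]; exact div_mem_chA hv⟩, ?_⟩
  rw [map_div₀, hvP, hfP, div_eq_iff exp_ne_zero, ← exp_add]
  congr 1
  simp
  ring

theorem Gen.ns_iff_codim_two (hK : IsFunctionField k K) [IsAlgClosed k] (hG : Gen V E)
    (hd : 0 < E.deg) (hB : Bir V) {f : K} (hf : f ∈ V) {P : Place k K} (hfP : P.1 f = exp (E P)) :
    (∀ z : K, P.1 z ≤ 1 → z ∈ locR V f P) ↔ ∀ Q : Place k K, ∃ v ∈ V ⊓ FunFld.L (E - Finsupp.single P 1),
      Q.1 v = exp ((E - Finsupp.single P 1 : Divisor k K) Q) := by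
  classical
  have hmemP : ∀ v ∈ V, P.1 v < exp (E P) → v ∈ V ⊓ FunFld.L (E - Finsupp.single P 1) := fun v hv hlt =>
    Submodule.mem_inf.2 ⟨hv, by
      by_contra hn
      exact hlt.ne (eq_exp_of_notMem_sub (hG.le hv) hn)⟩
  have hscale : ∀ {R : Place k K} {v : K} {c : k}, R.1 f = exp (E R) →
      R.1 (v - c • f) = R.1 (v / f - algebraMap k K c) * exp (E R) := fun {R v c} hR => by
    rw [show v - c • f = (v / f - algebraMap k K c) * f by
      rw [Algebra.smul_def, sub_mul, div_mul_cancel₀ _ (ne_zero_of_val hfP)], map_mul, hR]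
  constructor
  · intro hns Q
    rcases eq_or_ne Q P with rfl | hQ
    · obtain ⟨t, ht0, ht⟩ := exists_uniformizer Q
      obtain ⟨v, hv, c, hvc⟩ := hG.exists_uniformizer_div hK hfP
        (hns t (by rw [ht, ← exp_zero, exp_le_exp]; norm_num)) ht
      have hval : Q.1 (v - c • f) = exp ((E - Finsupp.single Q 1 : Divisor k K) Q) := by
        rw [hscale hfP, hvc, ← exp_add]; congr 1; simp; ring
      exact ⟨v - c • f, hmemP _ (V.sub_mem hv (V.smul_mem c hf))
        (by rw [hval, exp_lt_exp]; simp), hval⟩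
    · have hval : ∀ v, Q.1 v = exp (E Q) →
          Q.1 v = exp ((E - Finsupp.single P 1 : Divisor k K) Q) := fun v hv => by
        rw [hv]; congr 1; simp [Finsupp.single_eq_of_ne hQ]
      by_cases hfQ : Q.1 f = exp (E Q)
      · have hnS : ¬ Sm V E f P Q := fun hS => hQ
          (eq_of_O_le fun x (hx : P.1 x ≤ 1) => (hG.sm_val hS (hns x hx)).1).symm
        simp only [Sm, hfQ, true_and, not_forall, not_exists, not_and] at hnS
        obtain ⟨v, hv, hv'⟩ := hnS
        obtain ⟨c, hc⟩ := exists_const_near (ff hK) P (hG.val_div_le hfP hv)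
        refine ⟨v - c • f, hmemP _ (V.sub_mem hv (V.smul_mem c hf)) ?_, hval _ ?_⟩
        · rw [hscale hfP]
          have := mul_lt_mul_of_pos_right hc (exp_pos (a := E P))
          rwa [one_mul] at this
        · refine le_antisymm (hG.le (V.sub_mem hv (V.smul_mem c hf)) Q) ?_
          rw [hscale hfQ]
          exact le_mul_of_one_le_left' (not_lt.1 (hv' c hc))
      · obtain ⟨g, hg, hgQ⟩ := hG.ex Q
        obtain ⟨c, hc⟩ := exists_const_near (ff hK) P (hG.val_div_le hfP hg)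
        refine ⟨g - c • f, hmemP _ (V.sub_mem hg (V.smul_mem c hf)) ?_, hval _ ?_⟩
        · rw [hscale hfP]
          have := mul_lt_mul_of_pos_right hc (exp_pos (a := E P))
          rwa [one_mul] at this
        · rw [Valuation.map_sub_eq_of_lt_left, hgQ]
          rw [hgQ, Algebra.smul_def, map_mul]
          exact (mul_le_of_le_one_left' (Q.2.1 c)).trans_lt (lt_of_le_of_ne (hG.le hf Q) hfQ)
  · intro hall
    obtain ⟨v, hv, hvP⟩ := hall P
    obtain ⟨ht, htP⟩ := hG.uniformizer_of_section hfP (Submodule.mem_inf.1 hv).1 hvP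
    refine hG.ns_of_unique_uniformizer hK hd hB hf hfP (fun Q hS => ?_) ht htP
    by_contra hQ
    obtain ⟨v, hv, hvQ⟩ := hall Q
    obtain ⟨hvV, hvL⟩ := Submodule.mem_inf.1 hv
    have h1 : v / f ∈ locR V f P := ⟨1, one_mem _, map_one _, by rw [mul_one]; exact div_mem_chA hvV⟩
    have h2 : P.1 (v / f) < 1 := by
      rw [map_div₀, hfP, div_lt_one₀ exp_pos]
      refine (hvL P).trans_lt ?_
      rw [exp_lt_exp]; simp
    have h3 := (hG.sm_val hS h1).2.2 h2
    rw [map_div₀, hS.1, hvQ, div_lt_one₀ exp_pos, exp_lt_exp] at h3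
    simp [Finsupp.single_eq_of_ne hQ] at h3

end Groth.Agent.FunField
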