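import Groth.Agent.Lib.FunField.PlaneDiff26
import Groth.Agent.Lib.Wronskian26.WDiv

/-! # The adjoint divisor under a change of coordinates -/

namespace Groth.Agent.FunField.PlaneDiff

open FunFld FunField Wronskian26

variable {k K : Type*} [Field k] [IsAlgClosed k] [Field K] [Algebra k K]

theorem sep_of_D_ne_zero (h : FF k K) {x : K} (hx : KaehlerDifferential.D k K x ≠ 0) : Wronskian26.Sep k x := by
  obtain ⟨u, hu⟩ := exists_sep h
  unfold Wronskian26.Sep at hu ⊢
  have hmem : KaehlerDifferential.D k K x ∈ Submodule.span K {KaehlerDifferential.D k K u} := by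
    rw [hu]; trivial
  obtain ⟨a, ha⟩ := Submodule.mem_span_singleton.1 hmem
  have ha0 : a ≠ 0 := fun h0 => hx (by rw [← ha, h0, zero_smul])
  rw [← ha, Submodule.span_singleton_smul_eq (IsUnit.mk0 a ha0), hu]

theorem der_eq_of_D_eq (h : FF k K) {t : K} (ht : Wronskian26.Sep k t) {a b x y : K}
    (hab : a • KaehlerDifferential.D k K x = b • KaehlerDifferential.D k K y) :
    a * der h ht x = b * der h ht y := by
  let d : Derivation k K K := Derivation.mk'
    { toFun := der h ht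
      map_add' := der_add h ht
      map_smul' := fun c z => by
        rw [Algebra.smul_def, der_mul, der_const, mul_zero, add_zero, RingHom.id_apply, Algebra.smul_def] }
    fun z w => der_mul h ht z w
  have := congrArg d.liftKaehlerDifferential hab
  simp only [map_smul, Derivation.liftKaehlerDifferential_comp_D, smul_eq_mul] at this
  exact this

theorem divDiff_apply' (hK : IsFunctionField k K) {Φ : Place k K → (K →ₐ[k] LaurentSeries k)}
    (hΦ : ∀ P : Place k K, LocRes.IsExpansionAt P.1 (Φ P)) {a x : K} (ha : a ≠ 0) (hx : Wronskian26.Sep k x)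
    (P : Place k K) : divDiff Φ a x P = P.ord a + dOrd (ff hK) P x := by
  have h := ff hK
  have key : ∀ Q : Place k K, LocRes.ordDiff (Φ Q) a x = Q.ord a + dOrd h Q x := fun Q => by
    have hne : der h (sep_uniformizer h Q (exists_uniformizer Q).choose_spec.2) x ≠ 0 :=
      der_ne_zero h hx _
    rw [LocRes.ordDiff, vDiff_eq h Q (hΦ Q) (exists_uniformizer Q).choose_spec.2 a x, dOrd,
      ← ord_mul Q ha hne]
    rfl
  obtain ⟨C, -, hC⟩ := exists_canonical_dOrd hK hx
  have e : (fun Q : Place k K => LocRes.ordDiff (Φ Q) a x) = ⇑(FunFld.div k a + C) :=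
    funext fun Q => by rw [key, Finsupp.add_apply, div_apply h, hC]
  rw [divDiff, dif_pos (by rw [e]; exact (FunFld.div k a + C).hasFiniteSupport)]
  exact key P

theorem sum_smul_val_le {ι : Type*} [Fintype ι] (P : Place k K) (a : ι → k) (w : ι → K) {m : WithZero (Multiplicative ℤ)}
    (hw : ∀ i, P.1 (w i) ≤ m) : P.1 (∑ i, algebraMap k K (a i) * w i) ≤ m :=
  P.1.map_sum_le fun i _ => by
    rw [map_mul]; exact (mul_le_mul' (val_const_le P (a i)) (hw i)).trans_eq (one_mul _)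

theorem exists_val_eq_mapDiv (h : FF k K) {ι : Type*} [Fintype ι] [Nonempty ι] {w : ι → K} {i₀ : ι}
    (hw : w i₀ = 1) (P : Place k K) : ∃ i, P.1 (w i) = WithZero.exp (mapDiv k w P) := by
  obtain ⟨j, -, hj⟩ := Finset.exists_mem_eq_inf' Finset.univ_nonempty fun i => P.ord (w i)
  rcases eq_or_ne (w j) 0 with h0 | h0
  · exact ⟨i₀, by rw [mapDiv_apply h, hj, h0, ord_zero, neg_zero, hw, map_one, WithZero.exp_zero]⟩
  · exact ⟨j, by rw [mapDiv_apply h, hj, val_eq_exp_neg_ord P h0]⟩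

theorem mapDiv_linear (h : FF k K) {n : ℕ} (A : Matrix (Fin (n + 1)) (Fin (n + 1)) k) (hA : A.det ≠ 0)
    (u v : Fin (n + 1) → K) (hu : ∀ i, ∑ j, algebraMap k K (A i j) * u j = v i)
    (P : Place k K) (hu0 : u 0 ≠ 0) (hv : v 0 = 1) (w : Fin (n + 1) → K) (hw : ∀ i, w i = u i / u 0) :
    mapDiv k w P = mapDiv k v P + P.ord (u 0) := by
  have hw0 : w 0 = 1 := by rw [hw, div_self hu0]
  have hinv : ∀ i, ∑ j, algebraMap k K (A⁻¹ i j) * v j = u i := fun i => by
    have h2 : ∑ j, algebraMap k K (A⁻¹ i j) * v j =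
        ∑ l, (∑ j, algebraMap k K (A⁻¹ i j * A j l)) * u l := by
      simp only [← hu, Finset.mul_sum, Finset.sum_mul, map_mul]
      rw [Finset.sum_comm]
      exact Finset.sum_congr rfl fun _ _ => Finset.sum_congr rfl fun _ _ => by ring
    simp only [h2, ← map_sum, ← Matrix.mul_apply, Matrix.nonsing_inv_mul A (isUnit_iff_ne_zero.2 hA)]
    simp [Matrix.one_apply]
  have huw : ∀ i, P.1 (u i) = P.1 (w i) * WithZero.exp (-P.ord (u 0)) := fun i => by
    rw [← val_eq_exp_neg_ord P hu0, ← map_mul, hw, div_mul_cancel₀ _ hu0]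
  refine le_antisymm ?_ ?_
  · obtain ⟨i, hi⟩ := exists_val_eq_mapDiv h hw0 P
    have h1 := sum_smul_val_le P (A⁻¹ i) v fun j => val_le_exp_mapDiv h v P j
    rw [hinv, huw, hi, ← WithZero.exp_add, WithZero.exp_le_exp] at h1
    omega
  · obtain ⟨i, hi⟩ := exists_val_eq_mapDiv h hv P
    have h1 := sum_smul_val_le P (A i) u (m := WithZero.exp (mapDiv k w P - P.ord (u 0))) fun j => by
      rw [huw, sub_eq_add_neg, WithZero.exp_add]
      exact mul_le_mul' (val_le_exp_mapDiv h w P j) le_rfl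
    rw [hu, hi, WithZero.exp_le_exp] at h1
    omega

theorem adjoint_main (hK : IsFunctionField k K) (f : MvPolynomial (Fin 3) k) (e : ℕ) (hf : f.IsHomogeneous e)
    (x y : K) (hfxy : MvPolynomial.aeval ![(1 : K), x, y] f = 0)
    (hdx : KaehlerDifferential.D k K x ≠ 0)
    (he : (mapDiv k ![(1 : K), x, y]).deg = e)
    (A : Matrix (Fin 3) (Fin 3) k) (hA : A.det ≠ 0)
    (u : Fin 3 → K) (hu : ∀ i, ∑ j, algebraMap k K (A i j) * u j = ![(1 : K), x, y] i)
    (hu0 : u 0 ≠ 0)
    (hfy : MvPolynomial.aeval ![(1 : K), x, y] (MvPolynomial.pderiv 2 f) ≠ 0)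
    (hfy' : MvPolynomial.aeval ![(1 : K), u 1 / u 0, u 2 / u 0]
      (MvPolynomial.pderiv 2 (MvPolynomial.aeval (lin A) f)) ≠ 0)
    {Φ : Place k K → (K →ₐ[k] LaurentSeries k)} (hΦ : ∀ P : Place k K, LocRes.IsExpansionAt P.1 (Φ P)) :
    ((mapDiv k ![(1 : K), x, y]).deg - 3) • mapDiv k ![(1 : K), x, y] -
        divDiff Φ (MvPolynomial.aeval ![(1 : K), x, y] (MvPolynomial.pderiv 2 f))⁻¹ x =
      ((mapDiv k ![(1 : K), u 1 / u 0, u 2 / u 0]).deg - 3) • mapDiv k ![(1 : K), u 1 / u 0, u 2 / u 0] -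
        divDiff Φ (MvPolynomial.aeval ![(1 : K), u 1 / u 0, u 2 / u 0]
          (MvPolynomial.pderiv 2 (MvPolynomial.aeval (lin A) f)))⁻¹ (u 1 / u 0) := by
  have h := ff hK
  have hm := main f e hf x y hfxy A u hu hu0 hfy hfy'
  have hmap : mapDiv k ![(1 : K), u 1 / u 0, u 2 / u 0] = mapDiv k ![(1 : K), x, y] + FunFld.div k (u 0) := by
    ext P
    rw [Finsupp.add_apply, div_apply h,
      mapDiv_linear h A hA u _ hu P hu0 rfl ![(1 : K), u 1 / u 0, u 2 / u 0] fun i => by
        fin_cases i <;> simp [hu0]]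
  have hdeg : (mapDiv k ![(1 : K), u 1 / u 0, u 2 / u 0]).deg = e := by
    rw [hmap, deg_add, deg_div h, add_zero, he]
  set a := (MvPolynomial.aeval ![(1 : K), x, y] (MvPolynomial.pderiv 2 f))⁻¹
  set b := (MvPolynomial.aeval ![(1 : K), u 1 / u 0, u 2 / u 0]
    (MvPolynomial.pderiv 2 (MvPolynomial.aeval (lin A) f)))⁻¹ with hb
  have ha0 : a ≠ 0 := inv_ne_zero hfy
  have hb0 : b ≠ 0 := inv_ne_zero hfy'
  have hdx' : KaehlerDifferential.D k K (u 1 / u 0) ≠ 0 := fun h0 => by
    rw [h0, smul_zero] at hm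
    exact hdx ((smul_eq_zero.1 hm).resolve_left ha0)
  ext P
  have hsep := sep_of_D_ne_zero h hdx
  have hsep' := sep_of_D_ne_zero h hdx'
  have ht := sep_uniformizer h P (exists_uniformizer P).choose_spec.2
  have hd := der_eq_of_D_eq h ht hm
  have hn : der h ht x ≠ 0 := der_ne_zero h hsep ht
  have hn' : der h ht (u 1 / u 0) ≠ 0 := der_ne_zero h hsep' ht
  have hdet : algebraMap k K A.det ≠ 0 := by simpa using hA
  have hz : (u 0)⁻¹ ^ ((e : ℤ) - 3) ≠ 0 := zpow_ne_zero _ (inv_ne_zero hu0)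
  have hord := congrArg P.ord hd
  rw [ord_mul P ha0 hn, ord_mul P (mul_ne_zero (mul_ne_zero hdet hz) hb0) hn',
    ord_mul P (mul_ne_zero hdet hz) hb0, ord_mul P hdet hz, ord_const, ord_zpow, ord_inv P (u 0)] at hord
  rw [he, hdeg, hmap]
  simp only [Finsupp.sub_apply, Finsupp.smul_apply, smul_eq_mul, divDiff_apply' hK hΦ ha0 hsep,
    divDiff_apply' hK hΦ hb0 hsep', Finsupp.add_apply, div_apply h, dOrd]
  linear_combination -hord

end Groth.Agent.FunField.PlaneDiff
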