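import Mathlib.RingTheory.MvPolynomial.EulerIdentity
import Mathlib.RingTheory.Kaehler.Basic
import Mathlib.LinearAlgebra.Matrix.Determinant.Basic
import Mathlib.Algebra.MvPolynomial.PDeriv
import Mathlib.Tactic.Module
import Mathlib.Tactic.LinearCombination

/-! # Differentials on plane curves under changes of coordinates -/

namespace Groth.Agent.FunField.PlaneDiff

open MvPolynomial

variable {k K : Type*} [Field k] [Field K] [Algebra k K] {σ τ : Type*}

theorem aeval_smul_homogeneous [Fintype σ] {f : MvPolynomial σ k} {n : ℕ} (h : f.IsHomogeneous n)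
    (c : K) (w : σ → K) : aeval (fun i => c * w i) f = c ^ n * aeval w f := by
  classical
  simp only [aeval_def, eval₂_eq', Finset.mul_sum]
  refine Finset.sum_congr rfl fun d hd => ?_
  have hn : ∑ i, d i = n := by
    have := h (mem_support_iff.1 hd)
    rw [Finsupp.weight_apply, Finsupp.sum_fintype _ _ (fun i => by simp)] at this
    simpa using this
  simp only [mul_pow, Finset.prod_mul_distrib, Finset.prod_pow_eq_pow_sum, hn]
  ring

theorem D_aeval [Fintype σ] {M : Type*} [AddCommGroup M] [Module K M] [Module k M]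
    [IsScalarTower k K M] (D : Derivation k K M) (v : σ → K) (f : MvPolynomial σ k) :
    D (aeval v f) = ∑ i, aeval v (pderiv i f) • D (v i) := by
  classical
  induction f using MvPolynomial.induction_on with
  | C a => simp
  | add p q hp hq => simp [hp, hq, add_smul, Finset.sum_add_distrib]
  | mul_X p j hp =>
    simp only [map_mul, aeval_X, Derivation.leibniz, hp, pderiv_X, map_add, add_smul,
      Finset.sum_add_distrib, Finset.smul_sum, smul_eq_mul, mul_smul]
    simp [Pi.single_apply, ite_smul, smul_smul]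

/-- Linear substitution `X = A X'`. -/
noncomputable def lin [Fintype τ] (A : Matrix σ τ k) : σ → MvPolynomial τ k :=
  fun i => ∑ j, C (A i j) * X j

theorem pderiv_lin [Fintype σ] [Fintype τ] (A : Matrix σ τ k) (f : MvPolynomial σ k) (j : τ) :
    pderiv j (aeval (lin A) f) = ∑ i, C (A i j) * aeval (lin A) (pderiv i f) := by
  classical
  induction f using MvPolynomial.induction_on with
  | C a => simp
  | add p q hp hq => simp [hp, hq, mul_add, Finset.sum_add_distrib]
  | mul_X p l hp =>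
    rw [map_mul, aeval_X, pderiv_mul, hp]
    have hl : pderiv j (lin A l) = C (A l j) := by
      simp [lin, pderiv_X, Pi.single_apply, mul_ite]
    rw [hl]
    simp only [pderiv_mul, map_add, map_mul, aeval_X, mul_add, Finset.sum_add_distrib,
      Finset.sum_mul, pderiv_X]
    congr 1
    · exact Finset.sum_congr rfl fun i _ => by ring
    · simp [Pi.single_apply, mul_comm]

theorem aeval_lin [Fintype τ] (A : Matrix σ τ k) (u : τ → K) (f : MvPolynomial σ k) :
    aeval u (aeval (lin A) f) = aeval (fun i => ∑ j, algebraMap k K (A i j) * u j) f := by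
  rw [← AlgHom.comp_apply, comp_aeval]
  simp [lin]

theorem isHomogeneous_lin [Fintype τ] (A : Matrix σ τ k) {f : MvPolynomial σ k} {n : ℕ}
    (h : f.IsHomogeneous n) : (aeval (lin A) f).IsHomogeneous n := by
  have h1 : ∀ i, (lin A i).IsHomogeneous 1 := fun i =>
    IsHomogeneous.sum _ _ _ fun j _ => (isHomogeneous_X k j).C_mul _
  simpa using h.aeval (lin A) h1

theorem key {M : Type*} [AddCommGroup M] [Module K M] {A : Matrix (Fin 3) (Fin 3) K} {g : Fin 3 → K}
    {u : Fin 3 → K} (du : Fin 3 → M)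
    (h0 : ∑ j, A 0 j • du j = 0) (hu1 : ∑ j, A 0 j * u j = 1)
    (heuler : ∑ i, g i * ∑ j, A i j * u j = 0)
    (hdiff : ∑ i, g i • ∑ j, A i j • du j = 0) :
    (∑ i, g i * A i 2) • (∑ j, A 1 j • du j) =
      (g 2 * A.det) • (u 0 • du 1 - u 1 • du 0) := by
  simp only [Fin.sum_univ_three] at *
  set h₀ := g 0 * A 0 0 + g 1 * A 1 0 + g 2 * A 2 0 with hh₀
  set h₁ := g 0 * A 0 1 + g 1 * A 1 1 + g 2 * A 2 1 with hh₁
  set h₂ := g 0 * A 0 2 + g 1 * A 1 2 + g 2 * A 2 2 with hh₂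
  have e1 : h₀ • du 0 + h₁ • du 1 + h₂ • du 2 = 0 := by
    rw [hh₀, hh₁, hh₂]; linear_combination (norm := module) hdiff
  have e2 : h₀ * u 0 + h₁ * u 1 + h₂ * u 2 = 0 := by
    rw [hh₀, hh₁, hh₂]; linear_combination heuler
  have f0 : h₂ • (u 1 • du 2 - u 2 • du 1) = h₀ • (u 0 • du 1 - u 1 • du 0) := by
    have h2u : h₂ * u 2 = -(h₀ * u 0 + h₁ * u 1) := by linear_combination e2
    rw [smul_sub, smul_smul h₂ (u 2), h2u]
    linear_combination (norm := module) (u 1) • e1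
  have f1 : h₂ • (u 2 • du 0 - u 0 • du 2) = h₁ • (u 0 • du 1 - u 1 • du 0) := by
    have h2u : h₂ * u 2 = -(h₀ * u 0 + h₁ * u 1) := by linear_combination e2
    rw [smul_sub, smul_smul h₂ (u 2), h2u]
    linear_combination (norm := module) (-(u 0)) • e1
  -- `dx = x₀ dx₁ - x₁ dx₀`
  have hdx : A 1 0 • du 0 + A 1 1 • du 1 + A 1 2 • du 2 =
      (A 0 1 * A 1 2 - A 0 2 * A 1 1) • (u 1 • du 2 - u 2 • du 1) +
      (A 0 2 * A 1 0 - A 0 0 * A 1 2) • (u 2 • du 0 - u 0 • du 2) +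
      (A 0 0 * A 1 1 - A 0 1 * A 1 0) • (u 0 • du 1 - u 1 • du 0) := by
    calc A 1 0 • du 0 + A 1 1 • du 1 + A 1 2 • du 2
        = (A 0 0 * u 0 + A 0 1 * u 1 + A 0 2 * u 2) • (A 1 0 • du 0 + A 1 1 • du 1 + A 1 2 • du 2) -
          (A 1 0 * u 0 + A 1 1 * u 1 + A 1 2 * u 2) • (A 0 0 • du 0 + A 0 1 • du 1 + A 0 2 • du 2) := by
          rw [h0, hu1, one_smul, smul_zero, sub_zero]
      _ = _ := by module
  rw [hdx, smul_add, smul_add, smul_comm h₂ (A 0 1 * A 1 2 - A 0 2 * A 1 1), f0,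
    smul_comm h₂ (A 0 2 * A 1 0 - A 0 0 * A 1 2), f1, Matrix.det_fin_three, hh₀, hh₁, hh₂]
  module

theorem main (f : MvPolynomial (Fin 3) k) (e : ℕ) (hf : f.IsHomogeneous e) (x y : K)
    (hfxy : aeval ![(1 : K), x, y] f = 0)
    (A : Matrix (Fin 3) (Fin 3) k) (u : Fin 3 → K)
    (hu : ∀ i, ∑ j, algebraMap k K (A i j) * u j = ![(1 : K), x, y] i) (hu0 : u 0 ≠ 0)
    (hfy : aeval ![(1 : K), x, y] (pderiv 2 f) ≠ 0)
    (hfy' : aeval ![(1 : K), u 1 / u 0, u 2 / u 0] (pderiv 2 (aeval (lin A) f)) ≠ 0) :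
    (aeval ![(1 : K), x, y] (pderiv 2 f))⁻¹ • KaehlerDifferential.D k K x =
      (algebraMap k K A.det * (u 0)⁻¹ ^ ((e : ℤ) - 3) *
        (aeval ![(1 : K), u 1 / u 0, u 2 / u 0] (pderiv 2 (aeval (lin A) f)))⁻¹) •
        KaehlerDifferential.D k K (u 1 / u 0) := by
  set v := ![(1 : K), x, y] with hv
  have he : 1 ≤ e := by
    by_contra hlt
    obtain rfl : e = 0 := by omega
    rw [MvPolynomial.totalDegree_eq_zero_iff_eq_C.1 (Nat.eq_zero_of_le_zero hf.totalDegree_le)] at hfy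
    simp at hfy
  set g : Fin 3 → K := fun i => aeval v (pderiv i f)
  set D := KaehlerDifferential.D k K
  set B : Matrix (Fin 3) (Fin 3) K := A.map (algebraMap k K) with hB
  have hD : ∀ i, ∑ j, B i j • D (u j) = D (v i) := fun i => by
    rw [← hu i, map_sum]
    refine Finset.sum_congr rfl fun j _ => ?_
    rw [← Algebra.smul_def, Derivation.map_smul, hB, Matrix.map_apply, algebraMap_smul]
  have h0 : ∑ j, B 0 j • D (u j) = 0 := by rw [hD]; simp [v]
  have heuler : ∑ i, g i * ∑ j, B i j * u j = 0 := by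
    have := congrArg (aeval v) hf.sum_X_mul_pderiv
    rw [map_nsmul, hfxy, smul_zero, map_sum] at this
    rw [← this]
    refine Finset.sum_congr rfl fun i _ => ?_
    simp only [hB, Matrix.map_apply, hu i, map_mul, aeval_X, g]
    ring
  have hdiff : ∑ i, g i • ∑ j, B i j • D (u j) = 0 := by
    simp only [hD]
    rw [← D_aeval D v f, hfxy, map_zero]
  have hk := key (fun j => D (u j)) h0 (by simpa [hB, v] using hu 0) heuler hdiff
  have hdx : ∑ j, B 1 j • D (u j) = D x := by rw [hD]; simp [v]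
  rw [hdx, hB, show (A.map (algebraMap k K)).det = algebraMap k K A.det from ((algebraMap k K).map_det A).symm] at hk
  set h2 := ∑ i, g i * A.map (algebraMap k K) i 2
  -- the new partial derivative
  have hnew : aeval ![(1 : K), u 1 / u 0, u 2 / u 0] (pderiv 2 (aeval (lin A) f)) =
      (u 0)⁻¹ ^ (e - 1) * h2 := by
    have hw : ![(1 : K), u 1 / u 0, u 2 / u 0] = fun i => (u 0)⁻¹ * u i := by
      funext i; fin_cases i <;> simp [hu0, div_eq_inv_mul]
    rw [hw, aeval_smul_homogeneous (isHomogeneous_lin A hf).pderiv, pderiv_lin, map_sum]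
    congr 1
    refine Finset.sum_congr rfl fun i _ => ?_
    rw [map_mul, aeval_C, aeval_lin, funext hu, Matrix.map_apply, mul_comm]
  rw [hnew] at hfy' ⊢
  have hh2 : h2 ≠ 0 := right_ne_zero_of_mul hfy'
  have hg2 : g 2 ≠ 0 := hfy
  have hdiv : D (u 1 / u 0) = ((u 0)⁻¹ ^ 2) • (u 0 • D (u 1) - u 1 • D (u 0)) := by
    rw [Derivation.leibniz_div]
  rw [hdiv, smul_smul]
  have hscal : algebraMap k K A.det * (u 0)⁻¹ ^ ((e : ℤ) - 3) * ((u 0)⁻¹ ^ (e - 1) * h2)⁻¹ *
      (u 0)⁻¹ ^ 2 = algebraMap k K A.det * h2⁻¹ := by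
    have h1 : (u 0)⁻¹ ^ ((e : ℤ) - 3) * (u 0)⁻¹ ^ (2 : ℕ) = (u 0)⁻¹ ^ (e - 1 : ℕ) := by
      rw [← zpow_natCast, ← zpow_natCast, ← zpow_add₀ (inv_ne_zero hu0)]
      congr 1
      omega
    have h3 : (u 0)⁻¹ ^ (e - 1) ≠ 0 := pow_ne_zero _ (inv_ne_zero hu0)
    calc _ = algebraMap k K A.det * ((u 0)⁻¹ ^ ((e : ℤ) - 3) * (u 0)⁻¹ ^ (2 : ℕ)) *
          ((u 0)⁻¹ ^ (e - 1) * h2)⁻¹ := by ring
      _ = _ := by rw [h1]; field_simp
  rw [hscal]
  show (g 2)⁻¹ • D x = _
  have hk2 := congrArg (fun z => ((g 2)⁻¹ * h2⁻¹) • z) hk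
  simp only [smul_smul] at hk2
  convert hk2 using 2 <;> field_simp

end Groth.Agent.FunField.PlaneDiff
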