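import Groth.Agent.Lib.FunField.Plane
import Mathlib.RingTheory.MvPolynomial.Homogeneous
import Mathlib.RingTheory.Localization.FractionRing

/-! # The homogeneous ideal of a plane curve -/

namespace Groth.Agent.FunField.PlaneIdeal

open MvPolynomial FunFld FunField

variable {k : Type*} [Field k]

theorem aeval_mul_homogeneous {σ S : Type*} [Fintype σ] [CommRing S] [Algebra k S]
    {f : MvPolynomial σ k} {n : ℕ} (h : f.IsHomogeneous n)
    (c : S) (w : σ → S) : aeval (fun i => w i * c) f = aeval w f * c ^ n := by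
  classical
  simp only [aeval_def, eval₂_eq', Finset.sum_mul]
  refine Finset.sum_congr rfl fun d hd => ?_
  have hn : ∑ i, d i = n := by
    have := h (mem_support_iff.1 hd)
    rw [Finsupp.weight_apply, Finsupp.sum_fintype _ _ (fun i => by simp)] at this
    simpa using this
  simp only [mul_pow, Finset.prod_mul_distrib, Finset.prod_pow_eq_pow_sum, hn]
  ring

/-- Dehomogenization. -/
noncomputable def deh : MvPolynomial (Fin 3) k →ₐ[k] MvPolynomial (Fin 2) k :=
  aeval ![1, X 0, X 1]

theorem deh_injective {g : MvPolynomial (Fin 3) k} {n : ℕ} (hg : g.IsHomogeneous n) (h0 : deh g = 0) :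
    g = 0 := by
  let L := FractionRing (MvPolynomial (Fin 3) k)
  let X' : Fin 3 → L := fun i => algebraMap _ L (X i : MvPolynomial (Fin 3) k)
  have hX : X' 0 ≠ 0 := by
    simp only [X', Ne, map_eq_zero_iff _ (IsFractionRing.injective (MvPolynomial (Fin 3) k) L)]
    exact X_ne_zero 0
  have h1 : aeval (![1, X' 1 / X' 0, X' 2 / X' 0]) g = 0 := by
    have : aeval ![X' 1 / X' 0, X' 2 / X' 0] (deh g) = aeval (![1, X' 1 / X' 0, X' 2 / X' 0]) g := by
      rw [deh, ← AlgHom.comp_apply, comp_aeval]
      congr 1; congr 1; funext i; fin_cases i <;> simp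
    rw [← this, h0, map_zero]
  have h2 : aeval X' g = 0 := by
    have := aeval_mul_homogeneous hg (X' 0) ![1, X' 1 / X' 0, X' 2 / X' 0]
    rw [h1, zero_mul] at this
    rw [← this]
    congr 1; congr 1; funext i; fin_cases i <;> simp [div_mul_cancel₀, hX]
  have h3 : aeval X' g = algebraMap _ L g := by
    have := aeval_algebraMap_apply L (X : Fin 3 → MvPolynomial (Fin 3) k) g
    rw [aeval_X_left_apply] at this
    exact this
  rw [h3, map_eq_zero_iff _ (IsFractionRing.injective (MvPolynomial (Fin 3) k) L)] at h2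
  exact h2

/-- Homogenization in degree `n`. -/
noncomputable def hom (n : ℕ) (p : MvPolynomial (Fin 2) k) : MvPolynomial (Fin 3) k :=
  ∑ d ∈ p.support, C (p.coeff d) * (X 0 ^ (n - (d 0 + d 1)) * X 1 ^ d 0 * X 2 ^ d 1)

theorem deh_hom (n : ℕ) (p : MvPolynomial (Fin 2) k) : deh (hom n p) = p := by
  conv_rhs => rw [p.as_sum]
  rw [hom, map_sum]
  refine Finset.sum_congr rfl fun d _ => ?_
  rw [monomial_eq, Finsupp.prod_fintype _ _ (fun i => pow_zero _), Fin.prod_univ_two]
  simp [deh]

theorem isHomogeneous_hom {n : ℕ} {p : MvPolynomial (Fin 2) k} (hp : p.totalDegree ≤ n) :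
    (hom n p).IsHomogeneous n := by
  refine IsHomogeneous.sum _ _ _ fun d hd => ?_
  have hle : d 0 + d 1 ≤ n := by
    have := (le_totalDegree hd).trans hp
    rwa [Finsupp.sum_fintype _ _ (fun _ => rfl), Fin.sum_univ_two] at this
  have := (((isHomogeneous_X_pow (R := k) (0 : Fin 3) (n - (d 0 + d 1))).mul
    (isHomogeneous_X_pow (1 : Fin 3) (d 0))).mul (isHomogeneous_X_pow (2 : Fin 3) (d 1))).C_mul (p.coeff d)
  convert this using 1
  omega

theorem totalDegree_deh_le {g : MvPolynomial (Fin 3) k} {n : ℕ} (hg : g.IsHomogeneous n) :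
    (deh g).totalDegree ≤ n := by
  conv_lhs => rw [g.as_sum]
  rw [map_sum]
  refine totalDegree_finsetSum_le fun d hd => ?_
  have hn : ∑ i, d i = n := by
    have := hg (mem_support_iff.1 hd)
    rw [Finsupp.weight_apply, Finsupp.sum_fintype _ _ (fun i => by simp)] at this
    simpa using this
  rw [deh, aeval_monomial, Finsupp.prod_fintype _ _ (fun i => pow_zero _), Fin.prod_univ_three]
  rw [Fin.sum_univ_three] at hn
  simp only [Matrix.cons_val_zero, Matrix.cons_val_one, Matrix.cons_val_two, Matrix.tail_cons, Matrix.head_cons,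
    one_pow, one_mul]
  refine (totalDegree_mul _ _).trans ?_
  rw [algebraMap_eq, totalDegree_C, zero_add]
  refine (totalDegree_mul _ _).trans ?_
  rw [totalDegree_X_pow, totalDegree_X_pow]
  omega

variable {K : Type*} [Field K] [Algebra k K]

theorem aeval_deh (x y : K) (g : MvPolynomial (Fin 3) k) :
    ev x y (deh g) = aeval ![(1 : K), x, y] g := by
  rw [ev, deh, ← AlgHom.comp_apply, comp_aeval]
  congr 1; congr 1; funext i; fin_cases i <;> simp

variable {hK : IsFunctionField k K} {x y : K}

/-- The plane relation attached to an irreducible affine equation. -/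
theorem dvd_of_aeval_eq_zero (h : PlaneModel hK x y) {f : MvPolynomial (Fin 2) k} (hf : Irreducible f)
    (hfxy : ev x y f = 0) {g : MvPolynomial (Fin 3) k} {n : ℕ} (hg : g.IsHomogeneous n)
    (hgxy : aeval ![(1 : K), x, y] g = 0) : hom f.totalDegree f ∣ g := by
  have hmem : deh g ∈ RingHom.ker (ev (k := k) x y) := by rw [RingHom.mem_ker, aeval_deh, hgxy]
  rw [h.ker_ev hf hfxy, Ideal.mem_span_singleton] at hmem
  obtain ⟨q, hq⟩ := hmem
  rcases eq_or_ne q 0 with rfl | hq0
  · rw [mul_zero] at hq; rw [deh_injective hg hq]; exact dvd_zero _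
  have hle : f.totalDegree + q.totalDegree ≤ n := by
    rw [← totalDegree_mul_of_isDomain hf.ne_zero hq0, ← hq]; exact totalDegree_deh_le hg
  refine ⟨hom (n - f.totalDegree) q, sub_eq_zero.1 (deh_injective (n := n) ?_ ?_)⟩
  · refine hg.sub ?_
    have := (isHomogeneous_hom (le_refl f.totalDegree)).mul
      (isHomogeneous_hom (p := q) (n := n - f.totalDegree) (by omega))
    rwa [Nat.add_sub_cancel' (by omega)] at this
  · rw [map_sub, map_mul, deh_hom, deh_hom, hq, sub_self]

theorem coeff_ev3 (v : Fin 3 → K) (g : MvPolynomial (Fin 3) k) (n : ℕ) :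
    (aeval (fun i => Polynomial.C (v i) * Polynomial.X) g : Polynomial K).coeff n =
      aeval v (homogeneousComponent n g) := by
  classical
  have key : ∀ m, ∀ p : MvPolynomial (Fin 3) k, p.IsHomogeneous m →
      (aeval (fun i => Polynomial.C (v i) * Polynomial.X) p : Polynomial K) =
        Polynomial.C (aeval v p) * Polynomial.X ^ m := fun m p hp => by
    rw [aeval_mul_homogeneous hp]
    congr 1
    exact aeval_algebraMap_apply (Polynomial K) v p
  conv_lhs => rw [← sum_homogeneousComponent g, map_sum, Polynomial.finsetSum_coeff]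
  rw [Finset.sum_eq_single n]
  · rw [key n _ (homogeneousComponent_isHomogeneous n g), Polynomial.coeff_C_mul_X_pow, if_pos rfl]
  · intro m _ hm
    rw [key m _ (homogeneousComponent_isHomogeneous m g), Polynomial.coeff_C_mul_X_pow, if_neg (Ne.symm hm)]
  · intro hn
    rw [homogeneousComponent_eq_zero _ _ (by simp at hn; omega)]; simp

theorem ker_eq_span (h : PlaneModel hK x y) {f : MvPolynomial (Fin 2) k} (hf : Irreducible f)
    (hfxy : ev x y f = 0) :
    RingHom.ker (aeval fun i => Polynomial.C (![(1 : K), x, y] i) * Polynomial.X :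
      MvPolynomial (Fin 3) k →ₐ[k] Polynomial K) = Ideal.span {hom f.totalDegree f} := by
  have hF := isHomogeneous_hom (le_refl f.totalDegree)
  have hF0 : aeval ![(1 : K), x, y] (hom f.totalDegree f) = 0 := by rw [← aeval_deh, deh_hom, hfxy]
  refine le_antisymm (fun g hg => ?_) ((Ideal.span_singleton_le_iff_mem _).2 ?_)
  · rw [Ideal.mem_span_singleton, ← sum_homogeneousComponent g]
    refine Finset.dvd_sum fun n _ => dvd_of_aeval_eq_zero h hf hfxy (homogeneousComponent_isHomogeneous n g) ?_
    rw [← coeff_ev3, RingHom.mem_ker.1 hg, Polynomial.coeff_zero]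
  · rw [RingHom.mem_ker, aeval_mul_homogeneous hF]
    have := aeval_algebraMap_apply (Polynomial K) ![(1 : K), x, y] (hom f.totalDegree f)
    rw [hF0, map_zero] at this
    exact mul_eq_zero_of_left this _

theorem exists_generator (hK : IsFunctionField k K)
    (hxy : IntermediateField.adjoin k ({x, y} : Set K) = ⊤) :
    ∃ f : MvPolynomial (Fin 3) k, Irreducible f ∧ f.IsHomogeneous f.totalDegree ∧
      RingHom.ker (aeval fun i => Polynomial.C (![(1 : K), x, y] i) * Polynomial.X :
        MvPolynomial (Fin 3) k →ₐ[k] Polynomial K) = Ideal.span {f} := by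
  have h : PlaneModel hK x y := ⟨hxy⟩
  obtain ⟨f, hf, hfxy⟩ := h.exists_relation
  have hker := ker_eq_span h hf hfxy
  have h0 : hom f.totalDegree f ≠ 0 := fun e0 => hf.ne_zero (by rw [← deh_hom f.totalDegree f, e0, map_zero])
  refine ⟨_, ?_, ?_, hker⟩
  · refine Prime.irreducible ((Ideal.span_singleton_prime h0).1 ?_)
    rw [← hker]; exact RingHom.ker_isPrime _
  · have := isHomogeneous_hom (le_refl f.totalDegree) (k := k)
    rwa [this.totalDegree h0]

end Groth.Agent.FunField.PlaneIdeal
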