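import Groth.Agent.Lib.FunField.PlaneIdeal26
import Groth.Agent.Lib.FunField.Embed
import Mathlib.RingTheory.MvPolynomial.EulerIdentity
import Mathlib.RingTheory.Ideal.Quotient.Operations

/-! # The derivative criterion for nonsingular points of plane curves -/

namespace Groth.Agent.FunField.PlaneSmooth

open MvPolynomial FunFld FunField
open scoped Multiplicative
open WithZero (exp)

variable {k K : Type*} [Field k] [Field K] [Algebra k K]

/-- `z` lies in the local ring of `a` at the point `c`. -/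
def InR {ι : Type*} (a : ι → K) (c : ι → k) (z : K) : Prop :=
  ∃ u w : MvPolynomial ι k, eval c w ≠ 0 ∧ z * aeval a w = aeval a u

/-- The entries `a` specialize to `c` at `P`, with `a j = 1`. -/
structure Pt {ι : Type*} (P : Place k K) (j : ι) (a : ι → K) (c : ι → k) : Prop where
  one : a j = 1
  near : ∀ i, P.1 (a i - algebraMap k K (c i)) < 1

namespace Pt

variable {ι : Type*} {P : Place k K} {j : ι} {a : ι → K} {c : ι → k}

theorem cj (h : Pt P j a c) : c j = 1 := by
  by_contra hne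
  have := h.near j
  rw [h.one, ← map_one (algebraMap k K), ← map_sub, val_const P (sub_ne_zero.2 (Ne.symm hne))] at this
  exact lt_irrefl _ this

theorem val_a_le (h : Pt P j a c) (i : ι) : P.1 (a i) ≤ 1 := by
  rw [← sub_add_cancel (a i) (algebraMap k K (c i))]
  exact (P.1.map_add _ _).trans (max_le (h.near i).le (P.2.1 _))

theorem val_le (h : Pt P j a c) (p : MvPolynomial ι k) : P.1 (aeval a p) ≤ 1 := by
  induction p using MvPolynomial.induction_on with
  | C x => rw [aeval_C]; exact P.2.1 x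
  | add p q hp hq => rw [map_add]; exact (P.1.map_add _ _).trans (max_le hp hq)
  | mul_X p i hp => rw [map_mul, aeval_X, map_mul]; exact mul_le_one' hp (h.val_a_le i)

theorem near_eval (h : Pt P j a c) (p : MvPolynomial ι k) :
    P.1 (aeval a p - algebraMap k K (eval c p)) < 1 := by
  induction p using MvPolynomial.induction_on with
  | C x => simp
  | add p q hp hq =>
    rw [map_add, map_add, map_add, add_sub_add_comm]
    exact (P.1.map_add _ _).trans_lt (max_lt hp hq)
  | mul_X p i hp =>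
    rw [map_mul, aeval_X, map_mul, eval_X, map_mul,
      show aeval a p * a i - algebraMap k K (eval c p) * algebraMap k K (c i) =
        (aeval a p - algebraMap k K (eval c p)) * a i +
        algebraMap k K (eval c p) * (a i - algebraMap k K (c i)) by ring]
    refine (P.1.map_add _ _).trans_lt (max_lt ?_ ?_)
    · rw [map_mul]; exact (mul_le_of_le_one_right' (h.val_a_le i)).trans_lt hp
    · rw [map_mul]; exact (mul_le_of_le_one_left' (P.2.1 _)).trans_lt (h.near i)

theorem val_eq_one_iff (h : Pt P j a c) (p : MvPolynomial ι k) :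
    P.1 (aeval a p) = 1 ↔ eval c p ≠ 0 := by
  constructor
  · intro h1 h0
    have := h.near_eval p
    rw [h0, map_zero, sub_zero, h1] at this
    exact lt_irrefl _ this
  · intro h0
    have h2 := val_const P h0
    rw [← sub_add_cancel (aeval a p) (algebraMap k K (eval c p)),
      P.1.map_add_eq_of_lt_right ((h.near_eval p).trans_eq h2.symm), h2]

theorem val_lt_one_iff (h : Pt P j a c) (p : MvPolynomial ι k) :
    P.1 (aeval a p) < 1 ↔ eval c p = 0 := by
  refine ⟨fun hlt => by_contra fun h0 => hlt.ne ((h.val_eq_one_iff p).2 h0), fun h0 => ?_⟩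
  have := h.near_eval p
  rwa [h0, map_zero, sub_zero] at this

theorem residue_aeval (h : Pt P j a c) (A : ι → P.O) (hA : ∀ i, ((A i : P.O) : K) = a i)
    (p : MvPolynomial ι k) :
    aeval (fun i => IsLocalRing.residue P.O (A i)) p =
      algebraMap k (IsLocalRing.ResidueField P.O) (eval c p) := by
  have hr : (fun i => IsLocalRing.residue P.O (A i)) =
      fun i => algebraMap k (IsLocalRing.ResidueField P.O) (c i) := by
    funext i
    refine sub_eq_zero.1 ?_
    show IsLocalRing.residue P.O (A i) - IsLocalRing.residue P.O (algebraMap k P.O (c i)) = 0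
    rw [← map_sub, residue_eq_zero_iff]
    show P.1 ((A i : K) - algebraMap k K (c i)) < 1
    rw [hA]; exact h.near i
  rw [hr]
  induction p using MvPolynomial.induction_on with
  | C x => simp
  | add p q hp hq => simp only [map_add, hp, hq]
  | mul_X p i hp => simp only [map_mul, aeval_X, eval_X, hp]

end Pt

/-- Taylor expansion to first order. -/
theorem exists_decomp {ι : Type*} [Fintype ι] (c : ι → k) (p : MvPolynomial ι k) :
    ∃ q : ι → MvPolynomial ι k, p - C (eval c p) = ∑ i, (X i - C (c i)) * q i := by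
  classical
  induction p using MvPolynomial.induction_on with
  | C x => exact ⟨0, by simp⟩
  | add p q hp hq =>
    obtain ⟨q₁, h₁⟩ := hp; obtain ⟨q₂, h₂⟩ := hq
    refine ⟨q₁ + q₂, ?_⟩
    simp only [map_add, Pi.add_apply, mul_add, Finset.sum_add_distrib, ← h₁, ← h₂]
    ring
  | mul_X p l hp =>
    obtain ⟨q, hq⟩ := hp
    refine ⟨fun i => q i * X l + (if i = l then C (eval c p) else 0), ?_⟩
    simp only [mul_add, Finset.sum_add_distrib, mul_ite, mul_zero, Finset.sum_ite_eq', Finset.mem_univ,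
      if_true, ← mul_assoc, ← Finset.sum_mul, ← hq, map_mul, eval_X]
    ring

theorem pderiv_decomp {ι : Type*} [Fintype ι] (c : ι → k) (p : MvPolynomial ι k)
    (q : ι → MvPolynomial ι k) (h : p - C (eval c p) = ∑ i, (X i - C (c i)) * q i) (m : ι) :
    eval c (pderiv m p) = eval c (q m) := by
  classical
  have := congrArg (fun r => eval c (pderiv m r)) h
  simp only [map_sub, pderiv_C, sub_zero, map_sum, pderiv_mul, map_add, map_mul, eval_X, eval_C, sub_self,
    zero_mul, add_zero, pderiv_X, Pi.single_apply] at this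
  rw [this]
  simp [apply_ite (eval c)]

theorem euler {e : ℕ} {f : MvPolynomial (Fin 3) k} (hf : f.IsHomogeneous e) (c : Fin 3 → k)
    (h0 : eval c f = 0) : ∑ i, c i * eval c (pderiv i f) = 0 := by
  have := congrArg (eval c) hf.sum_X_mul_pderiv
  rw [map_nsmul, h0, smul_zero, map_sum] at this
  simpa using this

theorem fin3_third : ∀ (j m : Fin 3), m ≠ j → ∃ o : Fin 3, o ≠ j ∧ o ≠ m ∧
    (Finset.univ : Finset (Fin 3)) = {j, o, m} := by decide

/-- `k[X₀,X₁,X₂] → k[X, Y]` is split by `X ↦ X₁`, `Y ↦ X₂` modulo `X₀ - 1`. -/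
theorem mk_deh (p : MvPolynomial (Fin 3) k) :
    p - aeval ![X 1, X 2] (PlaneIdeal.deh p) ∈ Ideal.span {(X 0 - 1 : MvPolynomial (Fin 3) k)} := by
  have h : (Ideal.Quotient.mkₐ k (Ideal.span {(X 0 - 1 : MvPolynomial (Fin 3) k)})) =
      (Ideal.Quotient.mkₐ k _).comp ((aeval ![X 1, X 2]).comp PlaneIdeal.deh) := by
    refine MvPolynomial.algHom_ext fun i => ?_
    fin_cases i
    · simp only [AlgHom.comp_apply, PlaneIdeal.deh, aeval_X]
      show Ideal.Quotient.mk _ (X 0) = Ideal.Quotient.mk _ (aeval ![X 1, X 2] (1 : MvPolynomial (Fin 2) k))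
      rw [map_one, Ideal.Quotient.eq]
      exact Ideal.subset_span rfl
    · simp [PlaneIdeal.deh]
    · simp [PlaneIdeal.deh]
  exact Ideal.Quotient.eq.1 (AlgHom.congr_fun h p)

variable {P : Place k K}

/-- Polynomials vanishing on the curve. -/
theorem exists_of_aeval_zero_zero (hK : IsFunctionField k K) {a : Fin 3 → K} (ha : a 0 = 1)
    (htop : IntermediateField.adjoin k (Set.range a) = ⊤)
    {f : MvPolynomial (Fin 3) k} (hf : Irreducible f) {e : ℕ} (hhom : f.IsHomogeneous e)
    (hfa : aeval a f = 0) {h : MvPolynomial (Fin 3) k} (hh : aeval a h = 0) :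
    ∃ q r, h = f * q + (X 0 - 1) * r := by
  have ha' : a = ![(1 : K), a 1, a 2] := by funext i; fin_cases i <;> simp [ha]
  have hM : PlaneModel hK (a 1) (a 2) := ⟨by
    rw [← top_le_iff, ← htop, IntermediateField.adjoin_le_iff]
    rintro _ ⟨i, rfl⟩
    fin_cases i
    · show a 0 ∈ _; rw [ha]; exact one_mem _
    · exact IntermediateField.subset_adjoin k _ (by simp)
    · exact IntermediateField.subset_adjoin k _ (by simp)⟩
  obtain ⟨g, hg, hgxy⟩ := hM.exists_relation
  rw [ha'] at hfa hh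
  have hdvd := PlaneIdeal.dvd_of_aeval_eq_zero hM hg hgxy hhom hfa
  obtain ⟨s, hs⟩ := hdvd
  have hFu : ¬ IsUnit (PlaneIdeal.hom g.totalDegree g) := fun hu => hg.not_isUnit (by
    have := hu.map (PlaneIdeal.deh (k := k))
    rwa [PlaneIdeal.deh_hom] at this)
  have hsu : IsUnit s := (hf.isUnit_or_isUnit hs).resolve_left hFu
  have hmem : PlaneIdeal.deh h ∈ RingHom.ker (ev (k := k) (a 1) (a 2)) := by
    rw [RingHom.mem_ker, PlaneIdeal.aeval_deh, hh]
  rw [hM.ker_ev hg hgxy, Ideal.mem_span_singleton] at hmem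
  have hdf : PlaneIdeal.deh f ∣ PlaneIdeal.deh h := by
    rw [hs, map_mul, PlaneIdeal.deh_hom]
    exact (IsUnit.mul_right_dvd (hsu.map (PlaneIdeal.deh (k := k)))).2 hmem
  obtain ⟨q, hq⟩ := hdf
  obtain ⟨r₁, hr₁⟩ := Ideal.mem_span_singleton.1 (mk_deh h)
  obtain ⟨r₂, hr₂⟩ := Ideal.mem_span_singleton.1 (mk_deh f)
  refine ⟨aeval ![X 1, X 2] q, r₁ - r₂ * aeval ![X 1, X 2] q, ?_⟩
  rw [hq, map_mul] at hr₁
  linear_combination hr₁ - aeval ![X 1, X 2] q * hr₂

theorem exists_of_aeval_zero (hK : IsFunctionField k K) {a : Fin 3 → K} {j : Fin 3} (ha : a j = 1)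
    (htop : IntermediateField.adjoin k (Set.range a) = ⊤)
    {f : MvPolynomial (Fin 3) k} (hf : Irreducible f) {e : ℕ} (hhom : f.IsHomogeneous e)
    (hfa : aeval a f = 0) {h : MvPolynomial (Fin 3) k} (hh : aeval a h = 0) :
    ∃ q r, h = f * q + (X j - 1) * r := by
  let σ : Equiv.Perm (Fin 3) := Equiv.swap 0 j
  have hσσ : (σ : Fin 3 → Fin 3) ∘ σ = id := funext fun i => Equiv.swap_apply_self _ _ i
  have hren : ∀ p : MvPolynomial (Fin 3) k, rename σ (rename σ p) = p := fun p => by
    rw [rename_rename, hσσ, rename_id_apply]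
  have hev : ∀ p : MvPolynomial (Fin 3) k, aeval (a ∘ σ) (rename σ p) = aeval a p := fun p => by
    rw [aeval_rename, Function.comp_assoc, hσσ, Function.comp_id]
  obtain ⟨q, r, hqr⟩ := exists_of_aeval_zero_zero hK (a := a ∘ σ) (by simp [σ, ha])
    (by rwa [σ.surjective.range_comp]) ((MulEquiv.irreducible_iff (renameEquiv k σ).toMulEquiv).2 hf)
    hhom.rename_isHomogeneous (by show aeval (a ∘ σ) (rename σ f) = 0; rw [hev, hfa])
    (h := rename σ h) (by rw [hev, hh])
  refine ⟨rename σ q, rename σ r, ?_⟩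
  have hf' : rename σ ((renameEquiv k σ).toMulEquiv f) = f := hren f
  have := congrArg (rename σ) hqr
  rw [hren, map_add, map_mul, map_mul, map_sub, rename_X, map_one, hf'] at this
  rw [this]
  simp [σ]

variable {j : Fin 3} {a : Fin 3 → K} {c : Fin 3 → k}

theorem Pt.expand (h : Pt P j a c) {f : MvPolynomial (Fin 3) k} (hfc : eval c f = 0)
    {q : Fin 3 → MvPolynomial (Fin 3) k} (hq : f - C (eval c f) = ∑ i, (X i - C (c i)) * q i) :
    aeval a f = ∑ i, (a i - algebraMap k K (c i)) * aeval a (q i) := by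
  have := congrArg (aeval a) hq
  rw [hfc, map_zero, sub_zero, map_sum] at this
  rw [this]
  simp

theorem Pt.tangent (h : Pt P j a c) {f : MvPolynomial (Fin 3) k} {e : ℕ} (hhom : f.IsHomogeneous e)
    (hfa : aeval a f = 0) :
    P.1 (∑ i, algebraMap k K (eval c (pderiv i f)) * a i) ≤ exp (-2) := by
  have hfc : eval c f = 0 := (h.val_lt_one_iff f).1 (by rw [hfa, map_zero]; exact zero_lt_one)
  obtain ⟨q, hq⟩ := exists_decomp c f
  have h0 := h.expand hfc hq
  rw [hfa] at h0
  have heu := congrArg (algebraMap k K) (euler hhom c hfc)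
  rw [map_sum, map_zero] at heu
  simp only [map_mul] at heu
  have e1 : ∑ i, algebraMap k K (eval c (pderiv i f)) * a i =
      ∑ i, (a i - algebraMap k K (c i)) * (algebraMap k K (eval c (q i)) - aeval a (q i)) := by
    simp only [← pderiv_decomp c f q hq, Fin.sum_univ_three] at heu h0 ⊢
    linear_combination heu - h0
  rw [e1]
  refine P.1.map_sum_le fun i _ => ?_
  rw [map_mul, ← Valuation.map_neg P.1 (algebraMap k K _ - _), neg_sub]
  refine (mul_le_mul' ((lt_one_iff_le _).1 (h.near i)) ((lt_one_iff_le _).1 (h.near_eval (q i)))).trans_eq ?_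
  rw [← WithZero.exp_add]
  norm_num

theorem adjoin_fraction (htop : IntermediateField.adjoin k (Set.range a) = ⊤) (z : K) :
    ∃ u w : MvPolynomial (Fin 3) k, z = aeval a u / aeval a w :=
  IntermediateField.mem_adjoin_range_iff k a z |>.1 (htop ▸ IntermediateField.mem_top)

theorem Pt.inR_of_deriv (hK : IsFunctionField k K) (h : Pt P j a c)
    (htop : IntermediateField.adjoin k (Set.range a) = ⊤) {f : MvPolynomial (Fin 3) k} {e : ℕ}
    (hhom : f.IsHomogeneous e) (hfa : aeval a f = 0) (hder : ∃ l, eval c (pderiv l f) ≠ 0)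
    {z : K} (hz : P.1 z ≤ 1) : InR a c z := by
  classical
  have hfc : eval c f = 0 := (h.val_lt_one_iff f).1 (by rw [hfa, map_zero]; exact zero_lt_one)
  obtain ⟨m, hmj, hm⟩ : ∃ m, m ≠ j ∧ eval c (pderiv m f) ≠ 0 := by
    by_contra! hall
    obtain ⟨l, hl⟩ := hder
    have heu := euler hhom c hfc
    rw [Finset.sum_eq_single j (fun i _ hi => by rw [hall i hi, mul_zero]) (by simp), h.cj, one_mul] at heu
    rcases eq_or_ne l j with rfl | hlj
    · exact hl heu
    · exact hl (hall l hlj)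
  obtain ⟨o, hoj, hom, huniv⟩ := fin3_third j m hmj
  have hsum : ∀ g : Fin 3 → K, ∑ i, g i = g j + g o + g m := fun g => by
    rw [huniv, Finset.sum_insert (by simp [Ne.symm hoj, Ne.symm hmj]), Finset.sum_pair hom, add_assoc]
  obtain ⟨qf, hqf⟩ := exists_decomp c f
  have hf0 := h.expand hfc hqf
  rw [hfa, hsum, h.one, h.cj, map_one, sub_self, zero_mul, zero_add] at hf0
  set t := a o - algebraMap k K (c o) with ht
  have hfm : eval c (qf m) ≠ 0 := by rwa [← pderiv_decomp c f qf hqf]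
  have key : ∀ p : MvPolynomial (Fin 3) k, eval c p = 0 → ∃ U W : MvPolynomial (Fin 3) k, eval c W ≠ 0 ∧
      aeval a p * aeval a W = t * aeval a U := by
    intro p hp
    obtain ⟨q, hq⟩ := exists_decomp c p
    have hp0 := h.expand hp hq
    rw [hsum, h.one, h.cj, map_one, sub_self, zero_mul, zero_add] at hp0
    refine ⟨q o * qf m - q m * qf o, qf m, hfm, ?_⟩
    rw [map_sub, map_mul, map_mul, hp0]
    linear_combination -(aeval a (q m)) * hf0
  have hne : ∀ {p : MvPolynomial (Fin 3) k}, eval c p ≠ 0 → aeval a p ≠ 0 := fun {p} hp h0 => by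
    have := (h.val_eq_one_iff p).2 hp
    rw [h0, map_zero] at this
    exact zero_ne_one this
  have htlt : P.1 t < 1 := h.near o
  have ht0 : t ≠ 0 := by
    intro ht0
    have hconst : ∀ p : MvPolynomial (Fin 3) k, aeval a p = algebraMap k K (eval c p) := fun p => by
      obtain ⟨U, W, hW, hUW⟩ := key (p - C (eval c p)) (by simp)
      rw [ht0, zero_mul, mul_eq_zero] at hUW
      have := hUW.resolve_right (hne hW)
      rwa [map_sub, aeval_C, sub_eq_zero] at this
    obtain ⟨τ, hτ, -⟩ := ff hK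
    obtain ⟨u, w, rfl⟩ := adjoin_fraction htop τ
    rw [hconst, hconst, ← map_div₀] at hτ
    exact hτ (isAlgebraic_algebraMap _)
  have rep : ∀ N : ℕ, ∀ p : MvPolynomial (Fin 3) k, aeval a p ≠ 0 → (P.ord (aeval a p)).toNat = N →
      ∃ (n : ℕ) (U W : MvPolynomial (Fin 3) k), eval c U ≠ 0 ∧ eval c W ≠ 0 ∧
        aeval a p * aeval a W = t ^ n * aeval a U := by
    intro N
    induction N using Nat.strong_induction_on with
    | _ N ih =>
      intro p hp hN
      by_cases hpc : eval c p = 0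
      · obtain ⟨U₁, W₁, hW₁, h1⟩ := key p hpc
        have hU0 : aeval a U₁ ≠ 0 := fun h0 => by
          rw [h0, mul_zero] at h1
          exact mul_ne_zero hp (hne hW₁) h1
        have hW1 : P.ord (aeval a W₁) = 0 := ord_eq_of_val_eq P (n := 0) (by
          rw [WithZero.exp_zero]; exact (h.val_eq_one_iff W₁).2 hW₁)
        have hordt : 0 < P.ord t := (val_lt_one_iff' P ht0).1 htlt
        have hordU : 0 ≤ P.ord (aeval a U₁) := (ord_nonneg_iff P _).2 (h.val_le _)
        have ho := congrArg P.ord h1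
        rw [ord_mul P hp (hne hW₁), ord_mul P ht0 hU0, hW1, add_zero] at ho
        obtain ⟨n, U, W, hU, hW, h2⟩ := ih (P.ord (aeval a U₁)).toNat (by omega) U₁ hU0 rfl
        refine ⟨n + 1, U, W₁ * W, hU, by rw [map_mul]; exact mul_ne_zero hW₁ hW, ?_⟩
        rw [map_mul]
        linear_combination aeval a W * h1 + t * h2
      · exact ⟨0, p, 1, hpc, by simp, by simp⟩
  rcases eq_or_ne z 0 with rfl | hz0
  · exact ⟨0, 1, by simp, by simp⟩
  obtain ⟨r, s, hrs⟩ := adjoin_fraction htop z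
  have hr : aeval a r ≠ 0 := fun h0 => hz0 (by rw [hrs, h0, zero_div])
  have hs : aeval a s ≠ 0 := fun h0 => hz0 (by rw [hrs, h0, div_zero])
  obtain ⟨n, U, W, hU, hW, h1⟩ := rep _ r hr rfl
  obtain ⟨n', U', W', hU', hW', h2⟩ := rep _ s hs rfl
  have hz' : z * aeval a s = aeval a r := by rw [hrs, div_mul_cancel₀ _ hs]
  have e1 : z * (t ^ n' * (aeval a U' * aeval a W)) = t ^ n * (aeval a U * aeval a W') := by
    linear_combination aeval a W' * h1 - z * aeval a W * h2 + aeval a W * aeval a W' * hz'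
  have hle : n' ≤ n := by
    by_contra hlt
    have := congrArg P.1 e1
    simp only [map_mul, map_pow, (h.val_eq_one_iff _).2 hU, (h.val_eq_one_iff _).2 hU',
      (h.val_eq_one_iff _).2 hW, (h.val_eq_one_iff _).2 hW', mul_one] at this
    have h3 : P.1 t ^ n' < P.1 t ^ n :=
      pow_lt_pow_right_of_lt_one₀ (zero_lt_iff.2 ((Valuation.ne_zero_iff _).2 ht0)) htlt (by omega)
    exact absurd (this ▸ (mul_le_of_le_one_left' hz : P.1 z * P.1 t ^ n' ≤ P.1 t ^ n')) (not_le.2 h3)
  obtain ⟨d, rfl⟩ := Nat.exists_eq_add_of_le hle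
  refine ⟨(X o - C (c o)) ^ d * (U * W'), U' * W, by rw [map_mul]; exact mul_ne_zero hU' hW, ?_⟩
  simp only [map_mul, map_pow, map_sub, aeval_X, aeval_C, ← ht]
  refine mul_left_cancel₀ (pow_ne_zero n' ht0) ?_
  rw [pow_add] at e1
  linear_combination e1

theorem Pt.deriv_of_inR (hK : IsFunctionField k K) (h : Pt P j a c)
    (htop : IntermediateField.adjoin k (Set.range a) = ⊤) {f : MvPolynomial (Fin 3) k} (hf : Irreducible f)
    {e : ℕ} (hhom : f.IsHomogeneous e) (hfa : aeval a f = 0)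
    (hR : ∀ z : K, P.1 z ≤ 1 → InR a c z) : ∃ l, eval c (pderiv l f) ≠ 0 := by
  classical
  have hfc : eval c f = 0 := (h.val_lt_one_iff f).1 (by rw [hfa, map_zero]; exact zero_lt_one)
  obtain ⟨τ, hτ0, hτ⟩ := exists_uniformizer P
  have hlt : exp (-1) < (1 : WithZero (Multiplicative ℤ)) := by rw [← WithZero.exp_zero, WithZero.exp_lt_exp]; norm_num
  obtain ⟨U, W, hW, hUW⟩ := hR τ (by rw [hτ]; exact hlt.le)
  have hPU : P.1 (aeval a U) = exp (-1) := by
    rw [← hUW, map_mul, hτ, (h.val_eq_one_iff W).2 hW, mul_one]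
  have hUc : eval c U = 0 := (h.val_lt_one_iff U).1 (by rw [hPU]; exact hlt)
  obtain ⟨qU, hqU⟩ := exists_decomp c U
  obtain ⟨o, ho⟩ : ∃ o, P.1 (a o - algebraMap k K (c o)) = exp (-1) := by
    by_contra! hall
    have hb : P.1 (aeval a U) ≤ exp (-2) := by
      rw [h.expand hUc hqU]
      refine P.1.map_sum_le fun i _ => ?_
      rw [map_mul]
      refine (mul_le_of_le_one_right' (h.val_le _)).trans ?_
      have h1 := lt_of_le_of_ne ((lt_one_iff_le _).1 (h.near i)) (hall i)
      rw [lt_exp_iff] at h1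
      exact h1
    rw [hPU, WithZero.exp_le_exp] at hb
    norm_num at hb
  have hoj : o ≠ j := by
    rintro rfl
    rw [h.one, h.cj, map_one, sub_self, map_zero] at ho
    exact WithZero.exp_ne_zero ho.symm
  obtain ⟨m, hmj, hmo, -⟩ := fin3_third j o hoj
  set t := a o - algebraMap k K (c o) with ht
  have ht0 : t ≠ 0 := fun h0 => by rw [h0, map_zero] at ho; exact WithZero.exp_ne_zero ho.symm
  obtain ⟨A, V, hV, hAV⟩ := hR ((a m - algebraMap k K (c m)) / t) (by
    rw [map_div₀, ho, div_le_one₀ WithZero.exp_pos]; exact (lt_one_iff_le _).1 (h.near m))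
  have hh : aeval a ((X m - C (c m)) * V - (X o - C (c o)) * A) = 0 := by
    rw [map_sub, map_mul, map_mul, map_sub, map_sub, aeval_X, aeval_X, aeval_C, aeval_C, ← ht, ← hAV]
    field_simp
    ring
  obtain ⟨q, r, hqr⟩ := exists_of_aeval_zero hK h.one htop hf hhom hfa hh
  refine ⟨m, fun h0 => hV ?_⟩
  have := congrArg (fun p => eval c (pderiv m p)) hqr
  simpa [pderiv_X, hmo, hmj, hfc, h.cj, h0, Ne.symm hmo, Ne.symm hmj] using this

theorem exists_pow_mul_mem (b : Fin 3 → K) (s : Fin 3) (hs : b s ≠ 0) {u : K}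
    (hu : u ∈ Algebra.adjoin k (Set.range fun i => b i / b s)) :
    ∃ (n : ℕ) (p : MvPolynomial (Fin 3) k), b s ^ n * u = aeval b p := by
  induction hu using Algebra.adjoin_induction with
  | mem w hw => obtain ⟨i, rfl⟩ := hw; exact ⟨1, X i, by simp [mul_div_cancel₀ _ hs]⟩
  | algebraMap x => exact ⟨0, C x, by simp⟩
  | add x y _ _ hx hy =>
    obtain ⟨n, p, hp⟩ := hx; obtain ⟨n', p', hp'⟩ := hy
    refine ⟨n + n', X s ^ n' * p + X s ^ n * p', ?_⟩
    simp only [map_add, map_mul, map_pow, aeval_X, ← hp, ← hp']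
    ring
  | mul x y _ _ hx hy =>
    obtain ⟨n, p, hp⟩ := hx; obtain ⟨n', p', hp'⟩ := hy
    refine ⟨n + n', p * p', ?_⟩
    simp only [map_mul, ← hp, ← hp']
    ring

theorem Pt.inLocRing_iff (h : Pt P j a c) {φ : Fin 3 → K} (hφj : φ j ≠ 0)
    (hj : ∀ i, P.1 (φ i) ≤ P.1 (φ j)) (ha : ∀ i, a i = φ i / φ j) (z : K) :
    InLocRing φ P z ↔ InR a c z := by
  constructor
  · rintro ⟨l, hl0, hl, u, hu, w, hw, hw1, hzw⟩
    have hs : a l ≠ 0 := by rw [ha]; exact div_ne_zero hl0 hφj
    have hs1 : P.1 (a l) = 1 := by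
      rw [ha, map_div₀, le_antisymm (hj l) (hl j), div_self]
      exact (Valuation.ne_zero_iff _).2 hφj
    have e : (fun i => φ i / φ l) = fun i => a i / a l := by
      funext i; rw [ha, ha, div_div_div_cancel_right₀ hφj]
    rw [e] at hu hw
    obtain ⟨n, p, hp⟩ := exists_pow_mul_mem a l hs hu
    obtain ⟨n', p', hp'⟩ := exists_pow_mul_mem a l hs hw
    refine ⟨X l ^ n' * p, X l ^ n * p', ?_, ?_⟩
    · refine (h.val_eq_one_iff _).1 ?_
      simp only [map_mul, map_pow, aeval_X, ← hp', hs1, hw1, one_pow, one_mul]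
    · simp only [map_mul, map_pow, aeval_X, ← hp, ← hp']
      linear_combination a l ^ n * a l ^ n' * hzw
  · rintro ⟨u, w, hw, hzw⟩
    have e : (fun i => φ i / φ j) = a := funext fun i => (ha i).symm
    refine ⟨j, hφj, hj, aeval a u, ?_, aeval a w, ?_, (h.val_eq_one_iff w).2 hw, hzw⟩ <;>
      · rw [e, Algebra.adjoin_range_eq_range_aeval]; exact ⟨_, rfl⟩

theorem exists_pt (hK : IsFunctionField k K) [IsAlgClosed k] (P : Place k K) {φ : Fin 3 → K}
    (hφj : φ j ≠ 0) (hj : ∀ i, P.1 (φ i) ≤ P.1 (φ j)) :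
    ∃ c : Fin 3 → k, Pt P j (fun i => φ i / φ j) c := by
  choose c hc using fun i => exists_const_near (ff hK) P (b := φ i / φ j) (by
    rw [map_div₀, div_le_one₀ (zero_lt_iff.2 ((Valuation.ne_zero_iff _).2 hφj))]; exact hj i)
  exact ⟨c, ⟨div_self hφj, hc⟩⟩

theorem setup {φ : Fin 3 → K} (hφj : φ j ≠ 0) (hφ0 : φ 0 ≠ 0)
    (hbir : IntermediateField.adjoin k (Set.range fun i => φ i / φ 0) = ⊤)
    {f : MvPolynomial (Fin 3) k} {e : ℕ} (hhom : f.IsHomogeneous e) (hfφ : aeval φ f = 0) :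
    IntermediateField.adjoin k (Set.range fun i => φ i / φ j) = ⊤ ∧
      aeval (fun i => φ i / φ j) f = 0 := by
  refine ⟨?_, ?_⟩
  · rw [← top_le_iff, ← hbir, IntermediateField.adjoin_le_iff]
    rintro _ ⟨i, rfl⟩
    show φ i / φ 0 ∈ _
    rw [← div_div_div_cancel_right₀ hφj (φ i) (φ 0)]
    exact div_mem (IntermediateField.subset_adjoin k _ ⟨i, rfl⟩) (IntermediateField.subset_adjoin k _ ⟨0, rfl⟩)
  · have := PlaneIdeal.aeval_mul_homogeneous hhom (φ j)⁻¹ φ
    rw [hfφ, zero_mul] at this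
    simpa only [div_eq_mul_inv] using this

theorem singular_iff [IsAlgClosed k] (hK : IsFunctionField k K) {φ : Fin 3 → K}
    (hφ : LinearIndependent k φ)
    (hbir : IntermediateField.adjoin k (Set.range fun i => φ i / φ 0) = ⊤)
    {f : MvPolynomial (Fin 3) k} (hf : Irreducible f) (hhom : f.IsHomogeneous f.totalDegree)
    (hfφ : aeval φ f = 0) {j : Fin 3} (hj : ∀ i, P.1 (φ i) ≤ P.1 (φ j)) (A : Fin 3 → P.O)
    (hA : ∀ i, ((A i : P.O) : K) = φ i / φ j) :
    ¬ IsNonsingularAt φ P ↔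
      ∀ l : Fin 3, aeval (fun i => IsLocalRing.residue P.O (A i)) (pderiv l f) = 0 := by
  have h0 : ∀ i, φ i ≠ 0 := fun i => hφ.ne_zero i
  obtain ⟨c, hc⟩ := exists_pt hK P (h0 j) hj
  obtain ⟨htop, hfa⟩ := setup (h0 j) (h0 0) hbir hhom hfφ
  simp only [hc.residue_aeval A hA, map_eq_zero]
  rw [not_iff_comm, not_forall]
  constructor
  · rintro hd z hz
    exact (hc.inLocRing_iff (h0 j) hj (fun _ => rfl) z).2 (hc.inR_of_deriv hK htop hhom hfa hd hz)
  · exact fun hns => hc.deriv_of_inR hK htop hf hhom hfa fun z hz =>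
      (hc.inLocRing_iff (h0 j) hj (fun _ => rfl) z).1 (hns z hz)

theorem tangent_le [IsAlgClosed k] (hK : IsFunctionField k K) {φ : Fin 3 → K}
    (hφ : LinearIndependent k φ)
    (hbir : IntermediateField.adjoin k (Set.range fun i => φ i / φ 0) = ⊤)
    {f : MvPolynomial (Fin 3) k} (hhom : f.IsHomogeneous f.totalDegree)
    (hfφ : aeval φ f = 0) {j : Fin 3} (hj : ∀ i, P.1 (φ i) ≤ P.1 (φ j)) (A : Fin 3 → P.O)
    (hA : ∀ i, ((A i : P.O) : K) = φ i / φ j) (d : Fin 3 → k)
    (hd : ∀ i, algebraMap k (IsLocalRing.ResidueField P.O) (d i) =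
      aeval (fun l => IsLocalRing.residue P.O (A l)) (pderiv i f)) :
    P.1 (∑ i, d i • (φ i / φ j)) ≤ exp (-2) := by
  have h0 : ∀ i, φ i ≠ 0 := fun i => hφ.ne_zero i
  obtain ⟨c, hc⟩ := exists_pt hK P (h0 j) hj
  obtain ⟨-, hfa⟩ := setup (h0 j) (h0 0) hbir hhom hfφ
  have hde : ∀ i, d i = eval c (pderiv i f) := fun i =>
    (algebraMap k (IsLocalRing.ResidueField P.O)).injective (by rw [hd, hc.residue_aeval A hA])
  simp only [Algebra.smul_def, hde]
  exact hc.tangent hhom hfa

end Groth.Agent.FunField.PlaneSmooth
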