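import Groth.Agent.Lib.FunField.Embed
import Mathlib.RingTheory.Valuation.LocalSubring

/-! # Projective maps given by a subspace `V ⊆ K`: charts, local rings, nonsingularity -/

namespace Groth.Agent.FunField

open WithZero FunFld
open scoped Multiplicative

variable {k K : Type*} [Field k] [Field K] [Algebra k K]

/-- `V` is a base-point-free subspace of `L(E)`. -/
structure Gen (V : Submodule k K) (E : Divisor k K) : Prop where
  le : V ≤ FunFld.L E
  ex : ∀ Q : Place k K, ∃ f ∈ V, Q.1 f = exp (E Q)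

/-- The chart ring `k[v / f : v ∈ V]`. -/
def chA (V : Submodule k K) (f : K) : Subalgebra k K :=
  Algebra.adjoin k ((fun v => v / f) '' (V : Set K))

/-- Functions integral on the chart of `f`. -/
def chB (E : Divisor k K) (f : K) : Subalgebra k K where
  carrier := {u | ∀ Q : Place k K, Q.1 f = exp (E Q) → Q.1 u ≤ 1}
  mul_mem' {a b} ha hb Q hQ := by rw [map_mul]; exact (mul_le_mul' (ha Q hQ) (hb Q hQ)).trans_eq (one_mul _)
  one_mem' Q _ := (map_one Q.1).le
  add_mem' {a b} ha hb Q hQ := (Q.1.map_add a b).trans (max_le (ha Q hQ) (hb Q hQ))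
  zero_mem' Q _ := by simp
  algebraMap_mem' c Q _ := Q.2.1 c

/-- Every element of `K` is a fraction of elements of each chart ring. -/
def Bir (V : Submodule k K) : Prop :=
  ∀ f ∈ V, f ≠ 0 → ∀ z : K, ∃ u ∈ chA V f, ∃ w ∈ chA V f, w ≠ 0 ∧ z * w = u

/-- The local ring at `P` of the chart of `f`. -/
def locR (V : Submodule k K) (f : K) (P : Place k K) : Subalgebra k K where
  carrier := {z | ∃ w ∈ chA V f, P.1 w = 1 ∧ z * w ∈ chA V f}
  mul_mem' := by
    rintro a b ⟨v, hv, hv1, hva⟩ ⟨w, hw, hw1, hwb⟩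
    refine ⟨v * w, mul_mem hv hw, by rw [map_mul, hv1, hw1, one_mul], ?_⟩
    rw [show a * b * (v * w) = (a * v) * (b * w) by ring]; exact mul_mem hva hwb
  one_mem' := ⟨1, one_mem _, map_one _, by rw [one_mul]; exact one_mem _⟩
  add_mem' := by
    rintro a b ⟨v, hv, hv1, hva⟩ ⟨w, hw, hw1, hwb⟩
    refine ⟨v * w, mul_mem hv hw, by rw [map_mul, hv1, hw1, one_mul], ?_⟩
    rw [show (a + b) * (v * w) = (a * v) * w + v * (b * w) by ring]
    exact add_mem (mul_mem hva hw) (mul_mem hv hwb)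
  zero_mem' := ⟨1, one_mem _, map_one _, by rw [zero_mul]; exact zero_mem _⟩
  algebraMap_mem' c := ⟨1, one_mem _, map_one _, by rw [mul_one]; exact Subalgebra.algebraMap_mem _ c⟩

/-- `Q` has the same image as `P`, read in the chart of `f`. -/
def Sm (V : Submodule k K) (E : Divisor k K) (f : K) (P Q : Place k K) : Prop :=
  Q.1 f = exp (E Q) ∧
    ∀ v ∈ V, ∃ c : k, P.1 (v / f - algebraMap k K c) < 1 ∧ Q.1 (v / f - algebraMap k K c) < 1

variable {V : Submodule k K} {E : Divisor k K}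

theorem div_mem_chA {v f : K} (hv : v ∈ V) : v / f ∈ chA V f :=
  Algebra.subset_adjoin ⟨v, hv, rfl⟩

theorem Gen.val_div_le (hG : Gen V E) {f v : K} {Q : Place k K} (hQ : Q.1 f = exp (E Q))
    (hv : v ∈ V) : Q.1 (v / f) ≤ 1 := by
  rw [map_div₀, hQ, div_le_one₀ exp_pos]
  exact hG.le hv Q

theorem Gen.chA_le (hG : Gen V E) (f : K) : chA V f ≤ chB E f :=
  Algebra.adjoin_le (by rintro _ ⟨v, hv, rfl⟩ Q hQ; exact hG.val_div_le hQ hv)

theorem Gen.eq_exp_of_max (hG : Gen V E) {f : K} {P : Place k K} (hf : f ∈ V)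
    (hmax : ∀ v ∈ V, P.1 v ≤ P.1 f) : P.1 f = exp (E P) := by
  obtain ⟨g, hg, hgP⟩ := hG.ex P
  exact le_antisymm (hG.le hf P) (hgP ▸ hmax g hg)

theorem Gen.deg_nonneg (hG : Gen V E) (h : FF k K) (P : Place k K) : 0 ≤ E.deg := by
  obtain ⟨f, hf, hfP⟩ := hG.ex P
  have := Groth.Agent.FunField.deg_nonneg ((mem_L_iff_div h (ne_zero_of_val hfP)).1 (hG.le hf))
  rw [deg_add, deg_div h] at this
  omega

theorem Gen.exists_pair (hG : Gen V E) (h : FF k K) [IsAlgClosed k] (P : Place k K) :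
    ∃ f ∈ V, ∃ g ∈ V, P.1 f = exp (E P) ∧
      ∀ Q : Place k K, Q.1 f = exp (E Q) ∨ Q.1 g = exp (E Q) := by
  classical
  obtain ⟨f, hf, hfP⟩ := hG.ex P
  have hf0 : f ≠ 0 := ne_zero_of_val hfP
  let S := (E + FunFld.div k f).support
  let p : S → Submodule k V := fun Q =>
    (FunFld.L (E - Finsupp.single Q.1 1)).comap V.subtype
  obtain ⟨g, hg⟩ := Submodule.exists_forall_notMem_of_forall_ne_top p fun Q htop => by
    obtain ⟨u, hu, huQ⟩ := hG.ex Q.1
    exact notMem_sub_of_eq_exp huQ (show (⟨u, hu⟩ : V) ∈ p Q by rw [htop]; trivial)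
  refine ⟨f, hf, g, g.2, hfP, fun Q => ?_⟩
  by_cases hQ : Q ∈ S
  · exact .inr (eq_exp_of_notMem_sub (hG.le g.2) (hg ⟨Q, hQ⟩))
  · refine .inl ?_
    simp only [S, Finsupp.mem_support_iff, Finsupp.add_apply, not_not, div_apply h] at hQ
    rw [val_eq_exp_neg_ord Q hf0]
    congr 1
    omega

theorem pow_mem_L_smul {f : K} (hf : f ∈ FunFld.L E) (m : ℕ) : f ^ m ∈ FunFld.L (m • E) :=
  fun Q => by
    rw [map_pow]
    refine (pow_le_pow_left₀ zero_le (hf Q) m).trans_eq ?_
    rw [← exp_nsmul]; simp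

theorem smul_div_pow_mem {f u : K} {m : ℕ} (hu : u ∈ FunFld.L (m • E)) :
    u / f ^ m ∈ chB E f := fun Q hQ => by
  rw [map_div₀, map_pow, hQ, ← exp_nsmul, div_le_one₀ exp_pos]
  simpa using hu Q

theorem exists_mul_pow_mem (h : FF k K) {f u : K} (hf : f ∈ FunFld.L E) (hf0 : f ≠ 0)
    (hu : u ∈ chB E f) (m₀ : ℕ) : ∃ m, m₀ ≤ m ∧ u * f ^ m ∈ FunFld.L (m • E) := by
  classical
  rcases eq_or_ne u 0 with rfl | hu0
  · exact ⟨m₀, le_rfl, by simp⟩
  let M : ℕ := m₀ + ∑ Q ∈ (FunFld.div k u).support, (Q.ord u).natAbs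
  refine ⟨M, Nat.le_add_right _ _, (mem_L_iff_ord (mul_ne_zero hu0 (pow_ne_zero _ hf0))).2 fun Q => ?_⟩
  rw [ord_mul Q hu0 (pow_ne_zero _ hf0), ord_pow,
    show (M • E : Divisor k K) Q = M • E Q from Finsupp.smul_apply _ _ _, nsmul_eq_mul]
  have h1 := (mem_L_iff_ord hf0).1 hf Q
  by_cases hQ : Q.ord f + E Q = 0
  · have h2 : 0 ≤ Q.ord u := (ord_nonneg_iff Q u).2 (hu Q (by
      rw [val_eq_exp_neg_ord Q hf0]; congr 1; omega))
    have : Q.ord u + M * Q.ord f + M * E Q = Q.ord u + M * (Q.ord f + E Q) := by ring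
    rw [hQ, mul_zero] at this
    omega
  · have h3 : (Q.ord u).natAbs ≤ M := by
      by_cases hQu : Q ∈ (FunFld.div k u).support
      · exact le_add_left (Finset.single_le_sum (f := fun R : Place k K => (R.ord u).natAbs)
          (fun R _ => Nat.zero_le _) hQu)
      · rw [Finsupp.notMem_support_iff, div_apply h] at hQu
        simp [hQu]
    have h4 : (M : ℤ) ≤ M * (Q.ord f + E Q) := le_mul_of_one_le_right (by positivity) (by omega)
    have h5 : Q.ord u + M * Q.ord f + M * E Q = Q.ord u + M * (Q.ord f + E Q) := by ring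
    have h6 : -(M : ℤ) ≤ Q.ord u := by omega
    rw [h5]; omega

theorem Gen.exists_generators (hK : IsFunctionField k K) [IsAlgClosed k] (hG : Gen V E)
    (hd : 0 < E.deg) {f : K} (hf : f ∈ V) (hf0 : f ≠ 0) :
    ∃ s : Finset K, (∀ x ∈ s, x ∈ chB E f) ∧
      ∀ u ∈ chB E f, u ∈ Submodule.span (chA V f) (s : Set K) := by
  classical
  have hff := ff hK
  let m₀ : ℕ := 2 * genus k K + 2
  haveI := finiteDimensional_L hff (m₀ • E)
  let bs := Module.finBasis k (FunFld.L (m₀ • E))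
  let s : Finset K := Finset.univ.image fun i => (bs i : K) / f ^ m₀
  refine ⟨s, fun x hx => ?_, ?_⟩
  · obtain ⟨i, -, rfl⟩ := Finset.mem_image.1 hx
    exact smul_div_pow_mem (bs i).2
  have hbase : ∀ v ∈ FunFld.L (m₀ • E), v / f ^ m₀ ∈ Submodule.span (chA V f) (s : Set K) := by
    intro v hv
    have hv' : v = ∑ i, bs.repr ⟨v, hv⟩ i • (bs i : K) := by
      conv_lhs => rw [show v = ((⟨v, hv⟩ : FunFld.L (m₀ • E)) : K) from rfl, ← bs.sum_repr ⟨v, hv⟩]
      rw [AddSubmonoidClass.coe_finsetSum]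
      exact Finset.sum_congr rfl fun i _ => rfl
    rw [hv', Finset.sum_div]
    refine Submodule.sum_mem _ fun i _ => ?_
    have : (bs.repr ⟨v, hv⟩ i • (bs i : K)) / f ^ m₀ =
        algebraMap k (chA V f) (bs.repr ⟨v, hv⟩ i) • ((bs i : K) / f ^ m₀) := by
      rw [Algebra.smul_def, mul_div_assoc]; rfl
    rw [this]
    exact Submodule.smul_mem _ _ (Submodule.subset_span (by simp [s]))
  have hall : ∀ m, m₀ ≤ m → ∀ v ∈ FunFld.L (m • E),
      v / f ^ m ∈ Submodule.span (chA V f) (s : Set K) := by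
    intro m hm
    induction m, hm using Nat.le_induction with
    | base => exact hbase
    | succ m hm ih =>
      intro v hv
      obtain ⟨P⟩ := nonempty_place hff
      obtain ⟨g₁, hg₁, g₂, hg₂, hgP, hgg⟩ := hG.exists_pair hff P
      obtain ⟨a, ha, b, hb, rfl⟩ := pencil hK (hG.le hg₁) (hG.le hg₂) (ne_zero_of_val hgP) hgg
        (F := m • E) (by
          rw [deg_smul]
          have : ((2 * genus k K + 1 : ℕ) : ℤ) * E.deg ≤ ((m : ℤ) - 1) * E.deg :=
            mul_le_mul_of_nonneg_right (by omega) hd.le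
          push_cast at this
          nlinarith) (show v ∈ FunFld.L (E + m • E) by rwa [add_comm, ← succ_nsmul])
      have key : ∀ w ∈ V, ∀ c ∈ FunFld.L (m • E),
          w * c / f ^ (m + 1) ∈ Submodule.span (chA V f) (s : Set K) := by
        intro w hw c hc
        rw [show w * c / f ^ (m + 1) = (⟨w / f, div_mem_chA hw⟩ : chA V f) • (c / f ^ m) by
          rw [Algebra.smul_def]; show _ = w / f * (c / f ^ m); rw [pow_succ]; field_simp]
        exact Submodule.smul_mem _ _ (ih c hc)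
      rw [add_div]
      exact add_mem (key g₁ hg₁ a ha) (key g₂ hg₂ b hb)
  intro u hu
  obtain ⟨m, hm, hum⟩ := exists_mul_pow_mem hff (hG.le hf) hf0 hu m₀
  have := hall m hm _ hum
  rwa [mul_div_cancel_right₀ _ (pow_ne_zero _ hf0)] at this

theorem exists_common {A : Subalgebra k K} {p : K → Prop} (h1 : p 1)
    (hmul : ∀ a b, p a → p b → p (a * b)) (s : Finset K)
    (hs : ∀ x ∈ s, ∃ w ∈ A, p w ∧ x * w ∈ A) :
    ∃ c ∈ A, p c ∧ ∀ u ∈ Submodule.span A (s : Set K), c * u ∈ A := by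
  classical
  suffices ∃ c ∈ A, p c ∧ ∀ x ∈ s, c * x ∈ A by
    obtain ⟨c, hc, hpc, hcs⟩ := this
    refine ⟨c, hc, hpc, fun u hu => ?_⟩
    induction hu using Submodule.span_induction with
    | mem x hx => exact hcs x hx
    | zero => simp
    | add x y _ _ hx hy => rw [mul_add]; exact add_mem hx hy
    | smul a x _ hx =>
      rw [Algebra.smul_def, show c * (algebraMap A K a * x) = (a : K) * (c * x) by
        rw [show algebraMap A K a = (a : K) from rfl]; ring]
      exact mul_mem a.2 hx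
  induction s using Finset.induction_on with
  | empty => exact ⟨1, one_mem _, h1, fun x hx => absurd hx (Finset.notMem_empty x)⟩
  | insert x s hxs ih =>
    obtain ⟨c, hc, hpc, hcs⟩ := ih fun y hy => hs y (Finset.mem_insert_of_mem hy)
    obtain ⟨w, hw, hpw, hxw⟩ := hs x (Finset.mem_insert_self x s)
    refine ⟨c * w, mul_mem hc hw, hmul _ _ hpc hpw, fun y hy => ?_⟩
    rcases Finset.mem_insert.1 hy with rfl | hy
    · rw [show c * w * y = c * (y * w) by ring]; exact mul_mem hc hxw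
    · rw [show c * w * y = w * (c * y) by ring]; exact mul_mem hw (hcs y hy)

theorem Gen.exists_conductor (hK : IsFunctionField k K) [IsAlgClosed k] (hG : Gen V E)
    (hd : 0 < E.deg) (hB : Bir V) {f : K} (hf : f ∈ V) (hf0 : f ≠ 0) :
    ∃ a ∈ chA V f, a ≠ 0 ∧ ∀ u ∈ chB E f, a * u ∈ chA V f := by
  obtain ⟨s, -, hspan⟩ := hG.exists_generators hK hd hf hf0
  obtain ⟨c, hc, hc0, hcs⟩ := exists_common (A := chA V f) (p := fun w => w ≠ 0) one_ne_zero
    (fun a b => mul_ne_zero) s fun x _ => by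
      obtain ⟨u, hu, w, hw, hw0, hxw⟩ := hB f hf hf0 x
      exact ⟨w, hw, hw0, hxw ▸ hu⟩
  exact ⟨c, hc, hc0, fun u hu => hcs u (hspan u hu)⟩

theorem Gen.locR_le (hG : Gen V E) {f : K} {P : Place k K} (hfP : P.1 f = exp (E P)) {z : K}
    (hz : z ∈ locR V f P) : P.1 z ≤ 1 := by
  obtain ⟨w, -, hw, hzw⟩ := hz
  have := hG.chA_le f hzw P hfP
  rwa [map_mul, hw, mul_one] at this

theorem Gen.ns_of_kill (hK : IsFunctionField k K) [IsAlgClosed k] (hG : Gen V E) (hd : 0 < E.deg)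
    {f : K} (hf : f ∈ V) {P : Place k K} (hfP : P.1 f = exp (E P)) {c : K}
    (hc : c ∈ chA V f) (hcP : P.1 c = 1) (hkill : ∀ u ∈ chB E f, c * u ∈ chA V f) :
    ∀ z : K, P.1 z ≤ 1 → z ∈ locR V f P := by
  intro z hz
  obtain ⟨m, -, b, hb, hbP, hzb⟩ := exists_denominator hK hd P hz 0
  refine ⟨c * (b / f ^ m), hkill _ (smul_div_pow_mem hb), ?_, ?_⟩
  · rw [map_mul, hcP, one_mul, map_div₀, hbP, map_pow, hfP, ← exp_nsmul,
      show (m • E : Divisor k K) P = m • E P from Finsupp.smul_apply _ _ _, div_self exp_ne_zero]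
  · rw [show z * (c * (b / f ^ m)) = c * (z * b / f ^ m) by ring]
    exact hkill _ (smul_div_pow_mem hzb)

theorem Gen.kill_of_ns (hK : IsFunctionField k K) [IsAlgClosed k] (hG : Gen V E) (hd : 0 < E.deg)
    {f : K} (hf : f ∈ V) {P : Place k K} (hfP : P.1 f = exp (E P))
    (hns : ∀ z : K, P.1 z ≤ 1 → z ∈ locR V f P) :
    ∃ c ∈ chA V f, P.1 c = 1 ∧ ∀ u ∈ chB E f, c * u ∈ chA V f := by
  obtain ⟨s, hs, hspan⟩ := hG.exists_generators hK hd hf (ne_zero_of_val hfP)
  obtain ⟨c, hc, hc1, hcs⟩ := exists_common (A := chA V f) (p := fun w => P.1 w = 1) (map_one _)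
    (fun a b ha hb => by rw [map_mul, ha, hb, one_mul]) s fun x hx => hns x (hs x hx P hfP)
  exact ⟨c, hc, hc1, fun u hu => hcs u (hspan u hu)⟩

theorem Gen.ns_of_conductor_unit (hK : IsFunctionField k K) [IsAlgClosed k] (hG : Gen V E)
    (hd : 0 < E.deg) {f : K} (hf : f ∈ V) {P : Place k K} (hfP : P.1 f = exp (E P)) {a : K}
    (ha : a ∈ chA V f) (hkill : ∀ u ∈ chB E f, a * u ∈ chA V f) (ha0 : P.ord a = 0) (hane : a ≠ 0) :
    ∀ z : K, P.1 z ≤ 1 → z ∈ locR V f P :=
  hG.ns_of_kill hK hd hf hfP ha (by rw [val_eq_exp_neg_ord P hane, ha0, neg_zero, exp_zero]) hkill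

/-- A chart all of whose places are nonsingular has `chA = chB`. -/
theorem Gen.chB_le (hK : IsFunctionField k K) [IsAlgClosed k] (hG : Gen V E) (hd : 0 < E.deg)
    (hB : Bir V) {f : K} (hf : f ∈ V) (hf0 : f ≠ 0)
    (hns : ∀ P : Place k K, P.1 f = exp (E P) → ∀ z : K, P.1 z ≤ 1 → z ∈ locR V f P) :
    chB E f ≤ chA V f := by
  classical
  set A := chA V f with hA
  let J : Ideal A.toSubring :=
    { carrier := {a | ∀ u ∈ chB E f, (a : K) * u ∈ A}
      add_mem' := fun {a b} ha hb u hu => by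
        show ((a : K) + b) * u ∈ A
        rw [add_mul]; exact add_mem (ha u hu) (hb u hu)
      zero_mem' := fun u _ => by simp
      smul_mem' := fun c x hx u hu => by
        show (c : K) * x * u ∈ A
        rw [mul_assoc]; exact mul_mem c.2 (hx u hu) }
  by_cases hJ : J = ⊤
  · intro u hu
    have : (1 : A.toSubring) ∈ J := hJ ▸ trivial
    simpa using this u hu
  exfalso
  obtain ⟨W, hW, hJW⟩ := Ideal.image_subset_nonunits_valuationSubring J hJ
  obtain ⟨a, ha, ha0, hak⟩ := hG.exists_conductor hK hd hB hf hf0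
  have haJ : (⟨a, ha⟩ : A.toSubring) ∈ J := hak
  have haW : a ∈ W.nonunits := hJW ⟨_, haJ, rfl⟩
  have hWf : ¬ IsField W := fun hF => by
    obtain ⟨b, hb⟩ := hF.mul_inv_cancel (a := (⟨a, hW ha⟩ : W))
      (fun e => ha0 (congrArg Subtype.val e))
    have h1 : a * (b : K) = 1 := congrArg Subtype.val hb
    have h2 : a⁻¹ ∈ W := inv_eq_of_mul_eq_one_right h1 ▸ b.2
    rcases (W.inv_mem_nonunits_iff (x := a⁻¹)).1 (by rwa [inv_inv]) with h3 | h3
    · exact inv_ne_zero ha0 h3
    · exact h3 h2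
  obtain ⟨P, hP⟩ := (ff hK).exists_place_of_valuationSubring W
    (fun c => hW (A.algebraMap_mem c)) hWf
  have hle : ∀ x ∈ A, P.1 x ≤ 1 := fun x hx => by
    have : x ∈ P.O := by rw [hP]; exact hW hx
    exact this
  obtain ⟨g, hg, hgP⟩ := hG.ex P
  have hfP : P.1 f = exp (E P) := by
    refine le_antisymm (hG.le hf P) ?_
    have := hle _ (div_mem_chA (f := f) hg)
    rwa [map_div₀, hgP, div_le_one₀ (by simp [zero_lt_iff, hf0])] at this
  obtain ⟨c, hc, hc1, hck⟩ := hG.kill_of_ns hK hd hf hfP (hns P hfP)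
  have hcW : c ∈ W.nonunits := hJW ⟨⟨c, hc⟩, hck, rfl⟩
  rcases (W.inv_mem_nonunits_iff (x := c⁻¹)).1 (by rwa [inv_inv]) with h1 | h1
  · rw [inv_eq_zero] at h1
    simp [h1] at hc1
  · exact h1 (hP ▸ (mem_O_iff P c⁻¹).2 (by rw [map_inv₀, hc1, inv_one]))

theorem near_div (P : Place k K) {x y : K} {a b : k} (hx : P.1 (x - algebraMap k K a) < 1)
    (hy : P.1 (y - algebraMap k K b) < 1) (hb : b ≠ 0) :
    P.1 (x / y - algebraMap k K (a / b)) < 1 := by
  have hb1 : P.1 (algebraMap k K b) = 1 := val_const P hb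
  have hy1 : P.1 y = 1 := by
    rw [Valuation.map_eq_of_sub_lt P.1 (x := algebraMap k K b) (y := y) (by rwa [hb1]), hb1]
  have hy0 : y ≠ 0 := fun e => by simp [e] at hy1
  have hb0 : algebraMap k K b ≠ 0 := fun e => by simp [e] at hb1
  have e : x / y - algebraMap k K (a / b) =
      ((x - algebraMap k K a) * algebraMap k K b - algebraMap k K a * (y - algebraMap k K b)) /
        (y * algebraMap k K b) := by
    rw [map_div₀]; field_simp; ring
  rw [e, map_div₀, map_mul, hy1, hb1, one_mul, div_one]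
  refine (P.1.map_sub _ _).trans_lt (max_lt ?_ ?_)
  · rwa [map_mul, hb1, mul_one]
  · rw [map_mul]; exact (mul_le_of_le_one_left' (P.2.1 a)).trans_lt hy

theorem const_unique (P : Place k K) {x : K} {a b : k} (ha : P.1 (x - algebraMap k K a) < 1)
    (hb : P.1 (x - algebraMap k K b) < 1) : a = b := by
  by_contra hne
  have := P.1.map_sub (x - algebraMap k K b) (x - algebraMap k K a)
  rw [sub_sub_sub_cancel_left, ← map_sub, val_const P (sub_ne_zero.2 hne)] at this
  exact absurd this (not_le.2 (max_lt hb ha))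

theorem sm_const {f : K} {P Q : Place k K} (hS : Sm V E f P Q) {a : K} (ha : a ∈ chA V f) :
    ∃ c : k, P.1 (a - algebraMap k K c) < 1 ∧ Q.1 (a - algebraMap k K c) < 1 := by
  have hadd : ∀ (R : Place k K) {x y : K} {c d : k}, R.1 (x - algebraMap k K c) < 1 →
      R.1 (y - algebraMap k K d) < 1 → R.1 (x + y - algebraMap k K (c + d)) < 1 := by
    intro R x y c d hx hy
    rw [map_add, show x + y - (algebraMap k K c + algebraMap k K d) =
      (x - algebraMap k K c) + (y - algebraMap k K d) by ring]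
    exact (R.1.map_add _ _).trans_lt (max_lt hx hy)
  have hmul : ∀ (R : Place k K) {x y : K} {c d : k}, R.1 (x - algebraMap k K c) < 1 →
      R.1 (y - algebraMap k K d) < 1 → R.1 (x * y - algebraMap k K (c * d)) < 1 := by
    intro R x y c d hx hy
    rw [map_mul, show x * y - algebraMap k K c * algebraMap k K d =
      (x - algebraMap k K c) * (y - algebraMap k K d) +
        ((x - algebraMap k K c) * algebraMap k K d + algebraMap k K c * (y - algebraMap k K d)) by ring]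
    refine (R.1.map_add _ _).trans_lt (max_lt ?_ ((R.1.map_add _ _).trans_lt (max_lt ?_ ?_)))
    · rw [map_mul]; exact (mul_le_of_le_one_left' hx.le).trans_lt hy
    · rw [map_mul]; exact (mul_le_of_le_one_right' (R.2.1 d)).trans_lt hx
    · rw [map_mul]; exact (mul_le_of_le_one_left' (R.2.1 c)).trans_lt hy
  refine Algebra.adjoin_induction (p := fun x _ =>
    ∃ c : k, P.1 (x - algebraMap k K c) < 1 ∧ Q.1 (x - algebraMap k K c) < 1) ?_ ?_ ?_ ?_ ha
  · rintro _ ⟨v, hv, rfl⟩; exact hS.2 v hv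
  · exact fun r => ⟨r, by simp, by simp⟩
  · exact fun x y _ _ ⟨c, h1, h2⟩ ⟨d, h3, h4⟩ => ⟨c + d, hadd P h1 h3, hadd Q h2 h4⟩
  · exact fun x y _ _ ⟨c, h1, h2⟩ ⟨d, h3, h4⟩ => ⟨c * d, hmul P h1 h3, hmul Q h2 h4⟩

theorem Gen.sm_val (hG : Gen V E) {f : K} {P Q : Place k K} (hS : Sm V E f P Q) {z : K}
    (hz : z ∈ locR V f P) : Q.1 z ≤ 1 ∧ (Q.1 z < 1 ↔ P.1 z < 1) := by
  obtain ⟨w, hw, hw1, hzw⟩ := hz
  have key : ∀ a ∈ chA V f, (Q.1 a < 1 ↔ P.1 a < 1) := fun a ha => by
    obtain ⟨c, hcP, hcQ⟩ := sm_const hS ha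
    by_cases hc : c = 0
    · subst hc; simp only [map_zero, sub_zero] at hcP hcQ; exact iff_of_true hcQ hcP
    · rw [Valuation.map_eq_of_sub_lt P.1 (x := algebraMap k K c) (by rwa [val_const P hc]),
        Valuation.map_eq_of_sub_lt Q.1 (x := algebraMap k K c) (by rwa [val_const Q hc]),
        val_const P hc, val_const Q hc]
  have hwQ : Q.1 w = 1 := le_antisymm (hG.chA_le f hw Q hS.1)
    (not_lt.1 fun hlt => ((key w hw).1 hlt).ne hw1)
  have h1 := hG.chA_le f hzw Q hS.1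
  have h2 := key _ hzw
  rw [map_mul, map_mul, hwQ, hw1, mul_one, mul_one] at h2
  rw [map_mul, hwQ, mul_one] at h1
  exact ⟨h1, h2⟩

/-- A place bounding the local ring of `P` has the same image as `P`. -/
theorem Gen.sm_of_locR_le (hK : IsFunctionField k K) [IsAlgClosed k] (hG : Gen V E) {f : K}
    (hf : f ∈ V) {P Q : Place k K} (hfP : P.1 f = exp (E P))
    (hle : ∀ z ∈ locR V f P, Q.1 z ≤ 1) : Sm V E f P Q := by
  have hA : ∀ a ∈ chA V f, Q.1 a ≤ 1 := fun a ha =>
    hle a ⟨1, one_mem _, map_one _, by rwa [mul_one]⟩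
  have hfQ : Q.1 f = exp (E Q) := by
    obtain ⟨g, hg, hgQ⟩ := hG.ex Q
    refine le_antisymm (hG.le hf Q) ?_
    have := hA _ (div_mem_chA (f := f) hg)
    rwa [map_div₀, hgQ, div_le_one₀ (by simp [zero_lt_iff, ne_zero_of_val hfP])] at this
  refine ⟨hfQ, fun v hv => ?_⟩
  obtain ⟨c, hc⟩ := exists_const_near (ff hK) P (hG.val_div_le hfP hv)
  obtain ⟨d, hd⟩ := exists_const_near (ff hK) Q (hG.val_div_le hfQ hv)
  refine ⟨c, hc, ?_⟩
  by_contra hcQ
  have hne : c ≠ d := fun e => hcQ (e ▸ hd)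
  have hw : v / f - algebraMap k K d ∈ chA V f :=
    sub_mem (div_mem_chA hv) (Subalgebra.algebraMap_mem _ d)
  have hwP : P.1 (v / f - algebraMap k K d) = 1 := by
    rw [Valuation.map_eq_of_sub_lt P.1 (x := algebraMap k K (c - d)) (by
      rw [val_const P (sub_ne_zero.2 hne), map_sub (algebraMap k K)]
      convert hc using 2; ring), val_const P (sub_ne_zero.2 hne)]
  have hw0 : v / f - algebraMap k K d ≠ 0 := fun e => by simp [e] at hwP
  have := hle _ (⟨_, hw, hwP, by rw [inv_mul_cancel₀ hw0]; exact one_mem _⟩ :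
    (v / f - algebraMap k K d)⁻¹ ∈ locR V f P)
  rw [map_inv₀, inv_le_one₀ (by simp [zero_lt_iff, hw0])] at this
  exact absurd this (not_le.2 hd)

/-- Functions vanishing to high order on the fibre of `P` lie in its local ring. -/
theorem Gen.exists_bound (hK : IsFunctionField k K) [IsAlgClosed k] (hG : Gen V E) (hd : 0 < E.deg)
    (hB : Bir V) {f : K} (hf : f ∈ V) {P : Place k K} (hfP : P.1 f = exp (E P)) :
    ∃ N : ℕ, ∀ z : K, (∀ Q : Place k K, Sm V E f P Q → Q.1 z ≤ exp (-(N : ℤ))) →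
      z ∈ locR V f P := by
  classical
  have h := ff hK
  obtain ⟨a, ha, ha0, hak⟩ := hG.exists_conductor hK hd hB hf (ne_zero_of_val hfP)
  refine ⟨∑ Q ∈ (FunFld.div k a).support, (Q.ord a).natAbs, fun z hz => ?_⟩
  rcases eq_or_ne z 0 with rfl | hz0
  · exact zero_mem _
  set x := z / a with hx
  have hx0 : x ≠ 0 := div_ne_zero hz0 ha0
  let Z := (FunFld.div k x).support.filter fun R => R.1 f = exp (E R) ∧ R.ord x < 0
  have hsep : ∀ R ∈ Z, ∃ b ∈ chA V f, P.1 b = 1 ∧ R.1 b < 1 := by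
    intro R hR
    obtain ⟨-, hfR, hxR⟩ := Finset.mem_filter.1 hR
    have hns : ¬ Sm V E f P R := fun hS => by
      have h1 := hz R hS
      rw [val_le_exp_iff R hz0] at h1
      have h2 : ((R.ord a).natAbs : ℤ) ≤ ((∑ Q ∈ (FunFld.div k a).support, (Q.ord a).natAbs : ℕ) : ℤ) := by
        by_cases hRa : R ∈ (FunFld.div k a).support
        · exact_mod_cast Finset.single_le_sum (f := fun Q : Place k K => (Q.ord a).natAbs)
            (fun Q _ => Nat.zero_le _) hRa
        · rw [Finsupp.notMem_support_iff, div_apply h] at hRa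
          rw [hRa]; exact Int.natCast_nonneg _
      have : R.ord x = R.ord z - R.ord a := by
        rw [eq_sub_iff_add_eq, ← ord_mul R hx0 ha0, hx, div_mul_cancel₀ _ ha0]
      omega
    simp only [Sm, hfR, true_and, not_forall, not_exists, not_and] at hns
    obtain ⟨v, hv, hv'⟩ := hns
    obtain ⟨c, hc⟩ := exists_const_near h P (hG.val_div_le hfP hv)
    obtain ⟨d, hd'⟩ := exists_const_near h R (hG.val_div_le hfR hv)
    have hne : c ≠ d := fun e => hv' c hc (e ▸ hd')
    refine ⟨v / f - algebraMap k K d, sub_mem (div_mem_chA hv) (Subalgebra.algebraMap_mem _ d), ?_, hd'⟩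
    rw [Valuation.map_eq_of_sub_lt P.1 (x := algebraMap k K (c - d)) (by
      rw [val_const P (sub_ne_zero.2 hne), map_sub (algebraMap k K)]
      convert hc using 2; ring), val_const P (sub_ne_zero.2 hne)]
  choose b hbA hbP hbR using hsep
  let c := ∏ R : Z, b R.1 R.2 ^ (-R.1.ord x).toNat
  have hcA : c ∈ chA V f := prod_mem fun R _ => pow_mem (hbA _ _) _
  refine ⟨c, hcA, ?_, ?_⟩
  · rw [map_prod]; exact Finset.prod_eq_one fun R _ => by rw [map_pow, hbP, one_pow]
  have hcx : c * x ∈ chB E f := fun Q hQ => by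
    rw [map_mul]
    by_cases hxQ : 0 ≤ Q.ord x
    · exact (mul_le_mul' (hG.chA_le f hcA Q hQ) ((ord_nonneg_iff Q x).1 hxQ)).trans_eq (one_mul _)
    have hQZ : Q ∈ Z := Finset.mem_filter.2
      ⟨Finsupp.mem_support_iff.2 (by rw [div_apply h]; omega), hQ, by omega⟩
    have h1 : Q.1 c ≤ exp (-((-Q.ord x).toNat : ℤ)) := by
      simp only [c]
      rw [map_prod, ← Finset.mul_prod_erase _ _ (Finset.mem_univ (⟨Q, hQZ⟩ : Z))]
      refine (mul_le_of_le_one_right' (Finset.prod_le_one' fun R _ => ?_)).trans ?_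
      · rw [map_pow]; exact pow_le_one₀ zero_le (hG.chA_le f (hbA _ _) Q hQ)
      · rw [map_pow]
        refine (pow_le_pow_left₀ zero_le ((lt_one_iff_le _).1 (hbR Q hQZ)) _).trans_eq ?_
        rw [← exp_nsmul]; simp
    refine (mul_le_mul' h1 (val_eq_exp_neg_ord Q hx0).le).trans ?_
    rw [← exp_add, ← exp_zero, exp_le_exp]
    omega
  have := hak _ hcx
  rwa [show a * (c * x) = z * c by rw [hx]; field_simp] at this

end Groth.Agent.FunField
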