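import Groth.Agent.Lib.FunField.Proj2
import Mathlib.RingTheory.MvPolynomial.Homogeneous

/-! # Projective maps: further tuple-level facts -/

namespace Groth.Agent.FunField

open WithZero FunFld
open scoped Multiplicative

variable {k K : Type*} [Field k] [Field K] [Algebra k K]

theorem gen_mapDiv_of_one (h : FF k K) {ι : Type*} [Fintype ι] [Nonempty ι] {φ : ι → K}
    (h1 : (1 : K) ∈ Submodule.span k (Set.range φ)) :
    Gen (Submodule.span k (Set.range φ)) (FunFld.mapDiv k φ) := by
  refine ⟨Submodule.span_le.2 ?_, fun Q => ?_⟩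
  · rintro _ ⟨i, rfl⟩
    rcases eq_or_ne (φ i) 0 with h0 | h0
    · rw [h0]; exact Submodule.zero_mem _
    refine (mem_L_iff_ord h0).2 fun Q => ?_
    have := Finset.inf'_le (fun i => Q.ord (φ i)) (Finset.mem_univ i)
    rw [mapDiv_apply h]
    omega
  · obtain ⟨i, -, hi⟩ := Finset.exists_mem_eq_inf' Finset.univ_nonempty fun i => Q.ord (φ i)
    rw [mapDiv_apply h, hi]
    by_cases hex : φ i = 0
    · obtain ⟨j, hj⟩ : ∃ j, 1 ≤ Q.1 (φ j) := by
        by_contra! hlt
        obtain ⟨c, hc⟩ := (Submodule.mem_span_range_iff_exists_fun k).1 h1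
        have := Q.1.map_sum_lt (one_ne_zero (α := ℤᵐ⁰)) (s := Finset.univ)
          (f := fun l => c l • φ l) fun l _ => by
            rw [Algebra.smul_def, map_mul]; exact (mul_le_of_le_one_left' (Q.2.1 _)).trans_lt (hlt l)
        rw [hc, map_one] at this
        exact lt_irrefl _ this
      have hj0 : φ j ≠ 0 := fun e => by
        rw [e, map_zero] at hj
        exact not_lt.2 hj zero_lt_one
      have h2 := Finset.inf'_le (fun i => Q.ord (φ i)) (Finset.mem_univ j)
      rw [hi] at h2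
      have h4 : Q.ord (φ i) = 0 := by rw [hex]; simp [Place.ord]
      have h3 : Q.ord (φ j) ≤ 0 := by
        rw [val_eq_exp_neg_ord Q hj0, ← exp_zero, exp_le_exp] at hj; omega
      refine ⟨φ j, Submodule.subset_span ⟨j, rfl⟩, ?_⟩
      rw [val_eq_exp_neg_ord Q hj0]
      congr 1
      omega
    · exact ⟨φ i, Submodule.subset_span ⟨i, rfl⟩, val_eq_exp_neg_ord Q hex⟩

theorem adjoin_ratios_eq_top {ι : Type*} {φ : ι → K} (i₀ : ι) (h0 : φ i₀ ≠ 0) {P : Place k K}
    (h : IsNonsingularAt φ P) :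
    IntermediateField.adjoin k (Set.range fun i => φ i / φ i₀) = ⊤ := by
  rw [eq_top_iff]
  intro z _
  suffices H : ∀ z, P.1 z ≤ 1 → z ∈ IntermediateField.adjoin k (Set.range fun i => φ i / φ i₀) by
    rcases le_or_gt (P.1 z) 1 with hz | hz
    · exact H z hz
    · rw [← inv_inv z]
      exact inv_mem (H z⁻¹ (by rw [map_inv₀]; exact inv_le_one_of_one_le₀ hz.le))
  intro z hz
  obtain ⟨j, hj0, -, u, hu, w, hw, hw1, hzw⟩ := h z hz
  have hA : ∀ x ∈ Algebra.adjoin k (Set.range fun i => φ i / φ j),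
      x ∈ IntermediateField.adjoin k (Set.range fun i => φ i / φ i₀) := fun x hx => by
    refine Algebra.adjoin_le (S := (IntermediateField.adjoin k
      (Set.range fun i => φ i / φ i₀)).toSubalgebra) ?_ hx
    rintro _ ⟨i, rfl⟩
    show φ i / φ j ∈ IntermediateField.adjoin k (Set.range fun i => φ i / φ i₀)
    rw [← div_div_div_cancel_right₀ h0 (φ i) (φ j)]
    exact div_mem (IntermediateField.subset_adjoin _ _ ⟨i, rfl⟩)
      (IntermediateField.subset_adjoin _ _ ⟨j, rfl⟩)
  have hw0 : w ≠ 0 := fun e => by simp [e] at hw1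
  rw [eq_div_of_mul_eq hw0 hzw]
  exact div_mem (hA u hu) (hA w hw)

theorem aeval_homogeneous_scale {σ : Type*} {g : MvPolynomial σ k} {d : ℕ} (hg : g.IsHomogeneous d)
    (c : K) (v : σ → K) :
    MvPolynomial.aeval (fun i => c * v i) g = c ^ d * MvPolynomial.aeval v g := by
  classical
  rw [MvPolynomial.aeval_def, MvPolynomial.aeval_def, MvPolynomial.eval₂_eq, MvPolynomial.eval₂_eq,
    Finset.mul_sum]
  refine Finset.sum_congr rfl fun m hm => ?_
  rw [hg.degree_eq_sum_deg_support hm, ← Finset.prod_pow_eq_pow_sum]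
  simp only [mul_pow, Finset.prod_mul_distrib]
  ring

theorem finite_zeros_set (h : FF k K) {u : K} (hu : u ≠ 0) : {P : Place k K | P.1 u < 1}.Finite := by
  refine (FunFld.div k u).support.finite_toSet.subset fun P hP => ?_
  rw [Finset.mem_coe, Finsupp.mem_support_iff, div_apply h]
  rw [Set.mem_setOf_eq, val_eq_exp_neg_ord P hu, ← exp_zero, exp_lt_exp] at hP
  omega

theorem finite_zero_places (h : FF k K) {ι : Type*} [Finite ι] {φ : ι → K} {g : MvPolynomial ι k}
    {d : ℕ} (hg : g.IsHomogeneous d) (hne : MvPolynomial.aeval φ g ≠ 0) :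
    {P : Place k K | ∃ j, φ j ≠ 0 ∧ (∀ i, P.1 (φ i) ≤ P.1 (φ j)) ∧
      P.1 (MvPolynomial.aeval (fun i => φ i / φ j) g) < 1}.Finite := by
  refine (Set.finite_iUnion fun j : {j // φ j ≠ 0} =>
    finite_zeros_set h (u := MvPolynomial.aeval (fun i => φ i / φ j.1) g) fun e => hne ?_).subset ?_
  · have := aeval_homogeneous_scale hg (φ j.1) (fun i => φ i / φ j.1)
    rw [e, mul_zero] at this
    rw [← this]
    congr 1
    ext i
    rw [MvPolynomial.aeval_X, MvPolynomial.aeval_X, mul_div_cancel₀ _ j.2]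
  · rintro P ⟨j, hj0, -, hlt⟩
    exact Set.mem_iUnion.2 ⟨⟨j, hj0⟩, hlt⟩

theorem Gen.finite_sm (hK : IsFunctionField k K) [IsAlgClosed k] {V : Submodule k K}
    {E : Divisor k K} (hG : Gen V E) (hd : 0 < E.deg) {f : K} (hf : f ∈ V) {P : Place k K}
    (hfP : P.1 f = exp (E P)) : {Q : Place k K | Sm V E f P Q}.Finite := by
  have hf0 : f ≠ 0 := ne_zero_of_val hfP
  by_cases hex : ∃ v ∈ V, v / f ∉ Set.range (algebraMap k K)
  · obtain ⟨v, hv, hv'⟩ := hex
    obtain ⟨c, hc⟩ := exists_const_near (ff hK) P (hG.val_div_le hfP hv)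
    have hu : v / f - algebraMap k K c ≠ 0 := fun e => hv' ⟨c, (sub_eq_zero.1 e).symm⟩
    refine (finite_zeros_set (ff hK) hu).subset fun Q hS => ?_
    obtain ⟨c', h1, h2⟩ := hS.2 v hv
    rwa [const_unique P hc h1]
  · exfalso
    push Not at hex
    -- every element of `V` is a multiple of `f`, so `deg E = 0`
    have : ∀ Q : Place k K, Q.1 f = exp (E Q) := fun Q => by
      obtain ⟨g, hg, hgQ⟩ := hG.ex Q
      obtain ⟨c, hc⟩ := hex g hg
      refine le_antisymm (hG.le hf Q) ?_
      rw [← hgQ, show g = algebraMap k K c * f by rw [hc, div_mul_cancel₀ _ hf0], map_mul]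
      exact mul_le_of_le_one_left' (Q.2.1 c)
    have hE : E = -FunFld.div k f := by
      ext Q
      have := this Q
      rw [val_eq_exp_neg_ord Q hf0, exp_inj] at this
      simp [div_apply (ff hK), this]
    rw [hE, deg_neg, deg_div (ff hK)] at hd
    exact lt_irrefl _ hd

end Groth.Agent.FunField
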