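import Groth.Agent.Lib.FunField.Degree
import Mathlib.Data.Nat.Lattice
import Mathlib.LinearAlgebra.Dual.Lemmas

/-! # Riemann's inequality and the repartition quotients -/

namespace Groth.Agent.FunField

open WithZero FunFld Polynomial IntermediateField
open scoped Multiplicative

variable {k K : Type*} [Field k] [Field K] [Algebra k K]

theorem ff (hK : IsFunctionField k K) : FF k K := hK.1

theorem L_zero (hK : IsFunctionField k K) : FunFld.L (0 : Divisor k K) = 1 := by
  ext x
  rw [Submodule.mem_one]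
  constructor
  · intro hx
    exact hK.2 x (isAlgebraic_of_mem_L_zero (ff hK) hx)
  · rintro ⟨c, rfl⟩ P
    simpa using P.2.1 c

theorem ell_zero (hK : IsFunctionField k K) : ell (0 : Divisor k K) = 1 := by
  rw [ell, L_zero hK]
  have := finrank_span_singleton (K := k) (one_ne_zero : (1 : K) ≠ 0)
  rwa [← Submodule.one_eq_span] at this

/-- `deg D + 1 - ℓ(D)`. -/
noncomputable def delta (D : Divisor k K) : ℤ := D.deg + 1 - ell D

theorem delta_mono (h : FF k K) {D E : Divisor k K} (hle : D ≤ E) : delta D ≤ delta E := by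
  have := ell_sub_ell_le h hle
  unfold delta
  omega

theorem delta_add_div (h : FF k K) (D : Divisor k K) {x : K} (hx : x ≠ 0) :
    delta (D + FunFld.div k x) = delta D := by
  rw [delta, delta, deg_add, deg_div h, ell_add_div h D hx, add_zero]

theorem delta_zero (hK : IsFunctionField k K) : delta (0 : Divisor k K) = 0 := by
  rw [delta, ell_zero hK, deg_zero]; norm_num

theorem exists_ne_zero_of_ell_pos (h : FF k K) {D : Divisor k K} (hD : 0 < ell D) :
    ∃ z : K, z ≠ 0 ∧ 0 ≤ D + FunFld.div k z := by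
  have hne : FunFld.L D ≠ ⊥ := fun hb => by
    rw [ell, hb, finrank_bot] at hD; omega
  obtain ⟨z, hz, hz0⟩ := Submodule.exists_mem_ne_zero_of_ne_bot hne
  exact ⟨z, hz0, (mem_L_iff_div h hz0).1 hz⟩

theorem exists_delta_bound (h : FF k K) : ∃ c : ℤ, ∀ D : Divisor k K, delta D ≤ c := by
  obtain ⟨x, hx, hfin⟩ := id h
  obtain ⟨c, hc⟩ := exists_lower_bound h hx
  set B := poleDiv (k := k) x with hB
  have hn : B.deg = Module.finrank k⟮x⟯ K := deg_poleDiv h hx
  haveI := h.finiteDimensional hx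
  have hnpos : 0 < (Module.finrank k⟮x⟯ K : ℤ) := by exact_mod_cast Module.finrank_pos
  have hdB : ∀ l : ℕ, delta (l • B) ≤ c := fun l => by
    have := hc l
    rw [delta, deg_smul, hn]
    nlinarith
  refine ⟨c, fun D => ?_⟩
  set D₁ := D ⊔ 0
  have hD₁ : 0 ≤ D₁ := le_sup_right
  obtain ⟨l, hl⟩ : ∃ l : ℕ, D₁.deg + c < l := ⟨(D₁.deg + c).toNat + 1, by omega⟩
  have h1 := hc l
  have h2 := ell_sub_ell_le h (D := l • B - D₁) (E := l • B) (by
    intro P; have := hD₁ P; simp at this ⊢; omega)
  rw [deg_sub] at h2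
  have h3 : 0 < ell (l • B - D₁) := by
    have : (l : ℤ) < (Module.finrank k⟮x⟯ K : ℤ) * (l + 1) := by nlinarith
    omega
  obtain ⟨z, hz, hz'⟩ := exists_ne_zero_of_ell_pos h h3
  have hle : D₁ + FunFld.div k z⁻¹ ≤ l • B := by
    intro P
    have := hz' P
    simp [div_inv h] at this ⊢
    omega
  have h4 := delta_mono h hle
  rw [delta_add_div h D₁ (inv_ne_zero hz)] at h4
  exact (delta_mono h (le_sup_left (a := D) (b := 0))).trans (h4.trans (hdB l))

theorem bddAbove_genus (h : FF k K) :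
    BddAbove (Set.range fun D : Divisor k K => (D.deg + 1 - (ell D : ℤ)).toNat) := by
  obtain ⟨c, hc⟩ := exists_delta_bound h
  refine ⟨c.toNat, ?_⟩
  rintro _ ⟨D, rfl⟩
  exact Int.toNat_le_toNat (hc D)

theorem delta_le_genus (h : FF k K) (D : Divisor k K) : delta D ≤ genus k K := by
  have h1 := le_csSup (bddAbove_genus h) ⟨D, rfl⟩
  have h2 : (delta D).toNat ≤ genus k K := h1
  omega

theorem exists_delta_eq_genus (hK : IsFunctionField k K) :
    ∃ D : Divisor k K, delta D = genus k K := by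
  obtain ⟨D, hD⟩ : genus k K ∈ Set.range fun D : Divisor k K => (D.deg + 1 - (ell D : ℤ)).toNat :=
    Nat.sSup_mem (Set.range_nonempty _) (bddAbove_genus (ff hK))
  simp only at hD
  rcases Nat.eq_zero_or_pos (genus k K) with h0 | hpos
  · exact ⟨0, by rw [delta_zero hK, h0]; rfl⟩
  · refine ⟨D, ?_⟩
    unfold delta
    omega

theorem exists_deg_delta (hK : IsFunctionField k K) :
    ∃ N : ℤ, ∀ D : Divisor k K, N ≤ D.deg → delta D = genus k K := by
  obtain ⟨D₀, hD₀⟩ := exists_delta_eq_genus hK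
  refine ⟨D₀.deg + genus k K, fun D hD => le_antisymm (delta_le_genus (ff hK) D) ?_⟩
  have h1 := delta_le_genus (ff hK) (D - D₀)
  unfold delta at h1
  rw [deg_sub] at h1
  have h2 : 0 < ell (D - D₀) := by omega
  obtain ⟨z, hz, hz'⟩ := exists_ne_zero_of_ell_pos (ff hK) h2
  have hle : D₀ ≤ D + FunFld.div k z := by
    intro P
    have := hz' P
    simp at this ⊢
    omega
  have h3 := delta_mono (ff hK) hle
  rw [delta_add_div (ff hK) D hz, hD₀] at h3
  exact h3

theorem exists_ge_deg_ge (h : FF k K) (D : Divisor k K) (N : ℤ) :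
    ∃ E : Divisor k K, D ≤ E ∧ N ≤ E.deg := by
  obtain ⟨P⟩ := nonempty_place h
  refine ⟨D + Finsupp.single P ((max (N - D.deg) 0)), le_add_of_nonneg_right ?_, ?_⟩
  · exact Finsupp.single_nonneg.2 (le_max_right _ _)
  · rw [deg_add, deg_single]
    have h1 : (1 : ℤ) ≤ P.deg := by exact_mod_cast deg_pos h P
    have := le_mul_of_one_le_right (le_max_right (N - D.deg) 0) h1
    omega

/-! ## repartitions -/

theorem mem_AD {D : Divisor k K} {a : Place k K → K} :
    a ∈ AD D ↔ ∀ P : Place k K, P.1 (a P) ≤ exp (D P) := Iff.rfl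

theorem AD_mono {D E : Divisor k K} (hle : D ≤ E) : AD D ≤ AD E :=
  fun _ ha P => (ha P).trans (exp_le_exp.2 (hle P))

theorem AD_le_adele (D : Divisor k K) : AD D ≤ adele k K := by
  intro a ha
  refine Set.Finite.subset D.support.finite_toSet fun P hP => ?_
  by_contra h0
  rw [SetLike.mem_coe, Finsupp.mem_support_iff, not_not] at h0
  exact hP (by simpa [h0] using ha P)

theorem exists_mem_AD {a : Place k K → K} (ha : a ∈ adele k K) :
    ∃ D : Divisor k K, 0 ≤ D ∧ a ∈ AD D := by
  have hf : {P : Place k K | ¬ P.1 (a P) ≤ 1}.Finite := ha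
  classical
  refine ⟨∑ P ∈ hf.toFinset, Finsupp.single P (max (-P.ord (a P)) 0),
    Finset.sum_nonneg fun P _ => Finsupp.single_nonneg.2 (le_max_right _ _), fun P => ?_⟩
  rw [Finsupp.finsetSum_apply]
  simp only [Finsupp.single_apply, Finset.sum_ite_eq']
  split
  · rcases eq_or_ne (a P) 0 with h0 | h0
    · simp [h0]
    · rw [val_eq_exp_neg_ord P h0, exp_le_exp]; exact le_max_left _ _
  · rename_i hP
    simpa using hP

theorem rel_AD (h : FF k K) {D E : Divisor k K} (hle : D ≤ E) :
    Rel (AD D) (AD E) (E.deg - D.deg) := by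
  classical
  set s := (E - D).support
  have hr := fun P : s => rel_filt h P.1 (hle P.1)
  haveI : ∀ P : s, FiniteDimensional k (LQ P.1 (D P.1) (E P.1)) := fun P => (hr P).fin
  letI : ∀ P : s, AddCommMonoid (LQ P.1 (D P.1) (E P.1)) := fun P => AddCommGroup.toAddCommMonoid
  let π : ∀ P : s, AD E →ₗ[k] LQ P.1 (D P.1) (E P.1) := fun P =>
    (Submodule.mkQ _) ∘ₗ
      { toFun := fun a => (⟨(a : Place k K → K) P.1, a.2 P.1⟩ : filt P.1 (E P.1))
        map_add' := fun _ _ => rfl
        map_smul' := fun _ _ => rfl }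
  have key := Rel.of_surjective (p := AD D) (r := AD E)
    (N := (P : s) → LQ P.1 (D P.1) (E P.1)) (AD_mono hle) (LinearMap.pi π) ?_ ?_
  · rw [Module.finrank_pi_fintype, Nat.cast_sum] at key
    rw [← deg_sub, deg_eq_sum (E - D) s (Finset.Subset.refl _), ← Finset.sum_attach,
      ← Finset.univ_eq_attach]
    simpa only [(hr _).eq, Finsupp.coe_sub, Pi.sub_apply] using key
  · intro v
    choose x hx using fun P : s => Submodule.mkQ_surjective _ (v P)
    refine ⟨⟨fun P => if hP : P ∈ s then (x ⟨P, hP⟩ : K) else 0, fun P => ?_⟩, funext fun P => ?_⟩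
    · dsimp only
      split
      · rename_i hP; exact (x ⟨P, hP⟩).2
      · simp
    · rw [← hx P]
      refine congrArg (Submodule.mkQ _) (Subtype.ext ?_)
      exact dif_pos P.2
  · ext a
    rw [LinearMap.mem_ker, funext_iff]
    simp only [Submodule.mem_comap, Submodule.subtype_apply]
    constructor
    · intro h P
      by_cases hP : P ∈ s
      · exact (Submodule.Quotient.mk_eq_zero _).1 (h ⟨P, hP⟩)
      · have he : E P = D P := by simpa [s, Finsupp.mem_support_iff, sub_eq_zero] using hP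
        exact he ▸ a.2 P
    · intro h P
      exact (Submodule.Quotient.mk_eq_zero _).2 (h P.1)

theorem rel_ADK (h : FF k K) {D E : Divisor k K} (hle : D ≤ E) :
    Rel (AD D ⊔ LinearMap.range (diag k K)) (AD E ⊔ LinearMap.range (diag k K))
      (delta E - delta D) := by
  have hr := rel_AD h hle
  haveI := hr.fin
  obtain ⟨m, hL, -⟩ := rel_L h hle
  haveI := hL.fin
  set Kd := LinearMap.range (diag k K)
  let f : (AD E ⧸ (AD D).comap (AD E).subtype) →ₗ[k]
      ((AD E ⊔ Kd : Submodule k _) ⧸ (AD D ⊔ Kd).comap (AD E ⊔ Kd).subtype) :=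
    Submodule.mapQ _ _ (Submodule.inclusion le_sup_left) (fun x hx => Submodule.mem_sup_left hx)
  have hf : Function.Surjective f := by
    intro y
    obtain ⟨⟨y, hy⟩, rfl⟩ := Submodule.mkQ_surjective _ y
    obtain ⟨a, ha, b, hb, rfl⟩ := Submodule.mem_sup.1 hy
    refine ⟨Submodule.Quotient.mk ⟨a, ha⟩, ?_⟩
    refine (Submodule.Quotient.eq _).2 ?_
    show a - (a + b) ∈ AD D ⊔ Kd
    rw [sub_add_cancel_left]
    exact Submodule.mem_sup_right (neg_mem hb)
  let g : (FunFld.L E ⧸ (FunFld.L D).comap (FunFld.L E).subtype) →ₗ[k]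
      (AD E ⧸ (AD D).comap (AD E).subtype) :=
    Submodule.mapQ _ _
      { toFun := fun x => (⟨fun _ => (x : K), fun P => x.2 P⟩ : AD E)
        map_add' := fun _ _ => rfl
        map_smul' := fun _ _ => rfl } (fun x hx => hx)
  have hg : Function.Injective g := by
    rw [← LinearMap.ker_eq_bot, eq_bot_iff]
    intro y hy
    obtain ⟨x, rfl⟩ := Submodule.mkQ_surjective _ y
    have h1 := (Submodule.Quotient.mk_eq_zero ((AD D).comap (AD E).subtype)).1 hy
    exact (Submodule.Quotient.mk_eq_zero _).2 h1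
  have hker : LinearMap.ker f = LinearMap.range g := by
    apply le_antisymm
    · intro y hy
      obtain ⟨⟨a, ha⟩, rfl⟩ := Submodule.mkQ_surjective _ y
      have h1 : a ∈ AD D ⊔ Kd :=
        (Submodule.Quotient.mk_eq_zero ((AD D ⊔ Kd).comap (AD E ⊔ Kd).subtype)).1 hy
      obtain ⟨u, hu, v, ⟨x, rfl⟩, huv⟩ := Submodule.mem_sup.1 h1
      have hx : x ∈ FunFld.L E := fun P => by
        have he : x = a P - u P := by rw [← huv]; simp [diag]
        rw [he]
        exact P.1.map_sub_le (ha P) ((hu P).trans (exp_le_exp.2 (hle P)))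
      refine ⟨Submodule.Quotient.mk ⟨x, hx⟩, (Submodule.Quotient.eq _).2 ?_⟩
      show (fun _ => x) - a ∈ AD D
      have : (fun _ => x) - a = -u := by rw [← huv]; funext P; simp [diag]
      rw [this]
      exact neg_mem hu
    · rintro _ ⟨y, rfl⟩
      obtain ⟨x, rfl⟩ := Submodule.mkQ_surjective _ y
      exact (Submodule.Quotient.mk_eq_zero _).2 (Submodule.mem_sup_right ⟨x.1, rfl⟩)
  haveI hfin := Module.Finite.of_surjective f hf
  refine ⟨sup_le_sup_right (AD_mono hle) _, hfin, ?_⟩
  have h1 := f.finrank_range_add_finrank_ker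
  rw [LinearMap.range_eq_top.2 hf, finrank_top, hker, LinearMap.finrank_range_of_inj hg] at h1
  haveI := finiteDimensional_L h D
  have h2 := hL.finiteDimensional.2
  have h3 := hr.eq
  have h4 := hL.eq
  simp only [delta, ell]
  omega

theorem exists_adele_le (hK : IsFunctionField k K) (D : Divisor k K) :
    ∃ E : Divisor k K, D ≤ E ∧ delta E = genus k K ∧
      ∀ a ∈ adele k K, a ∈ AD E ⊔ LinearMap.range (diag k K) := by
  obtain ⟨N, hN⟩ := exists_deg_delta hK
  obtain ⟨E, hE, hEd⟩ := exists_ge_deg_ge (ff hK) D N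
  refine ⟨E, hE, hN E hEd, fun a ha => ?_⟩
  obtain ⟨D', -, hD'⟩ := exists_mem_AD ha
  have hr := rel_ADK (ff hK) (D := E) (E := E ⊔ D') le_sup_left
  rw [hN E hEd, hN _ (hEd.trans (deg_mono le_sup_left)), sub_self] at hr
  haveI := hr.fin
  have hsub : Subsingleton (↥(AD (E ⊔ D') ⊔ LinearMap.range (diag k K)) ⧸
      (AD E ⊔ LinearMap.range (diag k K)).comap
        (AD (E ⊔ D') ⊔ LinearMap.range (diag k K)).subtype) :=
    Module.finrank_zero_iff.1 (by exact_mod_cast hr.eq)
  have := (Submodule.Quotient.mk_eq_zero _).1 (hsub.elim (Submodule.Quotient.mk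
    ⟨a, Submodule.mem_sup_left (AD_mono le_sup_right hD')⟩) 0)
  exact this

theorem diag_mem_adele (h : FF k K) (x : K) : diag k K x ∈ adele k K := by
  refine (finite_support_ord h x).subset fun P hP => ?_
  simp only [Function.mem_support]
  intro h0
  exact hP ((ord_nonneg_iff P x).1 h0.ge)

theorem finrank_adele_quotient (hK : IsFunctionField k K) (D : Divisor k K) :
    FiniteDimensional k (adele k K ⧸ ADK D) ∧
      (Module.finrank k (adele k K ⧸ ADK D) : ℤ) = genus k K - delta D := by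
  obtain ⟨E, hE, hdE, hall⟩ := exists_adele_le hK D
  have hEq : adele k K = AD E ⊔ LinearMap.range (diag k K) := by
    refine le_antisymm hall (sup_le (AD_le_adele E) ?_)
    rintro _ ⟨x, rfl⟩
    exact diag_mem_adele (ff hK) x
  have hr := rel_ADK (ff hK) hE
  rw [← hEq, hdE] at hr
  exact ⟨hr.fin, hr.eq⟩

theorem finrank_WD (hK : IsFunctionField k K) (D : Divisor k K) :
    FiniteDimensional k (WD D) ∧ (Module.finrank k (WD D) : ℤ) = genus k K - delta D := by
  obtain ⟨h1, h2⟩ := finrank_adele_quotient hK D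
  let e : Module.Dual k (adele k K ⧸ ADK D) ≃ₗ[k] WD D :=
    Submodule.dualQuotEquivDualAnnihilator _
  refine ⟨Module.Finite.equiv e, ?_⟩
  rw [← e.finrank_eq, Subspace.dual_finrank_eq]
  exact h2

end Groth.Agent.FunField
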