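import Groth.Agent.Lib.FunField.RR
import Groth.Agent.Lib.FunField.Embed
import Groth.Agent.Lib.GeomFF26.Basic
import Groth.Agent.Lib.FunField.Proj3
import Mathlib.RingTheory.DedekindDomain.Different
import Mathlib.RingTheory.Valuation.LocalSubring
import Mathlib.FieldTheory.IntermediateField.Adjoin.Algebra

/-! # Finiteness of the singular places -/

namespace Groth.Agent.FunField.Singular

open WithZero FunFld TensorProduct Polynomial IntermediateField
open scoped Multiplicative IntermediateField.algebraAdjoinAdjoin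

variable {k K : Type*} [Field k] [Field K] [Algebra k K]

/-- An element without poles over the `x`-line is integral over `k[x]`. -/
theorem isIntegral_of_no_finite_pole (h : FF k K) {x z : K}
    (hz : ∀ Q : Place k K, Q.1 x ≤ 1 → Q.1 z ≤ 1) : IsIntegral (Algebra.adjoin k ({x} : Set K)) z := by
  set A := Algebra.adjoin k ({x} : Set K)
  have hmem : z ∈ (⨅ V : {V : ValuationSubring K // (A : Set K) ⊆ V.toSubring}, V.1.toSubring) := by
    rw [Subring.mem_iInf]
    rintro ⟨V, hV⟩
    by_cases hF : IsField V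
    · by_contra hzV
      rcases V.mem_or_inv_mem z with h1 | h1
      · exact hzV h1
      · have hz0 : z ≠ 0 := fun e => hzV (e ▸ zero_mem _)
        obtain ⟨b, hb⟩ := hF.mul_inv_cancel (a := (⟨z⁻¹, h1⟩ : V))
          (fun e => inv_ne_zero hz0 (congrArg Subtype.val e))
        have : z⁻¹ * (b : K) = 1 := congrArg Subtype.val hb
        exact hzV (by rw [← inv_inv z, inv_eq_of_mul_eq_one_right this]; exact b.2)
    · obtain ⟨Q, hQ⟩ := h.exists_place_of_valuationSubring V (fun c => hV (A.algebraMap_mem c)) hF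
      have hxV : x ∈ V := hV (Algebra.subset_adjoin rfl)
      have h2 : z ∈ Q.O := hz Q (by rw [← hQ] at hxV; exact hxV)
      rw [hQ] at h2; exact h2
  rw [iInf_valuationSubring_superset] at hmem
  have hint : IsIntegral (Subring.closure (A : Set K)) z := hmem
  have hle : Subring.closure (A : Set K) ≤ A.toSubring := Subring.closure_le.2 fun a ha => ha
  obtain ⟨p, hp, hpz⟩ := hint
  refine ⟨p.map (Subring.inclusion hle), hp.map _, ?_⟩
  rw [eval₂_map]
  exact hpz

theorem exists_integral_generator (x : K) [FiniteDimensional k⟮x⟯ K] [Algebra.IsSeparable k⟮x⟯ K] :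
    ∃ γ : K, IsIntegral (Algebra.adjoin k ({x} : Set K)) γ ∧ k⟮x⟯⟮γ⟯ = ⊤ := by
  obtain ⟨γ, hγ⟩ := Field.exists_primitive_element k⟮x⟯ K
  obtain ⟨y, hy, hint⟩ := exists_integral_multiples (Algebra.adjoin k ({x} : Set K)) k⟮x⟯ ({γ} : Finset K)
  refine ⟨y • γ, hint γ (Finset.mem_singleton_self γ), ?_⟩
  rw [← top_le_iff, ← hγ, adjoin_simple_le_iff]
  have hy0 : (y : K) ≠ 0 := fun e => hy (Subtype.ext e)
  have hyX : (y : K) ∈ k⟮x⟯⟮y • γ⟯ := by
    exact IntermediateField.algebraMap_mem k⟮x⟯⟮y • γ⟯
      (⟨(y : K), algebra_adjoin_le_adjoin k _ y.2⟩ : k⟮x⟯)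
  have : γ = (y : K)⁻¹ * (y • γ) := by
    rw [show y • γ = (y : K) * γ from rfl, inv_mul_cancel_left₀ hy0]
  have m := mul_mem (inv_mem hyX) (mem_adjoin_simple_self k⟮x⟯ (y • γ))
  rwa [← this] at m

/-- Clearing the denominators of finitely many elements of `O_P`. -/
theorem exists_clear (hK : IsFunctionField k K) {x : K} (hx : Transcendental k x)
    (P : Place k K) (hPx : P.1 x ≤ 1) (T : Finset K) (hT : ∀ a ∈ T, P.1 a ≤ 1) :
    ∃ s : K, P.1 s = 1 ∧ IsIntegral (Algebra.adjoin k ({x} : Set K)) s ∧
      ∀ a ∈ T, IsIntegral (Algebra.adjoin k ({x} : Set K)) (s * a) := by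
  classical
  have h := ff hK
  set E := poleDiv (k := k) x
  have hE : 0 < E.deg := by
    haveI := h.finiteDimensional hx
    rw [deg_poleDiv h hx]; exact_mod_cast Module.finrank_pos
  set Z := ∑ a ∈ T, poleDiv (k := k) a
  obtain ⟨m, hm⟩ : ∃ m : ℕ, 2 * (genus k K : ℤ) + Z.deg + P.deg ≤ m * E.deg :=
    ⟨(2 * (genus k K : ℤ) + Z.deg + P.deg).toNat, le_trans (Int.self_le_toNat _)
      (le_mul_of_one_le_right (by positivity) (by omega))⟩
  set D := m • E - Z
  have hd1 : D.deg = m * E.deg - Z.deg := by rw [deg_sub, deg_smul]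
  have h1 := ell_of_large_deg hK D (by omega)
  have h2 := ell_of_large_deg hK (D - Finsupp.single P 1) (by rw [deg_sub, deg_single]; omega)
  rw [deg_sub, deg_single] at h2
  haveI := finiteDimensional_L h (D - Finsupp.single P 1)
  obtain ⟨s, hs, hns⟩ := SetLike.not_le_iff_exists.1 fun hle : FunFld.L D ≤ FunFld.L (D - Finsupp.single P 1) => by
    have := Submodule.finrank_mono hle
    have := deg_pos h P
    unfold ell at h1 h2
    omega
  have hEP : E P = 0 := by
    rw [poleDiv_apply h]
    rcases eq_or_ne x 0 with rfl | hx0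
    · simp
    · have := (val_le_one_iff P hx0).1 hPx; omega
  have hZ : ∀ (Q : Place k K) (a : K), a ∈ T → 0 ≤ Z Q ∧ poleDiv (k := k) a Q ≤ Z Q := by
    intro Q a ha
    have hnn : ∀ b ∈ T, 0 ≤ poleDiv (k := k) b Q := fun b _ => by rw [poleDiv_apply h]; omega
    simp only [Z, Finsupp.finsetSum_apply]
    exact ⟨Finset.sum_nonneg hnn, Finset.single_le_sum hnn ha⟩
  have hZP : Z P = 0 := by
    simp only [Z, Finsupp.finsetSum_apply]
    refine Finset.sum_eq_zero fun a ha => ?_
    rw [poleDiv_apply h]
    rcases eq_or_ne a 0 with rfl | ha0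
    · simp
    · have := (val_le_one_iff P ha0).1 (hT a ha); omega
  have hEQ : ∀ Q : Place k K, Q.1 x ≤ 1 → E Q = 0 := fun Q hQ => by
    rw [poleDiv_apply h]
    rcases eq_or_ne x 0 with rfl | hx0
    · simp
    · have := (val_le_one_iff Q hx0).1 hQ; omega
  have hZnn : ∀ Q, 0 ≤ Z Q := fun Q => by
    simp only [Z, Finsupp.finsetSum_apply]
    exact Finset.sum_nonneg fun b _ => by rw [poleDiv_apply h]; omega
  refine ⟨s, ?_, isIntegral_of_no_finite_pole h fun Q hQ => (hs Q).trans ?_,
    fun a ha => isIntegral_of_no_finite_pole h fun Q hQ => ?_⟩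
  · rw [eq_exp_of_notMem_sub hs hns]
    simp [D, hEP, hZP]
  · rw [← exp_zero, exp_le_exp]
    have := hZnn Q
    simp [D, hEQ Q hQ]; omega
  · rcases eq_or_ne a 0 with rfl | ha0
    · simp
    rw [map_mul]
    refine (mul_le_mul' (hs Q) (val_eq_exp_neg_ord Q ha0).le).trans ?_
    rw [← exp_add, ← exp_zero, exp_le_exp]
    have := (hZ Q a ha).2
    rw [poleDiv_apply h] at this
    simp [D, hEQ Q hQ]; omega

variable {k' K' : Type*} [Field k'] [Field K'] [Algebra k k'] [Algebra K K'] [Algebra k' K'] [Algebra k K']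
  [IsScalarTower k k' K'] [IsScalarTower k K K']

theorem mem_adjoin_of_integral [FiniteDimensional k k'] (hK : IsFunctionField k K)
    (h : Function.Bijective (Algebra.TensorProduct.productMap
      (IsScalarTower.toAlgHom k k' K') (IsScalarTower.toAlgHom k K K')))
    {x γ : K} (hx : Transcendental k x) [Algebra.IsSeparable k⟮x⟯ K]
    (hγ : IsIntegral (Algebra.adjoin k ({x} : Set K)) γ) (hgen : k⟮x⟯⟮γ⟯ = ⊤)
    (P : Place k K) (hPx : P.1 x ≤ 1)
    (hPd : P.1 (aeval γ (derivative (minpoly k⟮x⟯ γ))) = 1)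
    {z : K'} (hz : IsIntegral (P.O.toSubring.map (algebraMap K K')) z) :
    z ∈ Algebra.adjoin (P.O.toSubring.map (algebraMap K K')) (Set.range (algebraMap k' K')) := by
  classical
  set xb := algebraMap K K' x with hxb
  set γb := algebraMap K K' γ with hγb
  have hxbt : Transcendental k' xb := fun ha => hx <| by
    have h' : IsAlgebraic k xb := IsAlgebraic.restrictScalars k ha
    exact (isAlgebraic_algHom_iff (IsScalarTower.toAlgHom k K K') (algebraMap K K').injective).1 h'
  let L := k'⟮xb⟯
  let A := Algebra.adjoin k' ({xb} : Set K')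
  haveI : FaithfulSMul A L := (faithfulSMul_iff_algebraMap_injective A L).2 fun a b e =>
    Subtype.ext (congrArg (fun u : L => (u : K')) e)
  haveI : IsFractionRing A L := IsFractionRing.of_field A L fun z => by
    obtain ⟨r, hr, s, hs, e⟩ := IntermediateField.mem_adjoin_iff_div.1 z.2
    exact ⟨⟨r, hr⟩, ⟨s, hs⟩, Subtype.ext e⟩
  haveI : IsScalarTower A L K' := IsScalarTower.of_algebraMap_eq fun _ => rfl
  haveI : IsIntegrallyClosed A := by
    have e : k'[X] ≃ₐ[k'] A := (AlgEquiv.ofInjective (aeval xb)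
      (transcendental_iff_injective.1 hxbt)).trans
      (Subalgebra.equivOfEq _ _ (Algebra.adjoin_singleton_eq_range_aeval k' xb).symm)
    exact IsIntegrallyClosed.of_equiv e.toRingEquiv
  have hι : ∀ r : K, r ∈ k⟮x⟯ → algebraMap K K' r ∈ L := fun r hr => by
    have : k⟮x⟯ ≤ (L.restrictScalars k).comap (IsScalarTower.toAlgHom k K K') :=
      adjoin_simple_le_iff.2 (mem_adjoin_simple_self k' xb)
    exact this hr
  let ι : k⟮x⟯ →+* L := ((algebraMap K K').comp k⟮x⟯.val.toRingHom).codRestrict L fun r => hι r r.2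
  have hιc : (algebraMap L K').comp ι = (algebraMap K K').comp (algebraMap k⟮x⟯ K) := rfl
  -- integrality transfers
  have hAint : ∀ {r : K}, IsIntegral (Algebra.adjoin k ({x} : Set K)) r → IsIntegral A (algebraMap K K' r) := by
    intro r hr
    have hmem : ∀ a : Algebra.adjoin k ({x} : Set K), algebraMap K K' a ∈ A := fun a => by
      have : Algebra.adjoin k ({x} : Set K) ≤ (A.restrictScalars k).comap (IsScalarTower.toAlgHom k K K') :=
        Algebra.adjoin_le (by rintro _ rfl; exact Algebra.subset_adjoin rfl)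
      exact this a.2
    let f : Algebra.adjoin k ({x} : Set K) →+* A :=
      ((algebraMap K K').comp (Algebra.adjoin k ({x} : Set K)).val.toRingHom).codRestrict A hmem
    obtain ⟨p, hp, hp0⟩ := hr
    refine ⟨p.map f, hp.map f, ?_⟩
    rw [eval₂_map, show (algebraMap A K').comp f = (algebraMap K K').comp (algebraMap _ K) from rfl,
      ← hom_eval₂, hp0, map_zero]
  have hγA : IsIntegral A γb := hAint hγ
  have hγL : IsIntegral L γb := hγA.tower_top
  haveI : IsScalarTower k L K' := IsScalarTower.of_algebraMap_eq fun c => by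
    show algebraMap k K' c = ((algebraMap k L c : L) : K')
    rfl
  have htop : L⟮γb⟯ = ⊤ := by
    rw [eq_top_iff]
    intro w hw
    obtain ⟨u, rfl⟩ := h.2 w
    clear hw
    induction u using TensorProduct.induction_on with
    | zero => simp
    | add p q hp hq => rw [map_add]; exact add_mem hp hq
    | tmul c r =>
      show algebraMap k' K' c * algebraMap K K' r ∈ _
      refine mul_mem (IntermediateField.algebraMap_mem L⟮γb⟯ (algebraMap k' L c)) ?_
      have hle : k⟮x⟯⟮γ⟯.restrictScalars k ≤ (L⟮γb⟯.restrictScalars k).comap (IsScalarTower.toAlgHom k K K') := by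
        rw [restrictScalars_adjoin, adjoin_le_iff]
        rintro y (hy | rfl)
        · exact IntermediateField.algebraMap_mem L⟮γb⟯ (⟨algebraMap K K' y, hι y hy⟩ : L)
        · exact mem_adjoin_simple_self _ _
      exact hle (show r ∈ k⟮x⟯⟮γ⟯.restrictScalars k by rw [hgen]; trivial)
  have htopA : Algebra.adjoin L ({γb} : Set K') = ⊤ := by
    rw [← adjoin_simple_toSubalgebra_of_isAlgebraic hγL.isAlgebraic, htop, top_toSubalgebra]
  haveI : FiniteDimensional L K' := by
    haveI := adjoin.finiteDimensional hγL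
    exact Module.Finite.equiv ((IntermediateField.equivOfEq htop).trans IntermediateField.topEquiv).toLinearEquiv
  set g := (minpoly k⟮x⟯ γ).map ι
  have hγk : IsIntegral k⟮x⟯ γ := hγ.tower_top
  have hg0 : aeval γb g = 0 := by
    rw [aeval_def, eval₂_map, hιc, ← hom_eval₂, ← aeval_def, minpoly.aeval, map_zero]
  have hdvd : minpoly L γb ∣ g := minpoly.dvd _ _ hg0
  have hgsep : g.Separable := Polynomial.Separable.map (Algebra.IsSeparable.isSeparable k⟮x⟯ γ)
  haveI : Algebra.IsSeparable L K' := by
    have : Algebra.IsSeparable L L⟮γb⟯ :=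
      (isSeparable_adjoin_simple_iff_isSeparable L K').2 (hgsep.of_dvd hdvd)
    haveI := this
    exact AlgEquiv.Algebra.isSeparable ((IntermediateField.equivOfEq htop).trans IntermediateField.topEquiv)
  -- the cofactor has coefficients in `A`
  obtain ⟨pγ, hpγm, hpγ⟩ : ∃ p : A[X], p.Monic ∧ p.map (algebraMap A L) = g := by
    haveI : IsIntegrallyClosed (Algebra.adjoin k ({x} : Set K)) := by
      have e : k[X] ≃ₐ[k] Algebra.adjoin k ({x} : Set K) := (AlgEquiv.ofInjective (aeval x)
        (transcendental_iff_injective.1 hx)).trans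
        (Subalgebra.equivOfEq _ _ (Algebra.adjoin_singleton_eq_range_aeval k x).symm)
      exact IsIntegrallyClosed.of_equiv e.toRingEquiv
    have hmem : ∀ a : Algebra.adjoin k ({x} : Set K), algebraMap K K' a ∈ A := fun a => by
      have : Algebra.adjoin k ({x} : Set K) ≤ (A.restrictScalars k).comap (IsScalarTower.toAlgHom k K K') :=
        Algebra.adjoin_le (by rintro _ rfl; exact Algebra.subset_adjoin rfl)
      exact this a.2
    let f : Algebra.adjoin k ({x} : Set K) →+* A :=
      ((algebraMap K K').comp (Algebra.adjoin k ({x} : Set K)).val.toRingHom).codRestrict A hmem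
    refine ⟨(minpoly (Algebra.adjoin k ({x} : Set K)) γ).map f, (minpoly.monic hγ).map f, ?_⟩
    show _ = (minpoly k⟮x⟯ γ).map ι
    rw [minpoly.isIntegrallyClosed_eq_field_fractions' k⟮x⟯ hγ, Polynomial.map_map, Polynomial.map_map]
    rfl
  obtain ⟨q, hq⟩ := hdvd
  have hqg : q ∣ pγ.map (algebraMap A L) := by rw [hpγ, hq]; exact dvd_mul_left _ _
  obtain ⟨q', hq'⟩ := IsIntegrallyClosed.eq_map_mul_C_of_dvd L hpγm hqg
  have hqm : q.Monic := (minpoly.monic hγL).of_mul_monic_left (hq ▸ hpγ ▸ hpγm.map _)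
  rw [hqm.leadingCoeff, C_1, mul_one] at hq'
  have hcof : aeval γb q ∈ Algebra.adjoin A ({γb} : Set K') := by
    rw [← hq', aeval_map_algebraMap]
    rw [Algebra.adjoin_singleton_eq_range_aeval]; exact ⟨q', rfl⟩
  have hder : aeval γb (derivative g) = aeval γb (derivative (minpoly L γb)) * aeval γb q := by
    rw [hq, derivative_mul, map_add, map_mul, map_mul, minpoly.aeval, zero_mul, add_zero]
  -- the trace argument
  have key : ∀ w : K', IsIntegral A w → aeval γb (derivative g) * w ∈ Algebra.adjoin A ({γb} : Set K') := by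
    intro w hw
    have hdual : w ∈ (Algebra.traceForm L K').dualSubmodule
        (Subalgebra.toSubmodule (Algebra.adjoin A ({γb} : Set K'))) := by
      intro y hy
      rw [Algebra.traceForm_apply]
      have hyint : IsIntegral A y := by
        have : Algebra.adjoin A ({γb} : Set K') ≤ integralClosure A K' :=
          Algebra.adjoin_le (by rintro _ rfl; exact hγA)
        exact this hy
      obtain ⟨r, hr⟩ := IsIntegrallyClosed.isIntegral_iff.1 (Algebra.isIntegral_trace (L := L) (hw.mul hyint))
      exact Submodule.mem_one.2 ⟨r, hr⟩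
    rw [traceForm_dualSubmodule_adjoin A L htopA hγA] at hdual
    obtain ⟨b, hb, rfl⟩ := hdual
    have hne : aeval γb (derivative (minpoly L γb)) ≠ 0 :=
      (Algebra.IsSeparable.isSeparable L γb).aeval_derivative_ne_zero (minpoly.aeval _ _)
    show aeval γb (derivative g) * ((aeval γb (derivative (minpoly L γb)))⁻¹ • b) ∈ _
    rw [hder, smul_eq_mul]
    rw [show ∀ u v : K', u * v * (u⁻¹ * b) = (u * u⁻¹) * (v * b) from fun u v => by ring,
      mul_inv_cancel₀ hne, one_mul]
    exact mul_mem hcof hb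
  -- clear denominators of an integral equation
  set R := P.O.toSubring.map (algebraMap K K')
  obtain ⟨p, hpm, hp0⟩ := hz
  have hpre : ∀ i, ∃ a : K, P.1 a ≤ 1 ∧ algebraMap K K' a = (p.coeff i : K') := fun i => by
    obtain ⟨a, ha, e⟩ := Subring.mem_map.1 (p.coeff i).2
    exact ⟨a, ha, e⟩
  choose a ha hae using hpre
  obtain ⟨s, hs1, hsint, hsa⟩ := exists_clear hK hx P hPx ((Finset.range p.natDegree).image a)
    (by intro b hb; obtain ⟨i, -, rfl⟩ := Finset.mem_image.1 hb; exact ha i)
  set sb := algebraMap K K' s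
  have hw : IsIntegral A (sb * z) := by
    let S := integralClosure A K'
    have hsS : sb ∈ S := hAint hsint
    refine isIntegral_trans (R := A) (A := S) (sb * z) ?_
    let c : ℕ → S := fun i => if hi : i < p.natDegree then
      ⟨algebraMap K K' (s * a i) * sb ^ (p.natDegree - i - 1), ?_⟩ else 0
    · refine ⟨X ^ p.natDegree + ∑ i ∈ Finset.range p.natDegree, C (c i) * X ^ i, ?_, ?_⟩
      · exact monic_X_pow_add ((degree_sum_le _ _).trans_lt ((Finset.sup_lt_iff (WithBot.bot_lt_coe _)).2 fun i hi =>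
          (degree_C_mul_X_pow_le _ _).trans_lt (by exact_mod_cast Finset.mem_range.1 hi)))
      · rw [eval₂_eq_sum_range] at hp0
        rw [Finset.sum_range_succ, hpm.coeff_natDegree, map_one, one_mul] at hp0
        rw [eval₂_add, eval₂_X_pow, eval₂_finsetSum]
        simp only [eval₂_mul, eval₂_C, eval₂_X_pow]
        have e : ∀ i ∈ Finset.range p.natDegree, algebraMap S K' (c i) * (sb * z) ^ i =
            sb ^ p.natDegree * (algebraMap R K' (p.coeff i) * z ^ i) := fun i hi => by
          have hi' := Finset.mem_range.1 hi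
          simp only [c, dif_pos hi']
          show algebraMap K K' (s * a i) * sb ^ (p.natDegree - i - 1) * _ = _
          rw [map_mul, hae, mul_pow]
          show sb * (p.coeff i : K') * _ * _ = sb ^ p.natDegree * ((p.coeff i : K') * z ^ i)
          have : sb ^ p.natDegree = sb * sb ^ (p.natDegree - i - 1) * sb ^ i := by
            rw [← pow_succ', ← pow_add]; congr 1; omega
          rw [this]; ring
        rw [Finset.sum_congr rfl e, ← Finset.mul_sum, mul_pow, ← mul_add, add_comm, hp0, mul_zero]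
    · exact mul_mem (hAint (hsa _ (Finset.mem_image_of_mem a (Finset.mem_range.2 hi)))) (pow_mem hsS _)
  set T := Algebra.adjoin R (Set.range (algebraMap k' K'))
  have hKT : ∀ r : K, P.1 r ≤ 1 → algebraMap K K' r ∈ T := fun r hr =>
    T.algebraMap_mem ⟨_, Subring.mem_map.2 ⟨r, hr, rfl⟩⟩
  have hint_le : ∀ {r : K}, IsIntegral (Algebra.adjoin k ({x} : Set K)) r → P.1 r ≤ 1 := by
    intro r hr
    have hle : (Algebra.adjoin k ({x} : Set K) : Set K) ⊆ P.O := by
      intro b hb
      induction hb using Algebra.adjoin_induction with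
      | mem w hw => rw [Set.mem_singleton_iff] at hw; subst hw; exact hPx
      | algebraMap c => exact P.2.1 c
      | add u v _ _ hu hv => exact add_mem hu hv
      | mul u v _ _ hu hv => exact mul_mem hu hv
    let f : Algebra.adjoin k ({x} : Set K) →+* P.O :=
      (Algebra.adjoin k ({x} : Set K)).val.toRingHom.codRestrict P.O fun b => hle b.2
    obtain ⟨p, hp, hp0⟩ := hr
    obtain ⟨o, ho⟩ := IsIntegrallyClosed.isIntegral_iff.1
      (⟨p.map f, hp.map f, by rw [eval₂_map]; exact hp0⟩ : IsIntegral P.O r)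
    exact ho ▸ o.2
  have hAT : ∀ w ∈ Algebra.adjoin A ({γb} : Set K'), w ∈ T := by
    intro w hw
    induction hw using Algebra.adjoin_induction with
    | mem v hv => rw [Set.mem_singleton_iff] at hv; subst hv; exact hKT γ (hint_le hγ)
    | algebraMap c =>
      obtain ⟨c, hc⟩ := c
      show c ∈ T
      induction hc using Algebra.adjoin_induction with
      | mem v hv => rw [Set.mem_singleton_iff] at hv; subst hv; exact hKT x hPx
      | algebraMap d => exact Algebra.subset_adjoin ⟨d, rfl⟩
      | add u v _ _ hu hv => exact add_mem hu hv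
      | mul u v _ _ hu hv => exact mul_mem hu hv
    | add u v _ _ hu hv => exact add_mem hu hv
    | mul u v _ _ hu hv => exact mul_mem hu hv
  set d := aeval γ (derivative (minpoly k⟮x⟯ γ))
  have hd : algebraMap K K' d = aeval γb (derivative g) := by
    rw [derivative_map]
    simp only [d, aeval_def, eval₂_map, hιc]
    exact hom_eval₂ _ _ _ _
  have h1 := hAT _ (key _ hw)
  rw [← hd, ← mul_assoc, ← map_mul] at h1
  have hds : P.1 (d * s) = 1 := by rw [map_mul, hPd, hs1, one_mul]
  have hds0 : d * s ≠ 0 := fun e => by rw [e, map_zero] at hds; exact zero_ne_one hds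
  have h2 := mul_mem (hKT (d * s)⁻¹ (by rw [map_inv₀, hds, inv_one])) h1
  rwa [← mul_assoc, ← map_mul, inv_mul_cancel₀ hds0, map_one, one_mul] at h2

end Groth.Agent.FunField.Singular

namespace Groth.Agent.FunField.Singular

open WithZero FunFld TensorProduct Polynomial IntermediateField
open scoped Multiplicative

universe u v

theorem finite_singular (k : Type u) (K : Type v) [Field k] [Field K] [Algebra k K]
    (hK : IsFunctionField k K) (hg : IsGeometric k K) :
    {P : Place k K | ∃ (k' : Type u) (_ : Field k') (_ : Algebra k k'), FiniteDimensional k k' ∧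
      integralClosure (P.O.toSubring.map (Algebra.TensorProduct.includeRight : K →ₐ[k] k' ⊗[k] K).toRingHom) (k' ⊗[k] K) ≠
        Algebra.adjoin (P.O.toSubring.map (Algebra.TensorProduct.includeRight : K →ₐ[k] k' ⊗[k] K).toRingHom)
          (Set.range (Algebra.TensorProduct.includeLeftRingHom : k' →+* k' ⊗[k] K))}.Finite := by
  classical
  have h := ff hK
  obtain ⟨x, hx, hsep⟩ := GeomFF26.exists_separating h hg
  haveI := hsep
  haveI := h.finiteDimensional hx
  obtain ⟨γ, hγ, hgen⟩ := exists_integral_generator (k := k) x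
  set d := aeval γ (derivative (minpoly k⟮x⟯ γ))
  have hd0 : d ≠ 0 := (Algebra.IsSeparable.isSeparable k⟮x⟯ γ).aeval_derivative_ne_zero (minpoly.aeval _ _)
  have hx0 : x ≠ 0 := fun e => hx (e ▸ isAlgebraic_zero)
  refine (((finite_zeros_set h (inv_ne_zero hx0)).union (finite_zeros_set h hd0)).union
    (finite_zeros_set h (inv_ne_zero hd0))).subset fun P hP => ?_
  by_contra hgood
  simp only [Set.mem_union, Set.mem_setOf_eq, map_inv₀, not_or, not_lt] at hgood
  obtain ⟨⟨hPx, hPd⟩, hPd'⟩ := hgood
  rw [one_le_inv₀ (zero_lt_iff.2 ((Valuation.ne_zero_iff _).2 hx0))] at hPx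
  rw [one_le_inv₀ (zero_lt_iff.2 ((Valuation.ne_zero_iff _).2 hd0))] at hPd'
  obtain ⟨k', _, _, hfin, hne⟩ := hP
  haveI := hfin
  have hint : ∀ c : k', IsIntegral (P.O.toSubring.map (Algebra.TensorProduct.includeRight : K →ₐ[k] k' ⊗[k] K).toRingHom)
      ((Algebra.TensorProduct.includeLeftRingHom : k' →+* k' ⊗[k] K) c) := by
    intro c
    obtain ⟨p, hpm, hp0⟩ := IsIntegral.of_finite k c
    let f : k →+* (P.O.toSubring.map (Algebra.TensorProduct.includeRight : K →ₐ[k] k' ⊗[k] K).toRingHom) :=
      (((Algebra.TensorProduct.includeRight : K →ₐ[k] k' ⊗[k] K).toRingHom).comp (algebraMap k K)).codRestrict _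
        fun r => Subring.mem_map.2 ⟨algebraMap k K r, P.2.1 r, rfl⟩
    refine ⟨p.map f, hpm.map f, ?_⟩
    rw [eval₂_map]
    have hcomp : (algebraMap _ (k' ⊗[k] K)).comp f =
        (Algebra.TensorProduct.includeLeftRingHom : k' →+* k' ⊗[k] K).comp (algebraMap k k') := by
      refine RingHom.ext fun r => ?_
      show ((1 : k') ⊗ₜ[k] algebraMap k K r : k' ⊗[k] K) = algebraMap k k' r ⊗ₜ[k] (1 : K)
      rw [Algebra.algebraMap_eq_smul_one, Algebra.algebraMap_eq_smul_one, TensorProduct.smul_tmul]
    rw [hcomp, ← hom_eval₂]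
    erw [hp0]
    exact map_zero _
  have hfield : IsField (k' ⊗[k] K) := hg k' hfin
  letI : Field (k' ⊗[k] K) := hfield.toField
  letI : Algebra K (k' ⊗[k] K) := Algebra.TensorProduct.rightAlgebra
  haveI : IsScalarTower k K (k' ⊗[k] K) := IsScalarTower.of_algebraMap_eq fun c =>
    ((Algebra.TensorProduct.includeRight : K →ₐ[k] k' ⊗[k] K).commutes c).symm
  have e : ∀ z, Algebra.TensorProduct.productMap
      (IsScalarTower.toAlgHom k k' (k' ⊗[k] K)) (IsScalarTower.toAlgHom k K (k' ⊗[k] K)) z = z := fun z => by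
    induction z using TensorProduct.induction_on with
    | zero => simp
    | add p q hp hq => rw [map_add, hp, hq]
    | tmul a x =>
      show (a ⊗ₜ[k] (1 : K)) * ((1 : k') ⊗ₜ[k] x) = _
      simp
  have hbij : Function.Bijective (Algebra.TensorProduct.productMap
      (IsScalarTower.toAlgHom k k' (k' ⊗[k] K)) (IsScalarTower.toAlgHom k K (k' ⊗[k] K))) :=
    ⟨fun a b h => by rwa [e, e] at h, fun z => ⟨z, e z⟩⟩
  refine hne (le_antisymm (fun z hz => ?_) (Algebra.adjoin_le ?_))
  · exact mem_adjoin_of_integral hK hbij hx hγ hgen P hPx (le_antisymm hPd' hPd) hz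
  · rintro _ ⟨c, rfl⟩
    exact hint c

end Groth.Agent.FunField.Singular
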