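import Groth.Agent.Lib.FunField.ConstExt26
import Groth.Agent.Lib.FunField.RR
import Groth.Agent.Lib.FunField.Weights
import Groth.Agent.Lib.FunField.Proj3
import Mathlib.FieldTheory.IsAlgClosed.AlgebraicClosure
import Mathlib.RingTheory.Valuation.Extension
import Mathlib.LinearAlgebra.TensorProduct.Finiteness

/-! # Splitting fields of places -/

namespace Groth.Agent.FunField.Split

open WithZero FunFld IntermediateField TensorProduct
open scoped Multiplicative

variable {k kb K Kb : Type*} [Field k] [Field kb] [Field K] [Field Kb]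
  [Algebra k kb] [Algebra k K] [Algebra K Kb] [Algebra kb Kb] [Algebra k Kb]
  [IsScalarTower k kb Kb] [IsScalarTower k K Kb]

theorem isField_tensor_algebraic (hg : ∀ E : IntermediateField k kb, FiniteDimensional k E → IsField (E ⊗[k] K))
    [Algebra.IsAlgebraic k kb] : IsField (kb ⊗[k] K) := by
  classical
  haveI : Nontrivial (kb ⊗[k] K) :=
    (Algebra.TensorProduct.includeRight_injective (R := k) (A := kb) (B := K) (algebraMap k kb).injective).nontrivial
  refine ⟨exists_pair_ne _, mul_comm, fun {z} hz => ?_⟩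
  obtain ⟨M, hM, hle⟩ := TensorProduct.exists_finite_submodule_left_of_setFinite ({z} : Set (kb ⊗[k] K)) (Set.finite_singleton z)
  haveI := hM
  obtain ⟨s, hs⟩ := Module.Finite.iff_fg.1 hM
  let E := IntermediateField.adjoin k (s : Set kb)
  haveI hEfin : FiniteDimensional k E :=
    IntermediateField.finiteDimensional_adjoin fun x _ => Algebra.IsIntegral.isIntegral x
  let g : E ⊗[k] K →ₐ[k] kb ⊗[k] K := Algebra.TensorProduct.map E.val (AlgHom.id k K)
  have hMg : ∀ m ∈ M, ∀ y : K, (m ⊗ₜ[k] y : kb ⊗[k] K) ∈ g.range := by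
    intro m hm y
    have hmE : m ∈ E := by
      rw [← hs] at hm
      exact (Submodule.span_le (p := E.toSubalgebra.toSubmodule)).2 (fun x hx => IntermediateField.subset_adjoin k _ hx) hm
    exact ⟨(⟨m, hmE⟩ : E) ⊗ₜ[k] y, rfl⟩
  have hall : ∀ w : M ⊗[k] K, LinearMap.rTensor K M.subtype w ∈ g.range := fun w => by
    induction w using TensorProduct.induction_on with
    | zero => simp
    | tmul m y => exact hMg m m.2 y
    | add a b ha hb => rw [map_add]; exact add_mem ha hb
  obtain ⟨w, hw⟩ := hle (Set.mem_singleton z)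
  have hzg : z ∈ g.range := hw ▸ hall w
  obtain ⟨z', rfl⟩ := hzg
  obtain ⟨u, hu⟩ := (hg E hEfin).mul_inv_cancel (a := z') (fun h0 => hz (by rw [h0]; exact g.toRingHom.map_zero))
  exact ⟨g.toRingHom u, (g.toRingHom.map_mul z' u).symm.trans ((congrArg g.toRingHom hu).trans g.toRingHom.map_one)⟩

theorem mem_range_map (hb : Function.Bijective (Algebra.TensorProduct.productMap
      (IsScalarTower.toAlgHom k kb Kb) (IsScalarTower.toAlgHom k K Kb)))
    [Algebra.IsAlgebraic k kb] (S : Set Kb) (hS : S.Finite) :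
    ∃ E : IntermediateField k kb, FiniteDimensional k E ∧ ∀ z ∈ S, ∃ w : E ⊗[k] K,
      Algebra.TensorProduct.productMap (IsScalarTower.toAlgHom k kb Kb) (IsScalarTower.toAlgHom k K Kb)
        (Algebra.TensorProduct.map E.val (AlgHom.id k K) w) = z := by
  classical
  set pb := Algebra.TensorProduct.productMap (IsScalarTower.toAlgHom k kb Kb) (IsScalarTower.toAlgHom k K Kb)
  obtain ⟨M, hM, hle⟩ := TensorProduct.exists_finite_submodule_left_of_setFinite (pb ⁻¹' S)
    (hS.preimage hb.1.injOn)
  obtain ⟨s, hs⟩ := Module.Finite.iff_fg.1 hM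
  let E := IntermediateField.adjoin k (s : Set kb)
  refine ⟨E, IntermediateField.finiteDimensional_adjoin fun x _ => Algebra.IsIntegral.isIntegral x, fun z hz => ?_⟩
  obtain ⟨z', rfl⟩ := hb.2 z
  obtain ⟨w, hw⟩ := hle (show z' ∈ pb ⁻¹' S from hz)
  suffices ∀ w : M ⊗[k] K, LinearMap.rTensor K M.subtype w ∈
      (Algebra.TensorProduct.map E.val (AlgHom.id k K)).range by
    obtain ⟨v, hv⟩ := hw ▸ this w
    exact ⟨v, congrArg pb hv⟩
  intro w
  induction w using TensorProduct.induction_on with
  | zero => simp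
  | tmul m y =>
    have hmE : (m : kb) ∈ E := by
      have hm : (m : kb) ∈ Submodule.span k (s : Set kb) := hs ▸ m.2
      exact (Submodule.span_le (p := E.toSubalgebra.toSubmodule)).2 (fun x hx => IntermediateField.subset_adjoin k _ hx) hm
    exact ⟨(⟨m, hmE⟩ : E) ⊗ₜ[k] y, rfl⟩
  | add a b ha hb => rw [map_add]; exact add_mem ha hb

theorem transcendental_top [Algebra.IsAlgebraic k kb] {x : Kb} (hx : Transcendental k x) :
    Transcendental kb x := fun ha => hx (by
  exact IsAlgebraic.restrictScalars k ha)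

theorem isFunctionField_top (hb : Function.Bijective (Algebra.TensorProduct.productMap
      (IsScalarTower.toAlgHom k kb Kb) (IsScalarTower.toAlgHom k K Kb)))
    [Algebra.IsAlgebraic k kb] [IsAlgClosed kb] (hF : FF k K) : IsFunctionField kb Kb := by
  classical
  obtain ⟨x, hx, hfin⟩ := hF
  set xb := algebraMap K Kb x
  have hxb : Transcendental kb xb := transcendental_top fun ha =>
    hx ((isAlgebraic_algHom_iff (IsScalarTower.toAlgHom k K Kb) (algebraMap K Kb).injective).1 ha)
  refine ⟨⟨xb, hxb, ?_⟩, fun y hy => ?_⟩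
  · haveI := hfin
    let b := Module.finBasis k⟮x⟯ K
    refine ⟨⟨Finset.univ.image fun i => algebraMap K Kb (b i), eq_top_iff.2 fun z hz => ?_⟩⟩
    obtain ⟨w, rfl⟩ := hb.2 z
    clear hz
    induction w using TensorProduct.induction_on with
    | zero => simp
    | add p q hp hq => rw [map_add]; exact Submodule.add_mem _ hp hq
    | tmul c y =>
      show algebraMap kb Kb c * algebraMap K Kb y ∈ _
      rw [← b.sum_repr y, map_sum, Finset.mul_sum]
      refine Submodule.sum_mem _ fun i _ => ?_
      have hmem : ∀ r : k⟮x⟯, algebraMap kb Kb c * algebraMap K Kb (r : K) ∈ kb⟮xb⟯ := fun r => by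
        refine mul_mem (IntermediateField.algebraMap_mem _ c) ?_
        have : (r : K) ∈ (kb⟮xb⟯.restrictScalars k).comap (IsScalarTower.toAlgHom k K Kb) := by
          refine (IntermediateField.adjoin_simple_le_iff (K := (kb⟮xb⟯.restrictScalars k).comap (IsScalarTower.toAlgHom k K Kb))).2 ?_ r.2
          exact IntermediateField.mem_adjoin_simple_self kb xb
        exact this
      have e : algebraMap kb Kb c * algebraMap K Kb (b.repr y i • b i) =
          (⟨_, hmem (b.repr y i)⟩ : kb⟮xb⟯) • algebraMap K Kb (b i) := by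
        rw [show b.repr y i • b i = (b.repr y i : K) * b i from rfl, map_mul, ← mul_assoc]; rfl
      rw [e]
      exact Submodule.smul_mem _ _ (Submodule.subset_span (by simp))
  · exact minpoly.mem_range_of_degree_eq_one kb y
      (IsAlgClosed.degree_eq_one_of_irreducible kb (minpoly.irreducible hy.isIntegral))

variable {k' K' : Type*} [Field k'] [Field K'] [Algebra k k'] [Algebra K K'] [Algebra k' K'] [Algebra k K']
  [IsScalarTower k k' K'] [IsScalarTower k K K'] [Algebra k' kb] [IsScalarTower k k' kb]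

/-- Elements independent over `k'` stay independent over `kb`. -/
theorem linearIndependent_map
    (h : Function.Bijective (Algebra.TensorProduct.productMap
      (IsScalarTower.toAlgHom k k' K') (IsScalarTower.toAlgHom k K K')))
    (hb : Function.Bijective (Algebra.TensorProduct.productMap
      (IsScalarTower.toAlgHom k kb Kb) (IsScalarTower.toAlgHom k K Kb)))
    (j : K' →+* Kb) (hjc : ∀ c : k', j (algebraMap k' K' c) = algebraMap kb Kb (algebraMap k' kb c))
    (hjz : ∀ z : K, j (algebraMap K K' z) = algebraMap K Kb z)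
    {ι : Type*} {f : ι → K'} (hf : LinearIndependent k' f) : LinearIndependent kb (fun i => j (f i)) := by
  classical
  rw [linearIndependent_iff'] at hf ⊢
  intro s c hc i hi
  let e := LinearEquiv.ofBijective (Algebra.TensorProduct.productMap
      (IsScalarTower.toAlgHom k kb Kb) (IsScalarTower.toAlgHom k K Kb)).toLinearMap hb
  haveI : IsScalarTower k k' kb := inferInstance
  by_contra hne
  obtain ⟨φ, hφ⟩ : ∃ φ : kb →ₗ[k'] k', φ (c i) ≠ 0 := by
    by_contra! hall
    exact hne ((Module.forall_dual_apply_eq_zero_iff k' (c i)).1 hall)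
  let L : kb ⊗[k] K →ₗ[k] K' := TensorProduct.lift
    (LinearMap.mk₂ k (fun a z => algebraMap k' K' (φ a) * algebraMap K K' z)
      (fun a a' z => by simp [add_mul])
      (fun r a z => by
        rw [LinearMap.map_smul_of_tower, Algebra.smul_def r (φ a), map_mul, ← IsScalarTower.algebraMap_apply,
          Algebra.smul_def, mul_assoc])
      (fun a z z' => by simp [mul_add])
      (fun r a z => by
        rw [Algebra.smul_def r z, map_mul, ← IsScalarTower.algebraMap_apply, Algebra.smul_def]; ring))
  let Φ : Kb →ₗ[k] K' := L ∘ₗ e.symm.toLinearMap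
  have hΦ : ∀ (a : kb) (g : K'), Φ (a • j g) = φ a • g := by
    intro a g
    obtain ⟨w, rfl⟩ := h.2 g
    induction w using TensorProduct.induction_on with
    | zero => simp
    | add p q hp hq => simp only [map_add, smul_add, hp, hq]
    | tmul b z =>
      rw [show Algebra.TensorProduct.productMap (IsScalarTower.toAlgHom k k' K') (IsScalarTower.toAlgHom k K K')
        (b ⊗ₜ[k] z) = algebraMap k' K' b * algebraMap K K' z from rfl, map_mul, hjc, hjz]
      have he : a • (algebraMap kb Kb (algebraMap k' kb b) * algebraMap K Kb z) =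
          e ((b • a) ⊗ₜ[k] z) := by
        rw [Algebra.smul_def, Algebra.smul_def b a, ← mul_assoc, ← map_mul, mul_comm a]; rfl
      show L (e.symm _) = _
      rw [he, LinearEquiv.symm_apply_apply, TensorProduct.lift.tmul, LinearMap.mk₂_apply, map_smul,
        smul_eq_mul, map_mul, Algebra.smul_def]
      ring
  have := congrArg Φ hc
  rw [map_sum, map_zero] at this
  simp only [hΦ] at this
  exact hφ (hf s (fun l => φ (c l)) this i hi)

theorem exists_place_comap (hF' : FF k' K') (R : Place kb Kb) (j : K' →+* Kb)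
    (hjc : ∀ c : k', j (algebraMap k' K' c) = algebraMap kb Kb (algebraMap k' kb c)) {z : K'}
    (hz : 1 < R.1 (j z)) :
    ∃ Q : Place k' K', (∀ {w : K'}, w ≠ 0 → ∀ {τ : K'}, Q.1 τ = exp (-1) →
      (Q.1 w ≤ 1 ↔ R.1 (j w) ≤ 1) ∧ R.1 (j w) = R.1 (j τ) ^ Q.ord w) ∧
      ∀ w : K', Q.1 w < 1 → R.1 (j w) < 1 := by
  have hk : ∀ c : k', algebraMap k' K' c ∈ R.O.comap j := fun c => by
    show R.1 (j (algebraMap k' K' c)) ≤ 1
    rw [hjc]; exact R.2.1 _
  have hzm : z ∉ R.O.comap j := fun hm => absurd (show R.1 (j z) ≤ 1 from hm) (not_le.2 hz)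
  have hV : ¬ IsField (R.O.comap j) := fun hF => by
    rcases (R.O.comap j).mem_or_inv_mem z with h1 | h1
    · exact hzm h1
    · have hz0 : z ≠ 0 := fun e => by rw [e, map_zero, map_zero] at hz; exact absurd hz not_lt_zero
      obtain ⟨b, hb⟩ := hF.mul_inv_cancel (a := (⟨z⁻¹, h1⟩ : R.O.comap j))
        (fun e => inv_ne_zero hz0 (congrArg Subtype.val e))
      have : z⁻¹ * (b : K') = 1 := congrArg Subtype.val hb
      exact hzm (by rw [← inv_inv z, inv_eq_of_mul_eq_one_right this]; exact b.2)
  obtain ⟨Q, hQ⟩ := hF'.exists_place_of_valuationSubring _ hk hV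
  have hiff : ∀ a : K', Q.1 a ≤ 1 ↔ R.1 (j a) ≤ 1 := fun a => by rw [← mem_O_iff, hQ]; rfl
  refine ⟨Q, fun {w} hw {τ} hτ => ⟨hiff w, val_eq_zpow Q hτ (R.1.comap j) (fun a ha => (hiff a).1 ha) hw⟩,
    fun w hw => ?_⟩
  rcases eq_or_ne w 0 with rfl | hw0
  · simp
  by_contra hge
  have h1 : R.1 (j w⁻¹) ≤ 1 := by
    rw [map_inv₀ j, map_inv₀ R.1]; exact inv_le_one_of_one_le₀ (not_lt.1 hge)
  have h2 := (hiff _).2 h1
  rw [map_inv₀ Q.1, inv_le_one₀ (zero_lt_iff.2 ((Valuation.ne_zero_iff _).2 hw0))] at h2
  exact absurd hw (not_lt.2 h2)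

theorem deg_eq_one (hF' : FF k' K') (hKb : IsFunctionField kb Kb) [IsAlgClosed kb]
    [Algebra.IsAlgebraic k kb] [Algebra.IsAlgebraic k k']
    (h : Function.Bijective (Algebra.TensorProduct.productMap
      (IsScalarTower.toAlgHom k k' K') (IsScalarTower.toAlgHom k K K')))
    (hb : Function.Bijective (Algebra.TensorProduct.productMap
      (IsScalarTower.toAlgHom k kb Kb) (IsScalarTower.toAlgHom k K Kb)))
    (j : K' →+* Kb) (hjc : ∀ c : k', j (algebraMap k' K' c) = algebraMap kb Kb (algebraMap k' kb c))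
    (hjz : ∀ z : K, j (algebraMap K K' z) = algebraMap K Kb z)
    {t : K} (Q : Place k' K') (htQ : Q.1 (algebraMap K K' t) < 1)
    (hsep : ∀ R : Place kb Kb, R.1 (algebraMap K Kb t) < 1 → ∃ v : K', R.1 (j v) = exp (-1) ∧
      ∀ R' : Place kb Kb, R'.1 (algebraMap K Kb t) < 1 → R' ≠ R → R'.1 (j v) = 1) :
    Q.deg = 1 := by
  classical
  obtain ⟨z, m, hm, hztr, hzp⟩ := exists_only_pole hF' Q
  have hjtr : Transcendental kb (j z) := by
    refine transcendental_top (k := k) fun ha => hztr ?_
    have hcomm : ∀ r : k, j (algebraMap k K' r) = algebraMap k Kb r := fun r => by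
      rw [IsScalarTower.algebraMap_apply k k' K', hjc, ← IsScalarTower.algebraMap_apply k k' kb,
        ← IsScalarTower.algebraMap_apply k kb Kb]
    let jA : K' →ₐ[k] Kb := { j with commutes' := hcomm }
    exact ((isAlgebraic_algHom_iff jA j.injective).1 ha).extendScalars (algebraMap k k').injective
  obtain ⟨R, hR⟩ := exists_val_lt_one_of_valuationSubring hKb.1 (transcendental_inv hjtr)
  have hz0 : z ≠ 0 := ne_zero_of_transcendental hztr
  have hR1 : 1 < R.1 (j z) := by
    rw [map_inv₀, inv_lt_one₀ (zero_lt_iff.2 ((Valuation.ne_zero_iff _).2 (by simpa using hz0)))] at hR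
    exact hR
  obtain ⟨Q', hQ', hpos⟩ := exists_place_comap hF' R j hjc hR1
  obtain ⟨τ', hτ'0, hτ'⟩ := exists_uniformizer Q'
  obtain rfl : Q' = Q := by
    by_contra hne
    have h1 := (hQ' hz0 hτ').1
    have h2 : Q'.1 z ≤ 1 := by
      have := DFunLike.congr_fun hzp Q'
      rw [poleDiv_apply hF', Finsupp.single_eq_of_ne hne] at this
      exact (val_le_one_iff Q' hz0).2 (by omega)
    exact absurd (h1.1 h2) (not_le.2 hR1)
  have hq : R.1 (j τ') < 1 := hpos _ (by rw [hτ', lt_one_iff_le])
  have htR : R.1 (algebraMap K Kb t) < 1 := by rw [← hjz]; exact hpos _ htQ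
  obtain ⟨v, hv, hvu⟩ := hsep R htR
  have hv0 : v ≠ 0 := fun e => by rw [e, map_zero, map_zero] at hv; exact exp_ne_zero hv.symm
  have hq1 : R.1 (j τ') = exp (-1) := by
    have h1 := (hQ' hv0 hτ').2
    rw [hv] at h1
    obtain ⟨l, hl⟩ : ∃ l : ℤ, R.1 (j τ') = exp l :=
      ⟨_, (exp_log ((Valuation.ne_zero_iff _).2 (by simpa using hτ'0))).symm⟩
    rw [hl, ← exp_zsmul, exp_inj, smul_eq_mul] at h1
    have hneg : l ≤ -1 := by
      rw [hl, lt_one_iff_le, exp_le_exp] at hq; exact hq
    have hdvd : l ∣ 1 := ⟨-(Q'.ord v), by linarith⟩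
    rcases Int.isUnit_iff.1 (isUnit_of_dvd_one hdvd) with h | h
    · omega
    · rw [hl, h]
  have hvlt : Q'.1 v < 1 := by
    by_contra hge
    have h1 := (hQ' hv0 hτ').2
    rw [hv, hq1, ← exp_zsmul, exp_inj, smul_eq_mul] at h1
    exact hge ((val_lt_one_iff' Q' hv0).2 (by omega))
  -- comparison of Riemann–Roch spaces
  by_contra hd
  have hdpos := deg_pos hF' Q'
  set g := genus k' K'
  set n := g + 1
  have h1 := delta_le_genus hF' (Finsupp.single Q' (n : ℤ))
  rw [delta, deg_single] at h1
  have h2 := delta_mono hKb.1 (D := (0 : Divisor kb Kb)) (E := Finsupp.single R (n : ℤ))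
    (Finsupp.single_nonneg.2 (by positivity))
  rw [delta_zero hKb, delta, deg_single, Groth.Agent.FunField.deg_eq_one hKb.1 R] at h2
  have hle : ell (Finsupp.single Q' (n : ℤ)) ≤ ell (Finsupp.single R (n : ℤ)) := by
    haveI := finiteDimensional_L hF' (Finsupp.single Q' (n : ℤ))
    haveI := finiteDimensional_L hKb.1 (Finsupp.single R (n : ℤ))
    let b := Module.finBasis k' (FunFld.L (Finsupp.single Q' (n : ℤ)))
    have hind := linearIndependent_map h hb j hjc hjz
      (b.linearIndependent.map' (Submodule.subtype _) (Submodule.ker_subtype _))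
    have hmem : ∀ i, j ((b i : K')) ∈ FunFld.L (Finsupp.single R (n : ℤ)) := fun i S => by
      rcases eq_or_ne (b i : K') 0 with h0 | h0
      · rw [h0]; simp
      rcases eq_or_ne S R with rfl | hS
      · rw [Finsupp.single_eq_same, (hQ' h0 hτ').2, show S.1 (j τ') = exp (-1) from hq1,
          ← exp_zsmul, exp_le_exp]
        have := (mem_L_iff_ord h0).1 (b i).2 Q'
        rw [Finsupp.single_eq_same] at this
        simp only [smul_eq_mul]; omega
      · rw [Finsupp.single_eq_of_ne hS, exp_zero]
        by_contra hgt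
        rw [not_le] at hgt
        obtain ⟨Q'', hQ'', hlt⟩ := exists_place_comap hF' S j hjc hgt
        obtain ⟨σ, hσ0, hσ⟩ := exists_uniformizer Q''
        rcases eq_or_ne Q'' Q' with rfl | hne
        · have := hvu S (by rw [← hjz]; exact hlt _ htQ) hS
          exact absurd this (hlt v hvlt).ne
        · have := (mem_L_iff_ord h0).1 (b i).2 Q''
          rw [Finsupp.single_eq_of_ne hne] at this
          exact absurd ((hQ'' h0 hσ).1.1 ((val_le_one_iff Q'' h0).2 (by omega))) (not_le.2 hgt)
    let f : Fin _ → FunFld.L (Finsupp.single R (n : ℤ)) := fun i => ⟨_, hmem i⟩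
    have hf : LinearIndependent kb f := LinearIndependent.of_comp (Submodule.subtype _) hind
    simpa [ell] using hf.fintype_card_le_finrank
  have h3 : (n : ℤ) * Q'.deg ≤ (n : ℤ) + g := by omega
  have h4 : (2 : ℤ) ≤ Q'.deg := by omega
  have h5 : (n : ℤ) = g + 1 := by simp [n]
  have h6 := mul_le_mul_of_nonneg_left h4 (Int.natCast_nonneg n)
  linarith

end Groth.Agent.FunField.Split

namespace Groth.Agent.FunField.Split

open WithZero FunFld TensorProduct
open scoped Multiplicative

universe u v

theorem exists_splitting (k : Type u) (K : Type v) [Field k] [Field K] [Algebra k K]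
    (hK : IsFunctionField k K) (hg : IsGeometric k K) (P : Place k K) :
    ∃ (k' : Type u) (_ : Field k') (_ : Algebra k k'), FiniteDimensional k k' ∧
      ∀ (K' : Type v) [Field K'] [Algebra K K'] [Algebra k' K'] [Algebra k K']
        [IsScalarTower k k' K'] [IsScalarTower k K K'],
        Function.Bijective (Algebra.TensorProduct.productMap
          (IsScalarTower.toAlgHom k k' K') (IsScalarTower.toAlgHom k K K')) →
        ∀ Q : Place k' K', P.1.HasExtension Q.1 → Q.deg = 1 := by
  classical
  let kb := AlgebraicClosure k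
  have hfield : IsField (kb ⊗[k] K) := isField_tensor_algebraic (fun E hE => hg E hE)
  letI : Field (kb ⊗[k] K) := hfield.toField
  letI : Algebra K (kb ⊗[k] K) := Algebra.TensorProduct.rightAlgebra
  haveI : IsScalarTower k K (kb ⊗[k] K) := IsScalarTower.of_algebraMap_eq fun c =>
    ((Algebra.TensorProduct.includeRight : K →ₐ[k] kb ⊗[k] K).commutes c).symm
  have hb : Function.Bijective (Algebra.TensorProduct.productMap
      (IsScalarTower.toAlgHom k kb (kb ⊗[k] K)) (IsScalarTower.toAlgHom k K (kb ⊗[k] K))) := by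
    have e : ∀ z, Algebra.TensorProduct.productMap
        (IsScalarTower.toAlgHom k kb (kb ⊗[k] K)) (IsScalarTower.toAlgHom k K (kb ⊗[k] K)) z = z := fun z => by
      induction z using TensorProduct.induction_on with
      | zero => simp
      | add p q hp hq => rw [map_add, hp, hq]
      | tmul a x =>
        show (a ⊗ₜ[k] (1 : K)) * ((1 : kb) ⊗ₜ[k] x) = _
        simp
    exact ⟨fun a b h => by rwa [e, e] at h, fun z => ⟨z, e z⟩⟩
  have hKb := isFunctionField_top hb hK.1
  obtain ⟨t, ht0, ht⟩ := exists_uniformizer P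
  have hfin := finite_zeros_set hKb.1 (u := algebraMap K (kb ⊗[k] K) t) (by simpa using ht0)
  choose v hv using fun R : Place kb (kb ⊗[k] K) =>
    weak_approx_eq hfin.toFinset (fun _ => 0) (fun R' => if R' = R then 1 else 0)
  obtain ⟨E, hE, hw⟩ := mem_range_map hb ((hfin.toFinset.image v : Finset _) : Set (kb ⊗[k] K))
    (Finset.finite_toSet _)
  refine ⟨E, inferInstance, inferInstance, hE, fun K' _ _ _ _ _ _ h Q hQ => ?_⟩
  haveI := hE
  haveI := finite_of_bijective h
  have hF' : FF E K' := by
    obtain ⟨x, hx, hfx⟩ := ff_extend (K' := K') hK.1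
    refine ⟨x, fun ha => hx (IsAlgebraic.restrictScalars k ha), ?_⟩
    haveI := hfx
    have hle : IntermediateField.adjoin k {x} ≤ (IntermediateField.adjoin E {x}).restrictScalars k :=
      IntermediateField.adjoin_simple_le_iff.2 (IntermediateField.mem_adjoin_simple_self E x)
    letI : Algebra (IntermediateField.adjoin k {x}) (IntermediateField.adjoin E {x}) :=
      (IntermediateField.inclusion hle).toRingHom.toAlgebra
    haveI : IsScalarTower (IntermediateField.adjoin k {x}) (IntermediateField.adjoin E {x}) K' :=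
      IsScalarTower.of_algebraMap_eq fun _ => rfl
    exact Module.Finite.right (IntermediateField.adjoin k {x}) (IntermediateField.adjoin E {x}) K'
  let e := AlgEquiv.ofBijective _ h
  let mp : E ⊗[k] K →ₐ[k] kb ⊗[k] K := Algebra.TensorProduct.map E.val (AlgHom.id k K)
  let j : K' →+* kb ⊗[k] K := mp.toRingHom.comp e.symm.toAlgHom.toRingHom
  have hje : ∀ w, j (e w) = mp w := fun w => congrArg mp (e.symm_apply_apply w)
  have hjc : ∀ c : E, j (algebraMap E K' c) = algebraMap kb (kb ⊗[k] K) (algebraMap E kb c) := fun c => by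
    have : e (c ⊗ₜ[k] (1 : K)) = algebraMap E K' c := by
      show algebraMap E K' c * algebraMap K K' 1 = _
      rw [map_one, mul_one]
    rw [← this, hje]; rfl
  have hjz : ∀ z : K, j (algebraMap K K' z) = algebraMap K (kb ⊗[k] K) z := fun z => by
    have : e ((1 : E) ⊗ₜ[k] z) = algebraMap K K' z := by
      show algebraMap E K' 1 * algebraMap K K' z = _
      rw [map_one, one_mul]
    rw [← this, hje]; rfl
  refine deg_eq_one hF' hKb h hb j hjc hjz Q
    ((Valuation.HasExtension.val_map_lt_one_iff P.1 Q.1 t).2 (by rw [ht, lt_one_iff_le])) fun R hR => ?_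
  obtain ⟨w, hw'⟩ := hw (v R) (Finset.mem_coe.2 (Finset.mem_image_of_mem v (hfin.mem_toFinset.2 hR)))
  have hjv : j (e w) = v R := by
    rw [hje]
    refine Eq.trans ?_ hw'
    exact (show ∀ z, Algebra.TensorProduct.productMap
        (IsScalarTower.toAlgHom k kb (kb ⊗[k] K)) (IsScalarTower.toAlgHom k K (kb ⊗[k] K)) z = z from fun z => by
      induction z using TensorProduct.induction_on with
      | zero => simp
      | add p q hp hq => rw [map_add, hp, hq]
      | tmul a x =>
        show (a ⊗ₜ[k] (1 : K)) * ((1 : kb) ⊗ₜ[k] x) = _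
        simp) _ |>.symm
  refine ⟨e w, ?_, fun R' hR' hne => ?_⟩
  · rw [hjv]; simpa using hv R R (hfin.mem_toFinset.2 hR)
  · rw [hjv]; simpa [hne] using hv R R' (hfin.mem_toFinset.2 hR')

end Groth.Agent.FunField.Split

namespace Groth.Agent.FunField.Split

open WithZero FunFld TensorProduct
open scoped Multiplicative

variable {k kb K Kb : Type*} [Field k] [Field kb] [Field K] [Field Kb]
  [Algebra k kb] [Algebra k K] [Algebra K Kb] [Algebra kb Kb] [Algebra k Kb]
  [IsScalarTower k kb Kb] [IsScalarTower k K Kb]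

theorem defined_over_finite (hb : Function.Bijective (Algebra.TensorProduct.productMap
      (IsScalarTower.toAlgHom k kb Kb) (IsScalarTower.toAlgHom k K Kb)))
    [IsAlgClosed kb] [Algebra.IsAlgebraic k kb] (hF : FF k K) (Q : Place kb Kb) :
    ∃ k' : IntermediateField k kb, FiniteDimensional k k' ∧
      (∃ z ∈ Algebra.adjoin K (Set.range fun c : k' => algebraMap kb Kb c), Q.1 z = exp (-1)) ∧
      ∀ Q' : Place kb Kb,
        (∃ e : ℕ, ∀ z ∈ Algebra.adjoin K (Set.range fun c : k' => algebraMap kb Kb c), Q'.1 z = Q.1 z ^ e) → Q' = Q := by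
  classical
  have hKb := isFunctionField_top hb hF
  obtain ⟨u, hu0, hu⟩ := exists_uniformizer Q
  have hfin := finite_zeros_set hKb.1 hu0
  obtain ⟨v, hv⟩ := weak_approx_eq hfin.toFinset (fun _ => 0) (fun R => if R = Q then 1 else 0)
  have hulim : Q.1 u < 1 := by rw [hu, lt_one_iff_le]
  have hvQ : Q.1 v = exp (-1) := by simpa using hv Q (hfin.mem_toFinset.2 hulim)
  obtain ⟨E, hE, hw⟩ := mem_range_map hb {u, v} (Set.toFinite _)
  have hmem : ∀ z ∈ ({u, v} : Set Kb), z ∈ Algebra.adjoin K (Set.range fun c : E => algebraMap kb Kb c) := by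
    intro z hz
    obtain ⟨w, rfl⟩ := hw z hz
    clear hz
    induction w using TensorProduct.induction_on with
    | zero => simp
    | add p q hp hq => rw [map_add, map_add]; exact add_mem hp hq
    | tmul c x =>
      exact mul_mem (Algebra.subset_adjoin ⟨c, rfl⟩) (Subalgebra.algebraMap_mem _ x)
  refine ⟨E, hE, ⟨v, hmem v (by simp), hvQ⟩, fun Q' ⟨e, he⟩ => ?_⟩
  by_contra hne
  have he0 : e ≠ 0 := fun h0 => by
    have := he 0 (zero_mem _)
    rw [h0, map_zero, pow_zero] at this
    exact zero_ne_one this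
  have hQ'u : Q'.1 u < 1 := by
    rw [he u (hmem u (by simp))]; exact pow_lt_one₀ zero_le hulim he0
  have h1 := hv Q' (hfin.mem_toFinset.2 hQ'u)
  rw [if_neg hne, sub_zero, neg_zero, exp_zero, he v (hmem v (by simp)), hvQ] at h1
  have h2 : exp (-1) < (1 : ℤᵐ⁰) := by rw [lt_one_iff_le]
  exact (pow_lt_one₀ zero_le h2 he0).ne h1

end Groth.Agent.FunField.Split
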